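import Cfsg.Agent.Misc.BorelInduced

/-!
The principal series of GL₂(q) and SL₂(q).
-/

set_option autoImplicit false
set_option linter.unusedSectionVars false
set_option linter.unusedSimpArgs false

namespace CfsgLib.Misc.PrincipalSeries

open Cfsg CfsgLib.Char BorelInduced
open scoped ComplexConjugate

variable {F : Type*} [Field F] [Fintype F] [DecidableEq F]

local notation "GL2" => Matrix.GeneralLinearGroup (Fin 2) F
local notation "SL2" => Matrix.SpecialLinearGroup (Fin 2) F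

/-- representatives in SL₂ -/
def rS : Option F → SL2
  | none => 1
  | some t => ⟨!![t, -1; 1, 0], by simp [Matrix.det_fin_two]⟩

/-- representatives in GL₂ -/
def rG : Option F → GL2
  | none => 1
  | some t => Matrix.GeneralLinearGroup.mkOfDetNeZero !![t, -1; 1, 0] (by simp [Matrix.det_fin_two])

theorem rS_some (t : F) : mat Matrix.SpecialLinearGroup.toGL (rS (some t)) = !![t, -1; 1, 0] := rfl

theorem rG_some (t : F) : mat (MonoidHom.id GL2) (rG (some t)) = !![t, -1; 1, 0] := rfl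

theorem conj_char (χ : MulChar F ℂ) (a : F) : conj (χ a) = χ⁻¹ a := MulChar.star_apply' χ a

/-- upper triangular elements of SL₂ -/
noncomputable def eS : Fˣ × F ≃ Bor (Matrix.SpecialLinearGroup.toGL : SL2 →* GL2) :=
  Equiv.ofBijective
    (fun p => ⟨⟨!![(p.1 : F), p.2; 0, ((p.1⁻¹ : Fˣ) : F)], by simp [Matrix.det_fin_two]⟩,
      (mem_Bor _).2 rfl⟩) ⟨fun p q h => by
        have h' : (!![(p.1 : F), p.2; 0, ((p.1⁻¹ : Fˣ) : F)] : Matrix (Fin 2) (Fin 2) F) =
            !![(q.1 : F), q.2; 0, ((q.1⁻¹ : Fˣ) : F)] := congrArg (fun x => ((x.1 : SL2) : Matrix (Fin 2) (Fin 2) F)) h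
        exact Prod.ext (Units.ext (congrFun (congrFun h' 0) 0)) (congrFun (congrFun h' 0) 1), fun b => by
        obtain ⟨⟨M, hM⟩, hb⟩ := b
        have h10 : M 1 0 = 0 := (mem_Bor _).1 hb
        have hd : M 0 0 * M 1 1 = 1 := by
          rw [Matrix.det_fin_two, h10, mul_zero, sub_zero] at hM; exact hM
        refine ⟨(Units.mk0 (M 0 0) (left_ne_zero_of_mul_eq_one hd), M 0 1), Subtype.ext (Subtype.ext ?_)⟩
        show !![M 0 0, M 0 1; 0, ((Units.mk0 (M 0 0) (left_ne_zero_of_mul_eq_one hd))⁻¹ : Fˣ).val] = M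
        ext i j
        fin_cases i <;> fin_cases j <;> simp [h10]
        exact inv_eq_of_mul_eq_one_right hd⟩

/-- upper triangular elements of GL₂ -/
noncomputable def eG : (Fˣ × Fˣ) × F ≃ Bor (MonoidHom.id GL2) :=
  Equiv.ofBijective
    (fun p => ⟨Matrix.GeneralLinearGroup.mkOfDetNeZero !![(p.1.1 : F), p.2; 0, (p.1.2 : F)]
      (by simp [Matrix.det_fin_two]), (mem_Bor _).2 rfl⟩) ⟨fun p q h => by
        have h' : (!![(p.1.1 : F), p.2; 0, (p.1.2 : F)] : Matrix (Fin 2) (Fin 2) F) =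
            !![(q.1.1 : F), q.2; 0, (q.1.2 : F)] := congrArg (fun x => ((x.1 : GL2) : Matrix (Fin 2) (Fin 2) F)) h
        exact Prod.ext (Prod.ext (Units.ext (congrFun (congrFun h' 0) 0)) (Units.ext (congrFun (congrFun h' 1) 1)))
          (congrFun (congrFun h' 0) 1), fun b => by
        obtain ⟨g, hb⟩ := b
        have h10 : (g : Matrix (Fin 2) (Fin 2) F) 1 0 = 0 := (mem_Bor (MonoidHom.id GL2)).1 hb
        obtain ⟨h0, h1⟩ := diag_ne (MonoidHom.id GL2) (g := g) h10
        refine ⟨((Units.mk0 _ h0, Units.mk0 _ h1), (g : Matrix (Fin 2) (Fin 2) F) 0 1), Subtype.ext (Units.ext ?_)⟩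
        show !![(g : Matrix (Fin 2) (Fin 2) F) 0 0, (g : Matrix (Fin 2) (Fin 2) F) 0 1; 0, (g : Matrix (Fin 2) (Fin 2) F) 1 1] = _
        ext i j
        fin_cases i <;> fin_cases j <;> simp [h10]⟩

/-- the induced function on SL₂ -/
noncomputable abbrev psS (α : MulChar F ℂ) : SL2 → ℂ :=
  indFun (Bor Matrix.SpecialLinearGroup.toGL) (th Matrix.SpecialLinearGroup.toGL fun a _ => α a)

/-- the induced function on GL₂ -/
noncomputable abbrev psG (α β : MulChar F ℂ) : GL2 → ℂ :=
  indFun (Bor (MonoidHom.id GL2)) (th (MonoidHom.id GL2) fun a d => α a * β d)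

theorem inner_S (α β : MulChar F ℂ) [Decidable (α = β)] [Decidable (α = β⁻¹)] :
    classInner (psS α) (psS β) = (if α = β then 1 else 0) + (if α = β⁻¹ then 1 else 0) := by
  classical
  rw [inner_ind _ _ rS rfl rS_some eS (fun s => (s : F)) (fun s => ((s⁻¹ : Fˣ) : F)) (fun _ => rfl) (fun _ => rfl)
    (fun _ => rfl)]
  simp only [mul_add, Finset.sum_add_distrib, conj_char, MulChar.inv_apply' β, Units.val_inv_eq_inv_val, inv_inv]
  have a1 : ∑ s : Fˣ, α (s : F) * β (s : F)⁻¹ = ∑ s : Fˣ, (α * β⁻¹) (s : F) := by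
    simp only [MulChar.mul_apply, MulChar.inv_apply']
  have a2 : ∑ s : Fˣ, α (s : F) * β (s : F) = ∑ s : Fˣ, (α * β) (s : F) := by simp only [MulChar.mul_apply]
  rw [a1, a2, sum_char, sum_char]
  have hc : (Fintype.card Fˣ : ℂ) ≠ 0 := Nat.cast_ne_zero.2 Fintype.card_ne_zero
  congr 1
  · by_cases h : α = β
    · subst h; simp [hc]
    · rw [if_neg h, if_neg (fun e => h (mul_inv_eq_one.1 e))]; simp
  · by_cases h : α = β⁻¹
    · subst h; simp [hc]
    · rw [if_neg h, if_neg (fun e => h (eq_inv_of_mul_eq_one_left e))]; simp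

open Classical in
theorem inner_G (α β α' β' : MulChar F ℂ) :
    classInner (psG α β) (psG α' β') =
      (if α = α' ∧ β = β' then 1 else 0) + (if α = β' ∧ β = α' then 1 else 0) := by
  rw [inner_ind _ _ rG rfl rG_some eG (fun s => (s.1 : F)) (fun s => (s.2 : F)) (fun _ => rfl) (fun _ => rfl)
    (fun _ => rfl)]
  simp only [mul_add, Finset.sum_add_distrib, map_mul, conj_char, Fintype.sum_prod_type, Fintype.card_prod, Nat.cast_mul]
  have split : ∀ μ ν : MulChar F ℂ, ∑ x : Fˣ, ∑ y : Fˣ, α (x : F) * β (y : F) * (μ⁻¹ (x : F) * ν⁻¹ (y : F)) =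
      (∑ x : Fˣ, (α * μ⁻¹) (x : F)) * (∑ y : Fˣ, (β * ν⁻¹) (y : F)) := by
    intro μ ν
    rw [Finset.sum_mul_sum]
    refine Finset.sum_congr rfl fun x _ => Finset.sum_congr rfl fun y _ => ?_
    simp only [MulChar.mul_apply]
    ring
  have a2 : ∑ x : Fˣ, ∑ y : Fˣ, α (x : F) * β (y : F) * (α'⁻¹ (y : F) * β'⁻¹ (x : F)) =
      ∑ x : Fˣ, ∑ y : Fˣ, α (x : F) * β (y : F) * (β'⁻¹ (x : F) * α'⁻¹ (y : F)) :=
    Finset.sum_congr rfl fun x _ => Finset.sum_congr rfl fun y _ => by ring
  rw [a2, split, split, sum_char, sum_char, sum_char, sum_char]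
  have hc : (Fintype.card Fˣ : ℂ) ≠ 0 := Nat.cast_ne_zero.2 Fintype.card_ne_zero
  simp only [mul_inv_eq_one]
  congr 1
  · by_cases h : α = α' <;> by_cases h' : β = β' <;> simp [h, h'] <;> field_simp
  · by_cases h : α = β' <;> by_cases h' : β = α' <;> simp [h, h'] <;> field_simp

/-- a diagonal entry on the Borel subgroup, as a linear character -/
theorem isCharacter_th {G : Type*} [Group G] [Fintype G] (ι : G →* GL2) (α β : MulChar F ℂ) :
    IsCharacter (Bor ι) (th ι fun a d => α a * β d) := by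
  have hmul : ∀ x y : Bor ι, mat ι ((x * y : Bor ι) : G) 0 0 = mat ι x 0 0 * mat ι y 0 0 ∧
      mat ι ((x * y : Bor ι) : G) 1 1 = mat ι x 1 1 * mat ι y 1 1 := by
    intro x y
    have hx := (mem_Bor ι).1 x.2
    have hy := (mem_Bor ι).1 y.2
    rw [Subgroup.coe_mul, mat_mul]
    constructor <;> simp [Matrix.mul_apply, Fin.sum_univ_two, hx, hy]
  let μ : Bor ι →* ℂ :=
    { toFun := th ι fun a d => α a * β d
      map_one' := by simp [th, mat]
      map_mul' := fun x y => by
        simp only [th, (hmul x y).1, (hmul x y).2, map_mul]; ring }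
  exact isCharacter_linear μ.toHomUnits

theorem th_S (α : MulChar F ℂ) :
    th (Matrix.SpecialLinearGroup.toGL : SL2 →* GL2) (fun a _ => α a) =
      th Matrix.SpecialLinearGroup.toGL fun a d => α a * (1 : MulChar F ℂ) d := by
  funext b
  simp only [th]
  rw [MulChar.one_apply (isUnit_iff_ne_zero.2 (diag_ne _ ((mem_Bor _).1 b.2)).2), mul_one]

theorem irr_S_iff (α : MulChar F ℂ) : IsIrrCharacter SL2 (psS α) ↔ α ^ 2 ≠ 1 := by
  classical
  rw [isIrr_iff_norm (isCharacter_indFun _ (th_S α ▸ isCharacter_th _ α 1)), inner_S, if_pos rfl,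
    add_eq_left]
  have : α = α⁻¹ ↔ α ^ 2 = 1 := by rw [pow_two, eq_inv_iff_mul_eq_one]
  simp [this]

theorem irr_G (α β : MulChar F ℂ) (h : α ≠ β) : IsIrrCharacter GL2 (psG α β) := by
  classical
  refine isIrr_of_char_norm (isCharacter_indFun _ (isCharacter_th _ α β)) ?_
  rw [inner_G, if_pos ⟨rfl, rfl⟩, if_neg (fun e => h e.1), add_zero]

theorem psG_comm (α β : MulChar F ℂ) : psG α β = psG β α := by
  classical
  have e1 := inner_G α β α β
  have e2 := inner_G α β β α
  have e3 := inner_G β α α β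
  have e4 := inner_G β α β α
  refine sub_eq_zero.1 (classInner_self_eq_zero ?_)
  rw [classInner_sub_left, classInner_sub_right, classInner_sub_right, e1, e2, e3, e4]
  by_cases h : α = β <;> simp [h, Ne.symm]

theorem psG_eq_iff (α β α' β' : MulChar F ℂ) :
    psG α β = psG α' β' ↔ (α = α' ∧ β = β') ∨ (α = β' ∧ β = α') := by
  classical
  refine ⟨fun e => ?_, ?_⟩
  · by_contra hc
    push Not at hc
    have h1 := inner_G α β α' β'
    rw [← e, inner_G] at h1
    rw [if_neg (show ¬(α = α' ∧ β = β') from fun x => hc.1 x.1 x.2),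
      if_neg (show ¬(α = β' ∧ β = α') from fun x => hc.2 x.1 x.2), if_pos ⟨rfl, rfl⟩] at h1
    split_ifs at h1 <;> norm_num at h1
  · rintro (⟨rfl, rfl⟩ | ⟨rfl, rfl⟩)
    exacts [rfl, psG_comm _ _]

theorem fixedPoint_eq (g : GL2) :
    fixedPointCharacter (upperTriangularGL 2 F) g =
      indFun (Bor (MonoidHom.id GL2)) (th (MonoidHom.id GL2) fun _ _ => 1) g := by
  classical
  rw [ind_eq _ _ rG rfl rG_some]
  have h1 : ∀ y : GL2, extendByZero (Bor (MonoidHom.id GL2)) (th (MonoidHom.id GL2) fun _ _ => 1) y =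
      if y ∈ upperTriangularGL 2 F then 1 else 0 := by
    intro y
    split_ifs with h
    · rw [extendByZero_mem' _ _ (show y ∈ Bor (MonoidHom.id GL2) from h)]; rfl
    · exact extendByZero_not_mem _ _ h
  simp only [h1]
  let f : Option F → GL2 ⧸ upperTriangularGL 2 F := fun P => QuotientGroup.mk (rG P)
  have hf : Function.Bijective f := by
    have hd := decomp (MonoidHom.id GL2) rG rfl rG_some
    constructor
    · intro P P' h
      have h' := QuotientGroup.eq.1 h
      exact congrArg Prod.fst (hd.1 (a₁ := (P, ⟨(rG P)⁻¹ * rG P', h'⟩)) (a₂ := (P', 1)) (by simp))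
    · intro x
      obtain ⟨y, rfl⟩ := QuotientGroup.mk_surjective x
      obtain ⟨⟨P, h⟩, e⟩ := hd.2 y
      exact ⟨P, QuotientGroup.eq.2 (by rw [← e]; simpa [mul_assoc] using h.2)⟩
  have hfix : ∀ P, f P ∈ MulAction.fixedBy (GL2 ⧸ upperTriangularGL 2 F) g ↔
      (rG P)⁻¹ * g * rG P ∈ upperTriangularGL 2 F := by
    intro P
    rw [MulAction.mem_fixedBy, MulAction.Quotient.smul_mk, eq_comm, QuotientGroup.eq, smul_eq_mul, mul_assoc]
  unfold fixedPointCharacter
  rw [← Nat.card_congr ((Equiv.ofBijective f hf).subtypeEquiv (p := fun P => f P ∈ MulAction.fixedBy _ g)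
      (fun P => Iff.rfl)), Nat.card_eq_fintype_card, Fintype.card_subtype, Finset.natCast_card_filter]
  simp only [hfix, Fintype.sum_option]
  congr 1
  show (if (1 : GL2)⁻¹ * g * 1 ∈ upperTriangularGL 2 F then (1 : ℂ) else 0) = _
  simp

end CfsgLib.Misc.PrincipalSeries
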