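import Cfsg.Agent.Misc.SLTwoHalves

/-!
Cuspidal characters on the non-split torus.
-/

set_option autoImplicit false
set_option linter.unusedSectionVars false
set_option linter.unusedSimpArgs false

namespace CfsgLib.Misc.SLTwoSmall

open Cfsg CfsgLib.Char BorelInduced PrincipalSeries SLTwoClassify SLTwoDiscrete SLTwoHalves
open scoped ComplexConjugate

variable {F : Type*} [Field F] [Fintype F] [DecidableEq F]

local notation "SL2" => Matrix.SpecialLinearGroup (Fin 2) F
local notation "qC" => (Fintype.card F : ℂ)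

theorem exists_scalar {χ : SL2 → ℂ} (hχ : IsIrrCharacter SL2 χ) {z : SL2} (hz : ∀ k, z * k = k * z) (h : SL2) :
    χ 1 * χ (z * h) = χ z * χ h := by
  obtain ⟨n, ρ, hirr, rfl⟩ := hχ
  haveI := hirr
  obtain ⟨c, hc⟩ := schur_scalar ρ (ρ z) (fun k v => by
    rw [← Module.End.mul_apply, ← map_mul, hz, map_mul, Module.End.mul_apply])
  simp [Representation.character, map_mul, hc, ← Module.End.one_eq_id]
  ring

variable {C : Subgroup (Matrix.SpecialLinearGroup (Fin 2) F)}

theorem norm_nonneg_absurd {φ : SL2 → ℂ} {r : ℝ} (hr : r < 0) (h : classInner φ φ = (r : ℂ)) : False := by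
  have h2 := classInner_self_re φ
  rw [h, Complex.ofReal_re] at h2
  have : 0 ≤ (Nat.card SL2 : ℝ)⁻¹ * ∑ g : SL2, ‖φ g‖ ^ 2 := by positivity
  linarith

/-- the character of order two of the torus -/
theorem exists_theta0 (hC : IsTorus C) :
    ∃ θ₀ : C →* ℂˣ, (∀ c : C, (θ₀ c : ℂ) = if c ^ ((Fintype.card F + 1) / 2) = 1 then 1 else -1) ∧
      θ₀ * θ₀ = 1 ∧ θ₀ ≠ 1 ∧ ∀ θ : C →* ℂˣ, θ * θ = 1 → θ ≠ 1 → θ = θ₀ := by
  classical
  haveI := Fintype.ofFinite C
  obtain ⟨k, hk⟩ := hC.odd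
  have hn : (Fintype.card F + 1) / 2 = k + 1 := by omega
  rw [hn]
  have hp : ∀ c : C, c ^ (k + 1) = 1 ∨ c ^ (k + 1) = hC.z := by
    intro c
    by_contra hne
    push Not at hne
    refine hC.ne_inv (c ^ (k + 1)).2 (fun e => hne.1 (Subtype.ext e)) (fun e => hne.2 (Subtype.ext e)) ?_
    have : c ^ (k + 1) * c ^ (k + 1) = 1 := by
      rw [← pow_add, show k + 1 + (k + 1) = Nat.card C by rw [hC.card, hk]; ring]
      exact pow_card_eq_one'
    exact congrArg Subtype.val (eq_inv_of_mul_eq_one_left this)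
  have hz1 : hC.z ≠ 1 := fun e => by
    have := congrArg (fun k : C => ((k : SL2) : Matrix (Fin 2) (Fin 2) F) 0 0) e
    simp [IsTorus.z] at this
    exact two_ne hC.odd (by linear_combination -this)
  have hzz : hC.z * hC.z = 1 := Subtype.ext neg_one_sq
  let θ₀ : C →* ℂˣ :=
    { toFun := fun c => if c ^ (k + 1) = 1 then 1 else -1
      map_one' := by simp
      map_mul' := fun a b => by
        have : (a * b) ^ (k + 1) = a ^ (k + 1) * b ^ (k + 1) := (show Commute a b from hC.comm a b).mul_pow _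
        rcases hp a with x | x <;> rcases hp b with y | y <;> simp [this, x, y, hz1, hzz] }
  have hθ0 : ∀ c : C, (θ₀ c : ℂ) = if c ^ (k + 1) = 1 then 1 else -1 := fun c => by
    show (((if c ^ (k + 1) = 1 then 1 else -1 : ℂˣ)) : ℂ) = _
    split_ifs <;> simp
  haveI := hC.cyclic
  obtain ⟨g, hg⟩ := IsCyclic.exists_generator (α := C)
  have hgo : orderOf g = 2 * (k + 1) := by
    rw [orderOf_eq_card_of_forall_mem_zpowers hg, hC.card, hk]; ring
  have hg1 : g ^ (k + 1) ≠ 1 := by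
    intro e
    have := Nat.le_of_dvd (Nat.succ_pos k) (orderOf_dvd_of_pow_eq_one e)
    omega
  have hdet : ∀ θ θ' : C →* ℂˣ, θ g = θ' g → θ = θ' := fun θ θ' e => MonoidHom.ext fun c => by
    obtain ⟨i, rfl⟩ := Subgroup.mem_zpowers_iff.1 (hg c)
    rw [map_zpow, map_zpow, e]
  have hg0 : θ₀ g = -1 := if_neg hg1
  refine ⟨θ₀, hθ0, ?_, ?_, ?_⟩
  · exact hdet _ _ (by rw [MonoidHom.mul_apply, hg0, MonoidHom.one_apply]; simp)
  · intro e
    have := DFunLike.congr_fun e g
    rw [hg0, MonoidHom.one_apply] at this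
    have := congrArg Units.val this
    norm_num at this
  · intro θ h2 h1
    refine hdet _ _ ?_
    rw [hg0]
    have e : θ g * θ g = 1 := DFunLike.congr_fun h2 g
    rcases mul_self_eq_one_iff.1 (show (θ g : ℂ) * θ g = 1 by rw [← Units.val_mul, e, Units.val_one]) with a | a
    · exact absurd (hdet θ 1 (Units.ext (by rw [a]; simp))) h1
    · exact Units.ext (by rw [a]; simp)

theorem disc_one_orth (hC : IsTorus C) {χ : SL2 → ℂ} (hχ : IsIrrCharacter SL2 χ) (h : Cuspidal χ) :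
    classInner (hC.disc 1) χ = 0 := by
  classical
  haveI := Fintype.ofFinite C
  have hone : IsIrrCharacter SL2 (fun _ => (1 : ℂ)) := isIrr_one
  have hz : ((1 : C →* ℂˣ) hC.z : ℂ) = 1 := rfl
  have hA1 : classInner (Aα (hC.alpha 1)) (fun _ : SL2 => (1 : ℂ)) = 0 := by
    rw [Aα_inner hC.odd _ (classFun_of_irr hone), hC.alpha_spec, hz]
    simp
  have hI1 : classInner (IsTorus.indC (1 : C →* ℂˣ)) (fun _ : SL2 => (1 : ℂ)) = 1 := by
    rw [IsTorus.indC, CfsgLib.Char.frobenius _ _ (classFun_of_irr hone)]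
    exact classInner_one_one
  have hAS : classInner (Aα (hC.alpha 1)) (psS (1 : MulChar F ℂ)) = 2 := by
    have hsum : ∀ a : Fˣ, (a : F) = ((a⁻¹ : Fˣ) : F) →
        ∑ x : F, conj (psS (1 : MulChar F ℂ) (eS (a, x) : SL2)) = 2 * qC := by
      intro a ha
      simp only [ps_plus 1 a _ ha, MulChar.one_apply_coe, mul_one, apply_ite conj, map_one, map_add,
        Complex.conj_natCast]
      rw [← Finset.add_sum_erase Finset.univ _ (Finset.mem_univ (0 : F)), if_pos rfl,
        Finset.sum_congr rfl fun x hx => if_neg (Finset.mem_erase.1 hx).1, Finset.sum_const,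
        Finset.card_erase_of_mem (Finset.mem_univ _), Finset.card_univ, nsmul_eq_mul,
        Nat.cast_sub Fintype.card_pos]
      push_cast
      ring
    have hneg : psS (1 : MulChar F ℂ) (-1) = qC + 1 := by
      rw [← eS_neg_zero, ps_plus 1 _ _ (by simp), if_pos rfl, MulChar.one_apply_coe, mul_one]
    have hq : qC ≠ 0 := Nat.cast_ne_zero.2 Fintype.card_ne_zero
    have hq1 : qC - 1 ≠ 0 := sub_ne_zero.2 (by exact_mod_cast (Fintype.one_lt_card (α := F)).ne')
    rw [Aα_inner hC.odd _ (classFun_of_char (isCharacter_psS 1)), hsum 1 (by simp), hsum (-1) (by simp),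
      hC.alpha_spec, hz, psS_one, hneg]
    simp
    field_simp
    ring
  have hIS : classInner (IsTorus.indC (1 : C →* ℂˣ)) (psS (1 : MulChar F ℂ)) = 2 := by
    rw [IsTorus.indC, CfsgLib.Char.frobenius _ _ (classFun_of_char (isCharacter_psS 1)), classInner_def, hC.card,
      Fintype.sum_eq_add (1 : C) hC.z]
    · rw [Subgroup.coe_one, psS_one, show ((hC.z : C) : SL2) = -1 from rfl, ← eS_neg_zero, ps_plus 1 _ _ (by simp),
        if_pos rfl, MulChar.one_apply_coe, mul_one]
      have hne : qC + 1 ≠ 0 := Nat.cast_add_one_ne_zero _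
      simp
      field_simp
      ring
    · intro e
      have := congrArg (fun k : C => ((k : SL2) : Matrix (Fin 2) (Fin 2) F) 0 0) e
      simp [IsTorus.z] at this
      exact two_ne hC.odd (by linear_combination this)
    · intro c hc
      have hv := hC.ell c.2 (fun e => hc.1 (Subtype.ext e)) (fun e => hc.2 (Subtype.ext e))
      rw [psS, ind_elliptic Matrix.SpecialLinearGroup.toGL _ rS (g := (c : SL2)) hv rfl rS_some]
      simp
  have hSS : classInner (psS (1 : MulChar F ℂ)) (psS (1 : MulChar F ℂ)) = 2 := by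
    rw [inner_S]; norm_num
  have h11 : classInner (psS (1 : MulChar F ℂ)) (fun _ : SL2 => (1 : ℂ)) = 1 := by
    haveI : Fintype (Bor (Matrix.SpecialLinearGroup.toGL : SL2 →* _)) := Fintype.ofFinite _
    have heq : th Matrix.SpecialLinearGroup.toGL (fun a _ => (1 : MulChar F ℂ) a) =
        fun _ : Bor (Matrix.SpecialLinearGroup.toGL : SL2 →* _) => (1 : ℂ) := by
      funext b
      exact MulChar.one_apply (isUnit_iff_ne_zero.2 (diag_ne _ ((mem_Bor _).1 b.2)).1)
    rw [psS, CfsgLib.Char.frobenius _ _ (classFun_of_irr hone), heq]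
    exact classInner_one_one
  have h11' : classInner (fun _ : SL2 => (1 : ℂ)) (psS (1 : MulChar F ℂ)) = 1 := by
    rw [← classInner_conj, h11, map_one]
  have d1 : classInner (hC.disc 1) (fun _ : SL2 => (1 : ℂ)) = -1 := by
    rw [IsTorus.disc, classInner_sub_left, hA1, hI1]; ring
  have dS : classInner (hC.disc 1) (psS (1 : MulChar F ℂ)) = 0 := by
    rw [IsTorus.disc, classInner_sub_left, hAS, hIS, sub_self]
  have hkey : hC.disc 1 = psS (1 : MulChar F ℂ) - (fun _ => 1) - (fun _ => 1) := by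
    refine sub_eq_zero.1 (classInner_self_eq_zero ?_)
    have dd := hC.disc_norm (1 : C →* ℂˣ)
    rw [if_pos (mul_one (1 : C →* ℂˣ))] at dd
    have d1' : classInner (fun _ : SL2 => (1 : ℂ)) (hC.disc 1) = -1 := by rw [← classInner_conj, d1]; simp
    have dS' : classInner (psS (1 : MulChar F ℂ)) (hC.disc 1) = 0 := by rw [← classInner_conj, dS]; simp
    simp only [classInner_sub_left, classInner_sub_right, dd, d1, dS, d1', dS', hSS, h11, h11', irr_inner_self hone]
    ring
  have hc1 : classInner (fun _ : SL2 => (1 : ℂ)) χ = 0 := by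
    rw [irr_inner hone hχ, if_neg]
    intro e
    have := h 1
    rw [← e, h11] at this
    exact one_ne_zero this
  rw [hkey, classInner_sub_left, classInner_sub_left, h 1, hc1]
  ring

theorem small_inner (hC : IsTorus C) {χ : SL2 → ℂ} (hχ : IsIrrCharacter SL2 χ) (h : Cuspidal χ)
    (hdeg : 2 * χ 1 = qC - 1) {θ₀ : C →* ℂˣ} (hu : ∀ θ : C →* ℂˣ, θ * θ = 1 → θ ≠ 1 → θ = θ₀) :
    classInner (hC.disc θ₀) χ = 1 ∧
      ∀ c : C, (c : SL2) ≠ 1 → (c : SL2) ≠ -1 → χ c = -(θ₀ c : ℂ) := by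
  classical
  haveI : Fintype C := Fintype.ofFinite C
  haveI : Finite (C →* ℂˣ) := Finite.of_equiv _ (CTI.linEquiv hC.comm).symm
  haveI : Fintype (C →* ℂˣ) := Fintype.ofFinite _
  have hq1 : qC - 1 ≠ 0 := sub_ne_zero.2 (by exact_mod_cast (Fintype.one_lt_card (α := F)).ne')
  have hzero : ∀ θ : C →* ℂˣ, θ ≠ θ₀ → classInner (hC.disc θ) χ = 0 := by
    intro θ hθ
    by_cases h2 : θ * θ = 1
    · by_cases h1 : θ = 1
      · rw [h1]; exact disc_one_orth hC hχ h
      · exact absurd (hu θ h2 h1) hθ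
    · rw [irr_inner (hC.irr_disc h2) hχ, if_neg]
      intro e
      rw [← e, hC.disc_one] at hdeg
      exact hq1 (by linear_combination hdeg)
  obtain ⟨e1, e2⟩ := hC.cusp_torus hχ h
  rw [Fintype.sum_eq_single θ₀ hzero] at e1
  rw [hdeg, div_self hq1] at e1
  refine ⟨e1, fun c h1 hn => ?_⟩
  have e := e2 c h1 hn
  rw [Fintype.sum_eq_single θ₀ (fun θ hθ => by rw [hzero θ hθ, mul_zero]), e1, mul_one] at e
  have := congrArg conj e
  rw [Complex.conj_conj, map_neg, Complex.conj_conj] at this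
  linear_combination this

theorem big_eq (hC : IsTorus C) {χ : SL2 → ℂ} (hχ : IsIrrCharacter SL2 χ) (h : Cuspidal χ)
    (hdeg : χ 1 = qC - 1) : ∃ θ : C →* ℂˣ, θ * θ ≠ 1 ∧ χ = hC.disc θ := by
  classical
  haveI : Fintype C := Fintype.ofFinite C
  haveI : Finite (C →* ℂˣ) := Finite.of_equiv _ (CTI.linEquiv hC.comm).symm
  haveI : Fintype (C →* ℂˣ) := Fintype.ofFinite _
  by_contra hne
  push Not at hne
  obtain ⟨θ₀, -, h02, -, hu⟩ := exists_theta0 hC
  have hzero : ∀ θ : C →* ℂˣ, θ ≠ θ₀ → classInner (hC.disc θ) χ = 0 := by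
    intro θ hθ
    by_cases h2 : θ * θ = 1
    · by_cases h1 : θ = 1
      · rw [h1]; exact disc_one_orth hC hχ h
      · exact absurd (hu θ h2 h1) hθ
    · rw [irr_inner (hC.irr_disc h2) hχ, if_neg (Ne.symm (hne θ h2))]
  obtain ⟨e1, -⟩ := hC.cusp_torus hχ h
  have hq1 : qC - 1 ≠ 0 := sub_ne_zero.2 (by exact_mod_cast (Fintype.one_lt_card (α := F)).ne')
  rw [Fintype.sum_eq_single θ₀ hzero, hdeg, mul_div_cancel_right₀ _ hq1] at e1
  have e1' : classInner χ (hC.disc θ₀) = 2 := by rw [← classInner_conj, e1]; simp [map_ofNat]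
  have dd := hC.disc_norm θ₀
  rw [if_pos h02] at dd
  refine norm_nonneg_absurd (φ := hC.disc θ₀ - χ) (r := -1) (by norm_num) ?_
  rw [classInner_sub_left, classInner_sub_right, classInner_sub_right, dd, e1, e1', irr_inner_self hχ]
  push_cast
  ring

theorem small_pair (hC : IsTorus C) {χ₁ χ₂ : SL2 → ℂ} (h₁ : IsIrrCharacter SL2 χ₁) (h₂ : IsIrrCharacter SL2 χ₂)
    (hne : χ₁ ≠ χ₂) (c₁ : Cuspidal χ₁) (c₂ : Cuspidal χ₂) (d₁ : 2 * χ₁ 1 = qC - 1) (d₂ : 2 * χ₂ 1 = qC - 1) :
    ∀ y : F, y ≠ 0 → χ₁ (setupS.u y) + χ₂ (setupS.u y) = -1 := by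
  classical
  obtain ⟨θ₀, -, h02, -, hu⟩ := exists_theta0 hC
  have e₁ := (small_inner hC h₁ c₁ d₁ hu).1
  have e₂ := (small_inner hC h₂ c₂ d₂ hu).1
  have e₁' : classInner χ₁ (hC.disc θ₀) = 1 := by rw [← classInner_conj, e₁, map_one]
  have e₂' : classInner χ₂ (hC.disc θ₀) = 1 := by rw [← classInner_conj, e₂, map_one]
  have dd := hC.disc_norm θ₀
  rw [if_pos h02] at dd
  have hk : hC.disc θ₀ = χ₁ + χ₂ := by
    refine sub_eq_zero.1 (classInner_self_eq_zero ?_)
    simp only [classInner_sub_left, classInner_sub_right, classInner_add_left, classInner_add_right, dd, e₁, e₂, e₁', e₂',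
      irr_inner h₁ h₁, irr_inner h₂ h₂, irr_inner h₁ h₂, irr_inner h₂ h₁, if_neg hne, if_neg (Ne.symm hne), if_true]
    ring
  intro y hy
  rw [← Pi.add_apply χ₁ χ₂, ← hk, hC.disc_u θ₀ hy]

theorem exists_torus (hodd : Odd (Fintype.card F)) {g : SL2} (hg : SLTwoTorus.Ell g) :
    IsTorus (Subgroup.centralizer ({g} : Set SL2)) :=
  ⟨hodd, SLTwoTorus.isCyclic_centralizer hg, SLTwoTorus.card_centralizer (two_ne hodd) hg⟩

end CfsgLib.Misc.SLTwoSmall
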