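import Cfsg.Agent.Misc.CharCount
import Cfsg.Agent.Misc.SLTwoSmall

/-!
Counting irreducible characters of SL₂(q) by degree.
-/

set_option autoImplicit false
set_option linter.unusedSectionVars false
set_option linter.unusedSimpArgs false

namespace CfsgLib.Misc.SLTwoCount

open Cfsg CfsgLib.Char BorelInduced PrincipalSeries SLTwoClassify SLTwoDiscrete SLTwoHalves SLTwoSmall
open CharCount (card_two_to_one card_mulChar sum_sq_by_degree)
open scoped ComplexConjugate

variable {F : Type*} [Field F] [Fintype F] [DecidableEq F]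

local notation "SL2" => Matrix.SpecialLinearGroup (Fin 2) F
local notation "qC" => (Fintype.card F : ℂ)

theorem card_SL : Nat.card SL2 = (Fintype.card F + 1) * (Fintype.card F * (Fintype.card F - 1)) := by
  rw [← Subgroup.index_mul_card (Bor (Matrix.SpecialLinearGroup.toGL : SL2 →* _)), index_Bor, card_Bor]

theorem psS_inv (α : MulChar F ℂ) : psS α⁻¹ = psS α := by
  classical
  refine sub_eq_zero.1 (classInner_self_eq_zero ?_)
  simp only [classInner_sub_left, classInner_sub_right, inner_S, inv_inv, inv_inj]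
  simp only [eq_comm (a := α⁻¹) (b := α)]
  split_ifs <;> ring

theorem psS_eq_iff {α β : MulChar F ℂ} : psS α = psS β ↔ β = α ∨ β = α⁻¹ := by
  classical
  refine ⟨fun e => ?_, ?_⟩
  · by_contra hc
    push Not at hc
    have h1 := inner_S α β
    rw [← e, inner_S, if_neg (show ¬α = β from Ne.symm hc.1),
      if_neg (show ¬α = β⁻¹ from fun x => hc.2 (by rw [x, inv_inv])), if_pos rfl] at h1
    split_ifs at h1 <;> norm_num at h1
  · rintro (rfl | rfl)
    exacts [rfl, (psS_inv α).symm]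

theorem card_one_q (hq : 4 ≤ Fintype.card F) :
    Nat.card {χ : IrrCharacter SL2 // (χ : SL2 → ℂ) 1 = 1} = 1 ∨ Fintype.card F = 3 := by
  left
  haveI : Inhabited {χ : IrrCharacter SL2 // (χ : SL2 → ℂ) 1 = 1} := ⟨⟨⟨fun _ => 1, isIrr_one⟩, rfl⟩⟩
  rw [Nat.card_eq_one_iff_unique]
  refine ⟨⟨?_⟩, inferInstance⟩
  suffices h : ∀ χ : SL2 → ℂ, IsIrrCharacter SL2 χ → χ 1 = 1 → χ = fun _ => 1 by
    rintro ⟨⟨χ, hχ⟩, hd⟩ ⟨⟨χ', hχ'⟩, hd'⟩
    exact Subtype.ext (Subtype.ext ((h χ hχ hd).trans (h χ' hχ' hd').symm))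
  intro χ hχ hd
  rcases classify hχ with hc | ⟨α, hα, rfl⟩ | h | rfl | ⟨α, h2, h1, hc⟩
  · exfalso
    obtain ⟨s, hs1, hs, -⟩ := setupS.degree_le hχ (cusp_zero hχ hc)
    rw [hd] at hs
    have hs' : s.card = 1 := by exact_mod_cast hs.symm
    obtain ⟨φ, rfl⟩ := Finset.card_eq_one.1 hs'
    -- a linear cuspidal character is trivial on a commutator, so on the unipotent subgroup
    obtain ⟨μ, rfl⟩ := exists_hom_of_degree_one (isCharacter_of_isIrr hχ) hd
    have hu : ∀ y : F, (μ (setupS.u y) : ℂ) = 1 := by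
      intro y
      obtain ⟨r, hr0, hr1⟩ : ∃ r : F, r ≠ 0 ∧ r ^ 2 ≠ 1 := by
        by_contra hall
        push Not at hall
        have hsub : (Finset.univ : Finset F) ⊆ {0, 1, -1} := fun r _ => by
          simp only [Finset.mem_insert, Finset.mem_singleton]
          by_cases h0 : r = 0
          · exact Or.inl h0
          · exact Or.inr (sq_eq_one_iff.1 (hall r h0))
        have := (Finset.card_le_card hsub).trans Finset.card_le_three
        rw [Finset.card_univ] at this
        omega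
      let t : SL2 := ⟨!![r, 0; 0, r⁻¹], by simp [Matrix.det_fin_two, mul_inv_cancel₀ hr0]⟩
      have hne : r ^ 2 - 1 ≠ 0 := sub_ne_zero.2 hr1
      have e : setupS.u y * setupS.u (y / (r ^ 2 - 1)) = t * setupS.u (y / (r ^ 2 - 1)) * t⁻¹ := by
        rw [eq_mul_inv_iff_mul_eq]
        refine Subtype.ext ?_
        show !![1, y; 0, 1] * !![1, y / (r ^ 2 - 1); 0, 1] * !![r, 0; 0, r⁻¹] =
          !![r, 0; 0, r⁻¹] * !![1, y / (r ^ 2 - 1); 0, 1]
        simp
        field_simp
        ring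
      have := congrArg μ e
      rw [map_mul, map_mul, map_mul, map_inv, mul_right_comm (μ t), mul_inv_cancel, one_mul, mul_eq_right] at this
      rw [this, Units.val_one]
    have h0 := cusp_zero hχ hc
    simp [hu] at h0
  · exfalso
    rw [psS_one] at hd
    have : Fintype.card F + 1 = 1 := by exact_mod_cast hd
    omega
  · exact h
  · exfalso
    rw [steinberg_one] at hd
    have : Fintype.card F = 1 := by exact_mod_cast hd
    omega
  · exfalso
    obtain ⟨-, -, hdd, -⟩ := half h2 h1 hχ hc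
    rw [hd] at hdd
    have : 2 = Fintype.card F + 1 := by exact_mod_cast (show (2 : ℂ) = qC + 1 by linear_combination hdd)
    omega

theorem irr_steinberg : IsIrrCharacter SL2 (psS (1 : MulChar F ℂ) - fun _ => 1) := by
  classical
  have hone : IsIrrCharacter SL2 (fun _ => (1 : ℂ)) := isIrr_one
  have h11 : classInner (psS (1 : MulChar F ℂ)) (fun _ : SL2 => (1 : ℂ)) = 1 := by
    haveI : Fintype (Bor (Matrix.SpecialLinearGroup.toGL : SL2 →* _)) := Fintype.ofFinite _
    have heq : th Matrix.SpecialLinearGroup.toGL (fun a _ => (1 : MulChar F ℂ) a) =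
        fun _ : Bor (Matrix.SpecialLinearGroup.toGL : SL2 →* _) => (1 : ℂ) := by
      funext b
      exact MulChar.one_apply (isUnit_iff_ne_zero.2 (diag_ne _ ((mem_Bor _).1 b.2)).1)
    rw [psS, CfsgLib.Char.frobenius _ _ (classFun_of_irr hone), heq]
    exact classInner_one_one
  have h11' : classInner (fun _ : SL2 => (1 : ℂ)) (psS (1 : MulChar F ℂ)) = 1 := by
    rw [← classInner_conj, h11, map_one]
  refine isIrr_of_char_norm (isCharacter_sub_constituent (isCharacter_psS 1) hone (by rw [h11]; exact one_ne_zero)) ?_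
  rw [classInner_sub_left, classInner_sub_right, classInner_sub_right, h11, h11', irr_inner_self hone, inner_S]
  simp

theorem card_q (hq : 4 ≤ Fintype.card F) : Nat.card {χ : IrrCharacter SL2 // (χ : SL2 → ℂ) 1 = qC} = 1 := by
  haveI : Inhabited {χ : IrrCharacter SL2 // (χ : SL2 → ℂ) 1 = qC} := ⟨⟨⟨_, irr_steinberg⟩, steinberg_one⟩⟩
  rw [Nat.card_eq_one_iff_unique]
  refine ⟨⟨?_⟩, inferInstance⟩
  suffices h : ∀ χ : SL2 → ℂ, IsIrrCharacter SL2 χ → χ 1 = qC → χ = psS (1 : MulChar F ℂ) - fun _ => 1 by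
    rintro ⟨⟨χ, hχ⟩, hd⟩ ⟨⟨χ', hχ'⟩, hd'⟩
    exact Subtype.ext (Subtype.ext ((h χ hχ hd).trans (h χ' hχ' hd').symm))
  intro χ hχ hd
  rcases classify hχ with hc | ⟨α, hα, rfl⟩ | rfl | h | ⟨α, h2, h1, hc⟩
  · exact absurd (cusp_lt hχ hc hd) (lt_irrefl _)
  · exfalso
    rw [psS_one] at hd
    exact one_ne_zero (show (1 : ℂ) = 0 by linear_combination hd)
  · exfalso
    have : Fintype.card F = 1 := by exact_mod_cast (show qC = 1 from hd.symm)
    omega
  · exact h
  · exfalso
    obtain ⟨-, -, hdd, -⟩ := half h2 h1 hχ hc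
    rw [hd] at hdd
    have : Fintype.card F = 1 := by exact_mod_cast (show qC = 1 by linear_combination hdd)
    omega

theorem card_ps (hq : 4 ≤ Fintype.card F) :
    2 * Nat.card {χ : IrrCharacter SL2 // (χ : SL2 → ℂ) 1 = qC + 1} =
      Nat.card {α : MulChar F ℂ // α ^ 2 ≠ 1} := by
  classical
  refine card_two_to_one (fun α : {α : MulChar F ℂ // α ^ 2 ≠ 1} =>
      (⟨⟨psS α.1, (irr_S_iff α.1).2 α.2⟩, psS_one _⟩ : {χ : IrrCharacter SL2 // (χ : SL2 → ℂ) 1 = qC + 1}))
    (fun α => ⟨α.1⁻¹, fun e => α.2 (by rwa [inv_pow, inv_eq_one] at e)⟩) ?_ ?_ ?_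
  · rintro ⟨⟨χ, hχ⟩, hd⟩
    change χ 1 = qC + 1 at hd
    rcases classify hχ with hc | ⟨α, hα, rfl⟩ | rfl | rfl | ⟨α, h2, h1, hc⟩
    · exfalso
      have := cusp_lt hχ hc (k := Fintype.card F + 1) (by rw [hd]; push_cast; rfl)
      omega
    · exact ⟨⟨α, hα⟩, rfl⟩
    · exfalso
      have : 1 = Fintype.card F + 1 := by exact_mod_cast (show (1 : ℂ) = qC + 1 from hd)
      omega
    · exfalso
      rw [steinberg_one] at hd
      exact one_ne_zero (show (1 : ℂ) = 0 by linear_combination -hd)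
    · exfalso
      obtain ⟨-, -, hdd, -⟩ := half h2 h1 hχ hc
      rw [hd] at hdd
      have : Fintype.card F + 1 = 0 := by exact_mod_cast (show qC + 1 = 0 by linear_combination hdd)
      omega
  · rintro ⟨α, hα⟩ e
    have : α⁻¹ = α := congrArg Subtype.val e
    exact hα (by rw [pow_two]; nth_rewrite 1 [← this]; exact inv_mul_cancel α)
  · rintro ⟨α, hα⟩ ⟨β, hβ⟩
    simp only [Subtype.mk.injEq]
    exact psS_eq_iff

section odd

variable (hodd : Odd (Fintype.card F))
include hodd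

theorem card_not_sq : Nat.card {α : MulChar F ℂ // α ^ 2 ≠ 1} = Fintype.card F - 3 := by
  classical
  haveI : Fintype (MulChar F ℂ) := Fintype.ofFinite _
  obtain ⟨α, h2, h1⟩ := exists_quad hodd
  rw [Nat.card_eq_fintype_card, Fintype.card_subtype_compl, Fintype.card_subtype,
    show (Finset.univ.filter fun β : MulChar F ℂ => β ^ 2 = 1) = {1, α} by
      ext β
      simp only [Finset.mem_filter, Finset.mem_univ, true_and, Finset.mem_insert, Finset.mem_singleton]
      refine ⟨fun hb => ?_, ?_⟩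
      · by_cases hb1 : β = 1
        · exact Or.inl hb1
        · exact Or.inr (quad_unique hb hb1 h2 h1 hodd)
      · rintro (rfl | rfl)
        exacts [one_pow 2, h2],
    Finset.card_pair (Ne.symm h1), ← Nat.card_eq_fintype_card, card_mulChar]
  omega

theorem card_half (hq : 5 ≤ Fintype.card F) (k : ℕ) (hk : Fintype.card F = 2 * k + 1) :
    Nat.card {χ : IrrCharacter SL2 // (χ : SL2 → ℂ) 1 = (k : ℂ) + 1} = 2 := by
  classical
  obtain ⟨α, h2, h1⟩ := exists_quad hodd
  have hkC : qC = 2 * k + 1 := by exact_mod_cast hk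
  obtain ⟨⟨χ, hχ⟩, hc⟩ := exists_constituent (isCharacter_psS α) (fun e => by
    have := congrFun e 1
    rw [psS_one, Pi.zero_apply] at this
    exact Nat.cast_add_one_ne_zero _ this)
  obtain ⟨h', hne, hdeg, -⟩ := half h2 h1 hχ hc
  have d1 : χ 1 = (k : ℂ) + 1 := by linear_combination hdeg / 2 + hkC / 2
  have d2 : (psS α - χ) 1 = (k : ℂ) + 1 := by rw [Pi.sub_apply, psS_one]; linear_combination hkC - d1
  refine Nat.card_eq_two_iff.2 ⟨⟨⟨χ, hχ⟩, d1⟩, ⟨⟨_, h'⟩, d2⟩, fun e => hne (congrArg (fun x => x.1.1) e), ?_⟩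
  rw [Set.eq_univ_iff_forall]
  rintro ⟨⟨ξ, hξ⟩, hd⟩
  change ξ 1 = (k : ℂ) + 1 at hd
  obtain ⟨β, b2, b1, hcb⟩ := deg_half hq hξ (by rw [hd]; linear_combination -hkC)
  rw [quad_unique b2 b1 h2 h1 hodd] at hcb
  simp only [Set.mem_insert_iff, Set.mem_singleton_iff, Subtype.mk.injEq]
  by_contra hno
  push Not at hno
  refine hcb ?_
  rw [show psS α = χ + (psS α - χ) by abel, classInner_add_left, irr_inner hχ hξ, irr_inner h' hξ,
    if_neg (Ne.symm hno.1), if_neg (Ne.symm hno.2), add_zero]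

theorem disc_inv {C : Subgroup SL2} (hC : IsTorus C) (θ : C →* ℂˣ) : hC.disc θ⁻¹ = hC.disc θ := by
  classical
  haveI := Fintype.ofFinite C
  have hz : (θ⁻¹ hC.z : ℂ) = θ hC.z := by
    rw [MonoidHom.inv_apply, Units.val_inv_eq_inv_val]
    rcases hC.theta_z θ with e | e <;> rw [e] <;> norm_num
  have hA : Aα (hC.alpha θ⁻¹) = Aα (hC.alpha θ) := by
    have key : ∀ ξ : SL2 → ℂ, IsClassFunction SL2 ξ →
        classInner (Aα (hC.alpha θ⁻¹)) ξ = classInner (Aα (hC.alpha θ)) ξ := fun ξ hξ => by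
      rw [Aα_inner hodd _ hξ, Aα_inner hodd _ hξ, hC.alpha_spec, hC.alpha_spec, hz]
    refine sub_eq_zero.1 (classInner_self_eq_zero ?_)
    rw [classInner_sub_left, key _ (fun g k => by
      simp only [Pi.sub_apply, classFun_Aα (hC.alpha θ⁻¹) g k, classFun_Aα (hC.alpha θ) g k]), sub_self]
  have hI : IsTorus.indC θ⁻¹ = IsTorus.indC θ := by
    have hval : ∀ c : C, IsTorus.indC θ⁻¹ (c : SL2) = IsTorus.indC θ (c : SL2) := by
      intro c
      by_cases a : (c : SL2) = 1
      · rw [a, hC.indC_one, hC.indC_one]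
      by_cases b : (c : SL2) = -1
      · rw [b, hC.indC_neg, hC.indC_neg, hz]
      rw [hC.indC_torus θ⁻¹ c.2 a b, hC.indC_torus θ c.2 a b, MonoidHom.inv_apply, inv_inv, add_comm]
    have key : ∀ η : C →* ℂˣ, classInner (IsTorus.indC η) (IsTorus.indC θ⁻¹ - IsTorus.indC θ) = 0 := by
      intro η
      rw [IsTorus.indC, CfsgLib.Char.frobenius _ _ (fun g k => by
        simp only [Pi.sub_apply, indFun_classFun _ _ g k]), classInner_def]
      simp [hval]
    refine sub_eq_zero.1 (classInner_self_eq_zero ?_)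
    rw [classInner_sub_left, key, key, sub_self]
  rw [IsTorus.disc, IsTorus.disc, hA, hI]

theorem disc_eq {C : Subgroup SL2} (hC : IsTorus C) {θ θ' : C →* ℂˣ} (e : hC.disc θ = hC.disc θ') :
    θ' = θ ∨ θ' = θ⁻¹ := by
  classical
  haveI := Fintype.ofFinite C
  have hval : ∀ c : C, (θ c : ℂ) + (θ⁻¹ c : ℂ) = (θ' c : ℂ) + (θ'⁻¹ c : ℂ) := by
    intro c
    have hz : ∀ η : C →* ℂˣ, (η⁻¹ hC.z : ℂ) = η hC.z := fun η => by
      rw [MonoidHom.inv_apply, Units.val_inv_eq_inv_val]
      rcases hC.theta_z η with h | h <;> rw [h] <;> norm_num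
    by_cases a : (c : SL2) = 1
    · rw [show c = 1 from Subtype.ext a]; simp
    by_cases b : (c : SL2) = -1
    · rw [show c = hC.z from Subtype.ext b, hz, hz]
      have := congrFun e (-1)
      rw [hC.disc_neg, hC.disc_neg] at this
      have hq1 : qC - 1 ≠ 0 := sub_ne_zero.2 (by exact_mod_cast (Fintype.one_lt_card (α := F)).ne')
      rw [mul_left_cancel₀ hq1 this]
    have := congrFun e (c : SL2)
    rw [hC.disc_torus θ c.2 a b, hC.disc_torus θ' c.2 a b, neg_inj] at this
    exact this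
  by_contra hne
  push Not at hne
  have h := congrArg (fun f : C → ℂ => classInner f (fun c : C => (θ' c : ℂ))) (funext hval)
  change classInner ((fun c : C => (θ c : ℂ)) + fun c : C => (θ⁻¹ c : ℂ)) (fun c : C => (θ' c : ℂ)) =
    classInner ((fun c : C => (θ' c : ℂ)) + fun c : C => (θ'⁻¹ c : ℂ)) (fun c : C => (θ' c : ℂ)) at h
  rw [classInner_add_left, classInner_add_left, CTI.linear_inner, CTI.linear_inner, CTI.linear_inner, CTI.linear_inner,
    if_neg (Ne.symm hne.1), if_neg (Ne.symm hne.2), if_pos rfl] at h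
  split_ifs at h <;> norm_num at h

theorem card_disc (hq : 5 ≤ Fintype.card F) :
    2 * Nat.card {χ : IrrCharacter SL2 // (χ : SL2 → ℂ) 1 = qC - 1} = Fintype.card F - 1 := by
  classical
  obtain ⟨g, hg⟩ := exists_elliptic (F := F)
  have hC := exists_torus hodd hg
  set C := Subgroup.centralizer ({g} : Set SL2)
  haveI := Fintype.ofFinite C
  haveI : Finite (C →* ℂˣ) := Finite.of_equiv _ (CTI.linEquiv hC.comm).symm
  haveI : Fintype (C →* ℂˣ) := Fintype.ofFinite _
  obtain ⟨θ₀, -, h02, h01, hu⟩ := exists_theta0 hC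
  have hS : Nat.card {θ : C →* ℂˣ // θ * θ ≠ 1} = Fintype.card F - 1 := by
    have hall : Fintype.card (C →* ℂˣ) = Fintype.card F + 1 := by
      have h := CTI.sum_linear_conj hC.comm (1 : C) 1
      simp only [map_one, Units.val_one, mul_one, if_true, Finset.sum_const, Finset.card_univ, nsmul_one, hC.card] at h
      exact_mod_cast h
    rw [Nat.card_eq_fintype_card, Fintype.card_subtype_compl, Fintype.card_subtype,
      show (Finset.univ.filter fun θ : C →* ℂˣ => θ * θ = 1) = {1, θ₀} by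
        ext θ
        simp only [Finset.mem_filter, Finset.mem_univ, true_and, Finset.mem_insert, Finset.mem_singleton]
        refine ⟨fun hb => ?_, ?_⟩
        · by_cases hb1 : θ = 1
          · exact Or.inl hb1
          · exact Or.inr (hu θ hb hb1)
        · rintro (rfl | rfl)
          exacts [one_mul (1 : C →* ℂˣ), h02],
      Finset.card_pair (Ne.symm h01), hall]
    omega
  rw [← hS]
  refine card_two_to_one (fun θ : {θ : C →* ℂˣ // θ * θ ≠ 1} =>
      (⟨⟨hC.disc θ.1, hC.irr_disc θ.2⟩, hC.disc_one θ.1⟩ : {χ : IrrCharacter SL2 // (χ : SL2 → ℂ) 1 = qC - 1}))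
    (fun θ => ⟨θ.1⁻¹, fun e => θ.2 (MonoidHom.ext fun c => by
      have := DFunLike.congr_fun e c
      simp only [MonoidHom.mul_apply, MonoidHom.inv_apply, MonoidHom.one_apply] at this ⊢
      exact inv_injective ((mul_inv _ _).trans (this.trans inv_one.symm)))⟩) ?_ ?_ ?_
  · rintro ⟨⟨χ, hχ⟩, hd⟩
    obtain ⟨θ, hθ, rfl⟩ := big_eq hC hχ (deg_small (by omega) hχ (Or.inr hd)) hd
    exact ⟨⟨θ, hθ⟩, rfl⟩
  · rintro ⟨θ, hθ⟩ e
    have : θ⁻¹ = θ := congrArg Subtype.val e
    exact hθ (by nth_rewrite 1 [← this]; exact inv_mul_cancel θ)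
  · rintro ⟨θ, hθ⟩ ⟨θ', hθ'⟩
    simp only [Subtype.mk.injEq]
    refine ⟨disc_eq hodd hC, ?_⟩
    rintro (rfl | rfl)
    exacts [rfl, (disc_inv hodd hC θ).symm]

theorem degrees (k : ℕ) (hk : Fintype.card F = 2 * k + 1) {χ : SL2 → ℂ} (hχ : IsIrrCharacter SL2 χ) :
    χ 1 = 1 ∨ χ 1 = qC ∨ χ 1 = qC + 1 ∨ χ 1 = qC - 1 ∨ χ 1 = (k : ℂ) + 1 ∨ χ 1 = (k : ℂ) := by
  classical
  have hkC : qC = 2 * k + 1 := by exact_mod_cast hk
  rcases classify hχ with hc | ⟨α, hα, rfl⟩ | rfl | rfl | ⟨α, h2, h1, hc⟩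
  · obtain ⟨g, hg⟩ := exists_elliptic (F := F)
    have hC := exists_torus hodd hg
    haveI := Fintype.ofFinite (Subgroup.centralizer ({g} : Set SL2))
    haveI : Finite (Subgroup.centralizer ({g} : Set SL2) →* ℂˣ) :=
      Finite.of_equiv _ (CTI.linEquiv hC.comm).symm
    haveI : Fintype (Subgroup.centralizer ({g} : Set SL2) →* ℂˣ) := Fintype.ofFinite _
    obtain ⟨e1, -⟩ := hC.cusp_torus hχ hc
    obtain ⟨n, hn0, hn⟩ := irr_deg hχ
    have hint : ∀ θ, ∃ z : ℤ, classInner (hC.disc θ) χ = z := fun θ =>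
      (isGeneralized_iff.1 (hC.gen_disc θ)).2 ⟨χ, hχ⟩
    choose z hz using hint
    simp only [hz] at e1
    rw [← Int.cast_sum] at e1
    obtain ⟨j, hj⟩ : ∃ j : ℤ, (j : ℂ) = 2 * (n : ℂ) / (qC - 1) := ⟨_, by rw [e1, hn]⟩
    have hq1 : qC - 1 ≠ 0 := sub_ne_zero.2 (by exact_mod_cast (Fintype.one_lt_card (α := F)).ne')
    rw [eq_div_iff hq1] at hj
    have hjk : j * k = n := by exact_mod_cast (show (j : ℂ) * k = n by linear_combination hj / 2 - (j : ℂ) / 2 * hkC)
    have hlt := cusp_lt hχ hc hn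
    have hj1 : 1 ≤ j := by
      rcases le_or_gt j 0 with h | h
      · have : j * k ≤ 0 := mul_nonpos_of_nonpos_of_nonneg h (by positivity)
        omega
      · omega
    have hj2 : j ≤ 2 := by
      by_contra h
      have h3 : 3 * (k : ℤ) ≤ j * k := mul_le_mul_of_nonneg_right (by omega) (by positivity)
      have : 0 < k := by
        rcases Nat.eq_zero_or_pos k with h0 | h0
        · subst h0; simp at hjk; omega
        · exact h0
      omega
    rcases (show j = 1 ∨ j = 2 by omega) with rfl | rfl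
    · refine Or.inr (Or.inr (Or.inr (Or.inr (Or.inr ?_))))
      rw [hn]; exact_mod_cast (show n = k by omega)
    · refine Or.inr (Or.inr (Or.inr (Or.inl ?_)))
      rw [hn, hkC]
      have : n = 2 * k := by omega
      rw [this]; push_cast; ring
  · exact Or.inr (Or.inr (Or.inl (psS_one α)))
  · exact Or.inl rfl
  · exact Or.inr (Or.inl steinberg_one)
  · obtain ⟨-, -, hd, -⟩ := half h2 h1 hχ hc
    exact Or.inr (Or.inr (Or.inr (Or.inr (Or.inl (by linear_combination hd / 2 + hkC / 2)))))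

theorem card_small (hq : 5 ≤ Fintype.card F) (k : ℕ) (hk : Fintype.card F = 2 * k + 1) :
    Nat.card {χ : IrrCharacter SL2 // (χ : SL2 → ℂ) 1 = (k : ℂ)} = 2 := by
  classical
  have hs := sum_sq_by_degree (G := SL2) {1, qC, qC + 1, qC - 1, (k : ℂ) + 1, (k : ℂ)} (fun χ => by
    simp only [Finset.mem_insert, Finset.mem_singleton]; exact degrees hodd k hk χ.2)
  have hkC : qC = 2 * k + 1 := by exact_mod_cast hk
  have hcast : qC = ((2 * k + 1 : ℕ) : ℂ) ∧ qC + 1 = ((2 * k + 2 : ℕ) : ℂ) ∧ qC - 1 = ((2 * k : ℕ) : ℂ) ∧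
      (k : ℂ) + 1 = ((k + 1 : ℕ) : ℂ) ∧ (1 : ℂ) = ((1 : ℕ) : ℂ) := by
    refine ⟨?_, ?_, ?_, ?_, ?_⟩ <;> push_cast <;> first | exact hkC | (rw [hkC]; ring) | ring
  obtain ⟨c1, c2, c3, c4, c5⟩ := hcast
  rw [Finset.sum_insert (by rw [c2, c3, c4, c1, c5]; simp only [Finset.mem_insert, Finset.mem_singleton, Nat.cast_inj]; omega),
    Finset.sum_insert (by rw [c2, c3, c4, c1]; simp only [Finset.mem_insert, Finset.mem_singleton, Nat.cast_inj]; omega),
    Finset.sum_insert (by rw [c2, c3, c4]; simp only [Finset.mem_insert, Finset.mem_singleton, Nat.cast_inj]; omega),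
    Finset.sum_insert (by rw [c3, c4]; simp only [Finset.mem_insert, Finset.mem_singleton, Nat.cast_inj]; omega),
    Finset.sum_insert (by simp), Finset.sum_singleton, (card_one_q (by omega)).resolve_right (by omega),
    card_q (by omega), card_half hodd hq k hk, card_SL] at hs
  have hP := congrArg (fun n : ℕ => (n : ℂ)) ((card_ps (F := F) (by omega)).trans (card_not_sq hodd))
  have hD := congrArg (fun n : ℕ => (n : ℂ)) (card_disc hodd hq)
  push_cast [Nat.cast_sub (show 1 ≤ Fintype.card F by omega), Nat.cast_sub (show 3 ≤ Fintype.card F by omega)] at hP hD hs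
  rw [hkC] at hs hP hD
  have hk0 : (k : ℂ) ^ 2 ≠ 0 := pow_ne_zero 2 (by exact_mod_cast (show k ≠ 0 by omega))
  have key : (Nat.card {χ : IrrCharacter SL2 // (χ : SL2 → ℂ) 1 = (k : ℂ)} : ℂ) = 2 := by
    refine mul_right_cancel₀ hk0 ?_
    linear_combination hs - ((2 * (k : ℂ) + 1 + 1) ^ 2 / 2) * hP - ((2 * (k : ℂ) + 1 - 1) ^ 2 / 2) * hD
  exact_mod_cast key

end odd

end CfsgLib.Misc.SLTwoCount
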