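import Mathlib.Algebra.QuadraticAlgebra.Basic
import Mathlib.GroupTheory.Index
import Cfsg.Agent.Base.Spectrum.PSLTwo
import Cfsg.Agent.Lie.ProjLine

/-!
PSL₂(q) for even q: class sizes and the factorisation by a torus and a root subgroup.
-/

set_option autoImplicit false
set_option linter.unusedSectionVars false

namespace CfsgLib.Misc.SLTwoEven

open scoped Matrix

variable {F : Type*} [Field F] [Fintype F] [CharP F 2]

local notation "SL2" => Matrix.SpecialLinearGroup (Fin 2) F

theorem exists_sqrt (a : F) : ∃ b : F, b * b = a := by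
  have h : Function.Surjective fun b : F => b * b :=
    Finite.injective_iff_surjective.1 fun x y h => by
      have : (x + y) ^ 2 = 0 := by
        linear_combination h + (y * y + x * y) * CharTwo.two_eq_zero (R := F)
      exact CharTwo.add_eq_zero.1 (pow_eq_zero_iff two_ne_zero |>.1 this)
  exact h a

theorem card_form_one (t c : F) :
    Nat.card {v : F × F // v.1 ^ 2 + t * v.1 * v.2 + c * v.2 ^ 2 = 1} +
      Nat.card {r : F // r ^ 2 + t * r + c = 0} = Fintype.card F + 1 := by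
  classical
  set S := {v : F × F // v.1 ^ 2 + t * v.1 * v.2 + c * v.2 ^ 2 = 1}
  set R := {r : F // r ^ 2 + t * r + c = 0}
  let f : F × F → F := fun v => v.1 ^ 2 + t * v.1 * v.2 + c * v.2 ^ 2
  choose sq hsq using exists_sqrt (F := F)
  have hs0 : ∀ a : F, a ≠ 0 → sq a ≠ 0 := fun a ha h => ha (by rw [← hsq a, h, mul_zero])
  let e1 : {v : F × F // f v ≠ 0} ≃ Fˣ × S :=
    { toFun := fun v => (Units.mk0 _ (hs0 _ v.2), ⟨((sq (f v.1))⁻¹ * v.1.1, (sq (f v.1))⁻¹ * v.1.2), by
        have h := hs0 _ v.2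
        have h' := hsq (f v.1)
        dsimp only
        field_simp
        linear_combination -h'⟩)
      invFun := fun p => ⟨((p.1 : F) * p.2.1.1, (p.1 : F) * p.2.1.2), by
        have := p.2.2
        have e : f ((p.1 : F) * p.2.1.1, (p.1 : F) * p.2.1.2) = (p.1 : F) * p.1 := by
          simp only [f]; linear_combination ((p.1 : F) * p.1) * this
        rw [e]
        exact mul_ne_zero p.1.ne_zero p.1.ne_zero⟩
      left_inv := fun v => by
        have h := hs0 _ v.2
        ext <;> simp [h]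
      right_inv := fun p => by
        have := p.2.2
        have e : f ((p.1 : F) * p.2.1.1, (p.1 : F) * p.2.1.2) = (p.1 : F) * p.1 := by
          simp only [f]; linear_combination ((p.1 : F) * p.1) * this
        have e2 : sq (f ((p.1 : F) * p.2.1.1, (p.1 : F) * p.2.1.2)) = (p.1 : F) := by
          have h3 := hsq (f ((p.1 : F) * p.2.1.1, (p.1 : F) * p.2.1.2))
          set z := sq (f ((p.1 : F) * p.2.1.1, (p.1 : F) * p.2.1.2))
          rw [e] at h3
          refine CharTwo.add_eq_zero.1 (pow_eq_zero_iff two_ne_zero |>.1 (?_ : (z + (p.1 : F)) ^ 2 = 0))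
          linear_combination h3 + ((p.1 : F) * p.1 + z * p.1) * CharTwo.two_eq_zero (R := F)
        refine Prod.ext (Units.ext e2) (Subtype.ext ?_)
        simp [e2] }
  let e2 : {v : F × F // f v = 0} ≃ Option (Fˣ × R) :=
    { toFun := fun v => if h : v.1.2 = 0 then none else some (Units.mk0 _ h, ⟨v.1.1 / v.1.2, by
        have h' : v.1.1 ^ 2 + t * v.1.1 * v.1.2 + c * v.1.2 ^ 2 = 0 := v.2
        field_simp
        linear_combination h'⟩)
      invFun := fun o => match o with
        | none => ⟨(0, 0), by simp [f]⟩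
        | some p => ⟨((p.2 : F) * p.1, (p.1 : F)), by
            simp only [f]; linear_combination ((p.1 : F) * p.1) * p.2.2⟩
      left_inv := fun v => by
        by_cases h : v.1.2 = 0
        · have h' : v.1.1 ^ 2 + t * v.1.1 * v.1.2 + c * v.1.2 ^ 2 = 0 := v.2
          simp [h] at h'
          simp only [h, dif_pos]
          exact Subtype.ext (Prod.ext h'.symm h.symm)
        · simp only [h, dif_neg, not_false_eq_true]
          exact Subtype.ext (Prod.ext (by simp [h]) rfl)
      right_inv := fun o => by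
        rcases o with _ | ⟨u, r⟩
        · simp
        · simp [u.ne_zero] }
  have h := Nat.card_congr (Equiv.sumCompl fun v : F × F => f v = 0)
  rw [Nat.card_sum, Nat.card_congr e2, Nat.card_congr e1, Finite.card_option, Nat.card_prod,
    Nat.card_prod, Nat.card_prod, Nat.card_units, Nat.card_eq_fintype_card (α := F)] at h
  obtain ⟨k, hk⟩ : ∃ k, Fintype.card F = k + 2 :=
    ⟨Fintype.card F - 2, by have := Fintype.one_lt_card (α := F); omega⟩
  rw [hk] at h ⊢
  rw [show k + 2 - 1 = k + 1 by omega] at h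
  have : (k + 1) * (Nat.card S + Nat.card R) = (k + 1) * (k + 2 + 1) := by linarith
  exact Nat.eq_of_mul_eq_mul_left (by omega) this

theorem det_rel (g : SL2) : (g : Matrix (Fin 2) (Fin 2) F) 0 0 * (g : Matrix (Fin 2) (Fin 2) F) 1 1 +
    (g : Matrix (Fin 2) (Fin 2) F) 0 1 * (g : Matrix (Fin 2) (Fin 2) F) 1 0 = 1 := by
  have h := g.2
  rw [Matrix.det_fin_two] at h
  rwa [CharTwo.sub_eq_add] at h

theorem card_centralizer {g : SL2} (hg : g ≠ 1) :
    Nat.card (Subgroup.centralizer ({g} : Set SL2)) +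
      Nat.card {r : F // r ^ 2 + Dickson.tr g * r + 1 = 0} = Fintype.card F + 1 := by
  classical
  rw [← card_form_one (Dickson.tr g) 1]
  congr 1
  set M := (g : Matrix (Fin 2) (Fin 2) F) with hM
  have hd := det_rel g
  have htr : Dickson.tr g = M 0 0 + M 1 1 := rfl
  have hns : M 0 1 ≠ 0 ∨ M 1 0 ≠ 0 ∨ M 0 0 ≠ M 1 1 := by
    by_contra h
    push_neg at h
    obtain ⟨h1, h2, h3⟩ := h
    rw [← hM, h1, h2, h3, zero_mul, add_zero] at hd
    have h4 : M 1 1 = 1 := by
      refine CharTwo.add_eq_zero.1 (pow_eq_zero_iff two_ne_zero |>.1 (?_ : (M 1 1 + 1) ^ 2 = 0))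
      linear_combination hd + (M 1 1 + 1) * CharTwo.two_eq_zero (R := F)
    refine hg (Subtype.ext ?_)
    ext i j
    fin_cases i <;> fin_cases j <;> simp [← hM, h1, h2, h3, h4]
  have hdet : ∀ x y : F, (x • (1 : Matrix (Fin 2) (Fin 2) F) + y • M).det =
      x ^ 2 + Dickson.tr g * x * y + 1 * y ^ 2 := fun x y => by
    rw [Matrix.det_fin_two]
    simp [htr]
    linear_combination y ^ 2 * hd - (y ^ 2 * M 0 1 * M 1 0) * CharTwo.two_eq_zero (R := F)
  let φ : {v : F × F // v.1 ^ 2 + Dickson.tr g * v.1 * v.2 + 1 * v.2 ^ 2 = 1} →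
      Subgroup.centralizer ({g} : Set SL2) := fun v =>
    ⟨⟨v.1.1 • (1 : Matrix (Fin 2) (Fin 2) F) + v.1.2 • M, by rw [hdet]; exact v.2⟩, by
      refine Subgroup.mem_centralizer_singleton_iff.2 (Subtype.ext ?_)
      change (v.1.1 • (1 : Matrix (Fin 2) (Fin 2) F) + v.1.2 • M) * M = M * (v.1.1 • 1 + v.1.2 • M)
      simp [add_mul, mul_add]⟩
  symm
  refine Nat.card_eq_of_bijective φ ⟨?_, ?_⟩
  · rintro ⟨⟨x, y⟩, hv⟩ ⟨⟨x', y'⟩, hv'⟩ h
    have h' : x • (1 : Matrix (Fin 2) (Fin 2) F) + y • M = x' • 1 + y' • M :=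
      congrArg (fun z : Subgroup.centralizer ({g} : Set SL2) => ((z : SL2) : Matrix (Fin 2) (Fin 2) F)) h
    have h00 := congrFun (congrFun h' 0) 0
    have h01 := congrFun (congrFun h' 0) 1
    have h10 := congrFun (congrFun h' 1) 0
    have h11 := congrFun (congrFun h' 1) 1
    simp at h00 h01 h10 h11
    have hy : y = y' := by
      rcases hns with a | a | a
      · exact (h01.resolve_right a)
      · exact (h10.resolve_right a)
      · exact mul_right_cancel₀ (sub_ne_zero.2 a) (by linear_combination h00 - h11)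
    subst hy
    simp at h00
    subst h00
    rfl
  · rintro ⟨h, hh⟩
    rw [Subgroup.mem_centralizer_singleton_iff] at hh
    set H := (h : Matrix (Fin 2) (Fin 2) F) with hH
    have hm : H * M = M * H := congrArg Subtype.val hh
    have c00 := congrFun (congrFun hm 0) 0
    have c01 := congrFun (congrFun hm 0) 1
    have c10 := congrFun (congrFun hm 1) 0
    simp [Matrix.mul_apply, Fin.sum_univ_two] at c00 c01 c10
    obtain ⟨x, y, hxy⟩ : ∃ x y : F, H = x • (1 : Matrix (Fin 2) (Fin 2) F) + y • M := by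
      rcases hns with a | a | a
      · refine ⟨H 0 0 - H 0 1 / M 0 1 * M 0 0, H 0 1 / M 0 1, ?_⟩
        ext i j
        fin_cases i <;> fin_cases j <;> simp <;> field_simp
        · linear_combination -c00
        · linear_combination -c01
      · refine ⟨H 0 0 - H 1 0 / M 1 0 * M 0 0, H 1 0 / M 1 0, ?_⟩
        ext i j
        fin_cases i <;> fin_cases j <;> simp <;> field_simp
        · linear_combination c00
        · linear_combination c10
      · have a' : M 0 0 - M 1 1 ≠ 0 := sub_ne_zero.2 a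
        refine ⟨H 0 0 - (H 0 0 - H 1 1) / (M 0 0 - M 1 1) * M 0 0, (H 0 0 - H 1 1) / (M 0 0 - M 1 1), ?_⟩
        ext i j
        fin_cases i <;> fin_cases j <;> simp <;> field_simp
        · linear_combination -c01
        · linear_combination c10
        · ring
    refine ⟨⟨(x, y), ?_⟩, Subtype.ext (Subtype.ext hxy.symm)⟩
    rw [← hdet, ← hxy]
    exact h.2

theorem exists_tr (t : F) : ∃ g : SL2, g ≠ 1 ∧ Dickson.tr g = t := by
  refine ⟨⟨!![t, 1; 1, 0], by simp [Matrix.det_fin_two, CharTwo.neg_eq]⟩, fun h => ?_, ?_⟩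
  · exact one_ne_zero (congrArg (fun z : SL2 => (z : Matrix (Fin 2) (Fin 2) F) 0 1) h)
  · simp [Dickson.tr]

theorem exists_aniso : ∃ a : F, ∀ r : F, r ^ 2 + r + a ≠ 0 := by
  obtain ⟨a, ha⟩ := PSLTwoSpec.exists_irreducible (F := F)
  refine ⟨a, fun r hr => ha r ?_⟩
  linear_combination hr - (r + a) * CharTwo.two_eq_zero (R := F)

theorem center_eq_bot : Subgroup.center SL2 = ⊥ := by
  rw [eq_bot_iff]
  intro g hg
  rcases PSLTwoSpec.mem_Z.1 hg with rfl | rfl
  · exact one_mem _
  · rw [Subgroup.mem_bot]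
    ext i j
    rw [Matrix.SpecialLinearGroup.coe_neg]
    fin_cases i <;> fin_cases j <;> simp [CharTwo.neg_eq]

variable (F) in
noncomputable def toPSL : SL2 ≃* Matrix.ProjectiveSpecialLinearGroup (Fin 2) F :=
  MulEquiv.ofBijective (QuotientGroup.mk' (Subgroup.center SL2))
    ⟨(MonoidHom.ker_eq_bot_iff _).1 (by rw [QuotientGroup.ker_mk', center_eq_bot]),
      QuotientGroup.mk'_surjective _⟩

theorem card_SL : Nat.card SL2 = Fintype.card F * (Fintype.card F ^ 2 - 1) := by
  rw [Nat.card_congr (toPSL F).toEquiv]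
  have hc := Lie.ProjLine.card_PSL_two (F := F) rfl
  have : Nat.gcd 2 (Fintype.card F - 1) = 1 := by
    have h2 : 2 ∣ Fintype.card F := by
      obtain ⟨n, -, hn⟩ := FiniteField.card F 2
      exact hn ▸ dvd_pow_self 2 n.pos.ne'
    have := Fintype.one_lt_card (α := F)
    rw [← Nat.coprime_iff_gcd_eq_one, Nat.prime_two.coprime_iff_not_dvd]; omega
  rwa [this, one_mul] at hc

theorem index_centralizer (g : SL2) :
    (Subgroup.centralizer ({toPSL F g} : Set (Matrix.ProjectiveSpecialLinearGroup (Fin 2) F))).index =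
      (Subgroup.centralizer ({g} : Set SL2)).index := by
  rw [← Subgroup.index_comap_of_surjective _ (f := (toPSL F).toMonoidHom) (toPSL F).surjective]
  congr 1
  ext x
  simp only [Subgroup.mem_comap, Subgroup.mem_centralizer_singleton_iff, MulEquiv.coe_toMonoidHom]
  rw [← map_mul, ← map_mul, EmbeddingLike.apply_eq_iff_eq]

theorem range_index (h4 : 4 ≤ Fintype.card F) :
    Set.range (fun g : Matrix.ProjectiveSpecialLinearGroup (Fin 2) F =>
      (Subgroup.centralizer ({g} : Set (Matrix.ProjectiveSpecialLinearGroup (Fin 2) F))).index) =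
      {1, Fintype.card F * (Fintype.card F - 1), Fintype.card F ^ 2 - 1,
        Fintype.card F * (Fintype.card F + 1)} := by
  classical
  set q := Fintype.card F with hq
  have key : ∀ g : SL2, g ≠ 1 →
      (Nat.card {r : F // r ^ 2 + Dickson.tr g * r + 1 = 0} = 0 →
        (Subgroup.centralizer ({g} : Set SL2)).index = q * (q - 1)) ∧
      (Nat.card {r : F // r ^ 2 + Dickson.tr g * r + 1 = 0} = 1 →
        (Subgroup.centralizer ({g} : Set SL2)).index = q ^ 2 - 1) ∧
      (Nat.card {r : F // r ^ 2 + Dickson.tr g * r + 1 = 0} = 2 →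
        (Subgroup.centralizer ({g} : Set SL2)).index = q * (q + 1)) := by
    intro g hg
    have hc := card_centralizer hg
    have hi := Subgroup.card_mul_index (Subgroup.centralizer ({g} : Set SL2))
    rw [card_SL] at hi
    have e : q ^ 2 - 1 = (q - 1) * (q + 1) := by
      rw [Nat.mul_comm, ← Nat.sq_sub_sq, one_pow]
    refine ⟨fun h => ?_, fun h => ?_, fun h => ?_⟩
    · have h' : Nat.card (Subgroup.centralizer ({g} : Set SL2)) = q + 1 := by omega
      rw [h', e] at hi
      exact Nat.eq_of_mul_eq_mul_left (by omega : 0 < q + 1) (hi.trans (by ring))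
    · have h' : Nat.card (Subgroup.centralizer ({g} : Set SL2)) = q := by omega
      rw [h'] at hi
      exact Nat.eq_of_mul_eq_mul_left (by omega : 0 < q) hi
    · have h' : Nat.card (Subgroup.centralizer ({g} : Set SL2)) = q - 1 := by omega
      rw [h', e] at hi
      exact Nat.eq_of_mul_eq_mul_left (by omega : 0 < q - 1) (hi.trans (by ring))
  have h0 : Nat.card {r : F // r ^ 2 + 0 * r + 1 = 0} = 1 := by
    rw [Nat.card_eq_one_iff_exists]
    refine ⟨⟨1, by simp [CharTwo.add_self_eq_zero]⟩, fun r => Subtype.ext ?_⟩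
    refine CharTwo.add_eq_zero.1 (pow_eq_zero_iff two_ne_zero |>.1 (?_ : ((r : F) + 1) ^ 2 = 0))
    linear_combination r.2 + (r : F) * CharTwo.two_eq_zero (R := F)
  have htwo : ∀ t : F, t ≠ 0 → ∀ r₀ : F, r₀ ^ 2 + t * r₀ + 1 = 0 →
      Nat.card {r : F // r ^ 2 + t * r + 1 = 0} = 2 := by
    intro t ht r₀ hr
    have hr' : (r₀ + t) ^ 2 + t * (r₀ + t) + 1 = 0 := by
      linear_combination hr + (r₀ * t + t ^ 2) * CharTwo.two_eq_zero (R := F)
    rw [Nat.card_eq_two_iff]
    refine ⟨⟨r₀, hr⟩, ⟨r₀ + t, hr'⟩, fun h => ht ?_, Set.eq_univ_of_forall fun r => ?_⟩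
    · have := congrArg Subtype.val h
      simpa using this
    · have : ((r : F) + r₀) * ((r : F) + (r₀ + t)) = 0 := by
        linear_combination r.2 + hr + (r * r₀ - 1 : F) * CharTwo.two_eq_zero (R := F)
      rcases mul_eq_zero.1 this with h | h
      · exact Or.inl (Subtype.ext (CharTwo.add_eq_zero.1 h))
      · exact Or.inr (Subtype.ext (CharTwo.add_eq_zero.1 h))
  ext k
  constructor
  · rintro ⟨x, rfl⟩
    obtain ⟨g, rfl⟩ := (toPSL F).surjective x
    dsimp only
    rw [index_centralizer]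
    by_cases hg : g = 1
    · subst hg
      left
      rw [Subgroup.index_eq_one, eq_top_iff]
      exact fun x _ => by simp [Subgroup.mem_centralizer_singleton_iff]
    obtain ⟨k0, k1, k2⟩ := key g hg
    simp only [Set.mem_insert_iff, Set.mem_singleton_iff]
    by_cases ht : Dickson.tr g = 0
    · exact Or.inr (Or.inr (Or.inl (k1 (by rw [ht]; exact h0))))
    by_cases hr : ∃ r₀, r₀ ^ 2 + Dickson.tr g * r₀ + 1 = 0
    · obtain ⟨r₀, hr⟩ := hr
      exact Or.inr (Or.inr (Or.inr (k2 (htwo _ ht r₀ hr))))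
    · push_neg at hr
      haveI : IsEmpty {r : F // r ^ 2 + Dickson.tr g * r + 1 = 0} := ⟨fun r => hr r r.2⟩
      exact Or.inr (Or.inl (k0 Nat.card_of_isEmpty))
  · intro hk
    simp only [Set.mem_insert_iff, Set.mem_singleton_iff] at hk
    rcases hk with rfl | rfl | rfl | rfl
    · exact ⟨1, Subgroup.index_eq_one.2 (eq_top_iff.2 fun x _ => by
        simp [Subgroup.mem_centralizer_singleton_iff])⟩
    · obtain ⟨a, ha⟩ := exists_aniso (F := F)
      obtain ⟨c, hc⟩ := exists_sqrt a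
      have hc0 : c ≠ 0 := fun h => ha 0 (by rw [← hc, h]; ring)
      obtain ⟨g, hg, ht⟩ := exists_tr (F := F) c⁻¹
      refine ⟨toPSL F g, (index_centralizer g).trans ((key g hg).1 ?_)⟩
      rw [ht]
      haveI : IsEmpty {r : F // r ^ 2 + c⁻¹ * r + 1 = 0} := ⟨fun r => ha (c * r) (by
        have := r.2
        field_simp at this
        linear_combination c * this - hc)⟩
      exact Nat.card_of_isEmpty
    · obtain ⟨g, hg, ht⟩ := exists_tr (F := F) 0
      exact ⟨toPSL F g, (index_centralizer g).trans ((key g hg).2.1 (by rw [ht]; exact h0))⟩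
    · obtain ⟨r, hr0, hr1⟩ : ∃ r : F, r ≠ 0 ∧ r ≠ 1 := by
        by_contra h
        push_neg at h
        have hle : q ≤ ({0, 1} : Finset F).card := Finset.card_le_card fun r _ => by
          by_cases e : r = 0 <;> simp [e, h r]
        have : ({0, 1} : Finset F).card ≤ 2 := Finset.card_le_two
        omega
      obtain ⟨g, hg, ht⟩ := exists_tr (F := F) (r + r⁻¹)
      refine ⟨toPSL F g, (index_centralizer g).trans ((key g hg).2.2 ?_)⟩
      rw [ht]
      refine htwo _ (fun h => hr1 ?_) r ?_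
      · field_simp at h
        refine CharTwo.add_eq_zero.1 (pow_eq_zero_iff two_ne_zero |>.1 (?_ : (r + 1) ^ 2 = 0))
        linear_combination h + r * CharTwo.two_eq_zero (R := F)
      · field_simp
        linear_combination (r ^ 2 + 1) * CharTwo.two_eq_zero (R := F)

theorem exists_ABA : ∃ A B : Subgroup SL2, IsCyclic A ∧ Nat.card A = Fintype.card F + 1 ∧
    IsMulCommutative B ∧ (∀ b ∈ B, b * b = 1) ∧ Nat.card B = Fintype.card F ∧
    ∀ g : SL2, ∃ a ∈ A, ∃ b ∈ B, ∃ c ∈ A, g = a * b * c := by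
  classical
  obtain ⟨a, ha⟩ := exists_aniso (F := F)
  haveI hfact : Fact (∀ r : F, r ^ 2 ≠ a + 1 * r) := ⟨fun r hr => ha r (by
    linear_combination hr + (r + a) * CharTwo.two_eq_zero (R := F))⟩
  let inA : SL2 → Prop := fun g => (g : Matrix (Fin 2) (Fin 2) F) 0 1 = a * (g : Matrix (Fin 2) (Fin 2) F) 1 0 ∧
    (g : Matrix (Fin 2) (Fin 2) F) 1 1 = (g : Matrix (Fin 2) (Fin 2) F) 0 0 + (g : Matrix (Fin 2) (Fin 2) F) 1 0
  let A : Subgroup SL2 :=
    { carrier := {g | inA g}
      one_mem' := ⟨by simp, by simp⟩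
      mul_mem' := fun {g h} hg hh => by
        obtain ⟨g1, g2⟩ := hg
        obtain ⟨h1, h2⟩ := hh
        constructor <;>
          (simp only [Matrix.SpecialLinearGroup.coe_mul, Matrix.mul_apply, Fin.sum_univ_two, g1, g2, h1, h2]; ring)
      inv_mem' := fun {g} hg => by
        obtain ⟨g1, g2⟩ := hg
        constructor <;>
          (simp [Matrix.SpecialLinearGroup.coe_inv, Matrix.adjugate_fin_two, g1, g2, CharTwo.neg_eq]
           try linear_combination -((g : Matrix (Fin 2) (Fin 2) F) 1 0) * CharTwo.two_eq_zero (R := F)) }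
  let B : Subgroup SL2 :=
    { carrier := {g | (g : Matrix (Fin 2) (Fin 2) F) 0 0 = 1 ∧ (g : Matrix (Fin 2) (Fin 2) F) 1 0 = 0 ∧
        (g : Matrix (Fin 2) (Fin 2) F) 1 1 = 1}
      one_mem' := by simp
      mul_mem' := fun {g h} hg hh => by
        obtain ⟨g1, g2, g3⟩ := hg
        obtain ⟨h1, h2, h3⟩ := hh
        simp [Matrix.mul_apply, Fin.sum_univ_two, g1, g2, g3, h1, h2, h3]
      inv_mem' := fun {g} hg => by
        obtain ⟨g1, g2, g3⟩ := hg
        simp [Matrix.SpecialLinearGroup.coe_inv, Matrix.adjugate_fin_two, g1, g2, g3] }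
  let mkA : {v : F × F // v.1 ^ 2 + 1 * v.1 * v.2 + a * v.2 ^ 2 = 1} → A := fun v =>
    ⟨⟨!![v.1.1, a * v.1.2; v.1.2, v.1.1 + v.1.2], by
      rw [Matrix.det_fin_two]
      simp
      linear_combination v.2 - (a * v.1.2 * v.1.2) * CharTwo.two_eq_zero (R := F)⟩, ⟨rfl, rfl⟩⟩
  have hcardA : Nat.card A = Fintype.card F + 1 := by
    rw [← card_form_one 1 a]
    haveI : IsEmpty {r : F // r ^ 2 + 1 * r + a = 0} := ⟨fun r => ha r (by simpa using r.2)⟩
    rw [Nat.card_of_isEmpty (α := {r : F // r ^ 2 + 1 * r + a = 0}), add_zero]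
    symm
    refine Nat.card_eq_of_bijective mkA ⟨fun v w h => ?_, fun g => ?_⟩
    · have h1 := congrArg (fun z : A => ((z : SL2) : Matrix (Fin 2) (Fin 2) F) 0 0) h
      have h2 := congrArg (fun z : A => ((z : SL2) : Matrix (Fin 2) (Fin 2) F) 1 0) h
      exact Subtype.ext (Prod.ext h1 h2)
    · obtain ⟨g1, g2⟩ := g.2
      have hd := det_rel (g : SL2)
      rw [g1, g2] at hd
      refine ⟨⟨(((g : SL2) : Matrix (Fin 2) (Fin 2) F) 0 0, ((g : SL2) : Matrix (Fin 2) (Fin 2) F) 1 0),
        by dsimp only; linear_combination hd⟩, Subtype.ext (Subtype.ext ?_)⟩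
      ext i j
      fin_cases i <;> fin_cases j <;> simp [mkA, g1, g2]
  refine ⟨A, B, ?_, hcardA, ?_, ?_, ?_, ?_⟩
  · let φ : A →* QuadraticAlgebra F a 1 :=
      { toFun := fun g => ⟨((g : SL2) : Matrix (Fin 2) (Fin 2) F) 0 0, ((g : SL2) : Matrix (Fin 2) (Fin 2) F) 1 0⟩
        map_one' := by ext <;> simp [QuadraticAlgebra.re_one, QuadraticAlgebra.im_one]
        map_mul' := fun g h => by
          obtain ⟨g1, g2⟩ := g.2
          ext <;> simp [Matrix.mul_apply, Fin.sum_univ_two, g1, g2] <;> ring }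
    refine isCyclic_of_subgroup_isDomain φ ?_
    intro g h hgh
    obtain ⟨g1, g2⟩ := g.2
    obtain ⟨h1, h2⟩ := h.2
    have e1 : ((g : SL2) : Matrix (Fin 2) (Fin 2) F) 0 0 = _ := congrArg QuadraticAlgebra.re hgh
    have e2 : ((g : SL2) : Matrix (Fin 2) (Fin 2) F) 1 0 = _ := congrArg QuadraticAlgebra.im hgh
    refine Subtype.ext (Subtype.ext ?_)
    ext i j
    fin_cases i <;> fin_cases j <;> simp [g1, g2, h1, h2, e1, e2, φ]
  · refine ⟨⟨fun g h => Subtype.ext (Subtype.ext ?_)⟩⟩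
    obtain ⟨g1, g2, g3⟩ := g.2
    obtain ⟨h1, h2, h3⟩ := h.2
    ext i j
    fin_cases i <;> fin_cases j <;>
      simp [Matrix.mul_apply, Fin.sum_univ_two, g1, g2, g3, h1, h2, h3, add_comm]
  · rintro g ⟨g1, g2, g3⟩
    ext i j
    fin_cases i <;> fin_cases j <;>
      simp [Matrix.mul_apply, Fin.sum_univ_two, g1, g2, g3, CharTwo.add_self_eq_zero]
  · rw [← Nat.card_eq_fintype_card]
    refine Nat.card_eq_of_bijective (fun g : B => ((g : SL2) : Matrix (Fin 2) (Fin 2) F) 0 1) ⟨fun g h e => ?_, fun x => ?_⟩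
    · obtain ⟨g1, g2, g3⟩ := g.2
      obtain ⟨h1, h2, h3⟩ := h.2
      refine Subtype.ext (Subtype.ext ?_)
      ext i j
      fin_cases i <;> fin_cases j <;> simp [g1, g2, g3, h1, h2, h3]
      exact e
    · exact ⟨⟨⟨!![1, x; 0, 1], by simp [Matrix.det_fin_two]⟩, by exact ⟨rfl, rfl, rfl⟩⟩, rfl⟩
  · intro g
    set M := (g : Matrix (Fin 2) (Fin 2) F) with hM
    have hd := det_rel g
    rw [← hM] at hd
    obtain ⟨r, hr⟩ := exists_sqrt (M 0 0 ^ 2 + M 0 0 * M 1 0 + a * M 1 0 ^ 2 + 1)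
    obtain ⟨s, hs⟩ := exists_sqrt (M 0 1 ^ 2 + M 0 1 * M 1 1 + a * M 1 1 ^ 2 + a)
    obtain ⟨x₀, y₀, hne, hlin⟩ : ∃ x₀ y₀ : F, (x₀ ≠ 0 ∨ y₀ ≠ 0) ∧ r * x₀ + s * y₀ = 0 := by
      by_cases h : r = 0 ∧ s = 0
      · exact ⟨1, 0, Or.inl one_ne_zero, by simp [h.1]⟩
      · refine ⟨s, r, ?_, by linear_combination r * s * CharTwo.two_eq_zero (R := F)⟩
        by_contra h'
        push_neg at h'
        exact h ⟨h'.2, h'.1⟩
    have hN0 : x₀ ^ 2 + x₀ * y₀ + a * y₀ ^ 2 ≠ 0 := by
      intro h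
      by_cases hy : y₀ = 0
      · rw [hy] at h hne
        exact hne.elim (fun e => e (by simpa using h)) (fun e => e rfl)
      · refine ha (x₀ / y₀) ?_
        field_simp
        linear_combination h
    obtain ⟨l, hl⟩ := exists_sqrt (x₀ ^ 2 + x₀ * y₀ + a * y₀ ^ 2)
    have hl0 : l ≠ 0 := fun h => hN0 (by rw [← hl, h, mul_zero])
    set x := x₀ / l with hxdef
    set y := y₀ / l with hydef
    have hv : x ^ 2 + 1 * x * y + a * y ^ 2 = 1 := by
      rw [hxdef, hydef]
      field_simp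
      linear_combination -hl
    set x' := M 0 0 * x + M 0 1 * y with hx'
    set y' := M 1 0 * x + M 1 1 * y with hy'
    have hlin' : r * x + s * y = 0 := by
      rw [hxdef, hydef]; field_simp; linear_combination hlin
    have hsum : (x' ^ 2 + 1 * x' * y' + a * y' ^ 2) + (x ^ 2 + 1 * x * y + a * y ^ 2) = 0 := by
      have h0 : (r * x + s * y) ^ 2 = 0 := by rw [hlin']; ring
      rw [hx', hy']
      linear_combination h0 - x ^ 2 * hr - y ^ 2 * hs + (x * y) * hd +
        (M 0 0 * M 0 1 * x * y + a * M 1 0 * M 1 1 * x * y - r * s * x * y + x * y) * CharTwo.two_eq_zero (R := F)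
    have hw : x' ^ 2 + 1 * x' * y' + a * y' ^ 2 = 1 := (CharTwo.add_eq_zero.1 hsum).trans hv
    set a1 : A := mkA ⟨(x, y), hv⟩
    set a2 : A := mkA ⟨(x', y'), hw⟩
    refine ⟨(a2 : SL2), a2.2, (a2 : SL2)⁻¹ * g * a1, ?_, (a1 : SL2)⁻¹, inv_mem a1.2, by group⟩
    set b := (a2 : SL2)⁻¹ * g * a1 with hb
    have e2 : (a2 : SL2) * b = g * a1 := by rw [hb]; group
    have c0 := congrArg (fun z : SL2 => (z : Matrix (Fin 2) (Fin 2) F) 0 0) e2
    have c1 := congrArg (fun z : SL2 => (z : Matrix (Fin 2) (Fin 2) F) 1 0) e2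
    have hA1 : ((a1 : SL2) : Matrix (Fin 2) (Fin 2) F) = !![x, a * y; y, x + y] := rfl
    have hA2 : ((a2 : SL2) : Matrix (Fin 2) (Fin 2) F) = !![x', a * y'; y', x' + y'] := rfl
    simp only [Matrix.SpecialLinearGroup.coe_mul, hA1, hA2] at c0 c1
    simp [Matrix.mul_apply, Fin.sum_univ_two, ← hM, ← hx', ← hy'] at c0 c1
    set b00 := (b : Matrix (Fin 2) (Fin 2) F) 0 0 with hb00
    set b10 := (b : Matrix (Fin 2) (Fin 2) F) 1 0 with hb10
    clear_value x' y' b00 b10
    have h00 : b00 = 1 := by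
      linear_combination (x' + y') * c0 + a * y' * c1 - b00 * hw + hw -
        (a * y' * (x' + y') * b10) * CharTwo.two_eq_zero (R := F)
    have h10 : b10 = 0 := by
      linear_combination y' * c0 + x' * c1 - b10 * hw -
        (x' * y' * b00 - x' * y') * CharTwo.two_eq_zero (R := F)
    have hdb := det_rel b
    rw [← hb00, ← hb10, h00, h10] at hdb
    exact ⟨hb00 ▸ h00, hb10 ▸ h10, by simpa using hdb⟩

theorem psl_ABA : ∃ A B : Subgroup (Matrix.ProjectiveSpecialLinearGroup (Fin 2) F),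
    IsCyclic A ∧ Nat.card A = Fintype.card F + 1 ∧ IsMulCommutative B ∧ (∀ b ∈ B, b * b = 1) ∧
      Nat.card B = Fintype.card F ∧
      ∀ g : Matrix.ProjectiveSpecialLinearGroup (Fin 2) F, ∃ a ∈ A, ∃ b ∈ B, ∃ c ∈ A, g = a * b * c := by
  obtain ⟨A, B, hAc, hA, hB, hB2, hBc, hfac⟩ := exists_ABA (F := F)
  set e := (toPSL F).toMonoidHom
  have hinj : Function.Injective e := (toPSL F).injective
  refine ⟨A.map e, B.map e, ?_, ?_, ?_, ?_, ?_, ?_⟩
  · exact isCyclic_of_surjective (A.equivMapOfInjective e hinj) (MulEquiv.surjective _)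
  · rw [← Nat.card_congr (A.equivMapOfInjective e hinj).toEquiv, hA]
  · exact Subgroup.map_isMulCommutative B e
  · rintro _ ⟨b, hb, rfl⟩
    rw [← map_mul, hB2 b hb, map_one]
  · rw [← Nat.card_congr (B.equivMapOfInjective e hinj).toEquiv, hBc]
  · intro g
    obtain ⟨g, rfl⟩ := (toPSL F).surjective g
    obtain ⟨a, ha, b, hb, c, hc, rfl⟩ := hfac g
    exact ⟨_, ⟨a, ha, rfl⟩, _, ⟨b, hb, rfl⟩, _, ⟨c, hc, rfl⟩, by simp [e]⟩

end CfsgLib.Misc.SLTwoEven
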