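import Cfsg.Agent.Misc.SLTwoCount

/-!
Degrees of the irreducible characters of SL₂(q), q even.
-/

set_option autoImplicit false
set_option linter.unusedSectionVars false
set_option linter.unusedSimpArgs false

namespace CfsgLib.Misc.SLTwoEvenCount

open Cfsg CfsgLib.Char BorelInduced PrincipalSeries SLTwoClassify GelfandGraev
open CharCount (card_two_to_one card_mulChar sum_sq_by_degree)
open scoped ComplexConjugate

variable {F : Type*} [Field F] [Fintype F] [CharP F 2] [DecidableEq F]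

local notation "SL2" => Matrix.SpecialLinearGroup (Fin 2) F
local notation "qC" => (Fintype.card F : ℂ)

theorem sq_eq_one_iff_one {α : MulChar F ℂ} : α ^ 2 = 1 ↔ α = 1 := by
  refine ⟨fun h => MulChar.ext fun u => ?_, fun h => by rw [h, one_pow]⟩
  obtain ⟨r, hr⟩ := FiniteField.isSquare_of_char_two (ringChar.eq F 2) (u : F)
  have hr0 : r ≠ 0 := fun e => u.ne_zero (by rw [hr, e, zero_mul])
  rw [hr, map_mul, ← MulChar.mul_apply, ← pow_two, h, MulChar.one_apply (isUnit_iff_ne_zero.2 hr0),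
    MulChar.one_apply (isUnit_iff_ne_zero.2 (mul_ne_zero hr0 hr0))]

theorem cusp_deg {χ : SL2 → ℂ} (hχ : IsIrrCharacter SL2 χ) (h : Cuspidal χ) : χ 1 = qC - 1 := by
  classical
  have h0 := cusp_zero hχ h
  have hconst : ∀ x : F, x ≠ 0 → χ (setupS.u x) = χ (setupS.u 1) := by
    intro x hx
    obtain ⟨r, hr⟩ := FiniteField.isSquare_of_char_two (ringChar.eq F 2) x
    have hr0 : r ≠ 0 := fun e => hx (by rw [hr, e, zero_mul])
    let t : SL2 := ⟨!![r, 0; 0, r⁻¹], by simp [Matrix.det_fin_two, mul_inv_cancel₀ hr0]⟩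
    have e : setupS.u x = t * setupS.u 1 * t⁻¹ := by
      rw [eq_mul_inv_iff_mul_eq]
      refine Subtype.ext ?_
      show !![1, x; 0, 1] * !![r, 0; 0, r⁻¹] = !![r, 0; 0, r⁻¹] * !![1, 1; 0, 1]
      simp [hr]
    rw [e]
    exact classFun_of_irr hχ _ _
  obtain ⟨ψ, hψ⟩ := SLTwoHalves.exists_nontriv (F := F)
  have hsum : ∀ f : F → ℂ,
      ∑ x : F, f x * χ (setupS.u x) = f 0 * χ 1 + (∑ x : F, f x - f 0) * χ (setupS.u 1) := by
    intro f
    rw [← Finset.add_sum_erase Finset.univ _ (Finset.mem_univ (0 : F)), setupS.u_zero,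
      Finset.sum_congr rfl (fun x hx => by rw [hconst x (Finset.mem_erase.1 hx).1]), ← Finset.sum_mul,
      Finset.sum_erase_eq_sub (Finset.mem_univ _)]
  have a1 := hsum (fun _ => 1)
  have a2 := hsum (fun z => ψ (-z))
  simp only [one_mul, Finset.sum_const, Finset.card_univ, nsmul_one, h0] at a1
  rw [show ∑ x : F, ψ (-x) = 0 from (Equiv.sum_comp (Equiv.neg F) (fun z => ψ z)).trans
      ((AddChar.sum_eq_zero_iff_ne_zero).2 hψ), neg_zero, AddChar.map_zero_eq_one] at a2
  have hne : χ 1 ≠ 0 := irr_one_ne_zero hχ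
  have hq : qC ≠ 0 := Nat.cast_ne_zero.2 Fintype.card_ne_zero
  rcases setupS.coef_le_one ψ hψ hχ with e | e <;> rw [Setup.coef, a2] at e
  · exact (hne (mul_left_cancel₀ hq (by linear_combination -a1 + (qC - 1) * e))).elim
  · refine mul_left_cancel₀ hq ?_
    linear_combination -a1 + (qC - 1) * e

theorem degrees {χ : SL2 → ℂ} (hχ : IsIrrCharacter SL2 χ) :
    χ 1 = 1 ∨ χ 1 = qC - 1 ∨ χ 1 = qC ∨ χ 1 = qC + 1 := by
  rcases classify hχ with hc | ⟨α, -, rfl⟩ | rfl | rfl | ⟨α, h2, h1, -⟩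
  · exact Or.inr (Or.inl (cusp_deg hχ hc))
  · exact Or.inr (Or.inr (Or.inr (psS_one α)))
  · exact Or.inl rfl
  · exact Or.inr (Or.inr (Or.inl steinberg_one))
  · exact absurd (sq_eq_one_iff_one.1 h2) h1

theorem card_ps (hq : 4 ≤ Fintype.card F) :
    2 * Nat.card {χ : IrrCharacter SL2 // (χ : SL2 → ℂ) 1 = qC + 1} = Fintype.card F - 2 := by
  classical
  haveI : Fintype (MulChar F ℂ) := Fintype.ofFinite _
  rw [SLTwoCount.card_ps hq, Nat.card_eq_fintype_card, Fintype.card_subtype_compl, Fintype.card_subtype,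
    show (Finset.univ.filter fun β : MulChar F ℂ => β ^ 2 = 1) = {1} by
      ext β; simp [sq_eq_one_iff_one],
    Finset.card_singleton, ← Nat.card_eq_fintype_card, card_mulChar]
  omega

theorem card_cusp (hq : 4 ≤ Fintype.card F) :
    2 * Nat.card {χ : IrrCharacter SL2 // (χ : SL2 → ℂ) 1 = qC - 1} = Fintype.card F := by
  classical
  have hs := sum_sq_by_degree (G := SL2) {1, qC - 1, qC, qC + 1} (fun χ => by
    simp only [Finset.mem_insert, Finset.mem_singleton]; exact degrees χ.2)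
  have h12 : (1 : ℂ) ≠ qC - 1 := fun e => by
    have : Fintype.card F = 2 := by exact_mod_cast (show qC = 2 by linear_combination -e)
    omega
  have h13 : (1 : ℂ) ≠ qC := fun e => by
    have : Fintype.card F = 1 := by exact_mod_cast e.symm
    omega
  have h14 : (1 : ℂ) ≠ qC + 1 := fun e => by
    have : Fintype.card F + 1 = 1 := by exact_mod_cast e.symm
    omega
  have h23 : qC - 1 ≠ qC := fun e => one_ne_zero (show (1 : ℂ) = 0 by linear_combination -e)
  have h24 : qC - 1 ≠ qC + 1 := fun e => two_ne_zero (show (2 : ℂ) = 0 by linear_combination -e)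
  have h34 : qC ≠ qC + 1 := fun e => one_ne_zero (show (1 : ℂ) = 0 by linear_combination -e)
  rw [Finset.sum_insert (by simp [h12, h13, h14]), Finset.sum_insert (by simp [h23, h24]),
    Finset.sum_insert (by simp [h34]), Finset.sum_singleton, (SLTwoCount.card_one_q hq).resolve_right (by omega),
    SLTwoCount.card_q hq, SLTwoCount.card_SL] at hs
  have hC := congrArg (fun n : ℕ => (n : ℂ)) (card_ps hq)
  push_cast [Nat.cast_sub (show 1 ≤ Fintype.card F by omega), Nat.cast_sub (show 2 ≤ Fintype.card F by omega)] at hC hs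
  have hq1 : qC - 1 ≠ 0 := fun e => h13 (by linear_combination -e)
  have key : (2 * Nat.card {χ : IrrCharacter SL2 // (χ : SL2 → ℂ) 1 = qC - 1} : ℂ) = qC := by
    refine mul_right_cancel₀ (pow_ne_zero 2 hq1) ?_
    linear_combination 2 * hs - (qC + 1) ^ 2 * hC
  exact_mod_cast key

end CfsgLib.Misc.SLTwoEvenCount
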