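import Cfsg.Agent.Misc.SLTwoClassify

/-!
Cuspidal characters of degree two of SL₂(3).
-/

set_option autoImplicit false
set_option linter.unusedSectionVars false
set_option linter.unusedSimpArgs false

namespace CfsgLib.Misc.SLTwoThree

open Cfsg CfsgLib.Char BorelInduced PrincipalSeries SLTwoClassify
open scoped ComplexConjugate

theorem norm_mul_central {G : Type*} [Group G] [Finite G] {χ : G → ℂ} (hχ : IsIrrCharacter G χ) {z : G}
    (hz : ∀ k, z * k = k * z) (h : G) : ‖χ (z * h)‖ = ‖χ h‖ := by
  haveI := Fintype.ofFinite G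
  obtain ⟨n, ρ, hirr, rfl⟩ := hχ
  haveI := hirr
  obtain ⟨c, hc⟩ := schur_scalar ρ (ρ z) (fun k v => by
    rw [← Module.End.mul_apply, ← map_mul, hz, map_mul, Module.End.mul_apply])
  have hpow : (ρ z) ^ orderOf z = 1 := by rw [← map_pow, pow_orderOf_eq_one, map_one]
  have hn := finrank_pos_of_irreducible ρ
  have hcn : c ^ orderOf z = 1 := by
    haveI : Nontrivial (Fin n → ℂ) := Module.finrank_pos_iff.mp hn
    obtain ⟨v, hv⟩ := exists_ne (0 : Fin n → ℂ)
    rw [hc, smul_pow, ← Module.End.one_eq_id, one_pow] at hpow
    have := LinearMap.congr_fun hpow v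
    simp only [LinearMap.smul_apply, Module.End.one_apply] at this
    exact smul_left_injective ℂ hv (this.trans (one_smul ℂ v).symm)
  have : ρ.character (z * h) = c * ρ.character h := by
    simp [Representation.character, map_mul, hc, ← Module.End.one_eq_id]
  rw [this, norm_mul, norm_root (orderOf_pos z).ne' hcn, one_mul]

variable {F : Type*} [Field F] [Fintype F] [DecidableEq F]

local notation "SL2" => Matrix.SpecialLinearGroup (Fin 2) F
local notation "toG" => (Matrix.SpecialLinearGroup.toGL :
  Matrix.SpecialLinearGroup (Fin 2) F →* Matrix.GeneralLinearGroup (Fin 2) F)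

theorem elliptic_zero (h3 : Fintype.card F = 3) {χ : SL2 → ℂ} (hχ : IsIrrCharacter SL2 χ) (h : Cuspidal χ)
    (hdeg : χ 1 = 2) {g₀ : SL2}
    (hv : ∀ (c : F) (v : Fin 2 → F), v ≠ 0 → (g₀ : Matrix (Fin 2) (Fin 2) F).mulVec v ≠ c • v) : χ g₀ = 0 := by
  classical
  haveI : Fintype (Bor toG) := Fintype.ofFinite _
  have hch : ringChar F ≠ 2 := by
    intro e
    have := FiniteField.even_card_of_char_two e
    omega
  have h2 : (2 : F) ≠ 0 := Ring.two_ne_zero hch
  have hsq : ∀ a : Fˣ, (a : F) = ((a⁻¹ : Fˣ) : F) := fun a => by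
    have : a ^ 2 = 1 := by
      have := pow_card_eq_one' (x := a)
      rwa [Nat.card_units, Nat.card_eq_fintype_card, h3] at this
    rw [inv_eq_of_mul_eq_one_right (by rw [← pow_two, this] : a * a = 1)]
  set θ : F → F → ℂ := fun a d => if a = d then 1 else 0 with hθ
  set W := indFun (Bor toG) (th toG θ) with hW
  set f : SL2 → ℂ := fun g => χ g * conj (χ g) with hf
  have hcl : IsClassFunction SL2 f := fun g k => by simp only [hf, classFun_of_irr hχ g k]
  have hcardB : Nat.card (Bor toG) = 6 := by
    rw [Nat.card_congr eS.symm, Nat.card_prod, Nat.card_units, Nat.card_eq_fintype_card, h3]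
  have hW1 : W 1 = 4 := by
    rw [hW, ind_scalar toG θ rS (g := 1) (by simp [mat]) (by simp [mat]) (by simp [mat]) rfl rS_some, h3]
    simp [hθ, mat]; norm_num
  have hindex : (Bor toG).index = 4 := by
    have := hW1
    rw [hW, indFun_one] at this
    simp [th, hθ, mat] at this
    exact_mod_cast this
  have hcardG : Nat.card SL2 = 24 := by rw [← Subgroup.index_mul_card (Bor toG), hindex, hcardB]
  let z : SL2 := -1
  have hz : ∀ k : SL2, z * k = k * z := fun k => Subtype.ext (by simp [z])
  have hfu : ∀ y : F, y ≠ 0 → f (setupS.u y) = 1 := fun y hy => by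
    simp [hf, cusp_u hχ h (by rw [hdeg, h3]; norm_num) hy]
  have hfz : ∀ k, f (z * k) = f k := fun k => by
    simp only [hf, Complex.mul_conj', norm_mul_central hχ hz]
  have hf1 : f 1 = 4 := by simp [hf, hdeg, map_ofNat]; norm_num
  have hsumB : ∀ a : Fˣ, ∑ x : F, th toG θ (eS (a, x)) * conj (f (eS (a, x) : SL2)) = 6 := by
    intro a
    have hth : ∀ x, th toG θ (eS (a, x)) = 1 := fun x => by
      show (if (a : F) = ((a⁻¹ : Fˣ) : F) then (1 : ℂ) else 0) = 1
      rw [if_pos (hsq a)]
    have hsu : ∀ b : F, (b ^ 2 = 1) → (b = 1 ∨ b = -1) := fun b hb => sq_eq_one_iff.1 hb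
    have hconj : ∀ k, conj (f k) = f k := fun k => by simp [hf, mul_comm]
    simp only [hth, one_mul, hconj]
    have hval : ∀ x : F, f (eS (a, x) : SL2) = if x = 0 then 4 else 1 := by
      intro x
      have ha : (a : F) * (a : F) = 1 := by
        conv_lhs => arg 2; rw [hsq a]
        exact Units.mul_inv a
      rcases hsu (a : F) (by rw [pow_two, ha]) with e | e
      · have : (eS (a, x) : SL2) = setupS.u x := Subtype.ext (by
          show !![(a : F), x; 0, ((a⁻¹ : Fˣ) : F)] = !![1, x; 0, 1]
          rw [← hsq a, e])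
        rw [this]
        split_ifs with hx
        · rw [hx, setupS.u_zero, hf1]
        · exact hfu x hx
      · have : (eS (a, x) : SL2) = z * setupS.u (-x) := Subtype.ext (by
          show !![(a : F), x; 0, ((a⁻¹ : Fˣ) : F)] = (-1 : SL2).1 * !![1, -x; 0, 1]
          rw [← hsq a, e]
          simp)
        rw [this, hfz]
        split_ifs with hx
        · rw [hx, neg_zero, setupS.u_zero, hf1]
        · exact hfu _ (neg_ne_zero.2 hx)
    simp only [hval]
    rw [Finset.sum_ite, Finset.sum_const, Finset.sum_const, Finset.filter_eq' Finset.univ (0 : F)]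
    simp [Finset.filter_ne', h3]
    norm_num
  have hF := CfsgLib.Char.frobenius (Bor toG) (th toG θ) hcl
  rw [classInner_def, classInner_def, hcardG, hcardB,
    ← Fintype.sum_equiv eS (fun p => th toG θ (eS p) * conj (f (eS p : SL2))) _ (fun _ => rfl),
    Fintype.sum_prod_type] at hF
  simp only [hsumB, Finset.sum_const, Finset.card_univ, ← hW] at hF
  rw [← Nat.card_eq_fintype_card, Nat.card_units, Nat.card_eq_fintype_card, h3] at hF
  have hnorm : ∑ g : SL2, f g = 24 := by
    have := irr_inner_self hχ
    rw [classInner_def, hcardG, inv_mul_eq_one₀ (by norm_num)] at this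
    exact_mod_cast this.symm
  have hW01 : ∀ g : SL2, g ≠ 1 → g ≠ z → W g = 0 ∨ W g = 1 := by
    intro g g1 gz
    rw [hW, ind_formula toG θ rS rfl rS_some]
    by_cases hc : mat toG g 1 0 = 0
    · rw [if_pos hc]
      by_cases had : mat toG g 0 0 = mat toG g 1 1
      · right
        have hb : mat toG g 0 1 ≠ 0 := by
          intro hb
          have e : mat toG g 0 0 * mat toG g 0 0 = 1 := by
            have : (mat toG g).det = 1 := g.2
            rw [Matrix.det_fin_two, hc, mul_zero, sub_zero, ← had] at this
            exact this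
          rcases sq_eq_one_iff.1 ((pow_two _).trans e) with e' | e'
          · refine g1 (Subtype.ext ?_)
            show mat toG g = 1
            rw [Matrix.eta_fin_two (mat toG g), hb, hc, ← had, e', Matrix.one_fin_two]
          · refine gz (Subtype.ext ?_)
            show mat toG g = (-1 : SL2).1
            rw [Matrix.eta_fin_two (mat toG g), hb, hc, ← had, e']
            simp [Matrix.one_fin_two]
        simp [hθ, had, hc, hb]
      · left
        simp [hθ, hc, had, Ne.symm had]
    · rw [if_neg hc, zero_add]
      by_cases ht : ∃ t : F, mat toG g 1 0 * t ^ 2 + (mat toG g 1 1 - mat toG g 0 0) * t - mat toG g 0 1 = 0 ∧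
          mat toG g 1 0 * t + mat toG g 1 1 = mat toG g 0 0 - t * mat toG g 1 0
      · obtain ⟨t, t1, t2⟩ := ht
        right
        rw [Finset.sum_eq_single t]
        · simp [hθ, t1, t2]
        · intro s _ hs
          by_cases s1 : mat toG g 1 0 * s ^ 2 + (mat toG g 1 1 - mat toG g 0 0) * s - mat toG g 0 1 = 0
          · rw [if_pos s1]
            simp only [hθ]
            rw [if_neg]
            intro s2
            exact hs (mul_left_cancel₀ (mul_ne_zero h2 hc) (by linear_combination s2 - t2))
          · rw [if_neg s1]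
        · simp
      · left
        push Not at ht
        refine Finset.sum_eq_zero fun s _ => ?_
        split_ifs with s1
        · simp only [hθ]
          rw [if_neg (ht s s1)]
        · rfl
  have hWg : W g₀ = 0 := ind_elliptic toG θ rS hv rfl rS_some
  have hWz : W z = 4 := by
    rw [hW, ind_scalar toG θ rS (g := z) (by simp [mat, z]) (by simp [mat, z]) (by simp [mat, z]) rfl rS_some, h3]
    simp [hθ, mat, z]; norm_num
  have hz1 : z ≠ 1 := fun e => by
    have := congrArg (fun k : SL2 => (k : Matrix (Fin 2) (Fin 2) F) 0 0) e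
    simp [z] at this
    exact h2 (by linear_combination -this)
  have hsplit : ∑ g : SL2, W g * f g = 48 := by
    have hconj : ∀ k, conj (f k) = f k := fun k => by simp [hf, mul_comm]
    simp only [hconj] at hF
    norm_num at hF
    linear_combination 24 * hF
  have hg1 : g₀ ≠ 1 ∧ g₀ ≠ z := by
    constructor <;> rintro rfl
    · exact hv 1 ![1, 0] (fun e => one_ne_zero (congrFun e 0)) (by simp)
    · exact hv (-1) ![1, 0] (fun e => one_ne_zero (congrFun e 0)) (by simp [z, Matrix.neg_mulVec])
  let fr : SL2 → ℝ := fun g => Complex.normSq (χ g)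
  have hfr : ∀ g, f g = (fr g : ℂ) := fun g => Complex.mul_conj (χ g)
  have e48 : ∑ g : SL2, (W g).re * fr g = 48 := by
    have := congrArg Complex.re hsplit
    simpa [hfr, Complex.re_sum] using this
  have e24 : ∑ g : SL2, fr g = 24 := by
    have := congrArg Complex.re hnorm
    simpa [hfr, Complex.re_sum] using this
  have hle : ∀ g : SL2, (W g).re * fr g + (if g = g₀ then fr g else 0) ≤
      fr g + (if g = 1 then 3 * fr g else 0) + (if g = z then 3 * fr g else 0) := by
    intro g
    have hnn : 0 ≤ fr g := Complex.normSq_nonneg _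
    by_cases a : g = 1
    · subst a
      rw [if_neg hg1.1.symm, if_pos rfl, if_neg hz1.symm, hW1]
      norm_num
      linarith
    by_cases b : g = z
    · subst b
      rw [if_neg hg1.2.symm, if_neg hz1, if_pos rfl, hWz]
      norm_num
      linarith
    rw [if_neg a, if_neg b]
    by_cases c : g = g₀
    · subst c; rw [if_pos rfl, hWg]; simp
    · rw [if_neg c]
      rcases hW01 g a b with e | e <;> simp [e, hnn]
  have hs := Finset.sum_le_sum (s := Finset.univ) fun g _ => hle g
  simp only [Finset.sum_add_distrib, Finset.sum_ite_eq', Finset.mem_univ, if_true, e48, e24] at hs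
  have f1 : fr 1 = 4 := by simp [fr, hdeg]; norm_num
  have fz : fr z = 4 := by
    have e := hfz 1
    rw [mul_one, hfr, hfr, f1] at e
    exact_mod_cast e
  rw [f1, fz] at hs
  have : fr g₀ = 0 := le_antisymm (by linarith) (Complex.normSq_nonneg _)
  exact Complex.normSq_eq_zero.1 this

end CfsgLib.Misc.SLTwoThree
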