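import Mathlib

/-! Homomorphisms out of SL(2,F) from the rank one relations. -/

set_option autoImplicit false

namespace CfsgLib.Misc.SL2Lift

open Matrix

variable {F : Type*} [Field F] {G : Type*} [Group G]

def xM (t : F) : SpecialLinearGroup (Fin 2) F := ⟨!![1, t; 0, 1], by simp [Matrix.det_fin_two_of]⟩
def yM (t : F) : SpecialLinearGroup (Fin 2) F := ⟨!![1, 0; t, 1], by simp [Matrix.det_fin_two_of]⟩
def wM : SpecialLinearGroup (Fin 2) F := ⟨!![0, 1; -1, 0], by simp [Matrix.det_fin_two_of]⟩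

theorem xM_val (t : F) : (xM t).1 = !![1, t; 0, 1] := rfl
theorem yM_val (t : F) : (yM t).1 = !![1, 0; t, 1] := rfl
theorem wM_val : (wM (F := F)).1 = !![0, 1; -1, 0] := rfl

variable (x y : F → G) (n : G) (h : Fˣ →* G)

open Classical in
/-- Bruhat normal form -/
noncomputable def φfun (g : SpecialLinearGroup (Fin 2) F) : G :=
  if hc : g.1 1 0 = 0 then
    h (Units.mk0 (g.1 0 0) (fun h0 => by
      have := g.2; rw [Matrix.det_fin_two, h0, hc] at this; simp at this)) * x (g.1 0 1 / g.1 0 0)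
  else x (g.1 0 0 / g.1 1 0) * h (Units.mk0 (-(g.1 1 0)⁻¹) (by simpa using hc)) * n * x (g.1 1 1 / g.1 1 0)

structure Rel : Prop where
  xadd : ∀ a b, x a * x b = x (a + b)
  yadd : ∀ a b, y a * y b = y (a + b)
  ndef : n = x 1 * y (-1) * x 1
  conjn : ∀ t, n * x t * n⁻¹ = y (-t)
  hdef : ∀ c : Fˣ, h c = x c * y (-(c : F)⁻¹) * x c * n⁻¹
  hconj : ∀ (c : Fˣ) (t : F), h c * x t * (h c)⁻¹ = x ((c : F) ^ 2 * t)

variable {x y n h}

theorem eval_zero (R : Rel x y n h) {g : SpecialLinearGroup (Fin 2) F} (hc : g.1 1 0 = 0) (a : Fˣ)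
    (ha : g.1 0 0 = a) : φfun x n h g = h a * x (g.1 0 1 / g.1 0 0) := by
  rw [φfun, dif_pos hc]
  congr 2
  exact Units.ext ha

theorem eval_ne (R : Rel x y n h) {g : SpecialLinearGroup (Fin 2) F} (hc : g.1 1 0 ≠ 0) (c : Fˣ)
    (ha : -(g.1 1 0)⁻¹ = c) : φfun x n h g = x (g.1 0 0 / g.1 1 0) * h c * n * x (g.1 1 1 / g.1 1 0) := by
  rw [φfun, dif_neg hc]
  congr 4
  exact Units.ext ha

theorem x_zero (R : Rel x y n h) : x 0 = 1 := mul_left_cancel (a := x 0) (by rw [R.xadd, add_zero, mul_one])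
theorem x_inv (R : Rel x y n h) (t : F) : (x t)⁻¹ = x (-t) :=
  inv_eq_of_mul_eq_one_right (by rw [R.xadd, add_neg_cancel, x_zero R])

theorem x_swap (R : Rel x y n h) (c : Fˣ) (t : F) : h c * x t = x ((c : F) ^ 2 * t) * h c := by
  rw [← R.hconj]; group

theorem nn (R : Rel x y n h) : n * n = h (-1) := by
  have h1 := R.hdef (-1)
  have e : x (((-1 : Fˣ) : F)) * y (-(((-1 : Fˣ) : F))⁻¹) * x (((-1 : Fˣ) : F)) = n⁻¹ := by
    have hy : (y (-1))⁻¹ = y 1 := by
      refine inv_eq_of_mul_eq_one_right ?_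
      rw [R.yadd, neg_add_cancel]
      exact mul_left_cancel (a := y 0) (by rw [R.yadd, add_zero, mul_one])
    rw [R.ndef, _root_.mul_inv_rev, _root_.mul_inv_rev, x_inv R, hy]
    simp [mul_assoc, inv_neg]
  rw [e] at h1
  have h2 : h (-1) * h (-1) = 1 := by rw [← map_mul, neg_one_mul, neg_neg, map_one]
  have h3 : (h (-1))⁻¹ = h (-1) := inv_eq_of_mul_eq_one_right h2
  rw [← h3, h1, _root_.mul_inv_rev, inv_inv]

theorem n_swap (R : Rel x y n h) : n * h (-1) = h (-1) * n := by rw [← nn R, mul_assoc]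

theorem step_x (R : Rel x y n h) (g : SpecialLinearGroup (Fin 2) F) (s : F) :
    φfun x n h (g * xM s) = φfun x n h g * x s := by
  have hdet := g.2
  rw [Matrix.det_fin_two] at hdet
  have e00 : (g * xM s).1 0 0 = g.1 0 0 := by simp [xM_val, Matrix.SpecialLinearGroup.coe_mul, Matrix.mul_apply, Fin.sum_univ_two]
  have e01 : (g * xM s).1 0 1 = g.1 0 0 * s + g.1 0 1 := by simp [xM_val, Matrix.SpecialLinearGroup.coe_mul, Matrix.mul_apply, Fin.sum_univ_two]
  have e10 : (g * xM s).1 1 0 = g.1 1 0 := by simp [xM_val, Matrix.SpecialLinearGroup.coe_mul, Matrix.mul_apply, Fin.sum_univ_two]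
  have e11 : (g * xM s).1 1 1 = g.1 1 0 * s + g.1 1 1 := by simp [xM_val, Matrix.SpecialLinearGroup.coe_mul, Matrix.mul_apply, Fin.sum_univ_two]
  by_cases hc : g.1 1 0 = 0
  · have ha : g.1 0 0 ≠ 0 := fun h0 => by rw [h0, hc] at hdet; simp at hdet
    rw [eval_zero R (e10.trans hc) (Units.mk0 _ ha) e00, eval_zero R hc (Units.mk0 _ ha) rfl, e00, e01,
      mul_assoc _ (x (g.1 0 1 / g.1 0 0)) (x s), R.xadd]
    congr 2
    field_simp
    ring
  · have hu : -(g.1 1 0)⁻¹ ≠ 0 := by simpa using hc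
    rw [eval_ne R (e10 ▸ hc) (Units.mk0 _ hu) (by rw [e10]; rfl), eval_ne R hc (Units.mk0 _ hu) rfl, e00, e10, e11,
      mul_assoc _ (x (g.1 1 1 / g.1 1 0)) (x s), R.xadd]
    congr 2
    field_simp
    ring

theorem step_w (R : Rel x y n h) (g : SpecialLinearGroup (Fin 2) F) :
    φfun x n h (g * wM) = φfun x n h g * n := by
  have hdet := g.2
  rw [Matrix.det_fin_two] at hdet
  have e00 : (g * wM).1 0 0 = -g.1 0 1 := by simp [wM_val, Matrix.SpecialLinearGroup.coe_mul, Matrix.mul_apply, Fin.sum_univ_two]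
  have e01 : (g * wM).1 0 1 = g.1 0 0 := by simp [wM_val, Matrix.SpecialLinearGroup.coe_mul, Matrix.mul_apply, Fin.sum_univ_two]
  have e10 : (g * wM).1 1 0 = -g.1 1 1 := by simp [wM_val, Matrix.SpecialLinearGroup.coe_mul, Matrix.mul_apply, Fin.sum_univ_two]
  have e11 : (g * wM).1 1 1 = g.1 1 0 := by simp [wM_val, Matrix.SpecialLinearGroup.coe_mul, Matrix.mul_apply, Fin.sum_univ_two]
  by_cases hc : g.1 1 0 = 0
  · have ha : g.1 0 0 ≠ 0 := fun h0 => by rw [h0, hc] at hdet; simp at hdet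
    have had : g.1 0 0 * g.1 1 1 = 1 := by rw [hc] at hdet; linear_combination hdet
    have hd : g.1 1 1 ≠ 0 := right_ne_zero_of_mul_eq_one had
    rw [eval_ne R (by rw [e10]; simpa using hd) (Units.mk0 _ ha) (by rw [e10]; simp [← eq_inv_of_mul_eq_one_left had]),
      eval_zero R hc (Units.mk0 _ ha) rfl, x_swap R, e00, e10, e11, hc, zero_div, x_zero R, mul_one]
    congr 3
    show -g.1 0 1 / -g.1 1 1 = g.1 0 0 ^ 2 * (g.1 0 1 / g.1 0 0)
    field_simp
    linear_combination (-(g.1 0 1)) * had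
  · have hu : -(g.1 1 0)⁻¹ ≠ 0 := by simpa using hc
    by_cases hd : g.1 1 1 = 0
    · have hbc : g.1 0 1 * g.1 1 0 = -1 := by rw [hd] at hdet; linear_combination -hdet
      have hb : -g.1 0 1 = (g.1 1 0)⁻¹ := eq_inv_of_mul_eq_one_left (by linear_combination -hbc)
      rw [eval_zero R (by rw [e10, hd, neg_zero]) (Units.mk0 _ (inv_ne_zero hc)) (e00.trans hb),
        eval_ne R hc (Units.mk0 _ hu) rfl, hd, zero_div, x_zero R, mul_one, mul_assoc (x _ * h _) n n, nn R,
        mul_assoc (x _), ← map_mul, x_swap R, e00, e01]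
      congr 1
      · congr 1
        show (g.1 1 0)⁻¹ ^ 2 * (g.1 0 0 / -g.1 0 1) = g.1 0 0 / g.1 1 0
        rw [hb]
        field_simp
      · congr 1
        exact Units.ext (by simp)
    · set c := g.1 1 0 with hcdef
      set d := g.1 1 1 with hddef
      have ht : c / d ≠ 0 := div_ne_zero hc hd
      have key : n * x (d / c) * n = x (-(c / d)) * h (Units.mk0 _ (neg_ne_zero.2 ht)) * n * x (-(c / d)) := by
        have e1 : y (-(d / c)) = x (-(c / d)) * h (Units.mk0 _ ht) * n * x (-(c / d)) := by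
          rw [R.hdef, Units.val_mk0, inv_div]
          calc y (-(d / c)) = (x (c / d))⁻¹ * (x (c / d) * y (-(d / c)) * x (c / d) * n⁻¹) * n * (x (c / d))⁻¹ := by group
            _ = _ := by rw [x_inv R]
        have e2 : h (Units.mk0 _ ht) * h (-1) = h (Units.mk0 _ (neg_ne_zero.2 ht)) := by
          rw [← map_mul]; congr 1; exact Units.ext (by simp)
        have e3 : x (-(c / d)) * h (-1) = h (-1) * x (-(c / d)) := by
          rw [x_swap R]; simp
        calc n * x (d / c) * n = (n * x (d / c) * n⁻¹) * (n * n) := by group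
          _ = y (-(d / c)) * h (-1) := by rw [R.conjn, nn R]
          _ = _ := by
              rw [e1, ← e2, mul_assoc _ (x (-(c / d))) (h (-1)), e3, mul_assoc _ n, ← mul_assoc n, n_swap R]
              group
      rw [eval_ne R hc (Units.mk0 _ hu) rfl,
        eval_ne R (show (g * wM).1 1 0 ≠ (0 : F) by rw [e10]; simpa using hd) (Units.mk0 _ (inv_ne_zero hd)) (by rw [e10]; simp [hddef]),
        e00, e10, e11, ← hcdef, ← hddef,
        show x (g.1 0 0 / c) * h (Units.mk0 _ hu) * n * x (d / c) * n =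
          x (g.1 0 0 / c) * h (Units.mk0 _ hu) * (n * x (d / c) * n) by group, key, div_neg]
      simp only [← mul_assoc]
      rw [mul_assoc (x (g.1 0 0 / c)) (h _) (x (-(c / d))), x_swap R, ← mul_assoc, R.xadd,
        mul_assoc _ (h (Units.mk0 _ hu)) (h _), ← map_mul]
      congr 3
      · refine congrArg x ?_
        simp only [Units.val_mk0]
        field_simp
        first
          | ring1
          | linear_combination hdet
          | linear_combination -hdet
      · refine congrArg h (Units.ext ?_)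
        simp only [Units.val_mk0, Units.val_mul]
        field_simp
      all_goals ring

theorem gen : Subgroup.closure (Set.insert wM (Set.range (xM (F := F)))) = ⊤ := by
  rw [eq_top_iff]
  intro g _
  set K := Subgroup.closure (Set.insert wM (Set.range (xM (F := F))))
  have hw : wM ∈ K := Subgroup.subset_closure (Set.mem_insert _ _)
  have hx : ∀ t, xM t ∈ K := fun t => Subgroup.subset_closure (Set.mem_insert_of_mem _ ⟨t, rfl⟩)
  have hy : ∀ t, yM t ∈ K := fun t => by
    have : yM t = wM * xM (-t) * wM⁻¹ := by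
      rw [eq_mul_inv_iff_mul_eq]
      apply Subtype.ext
      ext i j; fin_cases i <;> fin_cases j <;> simp [wM_val, xM_val, yM_val, Matrix.SpecialLinearGroup.coe_mul, Matrix.mul_apply, Fin.sum_univ_two]
    rw [this]; exact mul_mem (mul_mem hw (hx _)) (inv_mem hw)
  have main : ∀ g : SpecialLinearGroup (Fin 2) F, g.1 1 0 ≠ 0 → g ∈ K := by
    rintro ⟨M, hdet⟩ hc
    rw [Matrix.det_fin_two] at hdet
    change M 1 0 ≠ 0 at hc
    have : (⟨M, by rw [Matrix.det_fin_two]; exact hdet⟩ : SpecialLinearGroup (Fin 2) F) =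
        xM ((M 0 0 - 1) / M 1 0) * yM (M 1 0) * xM ((M 1 1 - 1) / M 1 0) := by
      apply Subtype.ext
      ext i j
      fin_cases i <;> fin_cases j <;> simp [xM_val, yM_val, Matrix.SpecialLinearGroup.coe_mul, Matrix.mul_apply, Fin.sum_univ_two] <;> field_simp <;>
        first | ring1 | linear_combination hdet | linear_combination -hdet
    rw [this]; exact mul_mem (mul_mem (hx _) (hy _)) (hx _)
  by_cases hc : g.1 1 0 = 0
  · have := main (g * wM) (by
      simp [wM_val, Matrix.SpecialLinearGroup.coe_mul, Matrix.mul_apply, Fin.sum_univ_two]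
      intro h0
      have := g.2
      rw [Matrix.det_fin_two, h0, hc] at this
      simp at this)
    simpa using mul_mem this (inv_mem hw)
  · exact main g hc

theorem exists_hom (R : Rel x y n h) :
    ∃ φ : SpecialLinearGroup (Fin 2) F →* G, (∀ t, φ (xM t) = x t) ∧ (∀ t, φ (yM t) = y t) := by
  have h1 : φfun x n h (1 : SpecialLinearGroup (Fin 2) F) = 1 := by
    rw [eval_zero R (g := 1) (by simp) 1 (by simp)]; simp [x_zero R]
  have hx : ∀ t, φfun x n h (xM t) = x t := fun t => by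
    have := step_x R 1 t
    rwa [one_mul, h1, one_mul] at this
  have hw : φfun x n h (wM (F := F)) = n := by
    have := step_w R 1
    rwa [one_mul, h1, one_mul] at this
  have hmul : ∀ s g : SpecialLinearGroup (Fin 2) F, φfun x n h (g * s) = φfun x n h g * φfun x n h s := by
    intro s
    have hs : s ∈ Subgroup.closure (Set.insert wM (Set.range (xM (F := F)))) := by rw [gen]; trivial
    induction hs using Subgroup.closure_induction with
    | mem a ha =>
      rcases ha with rfl | ⟨t, rfl⟩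
      · intro g; rw [step_w R, hw]
      · intro g; rw [step_x R, hx]
    | one => intro g; rw [mul_one, h1, mul_one]
    | mul a b _ _ ha hb => intro g; rw [← mul_assoc, hb, ha, hb a, mul_assoc]
    | inv a _ ha =>
      intro g
      have e1 := ha (g * a⁻¹)
      rw [inv_mul_cancel_right] at e1
      have e2 := ha a⁻¹
      rw [inv_mul_cancel, h1] at e2
      rw [e1, eq_inv_of_mul_eq_one_left e2.symm, mul_inv_cancel_right]
  let φ : SpecialLinearGroup (Fin 2) F →* G := ⟨⟨φfun x n h, h1⟩, fun a b => hmul b a⟩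
  refine ⟨φ, hx, fun t => ?_⟩
  have e : yM t = wM * xM (-t) * wM⁻¹ := by
    rw [eq_mul_inv_iff_mul_eq]
    apply Subtype.ext
    ext i j; fin_cases i <;> fin_cases j <;> simp [wM_val, xM_val, yM_val, Matrix.SpecialLinearGroup.coe_mul, Matrix.mul_apply, Fin.sum_univ_two]
  rw [e, map_mul, map_mul, map_inv]
  show φfun x n h wM * φfun x n h (xM (-t)) * (φfun x n h wM)⁻¹ = y t
  rw [hw, hx, R.conjn, neg_neg]

theorem range_eq (φ : SpecialLinearGroup (Fin 2) F →* G) (X Y : Subgroup G)
    (hX : ∀ g, g ∈ X ↔ ∃ t, g = φ (xM t)) (hY : ∀ g, g ∈ Y ↔ ∃ t, g = φ (yM t)) : φ.range = X ⊔ Y := by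
  refine le_antisymm ?_ (sup_le ?_ ?_)
  · rw [MonoidHom.range_eq_map, ← gen, MonoidHom.map_closure, Subgroup.closure_le]
    rintro _ ⟨s, hs, rfl⟩
    have hx : ∀ t, φ (xM t) ∈ X ⊔ Y := fun t => Subgroup.mem_sup_left ((hX _).2 ⟨t, rfl⟩)
    rcases hs with rfl | ⟨t, rfl⟩
    · have e : (wM : SpecialLinearGroup (Fin 2) F) = xM 1 * yM (-1) * xM 1 := by
        apply Subtype.ext
        ext i j; fin_cases i <;> fin_cases j <;> simp [wM_val, xM_val, yM_val, Matrix.SpecialLinearGroup.coe_mul, Matrix.mul_apply, Fin.sum_univ_two]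
      rw [e, map_mul, map_mul]
      exact mul_mem (mul_mem (hx 1) (Subgroup.mem_sup_right ((hY _).2 ⟨_, rfl⟩))) (hx 1)
    · exact hx t
  · intro g hg
    obtain ⟨t, rfl⟩ := (hX g).1 hg
    exact ⟨_, rfl⟩
  · intro g hg
    obtain ⟨t, rfl⟩ := (hY g).1 hg
    exact ⟨_, rfl⟩

end CfsgLib.Misc.SL2Lift
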