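import Cfsg.Agent.Misc.SL2Lift

/-! The rank one Steinberg presentation of SL(2) over a finite field. -/

set_option autoImplicit false

namespace CfsgLib.Misc.SL2Presentation

variable {F : Type*} [Field F] {G : Type*} [Group G]

def W (x y : F → G) (t : F) : G := x t * y (-t⁻¹) * x t

/-- the defining relations -/
structure St (x y : F → G) : Prop where
  xadd : ∀ a b, x a * x b = x (a + b)
  yadd : ∀ a b, y a * y b = y (a + b)
  rel : ∀ t u, t ≠ 0 → W x y t * x u * (W x y t)⁻¹ = y (-(t⁻¹ ^ 2 * u))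
  gen : ∀ z : G, (∀ t, z * x t = x t * z) → (∀ t, z * y t = y t * z) → ∀ g, g * z = z * g

variable {x y : F → G}

theorem x_zero (R : St x y) : x 0 = 1 := mul_left_cancel (a := x 0) (by rw [R.xadd, add_zero, mul_one])
theorem y_zero (R : St x y) : y 0 = 1 := mul_left_cancel (a := y 0) (by rw [R.yadd, add_zero, mul_one])
theorem x_inv (R : St x y) (t : F) : (x t)⁻¹ = x (-t) :=
  inv_eq_of_mul_eq_one_right (by rw [R.xadd, add_neg_cancel, x_zero R])
theorem y_inv (R : St x y) (t : F) : (y t)⁻¹ = y (-t) :=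
  inv_eq_of_mul_eq_one_right (by rw [R.yadd, add_neg_cancel, y_zero R])

theorem W_inv (R : St x y) (t : F) : (W x y t)⁻¹ = W x y (-t) := by
  simp [W, x_inv R, y_inv R, mul_assoc, inv_neg]

theorem W_x (R : St x y) {t : F} (ht : t ≠ 0) (u : F) :
    W x y t * x u = y (-(t⁻¹ ^ 2 * u)) * W x y t := by rw [← R.rel t u ht]; group

theorem conjWy (R : St x y) {t : F} (ht : t ≠ 0) (v : F) :
    W x y t * y v * (W x y t)⁻¹ = x (-(t ^ 2 * v)) := by
  have h := R.rel (-t) (-(t ^ 2 * v)) (neg_ne_zero.2 ht)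
  rw [← W_inv R, show -((-t)⁻¹ ^ 2 * -(t ^ 2 * v)) = v by field_simp] at h
  rw [← h]; group

theorem W_eq (R : St x y) {t : F} (ht : t ≠ 0) : W x y t = y (-t⁻¹) * x t * y (-t⁻¹) := by
  have h : W x y t = (W x y t * x t * (W x y t)⁻¹) * (W x y t * y (-t⁻¹) * (W x y t)⁻¹) * (W x y t * x t * (W x y t)⁻¹) := by
    rw [show (W x y t * x t * (W x y t)⁻¹) * (W x y t * y (-t⁻¹) * (W x y t)⁻¹) * (W x y t * x t * (W x y t)⁻¹) =
      W x y t * (x t * y (-t⁻¹) * x t) * (W x y t)⁻¹ by group]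
    exact (mul_inv_cancel_right (W x y t) (W x y t)).symm
  rw [R.rel t t ht, conjWy R ht, show -(t⁻¹ ^ 2 * t) = -t⁻¹ by field_simp,
    show -(t ^ 2 * -t⁻¹) = t by field_simp] at h
  exact h

variable (x y) in
def H (c : Fˣ) : G := W x y c * (W x y 1)⁻¹

theorem H_one : H x y 1 = 1 := by simp [H]

theorem H_x (R : St x y) (c : Fˣ) (t : F) : H x y c * x t * (H x y c)⁻¹ = x ((c : F) ^ 2 * t) := by
  have h1 := R.rel (-1) t (by simp)
  rw [← W_inv R, inv_inv, inv_neg, inv_one, neg_sq, one_pow, one_mul] at h1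
  calc H x y c * x t * (H x y c)⁻¹ = W x y c * ((W x y 1)⁻¹ * x t * W x y 1) * (W x y (c : F))⁻¹ := by
        simp only [H]; group
    _ = _ := by rw [h1, conjWy R c.ne_zero, mul_neg, neg_neg]

theorem H_y (R : St x y) (c : Fˣ) (v : F) : H x y c * y v * (H x y c)⁻¹ = y ((c : F)⁻¹ ^ 2 * v) := by
  have h1 := conjWy R (t := (-1 : F)) (by simp) v
  rw [← W_inv R, inv_inv, neg_sq, one_pow, one_mul] at h1
  calc H x y c * y v * (H x y c)⁻¹ = W x y c * ((W x y 1)⁻¹ * y v * W x y 1) * (W x y (c : F))⁻¹ := by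
        simp only [H]; group
    _ = _ := by rw [h1, R.rel _ _ c.ne_zero, mul_neg, neg_neg]

theorem H_conjn (R : St x y) (c : Fˣ) : W x y 1 * H x y c * (W x y 1)⁻¹ = H x y c⁻¹ := by
  have e1 : W x y 1 * x (c : F) * (W x y 1)⁻¹ = y (-(c : F)) := by rw [R.rel 1 _ one_ne_zero]; simp
  have e2 : W x y 1 * y (-(c : F)⁻¹) * (W x y 1)⁻¹ = x (c : F)⁻¹ := by rw [conjWy R one_ne_zero]; simp
  have e : W x y 1 * W x y (c : F) * (W x y 1)⁻¹ = W x y ((c⁻¹ : Fˣ) : F) := by
    rw [W_eq R (c⁻¹ : Fˣ).ne_zero, Units.val_inv_eq_inv_val, inv_inv, ← e1, ← e2]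
    show W x y 1 * (x (c : F) * y (-(c : F)⁻¹) * x (c : F)) * (W x y 1)⁻¹ = _
    group
  calc W x y 1 * H x y c * (W x y 1)⁻¹ = (W x y 1 * W x y (c : F) * (W x y 1)⁻¹) * (W x y 1)⁻¹ := by
        simp only [H]; group
    _ = _ := by rw [e]; rfl

theorem H_W (R : St x y) (c t : Fˣ) : H x y c * W x y t * (H x y c)⁻¹ = W x y ((c ^ 2 * t : Fˣ) : F) := by
  calc H x y c * W x y t * (H x y c)⁻¹
      = (H x y c * x (t : F) * (H x y c)⁻¹) * (H x y c * y (-(t : F)⁻¹) * (H x y c)⁻¹) *
          (H x y c * x (t : F) * (H x y c)⁻¹) := by simp only [W]; group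
    _ = _ := by
        rw [H_x R, H_y R]
        simp only [W, Units.val_mul, Units.val_pow_eq_pow_val]
        rw [show (c : F)⁻¹ ^ 2 * -(t : F)⁻¹ = -((c : F) ^ 2 * (t : F))⁻¹ by rw [mul_inv, inv_pow]; ring]

theorem H_sq_aux (R : St x y) (c t : Fˣ) : H x y (c ^ 2 * t) = H x y c * H x y t * (H x y c⁻¹)⁻¹ := by
  rw [← H_conjn R c]
  show W x y ((c ^ 2 * t : Fˣ) : F) * (W x y 1)⁻¹ = _
  rw [← H_W R c t]
  simp only [H]; group

variable [Finite F]

theorem H_comm (R : St x y) (a b : Fˣ) : H x y a * H x y b = H x y b * H x y a := by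
  have hz : ∀ a b : Fˣ, ∀ k : G, k * ((H x y a * H x y b)⁻¹ * H x y (a * b)) =
      ((H x y a * H x y b)⁻¹ * H x y (a * b)) * k := by
    intro a b
    refine R.gen _ (fun t => ?_) (fun t => ?_)
    · have h1 : H x y (a * b) * x t * (H x y (a * b))⁻¹ = H x y a * (H x y b * x t * (H x y b)⁻¹) * (H x y a)⁻¹ := by
        rw [H_x R, H_x R, H_x R, Units.val_mul]; congr 1; ring
      calc (H x y a * H x y b)⁻¹ * H x y (a * b) * x t
          = (H x y a * H x y b)⁻¹ * (H x y (a * b) * x t * (H x y (a * b))⁻¹) * H x y (a * b) := by group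
        _ = _ := by rw [h1]; group
    · have h1 : H x y (a * b) * y t * (H x y (a * b))⁻¹ = H x y a * (H x y b * y t * (H x y b)⁻¹) * (H x y a)⁻¹ := by
        rw [H_y R, H_y R, H_y R, Units.val_mul, mul_inv]; congr 1; ring
      calc (H x y a * H x y b)⁻¹ * H x y (a * b) * y t
          = (H x y a * H x y b)⁻¹ * (H x y (a * b) * y t * (H x y (a * b))⁻¹) * H x y (a * b) := by group
        _ = _ := by rw [h1]; group
  obtain ⟨g, hg⟩ := IsCyclic.exists_generator (α := Fˣ)
  have hk : ∀ k : ℕ, ∃ z : G, (∀ u : G, u * z = z * u) ∧ H x y (g ^ k) = H x y g ^ k * z := by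
    intro k
    induction k with
    | zero => exact ⟨1, fun u => by simp, by simp [H_one]⟩
    | succ k ih =>
      obtain ⟨z, hzc, hzk⟩ := ih
      refine ⟨z * ((H x y (g ^ k) * H x y g)⁻¹ * H x y (g ^ k * g)), fun u => ?_, ?_⟩
      · rw [← mul_assoc, hzc u, mul_assoc, hz _ _ u]
        simp only [mul_assoc]
      · rw [pow_succ g, ← mul_assoc, pow_succ (H x y g)]
        calc H x y (g ^ k * g)
            = (H x y (g ^ k) * H x y g) * ((H x y (g ^ k) * H x y g)⁻¹ * H x y (g ^ k * g)) := by group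
          _ = (H x y g ^ k * (z * H x y g)) * ((H x y (g ^ k) * H x y g)⁻¹ * H x y (g ^ k * g)) := by
              nth_rewrite 1 [hzk]; group
          _ = _ := by rw [← hzc]; group
  obtain ⟨i, rfl⟩ := (mem_powers_iff_mem_zpowers (x := g) (y := a)).2 (hg a)
  obtain ⟨j, rfl⟩ := (mem_powers_iff_mem_zpowers (x := g) (y := b)).2 (hg b)
  obtain ⟨z, hzc, ha⟩ := hk i
  obtain ⟨w, hwc, hb⟩ := hk j
  simp only
  rw [ha, hb]
  have c1 : Commute (H x y g ^ i * z) (H x y g ^ j * w) :=
    Commute.mul_left (Commute.mul_right (Commute.pow_pow (Commute.refl _) _ _) (hwc _)) (Commute.mul_right (hzc _).symm (hzc _).symm)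
  exact c1.eq

theorem H_sq (R : St x y) (c t : Fˣ) : H x y (c ^ 2 * t) = H x y (c ^ 2) * H x y t := by
  have h1 := H_sq_aux R c 1
  rw [mul_one, H_one, mul_one] at h1
  rw [H_sq_aux R, h1, mul_assoc, mul_assoc]
  congr 1
  have h : Commute (H x y t) (H x y c⁻¹) := H_comm R _ _
  exact h.inv_right.eq

theorem H_symbol (R : St x y) (t u : Fˣ) (htu : (t : F) + u = 1) : H x y (t * u) = H x y t * H x y u := by
  have ht := t.ne_zero
  have hu := u.ne_zero
  have htu0 : -((t : F) * u) ≠ 0 := neg_ne_zero.2 (mul_ne_zero ht hu)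
  have hu' : (u : F) = 1 - t := by linear_combination htu
  have e0 : ∀ s : F, s ≠ 0 → x s = y s⁻¹ * W x y s * y s⁻¹ := fun s hs => by
    rw [W_eq R hs, ← mul_assoc, ← mul_assoc, mul_assoc _ (y (-s⁻¹)) (y s⁻¹), R.yadd, R.yadd]
    simp [y_zero R]
  have e1 : W x y 1 = y ((u : F) / t) * W x y t * y ((t : F) * u)⁻¹ * W x y u * y ((t : F) / u) := by
    rw [W_eq R one_ne_zero, inv_one]
    nth_rewrite 2 [← htu]
    rw [← R.xadd, e0 _ ht, e0 _ hu]
    simp only [← mul_assoc]
    rw [R.yadd, mul_assoc _ (y (t : F)⁻¹) (y (u : F)⁻¹), R.yadd, mul_assoc _ (y (u : F)⁻¹) (y (-1)), R.yadd]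
    congr 1
    · congr 1
      congr 1
      · congr 2
        field_simp
        linear_combination -htu
      · congr 1
        field_simp
        linear_combination htu
    · congr 1
      field_simp
      linear_combination -htu
  have hwy : W x y (u : F) * y ((t : F) / u) = x (-((t : F) * u)) * W x y u := by
    rw [← show x (-((u : F) ^ 2 * ((t : F) / u))) = x (-((t : F) * u)) by congr 1; field_simp, ← conjWy R hu]
    group
  have hyx : y ((t : F) * u)⁻¹ * x (-((t : F) * u)) = W x y (-((t : F) * u)) * y (-((t : F) * u)⁻¹) := by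
    rw [W_eq R htu0, mul_assoc _ (y _) (y _), R.yadd, inv_neg, neg_neg, add_neg_cancel, y_zero R, mul_one]
  have hyW : y ((u : F) / t) * W x y t = W x y t * x (-((t : F) * u)) := by
    rw [W_x R ht, show -((t : F)⁻¹ ^ 2 * -((t : F) * u)) = (u : F) / t by field_simp]
  have hxW : x (-((t : F) * u)) * W x y (-((t : F) * u)) = W x y (-((t : F) * u)) * y ((t : F) * u)⁻¹ := by
    have h := conjWy R htu0 ((t : F) * u)⁻¹
    rw [show -((-((t : F) * u)) ^ 2 * ((t : F) * u)⁻¹) = -((t : F) * u) by field_simp] at h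
    rw [← h]; group
  have key : W x y 1 = W x y t * W x y (-((t : F) * u)) * W x y u := by
    calc W x y 1 = y ((u : F) / t) * W x y t * y ((t : F) * u)⁻¹ * (W x y u * y ((t : F) / u)) := by rw [e1]; group
      _ = W x y t * x (-((t : F) * u)) * (y ((t : F) * u)⁻¹ * x (-((t : F) * u))) * W x y u := by rw [hwy, hyW]; group
      _ = W x y t * (x (-((t : F) * u)) * W x y (-((t : F) * u))) * y (-((t : F) * u)⁻¹) * W x y u := by rw [hyx]; group
      _ = W x y t * W x y (-((t : F) * u)) * (y ((t : F) * u)⁻¹ * y (-((t : F) * u)⁻¹)) * W x y u := by rw [hxW]; group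
      _ = _ := by rw [R.yadd, add_neg_cancel, y_zero R, mul_one]
  rw [← W_inv R] at key
  have h2 : H x y t * (H x y (t * u))⁻¹ * H x y u = 1 := by
    simp only [H, Units.val_mul]
    calc _ = W x y t * (W x y ((t : F) * u))⁻¹ * W x y u * (W x y 1)⁻¹ := by group
      _ = 1 := by rw [← key, mul_inv_cancel]
  have h3 : H x y t = (H x y u)⁻¹ * H x y (t * u) := by
    calc H x y t = (H x y t * (H x y (t * u))⁻¹ * H x y u) * (H x y u)⁻¹ * H x y (t * u) := by group
      _ = _ := by rw [h2, one_mul]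
  rw [H_comm R t u, h3, mul_inv_cancel_left]

theorem exists_nonsquares (h : ∃ a : Fˣ, ¬ IsSquare a) :
    ∃ t u : Fˣ, ¬ IsSquare t ∧ ¬ IsSquare u ∧ (t : F) + u = 1 := by
  classical
  haveI := Fintype.ofFinite F
  obtain ⟨a, ha⟩ := h
  by_contra hcon
  push Not at hcon
  let S := Finset.univ.filter fun t : Fˣ => IsSquare t
  let N := Finset.univ.filter fun t : Fˣ => ¬ IsSquare t
  have hne : ∀ t : Fˣ, ¬ IsSquare t → (1 : F) - t ≠ 0 := fun t ht h0 => ht (by
    rw [show t = 1 from Units.ext (sub_eq_zero.1 h0).symm]; exact IsSquare.one)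
  have h1 : N.card ≤ (S.erase 1).card := by
    refine Finset.card_le_card_of_injOn (fun t => if h : (1 : F) - t ≠ 0 then Units.mk0 _ h else 1) ?_ ?_
    · intro t ht
      simp [N] at ht
      simp only [dif_pos (hne t ht)]
      simp only [Finset.coe_erase, Set.mem_diff, Set.mem_singleton_iff, Finset.mem_coe, S, Finset.mem_filter, Finset.mem_univ, true_and]
      refine ⟨?_, fun e => t.ne_zero (by simpa using congrArg Units.val e)⟩
      by_contra hsq
      exact hcon t _ ht hsq (by simp)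
    · intro s hs t ht e
      simp [N] at hs ht
      simp only [dif_pos (hne s hs), dif_pos (hne t ht)] at e
      exact Units.ext (by simpa using congrArg Units.val e)
  have h2 : S.card ≤ N.card := Finset.card_le_card_of_injOn (fun t => a * t)
    (fun t ht => by
      simp [S] at ht
      simp only [Finset.mem_coe, N, Finset.mem_filter, Finset.mem_univ, true_and]
      intro hsq
      exact ha (by simpa using hsq.mul ht.inv))
    (fun s _ t _ e => mul_left_cancel e)
  rw [Finset.card_erase_of_mem (by simp [S])] at h1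
  have : 0 < S.card := Finset.card_pos.2 ⟨1, by simp [S]⟩
  omega

theorem H_mul (R : St x y) (a b : Fˣ) : H x y (a * b) = H x y a * H x y b := by
  by_cases ha : IsSquare a
  · obtain ⟨c, rfl⟩ := ha
    rw [← pow_two]; exact H_sq R c b
  by_cases hb : IsSquare b
  · obtain ⟨c, rfl⟩ := hb
    rw [mul_comm a, H_comm R a, ← pow_two]; exact H_sq R c a
  obtain ⟨t, u, ht, hu, htu⟩ := exists_nonsquares (F := F) ⟨a, ha⟩
  have hr : ∀ s v : Fˣ, ¬ IsSquare s → ¬ IsSquare v → IsSquare (s * v) := by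
    haveI := Fintype.ofFinite F
    intro s v hs hv
    obtain ⟨g, hg⟩ := IsCyclic.exists_generator (α := Fˣ)
    obtain ⟨i, rfl⟩ := (mem_powers_iff_mem_zpowers (x := g) (y := s)).2 (hg s)
    obtain ⟨j, rfl⟩ := (mem_powers_iff_mem_zpowers (x := g) (y := v)).2 (hg v)
    have hi : ¬ Even i := fun h => hs (h.isSquare_pow g)
    have hj : ¬ Even j := fun h => hv (h.isSquare_pow g)
    show IsSquare (g ^ i * g ^ j)
    rw [← pow_add]
    exact (Even.isSquare_pow (Nat.even_add.2 (by simp [hi, hj])) g)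
  obtain ⟨c, hc⟩ : IsSquare (a * t⁻¹) := hr a t⁻¹ ha (fun h => ht (by simpa using h.inv))
  obtain ⟨d, hd⟩ : IsSquare (b * u⁻¹) := hr b u⁻¹ hb (fun h => hu (by simpa using h.inv))
  have ea : a = c ^ 2 * t := by rw [pow_two, ← hc, inv_mul_cancel_right]
  have eb : b = d ^ 2 * u := by rw [pow_two, ← hd, inv_mul_cancel_right]
  rw [ea, eb, show c ^ 2 * t * (d ^ 2 * u) = (c * d) ^ 2 * (t * u) by rw [mul_pow, mul_mul_mul_comm],
    H_sq R, H_symbol R t u htu, mul_pow, H_sq R, H_sq R, H_sq R]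
  have h : Commute (H x y (d ^ 2)) (H x y t) := H_comm R _ _
  rw [mul_assoc, mul_assoc, ← mul_assoc (H x y (d ^ 2)), h.eq, mul_assoc]

theorem exists_hom (R : St x y) :
    ∃ φ : Matrix.SpecialLinearGroup (Fin 2) F →* G, (∀ t, φ (SL2Lift.xM t) = x t) ∧ ∀ t, φ (SL2Lift.yM t) = y t := by
  let h : Fˣ →* G := ⟨⟨H x y, H_one⟩, H_mul R⟩
  exact SL2Lift.exists_hom (n := W x y 1) (h := h)
    ⟨R.xadd, R.yadd, by simp [W], fun t => by rw [R.rel 1 t one_ne_zero]; simp, fun c => rfl, H_x R⟩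

abbrev Rels (F : Type*) [Field F] : Set (FreeGroup (Bool × F)) :=
  {g : FreeGroup (Bool × F) | ∃ (b : Bool) (t u : F), g = FreeGroup.of (b, t) * FreeGroup.of (b, u) * (FreeGroup.of (b, t + u))⁻¹} ∪
    {g | ∃ (b : Bool) (t u : F), t ≠ 0 ∧
      g = (FreeGroup.of (b, t) * FreeGroup.of (!b, -t⁻¹) * FreeGroup.of (b, t)) * FreeGroup.of (b, u) *
            (FreeGroup.of (b, t) * FreeGroup.of (!b, -t⁻¹) * FreeGroup.of (b, t))⁻¹ * (FreeGroup.of (!b, -(t⁻¹ ^ 2 * u)))⁻¹}

theorem presentation : ∃ e : PresentedGroup (Rels F) ≃* Matrix.SpecialLinearGroup (Fin 2) F,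
      (∀ t : F, ((e (PresentedGroup.of (true, t)) : Matrix (Fin 2) (Fin 2) F)) = !![1, t; 0, 1]) ∧
      (∀ t : F, ((e (PresentedGroup.of (false, t)) : Matrix (Fin 2) (Fin 2) F)) = !![1, 0; t, 1]) := by
  let f : Bool × F → Matrix.SpecialLinearGroup (Fin 2) F := fun p => cond p.1 (SL2Lift.xM p.2) (SL2Lift.yM p.2)
  have hf : ∀ r ∈ Rels F, FreeGroup.lift f r = 1 := by
    rintro _ (⟨b, t, u, rfl⟩ | ⟨b, t, u, ht, rfl⟩) <;>
      simp only [map_mul, map_inv, FreeGroup.lift_apply_of] <;> rw [mul_inv_eq_one]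
    · apply Subtype.ext
      rw [Matrix.SpecialLinearGroup.coe_mul]
      cases b <;> simp [f, SL2Lift.xM_val, SL2Lift.yM_val, Matrix.mul_fin_two, add_comm]
    · rw [mul_inv_eq_iff_eq_mul]
      apply Subtype.ext
      simp only [Matrix.SpecialLinearGroup.coe_mul]
      cases b <;> simp [f, SL2Lift.xM_val, SL2Lift.yM_val, Matrix.mul_fin_two, ht] <;>
        (try constructor) <;> (try constructor) <;> field_simp <;> ring
  let e : PresentedGroup (Rels F) →* Matrix.SpecialLinearGroup (Fin 2) F := PresentedGroup.toGroup hf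
  let x : F → PresentedGroup (Rels F) := fun t => PresentedGroup.of (true, t)
  let y : F → PresentedGroup (Rels F) := fun t => PresentedGroup.of (false, t)
  have hadd : ∀ b a c, (PresentedGroup.of (b, a) : PresentedGroup (Rels F)) * PresentedGroup.of (b, c) = PresentedGroup.of (b, a + c) := by
    intro b a c
    have h := PresentedGroup.one_of_mem (rels := Rels F) (Or.inl ⟨b, a, c, rfl⟩ : _ ∈ Rels F)
    simp only [map_mul, map_inv] at h
    exact mul_inv_eq_one.1 h
  have R : St x y := by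
    refine ⟨hadd true, hadd false, fun t u ht => ?_, fun z hzx hzy => ?_⟩
    · have h := PresentedGroup.one_of_mem (rels := Rels F) (Or.inr ⟨true, t, u, ht, rfl⟩ : _ ∈ Rels F)
      simp only [map_mul, map_inv] at h
      exact mul_inv_eq_one.1 h
    · intro g
      have : g ∈ Subgroup.centralizer ({z} : Set (PresentedGroup (Rels F))) := by
        refine (Subgroup.closure_le _).2 ?_ ((PresentedGroup.closure_range_of (Rels F)).symm ▸ Subgroup.mem_top g)
        rintro _ ⟨⟨b, t⟩, rfl⟩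
        rw [SetLike.mem_coe, Subgroup.mem_centralizer_singleton_iff]
        cases b
        · exact (hzy t).symm
        · exact (hzx t).symm
      exact Subgroup.mem_centralizer_singleton_iff.1 this
  obtain ⟨φ, hx, hy⟩ := exists_hom R
  have he1 : φ.comp e = MonoidHom.id _ := by
    refine PresentedGroup.ext fun p => ?_
    rcases p with ⟨b, t⟩
    cases b <;> simp [e, f, x, y, hx, hy]
  have he2 : e.comp φ = MonoidHom.id _ := by
    have hs : ∀ g, g ∈ Subgroup.closure (Set.insert SL2Lift.wM (Set.range (SL2Lift.xM (F := F)))) := fun g => by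
      rw [SL2Lift.gen]; trivial
    have hxx : ∀ t, e (φ (SL2Lift.xM t)) = SL2Lift.xM t := fun t => by simp [e, f, x, hx]
    have hyy : ∀ t, e (φ (SL2Lift.yM t)) = SL2Lift.yM t := fun t => by simp [e, f, y, hy]
    refine MonoidHom.ext fun g => ?_
    refine (Subgroup.closure_le (MonoidHom.eqLocus (e.comp φ) (MonoidHom.id _))).2 ?_ (hs g)
    rintro _ (rfl | ⟨t, rfl⟩)
    · show e (φ SL2Lift.wM) = SL2Lift.wM
      have hw : (SL2Lift.wM : Matrix.SpecialLinearGroup (Fin 2) F) = SL2Lift.xM 1 * SL2Lift.yM (-1) * SL2Lift.xM 1 := by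
        apply Subtype.ext
        ext i j; fin_cases i <;> fin_cases j <;>
          simp [SL2Lift.wM_val, SL2Lift.xM_val, SL2Lift.yM_val, Matrix.SpecialLinearGroup.coe_mul, Matrix.mul_apply, Fin.sum_univ_two]
      rw [hw, map_mul, map_mul, map_mul, map_mul, hxx, hyy]
    · exact hxx t
  refine ⟨MonoidHom.toMulEquiv e φ he1 he2, fun t => ?_, fun t => ?_⟩
  · simp [MonoidHom.toMulEquiv, e, f, SL2Lift.xM_val]
  · simp [MonoidHom.toMulEquiv, e, f, SL2Lift.yM_val]

end CfsgLib.Misc.SL2Presentation
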