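import Mathlib

/-!
Class numbers of GL_2 and of SL_2 in even characteristic.
-/

set_option autoImplicit false
set_option linter.unusedSectionVars false

namespace CfsgLib.MiscClassesTwo

open Matrix

variable {F : Type*} [Field F]

abbrev comp (t d : F) : Matrix (Fin 2) (Fin 2) F := !![0, -d; 1, t]

theorem exists_conj (M : Matrix (Fin 2) (Fin 2) F) :
    (∃ c : F, M = c • (1 : Matrix (Fin 2) (Fin 2) F)) ∨
    ∃ P : GL (Fin 2) F, M * (P : Matrix (Fin 2) (Fin 2) F) = (P : Matrix (Fin 2) (Fin 2) F) * comp M.trace M.det := by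
  classical
  let P : F → F → Matrix (Fin 2) (Fin 2) F := fun x y => !![x, M 0 0 * x + M 0 1 * y; y, M 1 0 * x + M 1 1 * y]
  have hP : ∀ x y, M * P x y = P x y * comp M.trace M.det := fun x y => by
    ext i j
    fin_cases i <;> fin_cases j <;> simp [P, Matrix.mul_apply, Fin.sum_univ_two, Matrix.trace_fin_two, Matrix.det_fin_two] <;> ring
  by_cases h : (P 1 0).det = 0 ∧ (P 0 1).det = 0 ∧ (P 1 1).det = 0
  · left
    obtain ⟨h1, h2, h3⟩ := h
    simp [P, Matrix.det_fin_two] at h1 h2 h3
    refine ⟨M 0 0, ?_⟩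
    ext i j
    fin_cases i <;> fin_cases j <;> simp
    · exact h2
    · exact h1
    · linear_combination h3 - h1 + h2
  · right
    simp only [not_and_or] at h
    rcases h with h | h | h
    all_goals exact ⟨Matrix.GeneralLinearGroup.mkOfDetNeZero _ h, hP _ _⟩

variable [Fintype F]

theorem trace_det_conj {g h : GL (Fin 2) F} (e : IsConj g h) :
    (g : Matrix (Fin 2) (Fin 2) F).trace = (h : Matrix (Fin 2) (Fin 2) F).trace ∧
      (g : Matrix (Fin 2) (Fin 2) F).det = (h : Matrix (Fin 2) (Fin 2) F).det := by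
  obtain ⟨c, rfl⟩ := isConj_iff.1 e
  rw [Units.val_mul, Units.val_mul, Matrix.trace_units_conj, Matrix.det_units_conj]
  exact ⟨rfl, rfl⟩

theorem comp_ne_scalar (t d c : F) : comp t d ≠ c • (1 : Matrix (Fin 2) (Fin 2) F) := fun h => by
  simpa using congrFun (congrFun h 1) 0

theorem card_GL : Nat.card (ConjClasses (GL (Fin 2) F)) = Fintype.card F ^ 2 - 1 := by
  classical
  let sc : Fˣ → GL (Fin 2) F := fun c => GeneralLinearGroup.mkOfDetNeZero ((c : F) • 1) (by simp)
  let cp : F × Fˣ → GL (Fin 2) F := fun x => GeneralLinearGroup.mkOfDetNeZero (comp x.1 (x.2 : F))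
    (by simp [Matrix.det_fin_two])
  have hsc : ∀ (c : Fˣ) (g : GL (Fin 2) F), IsConj (sc c) g → g = sc c := by
    intro c g h
    obtain ⟨u, rfl⟩ := isConj_iff.1 h
    refine mul_inv_eq_of_eq_mul (Units.ext ?_)
    show (u : Matrix (Fin 2) (Fin 2) F) * ((c : F) • 1) = ((c : F) • 1) * (u : Matrix (Fin 2) (Fin 2) F)
    simp
  let Φ : Fˣ ⊕ (F × Fˣ) → ConjClasses (GL (Fin 2) F) :=
    Sum.elim (fun c => ConjClasses.mk (sc c)) (fun x => ConjClasses.mk (cp x))
  have hbij : Function.Bijective Φ := by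
    constructor
    · rintro (c | ⟨t, d⟩) (c' | ⟨t', d'⟩) h <;>
        simp only [Φ, Sum.elim_inl, Sum.elim_inr] at h <;> rw [ConjClasses.mk_eq_mk_iff_isConj] at h
      · have := congrArg (fun g : GL (Fin 2) F => (g : Matrix (Fin 2) (Fin 2) F) 0 0) (hsc c _ h)
        simp [sc] at this
        exact congrArg Sum.inl (Units.ext this.symm)
      · exact absurd (congrArg (fun g : GL (Fin 2) F => (g : Matrix (Fin 2) (Fin 2) F)) (hsc c _ h)) (comp_ne_scalar _ _ _)
      · exact absurd (congrArg (fun g : GL (Fin 2) F => (g : Matrix (Fin 2) (Fin 2) F)) (hsc c' _ h.symm)) (comp_ne_scalar _ _ _)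
      · obtain ⟨ht, hd⟩ := trace_det_conj h
        simp [cp, Matrix.trace_fin_two, Matrix.det_fin_two] at ht hd
        rw [ht, Units.ext hd]
    · intro C
      obtain ⟨g, rfl⟩ := ConjClasses.mk_surjective C
      rcases exists_conj (g : Matrix (Fin 2) (Fin 2) F) with ⟨c, hc⟩ | ⟨P, hP⟩
      · have hc0 : c ≠ 0 := fun h => (GeneralLinearGroup.det g).ne_zero (by
          show (g : Matrix (Fin 2) (Fin 2) F).det = 0
          rw [hc, h]; simp)
        exact ⟨Sum.inl (Units.mk0 c hc0), congrArg ConjClasses.mk (Units.ext hc.symm)⟩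
      · refine ⟨Sum.inr ((g : Matrix (Fin 2) (Fin 2) F).trace, GeneralLinearGroup.det g),
          ConjClasses.mk_eq_mk_iff_isConj.2 (isConj_iff.2 ⟨P, mul_inv_eq_of_eq_mul (Units.ext ?_)⟩)⟩
        exact hP.symm
  rw [← Nat.card_eq_of_bijective Φ hbij, Nat.card_sum, Nat.card_prod, Nat.card_units, Nat.card_eq_fintype_card]
  have : 2 ≤ Fintype.card F := Fintype.one_lt_card
  obtain ⟨k, hk⟩ : ∃ k, Fintype.card F = k + 1 := ⟨Fintype.card F - 1, by omega⟩
  rw [hk, Nat.add_sub_cancel]
  have e : (k + 1) ^ 2 = k + (k + 1) * k + 1 := by ring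
  omega

theorem card_SL [CharP F 2] : Nat.card (ConjClasses (SpecialLinearGroup (Fin 2) F)) = Fintype.card F + 1 := by
  classical
  let cp : F → SpecialLinearGroup (Fin 2) F := fun t => ⟨comp t 1, by simp [Matrix.det_fin_two]⟩
  let Φ : Option F → ConjClasses (SpecialLinearGroup (Fin 2) F) := fun o =>
    o.elim (ConjClasses.mk 1) (fun t => ConjClasses.mk (cp t))
  have hbij : Function.Bijective Φ := by
    constructor
    · rintro (_ | t) (_ | t') h <;> simp only [Φ, Option.elim] at h
      · rfl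
      · rw [ConjClasses.mk_eq_mk_iff_isConj, isConj_one_right] at h
        exact absurd (congrArg Subtype.val h) (fun e => comp_ne_scalar t' 1 1 (by rw [one_smul]; simpa [cp] using e))
      · rw [ConjClasses.mk_eq_mk_iff_isConj, isConj_one_left] at h
        exact absurd (congrArg Subtype.val h) (fun e => comp_ne_scalar t 1 1 (by rw [one_smul]; simpa [cp] using e))
      · have hc := ((Matrix.SpecialLinearGroup.toGL).map_isConj (ConjClasses.mk_eq_mk_iff_isConj.1 h))
        obtain ⟨ht, -⟩ := trace_det_conj hc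
        change (comp t 1).trace = (comp t' 1).trace at ht
        simp [Matrix.trace_fin_two] at ht
        rw [ht]
    · intro C
      obtain ⟨g, rfl⟩ := ConjClasses.mk_surjective C
      rcases exists_conj (g : Matrix (Fin 2) (Fin 2) F) with ⟨c, hc⟩ | ⟨P, hP⟩
      · refine ⟨none, congrArg ConjClasses.mk ?_⟩
        have h := g.2
        rw [hc, Matrix.det_smul, Matrix.det_one, mul_one, Fintype.card_fin, sq_eq_one_iff, CharTwo.neg_eq, or_self] at h
        exact Subtype.ext (by rw [hc, h, one_smul]; rfl)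
      · refine ⟨some (g : Matrix (Fin 2) (Fin 2) F).trace, ConjClasses.mk_eq_mk_iff_isConj.2 ?_⟩
        haveI : Finite F := Finite.of_fintype F
        obtain ⟨s, hs⟩ := (frobeniusEquiv F 2).surjective (P : Matrix (Fin 2) (Fin 2) F).det⁻¹
        rw [frobeniusEquiv_apply, frobenius_def] at hs
        have hd : (P : Matrix (Fin 2) (Fin 2) F).det ≠ 0 := (GeneralLinearGroup.det P).ne_zero
        let u : SpecialLinearGroup (Fin 2) F := ⟨s • (P : Matrix (Fin 2) (Fin 2) F), by
          rw [Matrix.det_smul, Fintype.card_fin, hs, inv_mul_cancel₀ hd]⟩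
        refine isConj_iff.2 ⟨u, mul_inv_eq_of_eq_mul (Subtype.ext ?_)⟩
        show (s • (P : Matrix (Fin 2) (Fin 2) F)) * comp _ 1 = (g : Matrix (Fin 2) (Fin 2) F) * (s • (P : Matrix (Fin 2) (Fin 2) F))
        rw [Matrix.smul_mul, Matrix.mul_smul, hP, g.2]
  rw [← Nat.card_eq_of_bijective Φ hbij, Finite.card_option, Nat.card_eq_fintype_card]

end CfsgLib.MiscClassesTwo
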