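import Mathlib
import Cfsg.Agent.Lie.Sp

/-!
Regular nilpotent endomorphisms: invariant subspaces, centralisers; forms fixed by a symplectic map in
characteristic two.
-/

set_option autoImplicit false
set_option linter.unusedSectionVars false

namespace CfsgLib.MiscRegular

open Module

section General

variable {F V : Type*} [Field F] [AddCommGroup V] [Module F V] [FiniteDimensional F V]

theorem le_ker_pow {N : V →ₗ[F] V} (hnil : IsNilpotent N) {W : Submodule F V} (hW : ∀ v ∈ W, N v ∈ W) :
    W ≤ LinearMap.ker (N ^ finrank F W) := by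
  intro v hv
  have hr : IsNilpotent (N.restrict hW) := Module.End.isNilpotent.restrict hW hnil
  have h := LinearMap.aeval_self_charpoly (N.restrict hW)
  rw [IsNilpotent.charpoly_eq_X_pow_finrank hr, map_pow, Polynomial.aeval_X,
    Module.End.pow_restrict] at h
  have := congrArg Subtype.val (LinearMap.congr_fun h ⟨v, hv⟩)
  simpa using this

theorem finrank_ker_pow {N : V →ₗ[F] V} (hk : finrank F (LinearMap.ker N) ≤ 1) (k : ℕ) :
    finrank F (LinearMap.ker (N ^ k)) ≤ k := by
  induction k with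
  | zero => simp [pow_zero, Module.End.one_eq_id]
  | succ k ih =>
    have hmem : ∀ v ∈ LinearMap.ker (N ^ (k + 1)), N v ∈ LinearMap.ker (N ^ k) := fun v hv => by
      rw [LinearMap.mem_ker] at hv ⊢
      rw [pow_succ, Module.End.mul_apply] at hv
      exact hv
    have h := LinearMap.finrank_range_add_finrank_ker (N.restrict hmem)
    have h1 : finrank F (LinearMap.range (N.restrict hmem)) ≤ k :=
      (Submodule.finrank_le _).trans ih
    have h2 : finrank F (LinearMap.ker (N.restrict hmem)) ≤ finrank F (LinearMap.ker N) := by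
      let f : LinearMap.ker (N.restrict hmem) →ₗ[F] LinearMap.ker N :=
        LinearMap.codRestrict _ ((Submodule.subtype _).comp (Submodule.subtype _))
          (fun x => LinearMap.mem_ker.2 (congrArg Subtype.val (LinearMap.mem_ker.1 x.2)))
      refine LinearMap.finrank_le_finrank_of_injective (f := f) ?_
      intro x y e
      have e1 := congrArg Subtype.val e
      exact Subtype.ext (Subtype.ext e1)
    omega

theorem eq_ker_pow {N : V →ₗ[F] V} (hnil : IsNilpotent N) (hk : finrank F (LinearMap.ker N) ≤ 1)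
    {W : Submodule F V} (hW : ∀ v ∈ W, N v ∈ W) : W = LinearMap.ker (N ^ finrank F W) :=
  Submodule.eq_of_le_of_finrank_le (le_ker_pow hnil hW) (finrank_ker_pow hk _)

theorem eq_top_of_not_range {N : V →ₗ[F] V} (hnil : IsNilpotent N) (hk : finrank F (LinearMap.ker N) = 1)
    {W : Submodule F V} (hW : ∀ v ∈ W, N v ∈ W) {v : V} (hv : v ∈ W) (hv' : v ∉ LinearMap.range N) : W = ⊤ := by
  set n := finrank F V
  by_contra hne
  have hlt : finrank F W < n := Submodule.finrank_lt hne
  have hrange : LinearMap.range N = LinearMap.ker (N ^ (n - 1)) := by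
    have h := LinearMap.finrank_range_add_finrank_ker N
    have e := eq_ker_pow hnil hk.le (W := LinearMap.range N) fun x _ => LinearMap.mem_range_self N x
    rw [show finrank F (LinearMap.range N) = n - 1 by omega] at e
    exact e
  apply hv'
  rw [hrange, LinearMap.mem_ker]
  have h0 := LinearMap.mem_ker.1 (le_ker_pow hnil hW hv)
  obtain ⟨j, hj⟩ : ∃ j, n - 1 = j + finrank F W := ⟨n - 1 - finrank F W, by omega⟩
  rw [hj, pow_add, Module.End.mul_apply, h0, map_zero]

theorem card_commutant [Fintype F] {N : V →ₗ[F] V} (hnil : IsNilpotent N)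
    (hk : finrank F (LinearMap.ker N) = 1) :
    Nat.card {g : V ≃ₗ[F] V // ∀ x, g (N x) = N (g x)} =
      (Fintype.card F - 1) * Fintype.card F ^ (finrank F V - 1) := by
  classical
  haveI : Finite V := Module.finite_of_finite F
  have h := LinearMap.finrank_range_add_finrank_ker N
  set n := finrank F V
  have hn : 1 ≤ n := by omega
  obtain ⟨v, hv⟩ : ∃ v : V, v ∉ LinearMap.range N := by
    by_contra hall
    push Not at hall
    have : LinearMap.range N = ⊤ := eq_top_iff.2 fun x _ => hall x
    rw [this, finrank_top] at h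
    omega
  let f : {g : V ≃ₗ[F] V // ∀ x, g (N x) = N (g x)} → {w : V // w ∉ LinearMap.range N} :=
    fun g => ⟨g.1 v, fun ⟨y, hy⟩ => hv ⟨g.1.symm y, g.1.injective (by rw [g.2, g.1.apply_symm_apply, hy])⟩⟩
  have hf : Function.Bijective f := by
    constructor
    · rintro ⟨g, hg⟩ ⟨g', hg'⟩ e
      have e' : g v = g' v := congrArg Subtype.val e
      have htop := eq_top_of_not_range hnil hk (W := LinearMap.eqLocus g.toLinearMap g'.toLinearMap)
        (fun x hx => by
          show g (N x) = g' (N x)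
          rw [hg, hg']
          exact congrArg N hx)
        (v := v) e' hv
      refine Subtype.ext (LinearEquiv.ext fun x => ?_)
      have hx : x ∈ LinearMap.eqLocus g.toLinearMap g'.toLinearMap := htop ▸ Submodule.mem_top
      exact hx
    · rintro ⟨w, hw⟩
      let ev : Polynomial F →ₗ[F] V := (LinearMap.applyₗ v).comp (Polynomial.aeval N).toLinearMap
      have hev : ∀ p, ev p = Polynomial.aeval N p v := fun p => rfl
      have htop : LinearMap.range ev = ⊤ := by
        refine eq_top_of_not_range hnil hk ?_ (v := v) ⟨1, by simp [hev]⟩ hv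
        rintro _ ⟨p, rfl⟩
        exact ⟨Polynomial.X * p, by simp [hev, map_mul]⟩
      obtain ⟨p, hp⟩ := (htop ▸ Submodule.mem_top : w ∈ LinearMap.range ev)
      rw [hev] at hp
      set g := Polynomial.aeval N p
      have hc : ∀ x, g (N x) = N (g x) := fun x => by
        show (g * N) x = (N * g) x
        rw [show g * N = N * g by
          rw [← Polynomial.aeval_X (R := F) N, ← map_mul, ← map_mul, mul_comm]]
      have hsurj : Function.Surjective g := by
        rw [← LinearMap.range_eq_top]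
        refine eq_top_of_not_range hnil hk ?_ (v := w) ⟨v, hp⟩ hw
        rintro _ ⟨x, rfl⟩
        exact ⟨N x, hc x⟩
      exact ⟨⟨LinearEquiv.ofBijective g ⟨LinearMap.injective_iff_surjective.2 hsurj, hsurj⟩, hc⟩, Subtype.ext hp⟩
  rw [Nat.card_eq_of_bijective f hf]
  have hsum : Nat.card {w : V // w ∉ LinearMap.range N} + Nat.card (LinearMap.range N) = Nat.card V := by
    rw [← Nat.card_congr (Equiv.sumCompl fun w : V => w ∈ LinearMap.range N), Nat.card_sum, add_comm]
  rw [Module.natCard_eq_pow_finrank (K := F) (V := LinearMap.range N), Module.natCard_eq_pow_finrank (K := F) (V := V),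
    Nat.card_eq_fintype_card (α := F), show finrank F (LinearMap.range N) = n - 1 by omega] at hsum
  have hq : Fintype.card F ^ finrank F V = Fintype.card F * Fintype.card F ^ (n - 1) := by
    rw [← pow_succ']
    congr 1
    show n = n - 1 + 1
    omega
  rw [hq] at hsum
  show _ = (Fintype.card F - 1) * Fintype.card F ^ (n - 1)
  rw [Nat.sub_mul, one_mul]
  omega

end General

section Mat

open Matrix

variable {F : Type*} [Field F] {ι : Type*} [Fintype ι] [DecidableEq ι]

theorem nil_mulVecLin {A : Matrix ι ι F} {k : ℕ} (h : A ^ k = 0) : IsNilpotent (Matrix.mulVecLin A) :=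
  ⟨k, by rw [← Matrix.toLin'_apply', ← Matrix.toLin'_pow, h, map_zero]⟩

theorem ker_mulVecLin {A : Matrix ι ι F} (h : A.rank = Fintype.card ι - 1) :
    finrank F (LinearMap.ker (Matrix.mulVecLin A)) ≤ 1 := by
  have := LinearMap.finrank_range_add_finrank_ker (Matrix.mulVecLin A)
  rw [Module.finrank_pi, show finrank F (LinearMap.range A.mulVecLin) = A.rank from rfl, h] at this
  omega

theorem invariant_eq_ker {n : ℕ} (u : Matrix (Fin n) (Fin n) F) (hnil : (u - 1) ^ n = 0)
    (hreg : (u - 1).rank = n - 1) (W : Submodule F (Fin n → F)) (hW : ∀ v ∈ W, u.mulVec v ∈ W) :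
    W = LinearMap.ker (Matrix.mulVecLin ((u - 1) ^ finrank F W)) := by
  rw [← Matrix.toLin'_apply', Matrix.toLin'_pow, Matrix.toLin'_apply']
  refine eq_ker_pow (nil_mulVecLin hnil) (ker_mulVecLin (by rwa [Fintype.card_fin])) fun v hv => ?_
  rw [Matrix.mulVecLin_apply, Matrix.sub_mulVec, Matrix.one_mulVec]
  exact sub_mem (hW v hv) hv

theorem symp_isotropic {m : ℕ} (u : Matrix.symplecticGroup (Fin m) F)
    (hnil : ((u : Matrix (Fin m ⊕ Fin m) (Fin m ⊕ Fin m) F) - 1) ^ (2 * m) = 0)
    (hreg : ((u : Matrix (Fin m ⊕ Fin m) (Fin m ⊕ Fin m) F) - 1).rank = 2 * m - 1)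
    (W : Submodule F (Fin m ⊕ Fin m → F))
    (hW : ∀ v ∈ W, (u : Matrix (Fin m ⊕ Fin m) (Fin m ⊕ Fin m) F).mulVec v ∈ W)
    (hdim : 2 * finrank F W ≤ 2 * m) : ∀ v ∈ W, ∀ w ∈ W, Cfsg.sympForm m F v w = 0 := by
  set U := (u : Matrix (Fin m ⊕ Fin m) (Fin m ⊕ Fin m) F)
  set N := Matrix.mulVecLin (U - 1)
  have hN : ∀ x, N x = U.mulVec x - x := fun x => by
    rw [Matrix.mulVecLin_apply, Matrix.sub_mulVec, Matrix.one_mulVec]
  have hn : IsNilpotent N := nil_mulVecLin hnil
  have hk : finrank F (LinearMap.ker N) ≤ 1 := ker_mulVecLin (by simp [two_mul] at hreg ⊢; exact hreg)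
  have hWN : ∀ v ∈ W, N v ∈ W := fun v hv => by rw [hN]; exact sub_mem (hW v hv) hv
  let P := LinearMap.BilinForm.orthogonal (CfsgLib.Lie.Sp.bf m F) W
  have hpres : ∀ x y, CfsgLib.Lie.Sp.bf m F (U.mulVec x) (U.mulVec y) = CfsgLib.Lie.Sp.bf m F x y := by
    intro x y
    exact CfsgLib.Lie.Sp.mem_iff_bf.1 u.2 x y
  have hPN : ∀ v ∈ P, N v ∈ P := by
    intro v hv
    rw [LinearMap.BilinForm.mem_orthogonal_iff] at hv ⊢
    intro w hw
    have hsurj : ∃ w' ∈ W, U.mulVec w' = w := by
      have hinj : Function.Injective ((Matrix.mulVecLin U).restrict hW) := by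
        intro a b e
        have e' : U.mulVec a.1 = U.mulVec b.1 := congrArg Subtype.val e
        refine Subtype.ext (funext fun i => ?_)
        have e2 : ∀ x, CfsgLib.Lie.Sp.bf m F x a.1 = CfsgLib.Lie.Sp.bf m F x b.1 := fun x => by
          rw [← hpres x a.1, ← hpres x b.1, e']
        rcases i with i | i
        · have := e2 (CfsgLib.Lie.Sp.f i)
          rwa [CfsgLib.Lie.Sp.bf_f_left, CfsgLib.Lie.Sp.bf_f_left] at this
        · have := e2 (CfsgLib.Lie.Sp.e i)
          rw [CfsgLib.Lie.Sp.bf_e_left, CfsgLib.Lie.Sp.bf_e_left] at this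
          exact neg_injective this
      obtain ⟨w', hw'⟩ := LinearMap.injective_iff_surjective.1 hinj ⟨w, hw⟩
      exact ⟨w'.1, w'.2, congrArg Subtype.val hw'⟩
    obtain ⟨w', hw', rfl⟩ := hsurj
    show CfsgLib.Lie.Sp.bf m F (U.mulVec w') (N v) = 0
    have h1 : CfsgLib.Lie.Sp.bf m F w' v = 0 := hv w' hw'
    have h2 : CfsgLib.Lie.Sp.bf m F (U.mulVec w') v = 0 := hv _ (hW w' hw')
    rw [hN, map_sub, hpres, h1, h2, sub_zero]
  have hP : finrank F W + finrank F P ≥ 2 * m := by
    have h1 : P = W.dualAnnihilator.comap (CfsgLib.Lie.Sp.bf m F).flip := by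
      ext x
      simp only [P, LinearMap.BilinForm.mem_orthogonal_iff, Submodule.mem_comap, Submodule.mem_dualAnnihilator,
        LinearMap.flip_apply]
    have h2 := LinearMap.finrank_range_add_finrank_ker
      (((W.subtype).dualMap).comp (CfsgLib.Lie.Sp.bf m F).flip)
    have h3 : LinearMap.ker (((W.subtype).dualMap).comp (CfsgLib.Lie.Sp.bf m F).flip) = P := by
      rw [LinearMap.ker_comp, LinearMap.ker_dualMap_eq_dualAnnihilator_range, Submodule.range_subtype, h1]
    have h4 := Submodule.finrank_le (LinearMap.range (((W.subtype).dualMap).comp (CfsgLib.Lie.Sp.bf m F).flip))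
    rw [Subspace.dual_finrank_eq] at h4
    rw [h3, Module.finrank_pi, Fintype.card_sum, Fintype.card_fin] at h2
    omega
  intro v hv w hw
  rw [← CfsgLib.Lie.Sp.bf_eq]
  have hw' : w ∈ P := by
    rw [eq_ker_pow hn hk hPN, LinearMap.mem_ker]
    have h0 := LinearMap.mem_ker.1 (le_ker_pow hn hWN hw)
    obtain ⟨j, hj⟩ : ∃ j, finrank F P = j + finrank F W := ⟨finrank F P - finrank F W, by omega⟩
    rw [hj, pow_add, Module.End.mul_apply, h0, map_zero]
  exact (LinearMap.BilinForm.mem_orthogonal_iff.1 hw') v hv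

theorem centralizer_regular [Fintype F] {q n : ℕ} (hF : Fintype.card F = q) (hn : 1 ≤ n) (u : GL (Fin n) F)
    (hnil : ((u : Matrix (Fin n) (Fin n) F) - 1) ^ n = 0) (hreg : ((u : Matrix (Fin n) (Fin n) F) - 1).rank = n - 1) :
    Nat.card ↥(Subgroup.centralizer ({u} : Set (GL (Fin n) F))) = (q - 1) * q ^ (n - 1) := by
  classical
  set N := Matrix.mulVecLin ((u : Matrix (Fin n) (Fin n) F) - 1) with hNdef
  have hk : finrank F (LinearMap.ker N) = 1 := by
    have := LinearMap.finrank_range_add_finrank_ker N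
    rw [Module.finrank_fin_fun, show finrank F (LinearMap.range N) = _ from rfl, hNdef] at this
    have h2 : finrank F (LinearMap.range N) = n - 1 := hreg
    rw [← hNdef] at this
    omega
  let e : GL (Fin n) F ≃* ((Fin n → F) ≃ₗ[F] (Fin n → F)) :=
    Matrix.GeneralLinearGroup.toLin.trans (LinearMap.GeneralLinearGroup.generalLinearEquiv F (Fin n → F))
  have he : ∀ g x, e g x = (g : Matrix (Fin n) (Fin n) F).mulVec x := fun g x => rfl
  have hiff : ∀ g : GL (Fin n) F, g ∈ Subgroup.centralizer ({u} : Set (GL (Fin n) F)) ↔ ∀ x, e g (N x) = N (e g x) := by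
    intro g
    rw [Subgroup.mem_centralizer_singleton_iff, Units.ext_iff, Units.val_mul, Units.val_mul]
    constructor
    · intro h x
      simp only [hNdef, he, Matrix.mulVecLin_apply, Matrix.mulVec_mulVec, Matrix.mulVec_sub, mul_sub, sub_mul, mul_one, one_mul, h]
    · intro h
      refine Matrix.ext_of_mulVec_single fun i => ?_
      have h1 := h (Pi.single i 1)
      simp only [hNdef, he, Matrix.mulVecLin_apply, Matrix.mulVec_mulVec, mul_sub, sub_mul, mul_one, one_mul,
        Matrix.mulVec_sub, Matrix.one_mulVec, Matrix.sub_mulVec, sub_left_inj] at h1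
      exact h1
  rw [Nat.card_congr (Equiv.subtypeEquiv e.toEquiv (q := fun g => ∀ x, g (N x) = N (g x)) hiff),
    card_commutant (nil_mulVecLin hnil) hk, hF, Module.finrank_fin_fun]

theorem exists_form [Finite F] [CharP F 2] {m : ℕ} (A : Matrix.symplecticGroup (Fin m) F) :
    ∃ Q : QuadraticForm F (Fin m ⊕ Fin m → F),
      (∀ u v : Fin m ⊕ Fin m → F, QuadraticMap.polar ⇑Q u v = Cfsg.sympForm m F u v) ∧
      ∀ v : Fin m ⊕ Fin m → F, Q ((A : Matrix (Fin m ⊕ Fin m) (Fin m ⊕ Fin m) F).mulVec v) = Q v := by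
  classical
  haveI : ExpChar F 2 := ExpChar.prime Nat.prime_two
  haveI : PerfectRing F 2 := inferInstance
  set M := (A : Matrix (Fin m ⊕ Fin m) (Fin m ⊕ Fin m) F)
  let B : (Fin m ⊕ Fin m → F) →ₗ[F] (Fin m ⊕ Fin m → F) →ₗ[F] F :=
    Matrix.toLinearMap₂' F (Matrix.fromBlocks 0 1 0 0)
  let Q0 : QuadraticForm F (Fin m ⊕ Fin m → F) := LinearMap.BilinMap.toQuadraticMap B
  have hB : ∀ x y, B x y = ∑ i, x (.inl i) * y (.inr i) := fun x y => by
    simp [B, Matrix.toLinearMap₂'_apply', Matrix.fromBlocks_mulVec, dotProduct, Fintype.sum_sum_type]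
  have hpol : ∀ x y, QuadraticMap.polar ⇑Q0 x y = Cfsg.sympForm m F x y := fun x y => by
    rw [LinearMap.BilinMap.polar_toQuadraticMap, hB, hB, ← CfsgLib.Lie.Sp.bf_eq, CfsgLib.Lie.Sp.bf_apply,
      ← Finset.sum_add_distrib]
    refine Finset.sum_congr rfl fun i _ => ?_
    rw [CharTwo.sub_eq_add]
    ring
  have hpres : ∀ x y, Cfsg.sympForm m F (M.mulVec x) (M.mulVec y) = Cfsg.sympForm m F x y := fun x y => by
    rw [← CfsgLib.Lie.Sp.bf_eq, ← CfsgLib.Lie.Sp.bf_eq]
    exact CfsgLib.Lie.Sp.mem_iff_bf.1 A.2 x y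
  let r := (frobeniusEquiv F 2).symm
  let φ : Module.Dual F (Fin m ⊕ Fin m → F) :=
    { toFun := fun v => r (Q0 (M.mulVec v) - Q0 v)
      map_add' := fun x y => by
        rw [← map_add]
        congr 1
        rw [Matrix.mulVec_add, QuadraticMap.map_add Q0 (M.mulVec x), QuadraticMap.map_add Q0 x, hpol, hpol, hpres]
        ring
      map_smul' := fun c x => by
        rw [RingHom.id_apply, Matrix.mulVec_smul, QuadraticMap.map_smul, QuadraticMap.map_smul, ← smul_sub, smul_eq_mul,
          map_mul, smul_eq_mul]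
        congr 1
        exact (frobeniusEquiv F 2).symm_apply_eq.2 (by simp [frobenius_def, sq]) }
  have hφ : ∀ v, φ v ^ 2 = Q0 (M.mulVec v) - Q0 v := fun v => frobenius_apply_frobeniusEquiv_symm F 2 _
  have hann : φ ∈ LinearMap.range (Matrix.mulVecLin (M - 1)).dualMap := by
    rw [LinearMap.range_dualMap_eq_dualAnnihilator_ker, Submodule.mem_dualAnnihilator]
    intro v hv
    rw [LinearMap.mem_ker, Matrix.mulVecLin_apply, Matrix.sub_mulVec, Matrix.one_mulVec, sub_eq_zero] at hv
    show r (Q0 (M.mulVec v) - Q0 v) = 0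
    rw [hv, sub_self, map_zero]
  obtain ⟨ψ, hψ⟩ := hann
  refine ⟨Q0 + QuadraticMap.linMulLin ψ ψ, fun x y => ?_, fun v => ?_⟩
  · rw [← hpol]
    simp only [QuadraticMap.polar, QuadraticMap.add_apply, QuadraticMap.linMulLin_apply, map_add]
    linear_combination (ψ x * ψ y) * CharTwo.two_eq_zero (R := F)
  · have h := hφ v
    rw [← hψ, LinearMap.dualMap_apply, Matrix.mulVecLin_apply, Matrix.sub_mulVec, Matrix.one_mulVec, map_sub] at h
    simp only [QuadraticMap.add_apply, QuadraticMap.linMulLin_apply]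
    linear_combination (ψ (M.mulVec v) ^ 2 - ψ (M.mulVec v) * ψ v) * CharTwo.two_eq_zero (R := F) - h

end Mat

end CfsgLib.MiscRegular
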