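import Mathlib
import Cfsg.Agent.Misc.Regular

/-!
Classes of regular unipotent elements in SL_n.
-/

set_option autoImplicit false
set_option linter.unusedSectionVars false

namespace CfsgLib.MiscRegularClasses

open Module Matrix CfsgLib.MiscRegular

variable {F : Type*} [Field F] {n : ℕ}

theorem exists_cyclic {N : Matrix (Fin n) (Fin n) F} (hn : 1 ≤ n) (hnil : N ^ n = 0) (hr : N.rank = n - 1) :
    ∃ (v : Fin n → F) (b : Basis (Fin n) F (Fin n → F)), ∀ i : Fin n, b i = (N ^ (i : ℕ)).mulVec v := by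
  set f := Matrix.mulVecLin N with hf
  have hfn : IsNilpotent f := nil_mulVecLin hnil
  have hk : finrank F (LinearMap.ker f) ≤ 1 := ker_mulVecLin (by rwa [Fintype.card_fin])
  have hrk : finrank F (LinearMap.range f) = n - 1 := hr
  have hk1 : finrank F (LinearMap.ker f) = 1 := by
    have := LinearMap.finrank_range_add_finrank_ker f
    rw [Module.finrank_fin_fun, hrk] at this
    omega
  obtain ⟨v, hv⟩ : ∃ v, v ∉ LinearMap.range f := by
    by_contra hall
    push Not at hall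
    rw [show LinearMap.range f = ⊤ from eq_top_iff.2 fun x _ => hall x, finrank_top, Module.finrank_fin_fun] at hrk
    omega
  let b : Fin n → (Fin n → F) := fun i => (N ^ (i : ℕ)).mulVec v
  have htop : ⊤ ≤ Submodule.span F (Set.range b) := by
    refine le_of_eq (eq_top_of_not_range hfn hk1 ?_ (v := v) ?_ hv).symm
    · intro x hx
      refine (Submodule.span_le (p := (Submodule.span F (Set.range b)).comap f)).2 ?_ hx
      rintro _ ⟨i, rfl⟩
      show N.mulVec ((N ^ (i : ℕ)).mulVec v) ∈ Submodule.span F (Set.range b)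
      rw [Matrix.mulVec_mulVec, ← pow_succ']
      by_cases h : (i : ℕ) + 1 < n
      · exact Submodule.subset_span ⟨⟨(i : ℕ) + 1, h⟩, rfl⟩
      · rw [show (i : ℕ) + 1 = n by omega, hnil, Matrix.zero_mulVec]; exact zero_mem _
    · exact Submodule.subset_span ⟨⟨0, hn⟩, by simp [b]⟩
  exact ⟨v, basisOfTopLeSpanOfCardEqFinrank b htop (by simp), fun i => by simp [b]⟩

theorem pow_mulVec_of_le {N : Matrix (Fin n) (Fin n) F} (hnil : N ^ n = 0) {j : ℕ} (hj : n ≤ j) (v : Fin n → F) :
    (N ^ j).mulVec v = 0 := by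
  rw [pow_eq_zero_of_le hj hnil, Matrix.zero_mulVec]

theorem exists_conj {u u' : GL (Fin n) F} (hn : 1 ≤ n)
    (h1 : ((u : Matrix (Fin n) (Fin n) F) - 1) ^ n = 0) (h2 : ((u : Matrix (Fin n) (Fin n) F) - 1).rank = n - 1)
    (h1' : ((u' : Matrix (Fin n) (Fin n) F) - 1) ^ n = 0) (h2' : ((u' : Matrix (Fin n) (Fin n) F) - 1).rank = n - 1) :
    ∃ c : GL (Fin n) F, c * u * c⁻¹ = u' := by
  obtain ⟨v, b, hb⟩ := exists_cyclic hn h1 h2
  obtain ⟨v', b', hb'⟩ := exists_cyclic hn h1' h2'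
  let e := b.equiv b' (Equiv.refl _)
  let e' : GL (Fin n) F := Matrix.GeneralLinearGroup.toLin.symm
    ((LinearMap.GeneralLinearGroup.generalLinearEquiv F (Fin n → F)).symm e)
  have he : ∀ x, (e' : Matrix (Fin n) (Fin n) F).mulVec x = e x := fun x => by
    have : Matrix.toLin' (e' : Matrix (Fin n) (Fin n) F) = (e : (Fin n → F) →ₗ[F] (Fin n → F)) := by
      show Matrix.toLin' (LinearMap.toMatrix' (e : (Fin n → F) →ₗ[F] (Fin n → F))) = _
      rw [Matrix.toLin'_toMatrix']
    exact LinearMap.congr_fun this x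
  have hN : (e' : Matrix (Fin n) (Fin n) F) * ((u : Matrix (Fin n) (Fin n) F) - 1) =
      ((u' : Matrix (Fin n) (Fin n) F) - 1) * e' := by
    refine Matrix.toLin'.injective (b.ext fun i => ?_)
    have hbe : e (b i) = b' i := by simp [e]
    rw [Matrix.toLin'_apply, Matrix.toLin'_apply, ← Matrix.mulVec_mulVec, ← Matrix.mulVec_mulVec, he, he, hbe, hb, hb',
      Matrix.mulVec_mulVec, Matrix.mulVec_mulVec, ← pow_succ', ← pow_succ']
    by_cases h : (i : ℕ) + 1 < n
    · rw [← hb ⟨(i : ℕ) + 1, h⟩, ← hb' ⟨(i : ℕ) + 1, h⟩]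
      simp [e]
    · rw [pow_mulVec_of_le h1 (by omega), pow_mulVec_of_le h1' (by omega), map_zero]
  refine ⟨e', mul_inv_eq_of_eq_mul (Units.ext ?_)⟩
  rw [mul_sub, sub_mul, mul_one, one_mul, sub_left_inj] at hN
  simpa using hN

theorem det_one_add {M : Matrix (Fin n) (Fin n) F} (hM : IsNilpotent M) (t : F) :
    (t • (1 : Matrix (Fin n) (Fin n) F) + M).det = t ^ n := by
  have h := Matrix.isNilpotent_charpoly_sub_pow_of_isNilpotent hM.neg
  rw [isNilpotent_iff_eq_zero, sub_eq_zero] at h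
  have h2 := congrArg (Polynomial.eval t) h
  rw [Matrix.eval_charpoly, Fintype.card_fin, Polynomial.eval_pow, Polynomial.eval_X, sub_neg_eq_add] at h2
  rw [← h2, Matrix.smul_one_eq_diagonal]
  rfl

theorem det_commutant {u : GL (Fin n) F} (hn : 1 ≤ n)
    (h1 : ((u : Matrix (Fin n) (Fin n) F) - 1) ^ n = 0) (h2 : ((u : Matrix (Fin n) (Fin n) F) - 1).rank = n - 1)
    {g : GL (Fin n) F} (hg : g * u = u * g) : ∃ t : Fˣ, Matrix.GeneralLinearGroup.det g = t ^ n := by
  set N := (u : Matrix (Fin n) (Fin n) F) - 1 with hN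
  obtain ⟨v, b, hb⟩ := exists_cyclic hn h1 h2
  have hgN : (g : Matrix (Fin n) (Fin n) F) * N = N * g := by
    have := congrArg (fun x : GL (Fin n) F => (x : Matrix (Fin n) (Fin n) F)) hg
    simp only [Units.val_mul] at this
    rw [hN, mul_sub, sub_mul, this, mul_one, one_mul]
  have hgp : ∀ k : ℕ, (g : Matrix (Fin n) (Fin n) F) * N ^ k = N ^ k * g := fun k =>
    (Commute.pow_right (show Commute (g : Matrix (Fin n) (Fin n) F) N from hgN) k).eq
  let a : Fin n → F := fun i => b.repr ((g : Matrix (Fin n) (Fin n) F).mulVec v) i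
  let P : Matrix (Fin n) (Fin n) F := ∑ i : Fin n, a i • N ^ (i : ℕ)
  have hP : (g : Matrix (Fin n) (Fin n) F) = P := by
    refine Matrix.toLin'.injective (b.ext fun k => ?_)
    rw [Matrix.toLin'_apply, Matrix.toLin'_apply, hb, Matrix.mulVec_mulVec, hgp, ← Matrix.mulVec_mulVec]
    conv_lhs => rw [← b.sum_repr ((g : Matrix (Fin n) (Fin n) F).mulVec v)]
    rw [Matrix.mulVec_sum, Matrix.mulVec_mulVec, Finset.sum_mul, Matrix.sum_mulVec]
    refine Finset.sum_congr rfl fun i _ => ?_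
    rw [Matrix.mulVec_smul, hb, Matrix.mulVec_mulVec, smul_mul_assoc, Matrix.smul_mulVec, ← pow_add, ← pow_add,
      add_comm (k : ℕ)]
  obtain ⟨m, rfl⟩ : ∃ m, n = m + 1 := ⟨n - 1, by omega⟩
  have hdet : (g : Matrix (Fin (m + 1)) (Fin (m + 1)) F).det = a 0 ^ (m + 1) := by
    rw [hP, show P = a 0 • 1 + N * ∑ i : Fin m, a i.succ • N ^ (i : ℕ) from ?_]
    · refine det_one_add (Commute.isNilpotent_mul_right ?_ ⟨_, h1⟩) _
      exact Commute.sum_right _ _ _ fun i _ => ((Commute.refl N).pow_right _).smul_right _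
    · simp only [P, Fin.sum_univ_succ, Fin.val_zero, pow_zero, Fin.val_succ, Finset.mul_sum, mul_smul_comm, ← pow_succ']
  have ha : a 0 ≠ 0 := fun h0 => (Matrix.GeneralLinearGroup.det g).ne_zero (by
    show (g : Matrix (Fin (m + 1)) (Fin (m + 1)) F).det = 0
    rw [hdet, h0, zero_pow (by omega)])
  exact ⟨Units.mk0 _ ha, Units.ext hdet⟩

theorem exists_regular (hn : 1 ≤ n) : ∃ u : SpecialLinearGroup (Fin n) F,
    ((u : Matrix (Fin n) (Fin n) F) - 1) ^ n = 0 ∧ ((u : Matrix (Fin n) (Fin n) F) - 1).rank = n - 1 := by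
  let N : Matrix (Fin n) (Fin n) F := Matrix.of fun i j => if (i : ℕ) + 1 = j then 1 else 0
  have hpow : ∀ k, ∀ i j : Fin n, (j : ℕ) < i + k → (N ^ k) i j = 0 := by
    intro k
    induction k with
    | zero => intro i j h; rw [pow_zero, Matrix.one_apply_ne]; exact fun e => by subst e; omega
    | succ k ih =>
      intro i j h
      rw [pow_succ, Matrix.mul_apply]
      refine Finset.sum_eq_zero fun l _ => ?_
      by_cases hl : (l : ℕ) < i + k
      · rw [ih i l hl, zero_mul]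
      · show _ * (if (l : ℕ) + 1 = j then (1 : F) else 0) = 0
        rw [if_neg (by omega), mul_zero]
  have hnil : N ^ n = 0 := Matrix.ext fun i j => hpow n i j (by omega)
  have hdet : (1 + N).det = 1 := by
    have := det_one_add ⟨n, hnil⟩ (1 : F)
    rwa [one_smul, one_pow] at this
  refine ⟨⟨1 + N, hdet⟩, ?_⟩
  show (1 + N - 1) ^ n = 0 ∧ (1 + N - 1).rank = n - 1
  rw [add_sub_cancel_left]
  refine ⟨hnil, ?_⟩
  have hker : finrank F (LinearMap.ker N.mulVecLin) ≤ 1 := by
    let f : LinearMap.ker N.mulVecLin →ₗ[F] F := (LinearMap.proj (⟨0, hn⟩ : Fin n)).comp (Submodule.subtype _)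
    refine (LinearMap.finrank_le_finrank_of_injective (f := f) ?_).trans (finrank_self F).le
    refine (injective_iff_map_eq_zero _).2 fun x hx => Subtype.ext (funext fun j => ?_)
    rcases Nat.eq_zero_or_pos (j : ℕ) with hj | hj
    · rw [show j = ⟨0, hn⟩ from Fin.ext hj]; exact hx
    · have h := congrFun (LinearMap.mem_ker.1 x.2) ⟨(j : ℕ) - 1, by omega⟩
      rw [Matrix.mulVecLin_apply] at h
      simp only [Matrix.mulVec, dotProduct, N, Matrix.of_apply, ite_mul, one_mul, zero_mul, Pi.zero_apply] at h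
      rwa [Finset.sum_eq_single j (fun b _ hb => if_neg fun e => hb (Fin.ext (by omega))) (by simp),
        if_pos (by omega)] at h
  have h0 : LinearMap.ker N.mulVecLin ≠ ⊥ := by
    intro h
    have h' := LinearMap.ker_eq_bot.1 h
    have hi : Function.Injective (N.mulVecLin ^ n) := by
      rw [Module.End.coe_pow]; exact h'.iterate n
    rw [← Matrix.toLin'_apply', ← Matrix.toLin'_pow, hnil, map_zero] at hi
    have := hi (show (0 : (Fin n → F) →ₗ[F] (Fin n → F)) (Pi.single ⟨0, hn⟩ 1) =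
      (0 : (Fin n → F) →ₗ[F] (Fin n → F)) 0 by simp)
    simpa using congrFun this ⟨0, hn⟩
  have := LinearMap.finrank_range_add_finrank_ker N.mulVecLin
  rw [Module.finrank_fin_fun] at this
  have h1 : finrank F (LinearMap.ker N.mulVecLin) ≠ 0 := fun h => h0 (Submodule.finrank_eq_zero.1 h)
  show finrank F (LinearMap.range N.mulVecLin) = n - 1
  omega

variable [Fintype F]

theorem card_classes {q : ℕ} (hF : Fintype.card F = q) (hn : 2 ≤ n) :
    Nat.card {C : ConjClasses (SpecialLinearGroup (Fin n) F) // ∃ u : SpecialLinearGroup (Fin n) F,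
      ConjClasses.mk u = C ∧ ((u : Matrix (Fin n) (Fin n) F) - 1) ^ n = 0 ∧
        ((u : Matrix (Fin n) (Fin n) F) - 1).rank = n - 1} = Nat.gcd n (q - 1) := by
  classical
  obtain ⟨u₀, h1, h2⟩ := exists_regular (F := F) (show 1 ≤ n by omega)
  let T := {C : ConjClasses (SpecialLinearGroup (Fin n) F) // ∃ u : SpecialLinearGroup (Fin n) F,
      ConjClasses.mk u = C ∧ ((u : Matrix (Fin n) (Fin n) F) - 1) ^ n = 0 ∧
        ((u : Matrix (Fin n) (Fin n) F) - 1).rank = n - 1}
  set g₀ : GL (Fin n) F := SpecialLinearGroup.toGL u₀ with hg₀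
  let i₀ : Fin n := ⟨0, by omega⟩
  let D : Fˣ → GL (Fin n) F := fun d => GeneralLinearGroup.mkOfDetNeZero (Matrix.diagonal (Function.update 1 i₀ (d : F)))
    (by rw [Matrix.det_diagonal, Finset.prod_update_of_mem (Finset.mem_univ _)]; simp)
  have hD : ∀ d, GeneralLinearGroup.det (D d) = d := fun d => Units.ext (by
    show (Matrix.diagonal (Function.update 1 i₀ (d : F))).det = d
    rw [Matrix.det_diagonal, Finset.prod_update_of_mem (Finset.mem_univ _)]; simp)
  have hlift : ∀ c : GL (Fin n) F, ∃ u : SpecialLinearGroup (Fin n) F, SpecialLinearGroup.toGL u = c * g₀ * c⁻¹ ∧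
      ((u : Matrix (Fin n) (Fin n) F) - 1) ^ n = 0 ∧ ((u : Matrix (Fin n) (Fin n) F) - 1).rank = n - 1 := by
    intro c
    have hv : ((g₀ : GL (Fin n) F) : Matrix (Fin n) (Fin n) F) = u₀ := rfl
    have hd : ((c * g₀ * c⁻¹ : GL (Fin n) F) : Matrix (Fin n) (Fin n) F).det = 1 := by
      rw [Units.val_mul, Units.val_mul, Matrix.det_units_conj, hv, u₀.2]
    refine ⟨⟨_, hd⟩, Units.ext rfl, ?_⟩
    show (((c * g₀ * c⁻¹ : GL (Fin n) F) : Matrix (Fin n) (Fin n) F) - 1) ^ n = 0 ∧ _
    have e : ((c * g₀ * c⁻¹ : GL (Fin n) F) : Matrix (Fin n) (Fin n) F) - 1 =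
        (c : Matrix (Fin n) (Fin n) F) * ((u₀ : Matrix (Fin n) (Fin n) F) - 1) * (↑c⁻¹ : Matrix (Fin n) (Fin n) F) := by
      rw [Units.val_mul, Units.val_mul, hv, mul_sub, sub_mul, mul_one, Units.mul_inv]
    constructor
    · rw [e, Units.conj_pow, h1, mul_zero, zero_mul]
    · show (((c * g₀ * c⁻¹ : GL (Fin n) F) : Matrix (Fin n) (Fin n) F) - 1).rank = _
      rw [e, Matrix.rank_mul_eq_left_of_isUnit_det _ _ ((Matrix.isUnit_iff_isUnit_det _).1 (Units.isUnit _)),
        Matrix.rank_mul_eq_right_of_isUnit_det _ _ ((Matrix.isUnit_iff_isUnit_det _).1 (Units.isUnit _)), h2]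
  choose U hU hU1 hU2 using hlift
  let Φ : Fˣ → T := fun d => ⟨ConjClasses.mk (U (D d)), _, rfl, hU1 _, hU2 _⟩
  set P := (powMonoidHom n : Fˣ →* Fˣ).range with hP
  have hcenter : ∀ t : Fˣ, ∃ z : GL (Fin n) F, GeneralLinearGroup.det z = t ^ n ∧ z * g₀ = g₀ * z := fun t =>
    ⟨GeneralLinearGroup.mkOfDetNeZero ((t : F) • 1) (by simp),
      Units.ext (by show ((t : F) • (1 : Matrix (Fin n) (Fin n) F)).det = _; simp),
      Units.ext (by show ((t : F) • (1 : Matrix (Fin n) (Fin n) F)) * _ = _ * ((t : F) • (1 : Matrix (Fin n) (Fin n) F)); simp)⟩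
  have hfib : ∀ d d', Φ d = Φ d' ↔ d⁻¹ * d' ∈ P := by
    intro d d'
    constructor
    · intro h
      obtain ⟨s, hs⟩ := isConj_iff.1 (ConjClasses.mk_eq_mk_iff_isConj.1 (congrArg Subtype.val h))
      have h' := congrArg SpecialLinearGroup.toGL hs
      rw [map_mul, map_mul, map_inv, hU, hU] at h'
      obtain ⟨t, ht⟩ := det_commutant (u := g₀) (by omega) h1 h2 (g := (D d')⁻¹ * SpecialLinearGroup.toGL s * D d)
        (by
          calc (D d')⁻¹ * SpecialLinearGroup.toGL s * D d * g₀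
              = (D d')⁻¹ * (SpecialLinearGroup.toGL s * (D d * g₀ * (D d)⁻¹) * (SpecialLinearGroup.toGL s)⁻¹) *
                  SpecialLinearGroup.toGL s * D d := by group
            _ = g₀ * ((D d')⁻¹ * SpecialLinearGroup.toGL s * D d) := by rw [h']; group)
      refine ⟨t⁻¹, ?_⟩
      rw [map_mul, map_mul, map_inv, hD, hD, show GeneralLinearGroup.det (SpecialLinearGroup.toGL s) = 1 from Units.ext s.2,
        mul_one] at ht
      rw [powMonoidHom_apply, inv_pow, ← ht]
      simp [mul_comm]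
    · rintro ⟨t, ht⟩
      rw [powMonoidHom_apply] at ht
      obtain ⟨z, hz, hzc⟩ := hcenter t
      have hdet : GeneralLinearGroup.det (D d' * z⁻¹ * (D d)⁻¹) = 1 := by
        rw [map_mul, map_mul, map_inv, map_inv, hD, hD, hz, ht]; group
      let s : SpecialLinearGroup (Fin n) F := ⟨_, congrArg Units.val hdet⟩
      refine Subtype.ext (ConjClasses.mk_eq_mk_iff_isConj.2 (isConj_iff.2 ⟨s, SpecialLinearGroup.toGL_injective ?_⟩))
      rw [map_mul, map_mul, map_inv, hU, hU, show SpecialLinearGroup.toGL s = D d' * z⁻¹ * (D d)⁻¹ from Units.ext rfl]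
      calc D d' * z⁻¹ * (D d)⁻¹ * (D d * g₀ * (D d)⁻¹) * (D d' * z⁻¹ * (D d)⁻¹)⁻¹
          = D d' * (z⁻¹ * (g₀ * z)) * (D d')⁻¹ := by group
        _ = D d' * g₀ * (D d')⁻¹ := by rw [← hzc, inv_mul_cancel_left]
  let Ψ : Fˣ ⧸ P → T := Quotient.lift Φ fun a b hab => (hfib a b).2 (QuotientGroup.leftRel_apply.1 hab)
  have hbij : Function.Bijective Ψ := by
    constructor
    · intro x y
      induction x using QuotientGroup.induction_on with | _ a => ?_
      induction y using QuotientGroup.induction_on with | _ b => ?_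
      intro h
      exact QuotientGroup.eq.2 ((hfib a b).1 h)
    · rintro ⟨-, u, rfl, hu1, hu2⟩
      obtain ⟨c, hc⟩ := exists_conj (u := g₀) (u' := SpecialLinearGroup.toGL u) (by omega) h1 h2 hu1 hu2
      refine ⟨(GeneralLinearGroup.det c : Fˣ), Subtype.ext (ConjClasses.mk_eq_mk_iff_isConj.2 ?_)⟩
      have hdet : GeneralLinearGroup.det (c * (D (GeneralLinearGroup.det c))⁻¹) = 1 := by
        rw [map_mul, map_inv, hD, mul_inv_cancel]
      obtain ⟨s, hs⟩ : ∃ s : SpecialLinearGroup (Fin n) F,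
          SpecialLinearGroup.toGL s = c * (D (GeneralLinearGroup.det c))⁻¹ :=
        ⟨⟨_, congrArg Units.val hdet⟩, Units.ext rfl⟩
      refine isConj_iff.2 ⟨s, SpecialLinearGroup.toGL_injective ?_⟩
      rw [map_mul, map_mul, map_inv, hU, ← hc, hs]
      group
  show Nat.card T = _
  rw [← Nat.card_eq_of_bijective Ψ hbij]
  show P.index = _
  rw [hP, IsCyclic.index_powMonoidHom_range, Nat.card_units, Nat.card_eq_fintype_card, hF, Nat.gcd_comm]

end CfsgLib.MiscRegularClasses
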