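import Mathlib

/-! The largest order of an abelian permutation group of given degree. -/

set_option autoImplicit false

namespace CfsgLib.Misc.AbelianPermMax

/-- The maximal product of parts of a partition. -/
def mp : ℕ → ℕ
  | 0 => 1
  | 1 => 1
  | 2 => 2
  | 3 => 3
  | 4 => 4
  | n + 5 => 3 * mp (n + 2)

theorem three_step (n : ℕ) : 3 * mp n ≤ mp (n + 3) := by
  match n with
  | 0 => decide
  | 1 => decide
  | m + 2 => exact le_of_eq (by rw [mp])

theorem one_step : ∀ n : ℕ, mp n ≤ mp (n + 1) := by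
  intro n
  induction n using Nat.strong_induction_on with
  | _ n ih =>
    match n, ih with
    | 0, _ => decide
    | 1, _ => decide
    | 2, _ => decide
    | 3, _ => decide
    | 4, _ => decide
    | m + 5, ih =>
      rw [show m + 5 + 1 = m + 1 + 5 by omega, mp, mp]
      exact Nat.mul_le_mul_left 3 (ih (m + 2) (by omega))

theorem two_step : ∀ n : ℕ, 2 * mp n ≤ mp (n + 2) := by
  intro n
  induction n using Nat.strong_induction_on with
  | _ n ih =>
    match n, ih with
    | 0, _ => decide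
    | 1, _ => decide
    | 2, _ => decide
    | 3, _ => decide
    | 4, _ => decide
    | m + 5, ih =>
      rw [show m + 5 + 2 = m + 2 + 5 by omega, mp, mp, mul_left_comm]
      exact Nat.mul_le_mul_left 3 (ih (m + 2) (by omega))

theorem part_le : ∀ m n : ℕ, m * mp n ≤ mp (n + m) := by
  intro m
  induction m using Nat.strong_induction_on with
  | _ m ih =>
    intro n
    match m, ih with
    | 0, _ => simp
    | 1, _ => simpa using one_step n
    | 2, _ => exact two_step n
    | 3, _ => exact three_step n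
    | 4, _ =>
      have h1 := two_step n
      have h2 := two_step (n + 2)
      calc 4 * mp n = 2 * (2 * mp n) := by ring
        _ ≤ 2 * mp (n + 2) := Nat.mul_le_mul_left 2 h1
        _ ≤ mp (n + 4) := h2
    | k + 5, ih =>
      calc (k + 5) * mp n ≤ 3 * ((k + 2) * mp n) := by nlinarith [Nat.zero_le (mp n)]
        _ ≤ 3 * mp (n + (k + 2)) := Nat.mul_le_mul_left 3 (ih (k + 2) (by omega) n)
        _ ≤ mp (n + (k + 2) + 3) := three_step _
        _ = _ := by rw [show n + (k + 2) + 3 = n + (k + 5) by omega]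

theorem prod_le {ι : Type*} (s : Finset ι) (d : ι → ℕ) : ∏ i ∈ s, d i ≤ mp (∑ i ∈ s, d i) := by
  classical
  induction s using Finset.induction_on with
  | empty => simp [mp]
  | insert a s ha ih =>
    rw [Finset.prod_insert ha, Finset.sum_insert ha, add_comm]
    exact (Nat.mul_le_mul_left _ ih).trans (part_le _ _)

theorem bound {α : Type*} [Fintype α] [DecidableEq α] (A : Subgroup (Equiv.Perm α)) [IsMulCommutative A] :
    Nat.card A ≤ mp (Fintype.card α) := by
  classical
  let O := MulAction.orbitRel.Quotient A α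
  haveI : Fintype O := Fintype.ofFinite O
  have e := MulAction.selfEquivSigmaOrbits A α
  let f : A → ∀ ω : O, MulAction.orbit A (ω.out : α) := fun a ω =>
    ⟨a • (ω.out : α), MulAction.mem_orbit _ _⟩
  have hf : Function.Injective f := by
    intro a b h
    apply Subtype.ext
    apply Equiv.ext
    intro x
    obtain ⟨c, hc⟩ : ∃ c : A, c • ((Quotient.mk (MulAction.orbitRel A α) x).out : α) = x := by
      have h2 := Quotient.mk_out (s := MulAction.orbitRel A α) x
      obtain ⟨c, hc⟩ := (MulAction.orbitRel_apply.1 h2 : _ ∈ MulAction.orbit A x)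
      exact ⟨c⁻¹, inv_smul_eq_iff.2 hc.symm⟩
    have h1 : a • ((Quotient.mk (MulAction.orbitRel A α) x).out : α) =
        b • ((Quotient.mk (MulAction.orbitRel A α) x).out : α) :=
      congrArg Subtype.val (congrFun h (Quotient.mk (MulAction.orbitRel A α) x))
    show a • x = b • x
    rw [← hc, smul_smul, smul_smul, mul_comm' a c, mul_comm' b c, ← smul_smul, ← smul_smul, h1]
  have h1 := Nat.card_le_card_of_injective f hf
  rw [Nat.card_pi] at h1
  refine h1.trans ((prod_le _ _).trans_eq ?_)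
  rw [← Nat.card_sigma, ← Nat.card_congr e, Nat.card_eq_fintype_card]
  where mul_comm' {A : Subgroup (Equiv.Perm α)} [IsMulCommutative A] (a b : A) : a * b = b * a :=
    IsMulCommutative.is_comm.comm a b

theorem exists_abelian {n : ℕ} {ι : Type} [Fintype ι] [DecidableEq ι] (d : ι → ℕ) [∀ i, NeZero (d i)]
    (h : ∑ i, d i = n) :
    ∃ A : Subgroup (Equiv.Perm (Fin n)), IsMulCommutative A ∧ Nat.card A = ∏ i, d i := by
  classical
  have hc : Fintype.card ((i : ι) × ZMod (d i)) = Fintype.card (Fin n) := by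
    simp [h]
  let e : ((i : ι) × ZMod (d i)) ≃ Fin n := Fintype.equivOfCardEq hc
  let f : Multiplicative (∀ i, ZMod (d i)) →* Equiv.Perm (Fin n) :=
    (e.permCongrHom.toMonoidHom).comp <| (Equiv.Perm.sigmaCongrRightHom (fun i => ZMod (d i))).comp <|
      MonoidHom.mk' (fun v => fun i => Equiv.addLeft (v.toAdd i)) (by
        intro v w
        funext i
        ext x
        simp [add_assoc])
  have hf : Function.Injective f := by
    intro v w hvw
    have h1 := e.permCongrHom.injective hvw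
    apply Multiplicative.toAdd.injective
    funext i
    have h2 := congrFun (congrArg (fun σ : Equiv.Perm ((i : ι) × ZMod (d i)) => ⇑σ) h1) ⟨i, 0⟩
    simpa [Equiv.Perm.sigmaCongrRightHom] using h2
  refine ⟨f.range, ?_, ?_⟩
  · refine ⟨⟨?_⟩⟩
    rintro ⟨_, a, rfl⟩ ⟨_, b, rfl⟩
    apply Subtype.ext
    show f a * f b = f b * f a
    rw [← map_mul, mul_comm, map_mul]
  · rw [← Nat.card_congr (f.ofInjective hf).toEquiv]
    simp [Nat.card_pi]

theorem mp_three (k : ℕ) (hk : 1 ≤ k) :
    mp (3 * k) = 3 ^ k ∧ mp (3 * k + 1) = 4 * 3 ^ (k - 1) ∧ mp (3 * k + 2) = 2 * 3 ^ k := by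
  induction k, hk using Nat.le_induction with
  | base => decide
  | succ k hk ih =>
    obtain ⟨j, rfl⟩ : ∃ j, k = j + 1 := ⟨k - 1, by omega⟩
    simp only [add_tsub_cancel_right] at ih
    refine ⟨?_, ?_, ?_⟩
    · rw [show 3 * (j + 1 + 1) = 3 * j + 1 + 5 by omega, mp, show 3 * j + 1 + 2 = 3 * (j + 1) by omega, ih.1]
      ring
    · rw [show 3 * (j + 1 + 1) + 1 = 3 * j + 2 + 5 by omega, mp, show 3 * j + 2 + 2 = 3 * (j + 1) + 1 by omega,
        ih.2.1, show j + 1 + 1 - 1 = j + 1 by omega]
      ring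
    · rw [show 3 * (j + 1 + 1) + 2 = 3 * j + 3 + 5 by omega, mp, show 3 * j + 3 + 2 = 3 * (j + 1) + 2 by omega,
        ih.2.2]
      ring

theorem main (k : ℕ) (hk : 1 ≤ k) :
    IsGreatest {c : ℕ | ∃ A : Subgroup (Equiv.Perm (Fin (3 * k))), IsMulCommutative A ∧ Nat.card A = c} (3 ^ k) ∧
    IsGreatest {c : ℕ | ∃ A : Subgroup (Equiv.Perm (Fin (3 * k + 1))), IsMulCommutative A ∧ Nat.card A = c}
      (4 * 3 ^ (k - 1)) ∧
    IsGreatest {c : ℕ | ∃ A : Subgroup (Equiv.Perm (Fin (3 * k + 2))), IsMulCommutative A ∧ Nat.card A = c}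
      (2 * 3 ^ k) := by
  obtain ⟨h0, h1, h2⟩ := mp_three k hk
  refine ⟨⟨?_, ?_⟩, ⟨?_, ?_⟩, ⟨?_, ?_⟩⟩
  · obtain ⟨A, hA, hc⟩ := exists_abelian (n := 3 * k) (fun _ : Fin k => 3) (by simp; ring)
    exact ⟨A, hA, by simpa using hc⟩
  · rintro c ⟨A, hA, rfl⟩
    haveI := hA
    simpa [h0] using bound A
  · let d : Option (Fin (k - 1)) → ℕ := fun o => o.elim 4 fun _ => 3
    haveI : ∀ i, NeZero (d i) := fun i => ⟨by cases i <;> simp [d]⟩
    obtain ⟨A, hA, hc⟩ := exists_abelian (n := 3 * k + 1) d (by simp [Fintype.sum_option, d]; omega)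
    exact ⟨A, hA, by simpa [Fintype.prod_option, d] using hc⟩
  · rintro c ⟨A, hA, rfl⟩
    haveI := hA
    simpa [h1] using bound A
  · let d : Option (Fin k) → ℕ := fun o => o.elim 2 fun _ => 3
    haveI : ∀ i, NeZero (d i) := fun i => ⟨by cases i <;> simp [d]⟩
    obtain ⟨A, hA, hc⟩ := exists_abelian (n := 3 * k + 2) d (by simp [Fintype.sum_option, d]; omega)
    exact ⟨A, hA, by simpa [Fintype.prod_option, d] using hc⟩
  · rintro c ⟨A, hA, rfl⟩
    haveI := hA
    simpa [h2] using bound A

end CfsgLib.Misc.AbelianPermMax
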