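import Mathlib
import Cfsg.Agent.Misc.AbelianPermMax

/-! The largest order of an abelian even permutation group of given degree. -/

set_option autoImplicit false

namespace CfsgLib.Misc.AbelianAltMax

open CfsgLib.Misc.AbelianPermMax (mp mp_three prod_le)

/-- The maximal product of parts different from two. -/
def np : ℕ → ℕ
  | 0 => 1
  | 1 => 1
  | 2 => 1
  | 3 => 3
  | 4 => 4
  | 5 => 5
  | 6 => 9
  | 7 => 12
  | 8 => 16
  | n + 9 => 3 * np (n + 6)

theorem three_step (n : ℕ) : 3 * np n ≤ np (n + 3) := by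
  match n with
  | 0 => decide
  | 1 => decide
  | 2 => decide
  | 3 => decide
  | 4 => decide
  | 5 => decide
  | m + 6 => exact le_of_eq (by rw [np])

theorem small_step (c d : ℕ) (h : ∀ n < 9, c * np n ≤ np (n + d)) : ∀ n, c * np n ≤ np (n + d) := by
  intro n
  induction n using Nat.strong_induction_on with
  | _ n ih =>
    rcases Nat.lt_or_ge n 9 with hn | hn
    · exact h n hn
    · obtain ⟨m, rfl⟩ : ∃ m, n = m + 9 := ⟨n - 9, by omega⟩
      rw [show m + 9 + d = (m + d) + 9 by omega, np, np, mul_left_comm, show m + d + 6 = m + 6 + d by omega]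
      exact Nat.mul_le_mul_left 3 (ih (m + 6) (by omega))

theorem part_le : ∀ m n : ℕ, m ≠ 2 → m * np n ≤ np (n + m) := by
  intro m
  induction m using Nat.strong_induction_on with
  | _ m ih =>
    intro n hm
    match m, ih, hm with
    | 0, _, _ => simp
    | 1, _, _ => simpa using small_step 1 1 (by decide) n
    | 2, _, hm => exact absurd rfl hm
    | 3, _, _ => exact three_step n
    | 4, _, _ => exact small_step 4 4 (by decide) n
    | 5, _, _ => exact small_step 5 5 (by decide) n
    | k + 6, ih, _ =>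
      calc (k + 6) * np n ≤ 3 * ((k + 3) * np n) := by nlinarith [Nat.zero_le (np n)]
        _ ≤ 3 * np (n + (k + 3)) := Nat.mul_le_mul_left 3 (ih (k + 3) (by omega) n (by omega))
        _ ≤ np (n + (k + 3) + 3) := three_step _
        _ = _ := by rw [show n + (k + 3) + 3 = n + (k + 6) by omega]

theorem prod_np {ι : Type*} (s : Finset ι) (d : ι → ℕ) (h : ∀ i ∈ s, d i ≠ 2) :
    ∏ i ∈ s, d i ≤ np (∑ i ∈ s, d i) := by
  classical
  induction s using Finset.induction_on with
  | empty => simp [np]
  | insert a s ha ih =>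
    rw [Finset.prod_insert ha, Finset.sum_insert ha, add_comm]
    exact (Nat.mul_le_mul_left _ (ih fun i hi => h i (Finset.mem_insert_of_mem hi))).trans
      (part_le _ _ (h a (Finset.mem_insert_self a s)))

theorem np_two (k : ℕ) : np (3 * k + 8) = 16 * 3 ^ k := by
  induction k with
  | zero => decide
  | succ k ih =>
    rw [show 3 * (k + 1) + 8 = 3 * k + 2 + 9 by omega, np, show 3 * k + 2 + 6 = 3 * k + 8 by omega, ih]
    ring

theorem bound_two {α : Type*} [Fintype α] [DecidableEq α] (k : ℕ) (hα : Fintype.card α = 3 * (k + 2) + 2)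
    (A : Subgroup (Equiv.Perm α)) [hA : IsMulCommutative A]
    (heven : ∀ a ∈ A, Equiv.Perm.sign a = 1) : Nat.card A ≤ 16 * 3 ^ k := by
  classical
  let O := MulAction.orbitRel.Quotient A α
  haveI : Fintype O := Fintype.ofFinite O
  have hcomm : ∀ a b : A, a * b = b * a := fun a b => hA.is_comm.comm a b
  let f : A → ∀ ω : O, MulAction.orbit A (ω.out : α) := fun a ω =>
    ⟨a • (ω.out : α), MulAction.mem_orbit _ _⟩
  have hrep : ∀ x : α, ∃ c : A, c • ((Quotient.mk (MulAction.orbitRel A α) x).out : α) = x := by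
    intro x
    obtain ⟨c, hc⟩ := (MulAction.orbitRel_apply.1 (Quotient.mk_out (s := MulAction.orbitRel A α) x) :
      _ ∈ MulAction.orbit A x)
    exact ⟨c⁻¹, inv_smul_eq_iff.2 hc.symm⟩
  have hmove : ∀ (a : A) (x : α) (y : α), (∃ c : A, c • y = x) → a • y = y → a • x = x := by
    rintro a x y ⟨c, rfl⟩ h
    rw [smul_smul, hcomm, ← smul_smul, h]
  have hf : Function.Injective f := by
    intro a b h
    apply Subtype.ext
    apply Equiv.ext
    intro x
    have h1 := congrArg Subtype.val (congrFun h (Quotient.mk (MulAction.orbitRel A α) x))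
    have h2 : (b⁻¹ * a) • x = x := hmove _ x _ (hrep x) (by rw [← smul_smul, inv_smul_eq_iff]; exact h1)
    rw [← smul_smul, inv_smul_eq_iff] at h2
    exact h2
  have hle := Nat.card_le_card_of_injective f hf
  have hsum : ∑ ω : O, Nat.card (MulAction.orbit A (ω.out : α)) = 3 * (k + 2) + 2 := by
    rw [← Nat.card_sigma, ← Nat.card_congr (MulAction.selfEquivSigmaOrbits A α), Nat.card_eq_fintype_card, hα]
  by_cases h2 : ∀ ω : O, Nat.card (MulAction.orbit A (ω.out : α)) ≠ 2
  · rw [Nat.card_pi] at hle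
    refine hle.trans ((prod_np _ _ fun ω _ => h2 ω).trans_eq ?_)
    rw [hsum, show 3 * (k + 2) + 2 = 3 * k + 8 by omega, np_two]
  · push Not at h2
    obtain ⟨ω₀, h0⟩ := h2
    rw [Nat.card_pi] at hle
    have hup : ∏ ω : O, Nat.card (MulAction.orbit A (ω.out : α)) ≤ 2 * 3 ^ (k + 2) := by
      have h := prod_le (Finset.univ : Finset O) fun ω => Nat.card (MulAction.orbit A (ω.out : α))
      rw [hsum, (mp_three (k + 2) (by omega)).2.2] at h
      exact h
    have hne : ¬ Function.Surjective f := by
      intro hsurj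
      have : Nat.card ↥(MulAction.orbit A (ω₀.out : α)) = 2 := h0
      haveI : Nontrivial ↥(MulAction.orbit A (ω₀.out : α)) :=
        Finite.one_lt_card_iff_nontrivial.1 (by omega)
      obtain ⟨⟨y, hy⟩, hyne⟩ := exists_ne
        (⟨ω₀.out, MulAction.mem_orbit_self _⟩ : MulAction.orbit A (ω₀.out : α))
      have hyne' : y ≠ ω₀.out := fun h => hyne (Subtype.ext h)
      obtain ⟨a, ha⟩ := hsurj (Function.update (fun ω => ⟨ω.out, MulAction.mem_orbit_self _⟩) ω₀ ⟨y, hy⟩)
      have hav : ∀ ω, a • (ω.out : α) = if ω = ω₀ then y else ω.out := fun ω => by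
        have h := congrArg Subtype.val (congrFun ha ω)
        by_cases hω : ω = ω₀
        · subst hω; simpa [f] using h
        · simpa [f, hω] using h
      have horb : ∀ z ∈ MulAction.orbit A (ω₀.out : α), z = ω₀.out ∨ z = y := by
        intro z hz
        by_contra hcon
        push Not at hcon
        have h3 : ({⟨ω₀.out, MulAction.mem_orbit_self _⟩, ⟨y, hy⟩, ⟨z, hz⟩} :
            Finset (MulAction.orbit A (ω₀.out : α))).card = 3 := by
          rw [Finset.card_insert_of_notMem, Finset.card_pair] <;>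
            simp [Subtype.ext_iff, hyne'.symm, Ne.symm hcon.1, Ne.symm hcon.2]
        have := Finset.card_le_univ ({⟨ω₀.out, MulAction.mem_orbit_self _⟩, ⟨y, hy⟩, ⟨z, hz⟩} :
            Finset (MulAction.orbit A (ω₀.out : α)))
        rw [h3, ← Nat.card_eq_fintype_card, h0] at this
        omega
      have hswap : (a : Equiv.Perm α) = Equiv.swap (ω₀.out : α) y := by
        apply Equiv.ext
        intro x
        show a • x = _
        by_cases hx : Quotient.mk (MulAction.orbitRel A α) x = ω₀
        · have hxo : x ∈ MulAction.orbit A (ω₀.out : α) := by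
            obtain ⟨c, hc⟩ := hrep x
            rw [hx] at hc
            exact ⟨c, hc⟩
          have h1 : a • (ω₀.out : α) = y := by rw [hav, if_pos rfl]
          rcases horb x hxo with rfl | rfl
          · rw [h1, Equiv.swap_apply_left]
          · rw [Equiv.swap_apply_right]
            rcases horb (a • x) ((MulAction.mem_orbit_of_mem_orbit a hxo)) with h | h
            · exact h
            · exact absurd (MulAction.injective a (h.trans h1.symm)) hyne'
        · have h1 : a • x = x := hmove a x _ (hrep x) (by rw [hav, if_neg hx])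
          rw [h1, Equiv.swap_apply_of_ne_of_ne]
          · intro h
            exact hx (h ▸ Quotient.out_eq ω₀)
          · intro h
            refine hx (Eq.trans (Quotient.sound ?_) (Quotient.out_eq ω₀))
            show x ∈ MulAction.orbit A (ω₀.out : α)
            rw [h]; exact hy
      have h4 := heven _ a.2
      rw [hswap, Equiv.Perm.sign_swap hyne'.symm] at h4
      exact absurd h4 (by decide)
    have hdiv : Nat.card A ∣ ∏ ω : O, Nat.card (MulAction.orbit A (ω.out : α)) := by
      haveI : ∀ ω : O, (MulAction.stabilizer A (ω.out : α)).Normal := fun ω =>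
        ⟨fun x hx g => by rwa [hcomm g x, mul_inv_cancel_right]⟩
      let F : A →* ∀ ω : O, A ⧸ MulAction.stabilizer A (ω.out : α) :=
        Pi.monoidHom fun ω => QuotientGroup.mk' _
      have hF : Function.Injective F := by
        intro a b h
        apply hf
        funext ω
        apply Subtype.ext
        have h1 : (QuotientGroup.mk a : A ⧸ MulAction.stabilizer A (ω.out : α)) = QuotientGroup.mk b :=
          congrFun h ω
        rw [QuotientGroup.eq, MulAction.mem_stabilizer_iff, ← smul_smul, inv_smul_eq_iff] at h1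
        exact h1.symm
      have h1 := Subgroup.card_dvd_of_injective F hF
      rw [Nat.card_pi] at h1
      convert h1 using 1
      exact Finset.prod_congr rfl fun ω _ =>
        Nat.card_congr (MulAction.orbitEquivQuotientStabilizer A (ω.out : α))
    have hne' : Nat.card A ≠ ∏ ω : O, Nat.card (MulAction.orbit A (ω.out : α)) := fun he =>
      hne ((Nat.bijective_iff_injective_and_card f).2 ⟨hf, by rw [Nat.card_pi]; exact he⟩).2
    obtain ⟨c, hc⟩ := hdiv
    have hc2 : 2 ≤ c := by
      rcases c with _ | _ | c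
      · rw [mul_zero] at hc
        refine absurd hc (Finset.prod_ne_zero_iff.2 fun ω _ => ?_)
        haveI : Nonempty ↥(MulAction.orbit A (ω.out : α)) := ⟨⟨_, MulAction.mem_orbit_self _⟩⟩
        exact Nat.card_pos.ne'
      · simp only [zero_add, mul_one] at hc
        exact absurd hc.symm hne'
      · omega
    have h3 : Nat.card A * 2 ≤ 2 * 3 ^ (k + 2) :=
      le_trans (Nat.mul_le_mul_left _ hc2) (hc ▸ hup)
    rw [pow_add] at h3
    omega

/-- The translation action on blocks of size three and four. -/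
def blocks (a b : ℕ) : Multiplicative (Fin a → ZMod 3) × Multiplicative (Fin b → ZMod 2 × ZMod 2) →*
    Equiv.Perm ((Fin a × ZMod 3) ⊕ (Fin b × (ZMod 2 × ZMod 2))) :=
  MonoidHom.mk' (fun v => Equiv.sumCongr
      (Equiv.prodCongrRight fun i => Equiv.addLeft (v.1.toAdd i))
      (Equiv.prodCongrRight fun i => Equiv.addLeft (v.2.toAdd i))) (by
    intro v w
    ext x
    rcases x with ⟨i, x⟩ | ⟨i, x⟩ <;> simp [add_assoc])

theorem exists_even {n : ℕ} (a b : ℕ) (h : 3 * a + 4 * b = n) :
    ∃ A : Subgroup (alternatingGroup (Fin n)), IsMulCommutative A ∧ Nat.card A = 3 ^ a * 4 ^ b := by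
  classical
  have hc : Fintype.card ((Fin a × ZMod 3) ⊕ (Fin b × (ZMod 2 × ZMod 2))) = Fintype.card (Fin n) := by
    simp; omega
  let e := Fintype.equivOfCardEq hc
  have hs : ∀ v, Equiv.Perm.sign (blocks a b v) = 1 := fun v => by
    have h3 : ∀ x : ZMod 3, Equiv.Perm.sign (Equiv.addLeft x) = 1 := by decide
    have h4 : ∀ x : ZMod 2 × ZMod 2, Equiv.Perm.sign (Equiv.addLeft x) = 1 := by decide
    show Equiv.Perm.sign (Equiv.sumCongr _ _) = 1
    rw [Equiv.Perm.sign_sumCongr, Equiv.Perm.sign_prodCongrRight, Equiv.Perm.sign_prodCongrRight,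
      Finset.prod_eq_one fun i _ => h3 _, Finset.prod_eq_one fun i _ => h4 _, mul_one]
  let f := ((e.permCongrHom.toMonoidHom).comp (blocks a b)).codRestrict (alternatingGroup (Fin n))
    fun v => by
      rw [Equiv.Perm.mem_alternatingGroup]
      show Equiv.Perm.sign (e.permCongr (blocks a b v)) = 1
      rw [Equiv.Perm.sign_permCongr]; exact hs v
  have hf : Function.Injective f := by
    intro v w hvw
    have h1 : blocks a b v = blocks a b w := e.permCongrHom.injective (congrArg Subtype.val hvw)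
    refine Prod.ext (Multiplicative.toAdd.injective (funext fun i => ?_))
      (Multiplicative.toAdd.injective (funext fun i => ?_))
    · simpa [blocks] using congrArg (fun σ => σ (Sum.inl (i, (0 : ZMod 3)))) h1
    · simpa [blocks] using congrArg (fun σ => σ (Sum.inr (i, (0 : ZMod 2 × ZMod 2)))) h1
  refine ⟨f.range, ⟨⟨?_⟩⟩, ?_⟩
  · rintro ⟨_, x, rfl⟩ ⟨_, y, rfl⟩
    apply Subtype.ext
    show f x * f y = f y * f x
    rw [← map_mul, mul_comm, map_mul]
  · rw [← Nat.card_congr (f.ofInjective hf).toEquiv]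
    simp [Nat.card_prod, Nat.card_pi]

theorem lift_bound {n : ℕ} (A : Subgroup (alternatingGroup (Fin n))) [hA : IsMulCommutative A] :
    ∃ A' : Subgroup (Equiv.Perm (Fin n)), IsMulCommutative A' ∧ Nat.card A' = Nat.card A ∧
      ∀ a ∈ A', Equiv.Perm.sign a = 1 := by
  refine ⟨A.map (alternatingGroup (Fin n)).subtype, ⟨⟨?_⟩⟩,
    (Nat.card_congr (A.equivMapOfInjective _ Subtype.val_injective).toEquiv).symm, ?_⟩
  · rintro ⟨_, x, hx, rfl⟩ ⟨_, y, hy, rfl⟩
    apply Subtype.ext
    have h := congrArg (fun z : A => ((z : alternatingGroup (Fin n)) : Equiv.Perm (Fin n)))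
      (hA.is_comm.comm ⟨x, hx⟩ ⟨y, hy⟩)
    exact h
  · rintro _ ⟨x, _, rfl⟩
    exact Equiv.Perm.mem_alternatingGroup.1 x.2

theorem main (k : ℕ) (hk : 2 ≤ k) :
    IsGreatest {c : ℕ | ∃ A : Subgroup (alternatingGroup (Fin (3 * k))), IsMulCommutative A ∧ Nat.card A = c} (3 ^ k) ∧
    IsGreatest {c : ℕ | ∃ A : Subgroup (alternatingGroup (Fin (3 * k + 1))), IsMulCommutative A ∧ Nat.card A = c}
      (4 * 3 ^ (k - 1)) ∧
    IsGreatest {c : ℕ | ∃ A : Subgroup (alternatingGroup (Fin (3 * k + 2))), IsMulCommutative A ∧ Nat.card A = c}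
      (16 * 3 ^ (k - 2)) := by
  obtain ⟨j, rfl⟩ : ∃ j, k = j + 2 := ⟨k - 2, by omega⟩
  obtain ⟨h0, h1, -⟩ := mp_three (j + 2) (by omega)
  refine ⟨⟨?_, ?_⟩, ⟨?_, ?_⟩, ⟨?_, ?_⟩⟩
  · obtain ⟨A, hA, hc⟩ := exists_even (n := 3 * (j + 2)) (j + 2) 0 (by omega)
    exact ⟨A, hA, by simpa using hc⟩
  · rintro c ⟨A, hA, rfl⟩
    haveI := hA
    obtain ⟨A', hA', hc, -⟩ := lift_bound A
    haveI := hA'
    simpa [h0, hc] using CfsgLib.Misc.AbelianPermMax.bound A'
  · obtain ⟨A, hA, hc⟩ := exists_even (n := 3 * (j + 2) + 1) (j + 1) 1 (by omega)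
    exact ⟨A, hA, by simpa [mul_comm] using hc⟩
  · rintro c ⟨A, hA, rfl⟩
    haveI := hA
    obtain ⟨A', hA', hc, -⟩ := lift_bound A
    haveI := hA'
    simpa [h1, hc] using CfsgLib.Misc.AbelianPermMax.bound A'
  · obtain ⟨A, hA, hc⟩ := exists_even (n := 3 * (j + 2) + 2) j 2 (by omega)
    exact ⟨A, hA, by simpa [mul_comm] using hc⟩
  · rintro c ⟨A, hA, rfl⟩
    haveI := hA
    obtain ⟨A', hA', hc, hev⟩ := lift_bound A
    haveI := hA'
    simpa [hc] using bound_two j (Fintype.card_fin _) A' hev

end CfsgLib.Misc.AbelianAltMax
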