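import Mathlib.GroupTheory.SpecificGroups.Alternating
import Mathlib.GroupTheory.GroupAction.Quotient
import Mathlib.GroupTheory.Perm.Support
import Mathlib.Combinatorics.Pigeonhole
import Mathlib.Tactic

/-!
Small subgroups of large alternating groups centralize alternating groups.
-/

set_option autoImplicit false

namespace CfsgLib.Misc.AltCentralize

open MulAction

theorem hom_alternating_units {r : ℕ} (f : alternatingGroup (Fin r) →* ℤˣ)
    (a : alternatingGroup (Fin r)) : f a = 1 := by
  have key : Subgroup.closure {σ : Equiv.Perm (Fin r) | σ.IsThreeCycle} ≤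
      (f.ker.map (alternatingGroup (Fin r)).subtype) := by
    rw [Subgroup.closure_le]
    intro σ hσ
    refine ⟨⟨σ, Equiv.Perm.mem_alternatingGroup.2 hσ.sign⟩, ?_, rfl⟩
    have h3 : (⟨σ, Equiv.Perm.mem_alternatingGroup.2 hσ.sign⟩ : alternatingGroup (Fin r)) ^ 3 = 1 :=
      Subtype.ext (by
        rw [SubmonoidClass.coe_pow, ← hσ.orderOf, pow_orderOf_eq_one]; rfl)
    have := congrArg f h3
    rw [map_pow, map_one, pow_succ, Int.units_sq, one_mul] at this
    exact this
  have ha : (a : Equiv.Perm (Fin r)) ∈ f.ker.map (alternatingGroup (Fin r)).subtype :=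
    key (by rw [Equiv.Perm.closure_three_cycles_eq_alternating]; exact a.2)
  obtain ⟨b, hb, hba⟩ := ha
  rwa [← show b = a from Subtype.ext hba]

theorem exists_points {H : Type*} [Group H] [Finite H] {m r : ℕ} [MulAction H (Fin m)]
    (hm : Nat.card H * r * 2 ^ Nat.card H + 1 ≤ m) :
    ∃ (L : Subgroup H) (x : Fin r → Fin m), (∀ i, stabilizer H (x i) = L) ∧
      ∀ i j (h : H), h • x i = x j → i = j := by
  classical
  have := Fintype.ofFinite H
  have : Fintype (Subgroup H) := Fintype.ofFinite _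
  have hS : Fintype.card (Subgroup H) ≤ 2 ^ Nat.card H := by
    rw [Nat.card_eq_fintype_card, ← Fintype.card_set]
    exact Fintype.card_le_of_injective _ SetLike.coe_injective
  obtain ⟨L, -, hL⟩ := Finset.exists_lt_card_fiber_of_mul_lt_card_of_maps_to
    (s := (Finset.univ : Finset (Fin m))) (t := (Finset.univ : Finset (Subgroup H)))
    (n := Nat.card H * r) (f := fun x => stabilizer H x) (fun _ _ => Finset.mem_univ _) (by
      rw [Finset.card_univ, Finset.card_univ, Fintype.card_fin]
      calc _ ≤ 2 ^ Nat.card H * (Nat.card H * r) := Nat.mul_le_mul_right _ hS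
        _ < m := by rw [Nat.mul_comm]; omega)
  set s := (Finset.univ.filter fun x : Fin m => stabilizer H x = L)
  set o : Fin m → Quotient (orbitRel H (Fin m)) := fun x => Quotient.mk _ x
  have hfib : ∀ b ∈ s.image o, (s.filter fun x => o x = b).card ≤ Nat.card H := by
    intro b hb
    obtain ⟨x, -, rfl⟩ := Finset.mem_image.1 hb
    rw [Nat.card_eq_fintype_card, ← Finset.card_univ]
    refine (Finset.card_le_card fun y hy => ?_).trans
      (Finset.card_image_le (s := (Finset.univ : Finset H)) (f := fun h : H => h • x))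
    obtain ⟨-, hy⟩ := Finset.mem_filter.1 hy
    obtain ⟨h, hh⟩ := Quotient.exact hy
    exact Finset.mem_image.2 ⟨h, Finset.mem_univ _, hh⟩
  have hr : r ≤ (s.image o).card := by
    by_contra h
    have := Finset.card_le_mul_card_image s (Nat.card H) hfib
    have := Nat.mul_le_mul_left (Nat.card H) (not_le.1 h).le
    omega
  obtain ⟨t, ht, htc⟩ := Finset.exists_subset_card_eq hr
  let e : Fin r ≃ t := (t.equivFinOfCardEq htc).symm
  have : ∀ i : Fin r, ∃ x ∈ s, o x = (e i : _) := fun i => by
    simpa [Finset.mem_image] using ht (e i).2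
  choose x hx hxo using this
  refine ⟨L, x, fun i => (Finset.mem_filter.1 (hx i)).2, fun i j h hh => ?_⟩
  refine e.injective (Subtype.ext ?_)
  rw [← hxo i, ← hxo j]
  exact (Quotient.sound (s := orbitRel H (Fin m)) ⟨h, hh⟩).symm

theorem exists_alt {m r : ℕ} (H : Subgroup ↥(alternatingGroup (Fin m)))
    (hm : Nat.card H * r * 2 ^ Nat.card H + 1 ≤ m) :
    ∃ K : Subgroup ↥(alternatingGroup (Fin m)), Nonempty (↥K ≃* ↥(alternatingGroup (Fin r))) ∧
      K ≤ Subgroup.centralizer (H : Set ↥(alternatingGroup (Fin m))) := by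
  classical
  obtain ⟨L, x, hstab, hx⟩ := exists_points (H := H) hm
  have hwell : ∀ i, ∀ a b : H, (QuotientGroup.mk a : H ⧸ L) = QuotientGroup.mk b ↔ a • x i = b • x i := by
    intro i a b
    rw [QuotientGroup.eq, ← hstab i, mem_stabilizer_iff, mul_smul, inv_smul_eq_iff]
    exact eq_comm
  let ι : (H ⧸ L) × Fin r → Fin m := fun p =>
    Quotient.liftOn' p.1 (fun a => a • x p.2) fun a b hab => (hwell p.2 a b).1 (Quotient.sound' hab)
  have hι : ∀ (a : H) i, ι (QuotientGroup.mk a, i) = a • x i := fun a i => rfl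
  have hinj : Function.Injective ι := by
    rintro ⟨c, i⟩ ⟨d, j⟩ hh
    induction c using QuotientGroup.induction_on with | _ a =>
    induction d using QuotientGroup.induction_on with | _ b =>
    rw [hι, hι] at hh
    obtain rfl : i = j := hx i j (b⁻¹ * a) (by rw [mul_smul, hh, inv_smul_smul])
    exact Prod.ext ((hwell i a b).2 hh) rfl
  let f : (H ⧸ L) × Fin r ≃ Subtype (· ∈ Set.range ι) := Equiv.ofInjective ι hinj
  let emb : Equiv.Perm (Fin r) →* Equiv.Perm ((H ⧸ L) × Fin r) :=
    { toFun := fun σ => Equiv.prodCongr (Equiv.refl _) σ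
      map_one' := rfl
      map_mul' := fun σ τ => rfl }
  obtain ⟨ψ, hψ1, hψ2⟩ : ∃ ψ : alternatingGroup (Fin r) →* Equiv.Perm (Fin m),
      (∀ (σ : alternatingGroup (Fin r)) (a : H) i,
        ψ σ (a • x i) = a • x ((σ : Equiv.Perm (Fin r)) i)) ∧
      ∀ (σ : alternatingGroup (Fin r)) y, y ∉ Set.range ι → ψ σ y = y :=
    ⟨((Equiv.Perm.extendDomainHom f).comp emb).comp (alternatingGroup (Fin r)).subtype,
      fun σ a i => Equiv.Perm.extendDomain_apply_image (emb σ) f (QuotientGroup.mk a, i),
      fun σ y hy => Equiv.Perm.extendDomain_apply_not_subtype _ _ hy⟩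
  let ψ' : alternatingGroup (Fin r) →* alternatingGroup (Fin m) :=
    ψ.codRestrict _ fun σ => Equiv.Perm.mem_alternatingGroup.2
      (hom_alternating_units (Equiv.Perm.sign.comp ψ) σ)
  have hψinj : Function.Injective ψ' := by
    intro σ τ h
    refine Subtype.ext (Equiv.ext fun i => ?_)
    have hst : ψ σ = ψ τ := congrArg Subtype.val h
    have := Equiv.Perm.congr_fun hst ((1 : H) • x i)
    rw [hψ1, hψ1, one_smul, one_smul] at this
    exact hx _ _ 1 (by rw [one_smul]; exact this)
  refine ⟨ψ'.range, ⟨(MonoidHom.ofInjective hψinj).symm⟩, ?_⟩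
  rintro _ ⟨σ, rfl⟩
  rw [Subgroup.mem_centralizer_iff]
  intro h hh
  refine Subtype.ext (Equiv.ext fun y => ?_)
  set a : H := ⟨h, hh⟩
  change a • ψ σ y = ψ σ (a • y)
  by_cases hy : y ∈ Set.range ι
  · obtain ⟨⟨c, i⟩, rfl⟩ := hy
    induction c using QuotientGroup.induction_on with | _ b =>
    rw [hι, hψ1, ← mul_smul, ← mul_smul, hψ1]
  · rw [hψ2 σ y hy, hψ2]
    rintro ⟨⟨c, i⟩, hc⟩
    induction c using QuotientGroup.induction_on with | _ b =>
    rw [hι] at hc
    exact hy ⟨(QuotientGroup.mk (a⁻¹ * b), i), by rw [hι, mul_smul, hc, inv_smul_smul]⟩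

end CfsgLib.Misc.AltCentralize
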