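import Mathlib

/-! Abelian Sylow subgroups of alternating groups. -/

set_option autoImplicit false

namespace CfsgLib.Misc.AltSylowInverse

theorem two_dvd_index {G : Type*} [Group G] [Finite G] {p : ℕ} [Fact p.Prime] (P : Sylow p G)
    (hP : IsMulCommutative (P : Subgroup G)) {g : G} (hgS : g ∈ (P : Subgroup G)) (hginv : g⁻¹ ≠ g)
    (hconj : IsConj g g⁻¹) :
    2 ∣ ((Subgroup.centralizer ((P : Subgroup G) : Set G)).subgroupOf
      (Subgroup.normalizer ((P : Subgroup G) : Set G))).index := by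
  classical
  set S : Subgroup G := (P : Subgroup G) with hS
  obtain ⟨c, hc⟩ := isConj_iff.1 hconj
  haveI := hP
  obtain ⟨m, hm, hmg⟩ := P.conj_eq_normalizer_conj_of_mem g c⁻¹ hgS
    (by rw [inv_inv, hc]; exact inv_mem hgS)
  rw [inv_inv, hc] at hmg
  set N := Subgroup.normalizer (S : Set G) with hN
  set C := (Subgroup.centralizer (S : Set G)).subgroupOf N with hC
  haveI : C.Normal := by
    refine ⟨fun x hx y => ?_⟩
    rw [hC, Subgroup.mem_subgroupOf, Subgroup.mem_centralizer_iff] at hx ⊢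
    intro s hs
    have hs' := (Subgroup.mem_normalizer_iff''.1 y.2 s).1 hs
    have h := hx _ hs'
    simp only [Subgroup.coe_mul, Subgroup.coe_inv]
    calc s * ((y : G) * x * (y : G)⁻¹)
        = y * (((y : G)⁻¹ * s * y) * x) * (y : G)⁻¹ := by group
      _ = y * (x * ((y : G)⁻¹ * s * y)) * (y : G)⁻¹ := by rw [h]
      _ = _ := by group
  let x : ↥N ⧸ C := QuotientGroup.mk ⟨m, hm⟩
  have hodd : ∀ j : ℕ, (m ^ j)⁻¹ * g * m ^ j = if Even j then g else g⁻¹ := by
    intro j
    induction j with
    | zero => simp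
    | succ j ih =>
      rw [pow_succ, mul_inv_rev]
      have : m⁻¹ * (m ^ j)⁻¹ * g * (m ^ j * m) = m⁻¹ * ((m ^ j)⁻¹ * g * m ^ j) * m := by group
      rw [this, ih]
      by_cases hj : Even j
      · rw [if_pos hj, if_neg (by simp [Nat.even_add_one, hj]), ← hmg]
      · rw [if_neg hj, if_pos (by simp [Nat.even_add_one, hj])]
        calc m⁻¹ * g⁻¹ * m = (m⁻¹ * g * m)⁻¹ := by group
          _ = g := by rw [← hmg, inv_inv]
  have heven : Even (orderOf x) := by
    by_contra hx
    have h1 : x ^ orderOf x = 1 := pow_orderOf_eq_one x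
    rw [← QuotientGroup.mk_pow, QuotientGroup.eq_one_iff] at h1
    simp only [hC, Subgroup.mem_subgroupOf, Subgroup.mem_centralizer_iff] at h1
    have h2 := hodd (orderOf x)
    have h3 : g * m ^ orderOf x = m ^ orderOf x * g := h1 g hgS
    rw [if_neg hx, mul_assoc, h3, inv_mul_cancel_left] at h2
    exact hginv h2.symm
  rw [Subgroup.index_eq_card]
  exact heven.two_dvd.trans (orderOf_dvd_natCard x)

/-- An even permutation commuting with an odd one is conjugate to its inverse in the alternating group. -/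
theorem isConj_inv {α : Type*} [Fintype α] [DecidableEq α] (g : alternatingGroup α) (τ : Equiv.Perm α)
    (hτ : Equiv.Perm.sign τ = -1) (hc : τ * (g : Equiv.Perm α) = (g : Equiv.Perm α) * τ) :
    IsConj g g⁻¹ := by
  obtain ⟨c, h⟩ := isConj_iff.1 (Equiv.Perm.isConj_iff_cycleType_eq.2
    (Equiv.Perm.cycleType_inv (g : Equiv.Perm α)).symm : IsConj (g : Equiv.Perm α) (g : Equiv.Perm α)⁻¹)
  rcases Int.units_eq_one_or (Equiv.Perm.sign c) with e | e
  · exact isConj_iff.2 ⟨⟨c, Equiv.Perm.mem_alternatingGroup.2 e⟩, Subtype.ext h⟩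
  · refine isConj_iff.2 ⟨⟨c * τ, Equiv.Perm.mem_alternatingGroup.2 (by rw [map_mul, e, hτ]; rfl)⟩, Subtype.ext ?_⟩
    show c * τ * (g : Equiv.Perm α) * (c * τ)⁻¹ = (g : Equiv.Perm α)⁻¹
    rw [← h, mul_assoc c, hc]; group

theorem exists_mem {n p : ℕ} [Fact p.Prime] (P : Sylow p (alternatingGroup (Fin n))) (m : Multiset ℕ)
    (hm : m.sum ≤ n) (hm2 : ∀ a ∈ m, 2 ≤ a)
    (hsgn : ∀ σ : Equiv.Perm (Fin n), σ.cycleType = m → Equiv.Perm.sign σ = 1)
    (hpow : ∃ k, m.lcm ∣ p ^ k) :
    ∃ g ∈ (P : Subgroup (alternatingGroup (Fin n))), (g : Equiv.Perm (Fin n)).cycleType = m := by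
  obtain ⟨σ, hσ⟩ := (Equiv.Perm.exists_with_cycleType_iff (α := Fin n)).2 ⟨by simpa using hm, hm2⟩
  let s : alternatingGroup (Fin n) := ⟨σ, Equiv.Perm.mem_alternatingGroup.2 (hsgn σ hσ)⟩
  obtain ⟨k, hk⟩ := hpow
  rw [← hσ, Equiv.Perm.lcm_cycleType] at hk
  have hs : IsPGroup p (Subgroup.zpowers s) := by
    rintro ⟨y, hy⟩
    refine ⟨k, Subtype.ext ?_⟩
    obtain ⟨z, rfl⟩ := hy
    have hs1 : s ^ p ^ k = 1 := Subtype.ext (by
      simpa [s] using orderOf_dvd_iff_pow_eq_one.1 hk)
    show (s ^ z) ^ p ^ k = 1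
    rw [← zpow_natCast, ← zpow_mul, mul_comm, zpow_mul, zpow_natCast, hs1, one_zpow]
  obtain ⟨Q, hQ⟩ := hs.exists_le_sylow
  obtain ⟨c, hc⟩ := MulAction.exists_smul_eq (alternatingGroup (Fin n)) Q P
  refine ⟨c * s * c⁻¹, ?_, ?_⟩
  · rw [← hc]
    exact ⟨s, hQ (Subgroup.mem_zpowers s), rfl⟩
  · show ((c : Equiv.Perm (Fin n)) * σ * (c : Equiv.Perm (Fin n))⁻¹).cycleType = m
    rw [Equiv.Perm.cycleType_conj, hσ]

theorem inv_ne {G : Type*} [Group G] {g : G} (h : 2 < orderOf g) : g⁻¹ ≠ g := by
  intro e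
  have : g ^ 2 = 1 := by rw [pow_two]; exact inv_eq_iff_mul_eq_one.1 e
  have := Nat.le_of_dvd two_pos (orderOf_dvd_of_pow_eq_one this)
  omega

theorem even_or_cyclic (n : ℕ) {p : ℕ} [Fact p.Prime]
    (P : Sylow p (alternatingGroup (Fin n))) (hP : IsMulCommutative (P : Subgroup (alternatingGroup (Fin n))))
    (h : p ≠ 2 ∨ 6 ≤ n) :
    2 ∣ ((Subgroup.centralizer ((P : Subgroup (alternatingGroup (Fin n))) : Set (alternatingGroup (Fin n)))).subgroupOf (Subgroup.normalizer ((P : Subgroup (alternatingGroup (Fin n))) : Set (alternatingGroup (Fin n))))).index ∨ IsCyclic (P : Subgroup (alternatingGroup (Fin n))) := by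
  have hp : p.Prime := Fact.out
  by_cases hp2 : p = 2
  · subst hp2
    have hn : 6 ≤ n := h.resolve_left (by simp)
    obtain ⟨g, hgP, hg⟩ := exists_mem P {4, 2} (by simpa using hn) (by simp)
      (fun σ hσ => by rw [Equiv.Perm.sign_of_cycleType, hσ]; decide) ⟨2, by decide⟩
    left
    have ho : orderOf (g : Equiv.Perm (Fin n)) = 4 := by
      rw [← Equiv.Perm.lcm_cycleType, hg]; decide
    refine two_dvd_index P hP hgP (inv_ne (by rw [← Subgroup.orderOf_coe, ho]; norm_num)) ?_
    have h2 : 2 ∈ (g : Equiv.Perm (Fin n)).cycleType := by rw [hg]; simp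
    rw [Equiv.Perm.cycleType_def, Multiset.mem_map] at h2
    obtain ⟨τ, hτ, hτc⟩ := h2
    refine isConj_inv g τ (Equiv.Perm.card_support_eq_two.1 hτc).sign_eq ?_
    exact (Equiv.Perm.self_mem_cycle_factors_commute hτ).eq
  · have hp3 : 3 ≤ p := by have := hp.two_le; omega
    rcases lt_or_ge n (2 * p) with hlt | hge
    · right
      have hv : padicValNat p n.factorial ≤ 1 := by
        have hd := Nat.div_add_mod n p
        rw [← hd, padicValNat_factorial_mul_add _ (Nat.mod_lt _ hp.pos), padicValNat_factorial_mul]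
        have : n / p < 2 := Nat.div_lt_of_lt_mul (by linarith)
        interval_cases n / p <;> simp
      obtain ⟨e, he⟩ := IsPGroup.iff_card.1 P.isPGroup'
      have hd : p ^ e ∣ n.factorial := by
        rw [← he]
        refine (Subgroup.card_subgroup_dvd_card _).trans ?_
        have := Subgroup.card_subgroup_dvd_card (alternatingGroup (Fin n))
        rwa [Nat.card_perm, Nat.card_fin] at this
      have he1 : e ≤ 1 := (padicValNat_dvd_iff_le n.factorial_ne_zero).1 hd |>.trans hv
      interval_cases e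
      · haveI : Subsingleton (P : Subgroup (alternatingGroup (Fin n))) :=
          (Nat.card_eq_one_iff_unique.1 (by simpa using he)).1
        infer_instance
      · exact isCyclic_of_prime_card (p := p) (by simpa using he)
    · left
      obtain ⟨g, hgP, hg⟩ := exists_mem P {p} (by simp; omega) (by simp; exact hp.two_le)
        (fun σ hσ => by
          rw [Equiv.Perm.sign_of_cycleType, hσ]
          simp only [Multiset.sum_singleton, Multiset.card_singleton]
          exact ((hp.odd_of_ne_two hp2).add_one).neg_one_pow) ⟨1, by simp⟩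
      have ho : orderOf (g : Equiv.Perm (Fin n)) = p := by
        rw [← Equiv.Perm.lcm_cycleType, hg]; simp
      refine two_dvd_index P hP hgP (inv_ne (by rw [← Subgroup.orderOf_coe, ho]; omega)) ?_
      have hs : (g : Equiv.Perm (Fin n)).support.card = p := by
        rw [← Equiv.Perm.sum_cycleType, hg]; simp
      have : 1 < ((g : Equiv.Perm (Fin n)).supportᶜ).card := by
        rw [Finset.card_compl, Fintype.card_fin, hs]; omega
      obtain ⟨a, ha, b, hb, hab⟩ := Finset.one_lt_card.1 this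
      rw [Finset.mem_compl, Equiv.Perm.notMem_support] at ha hb
      refine isConj_inv g (Equiv.swap a b) (Equiv.Perm.sign_swap hab) ?_
      have h1 := Equiv.mul_swap_eq_swap_mul (g : Equiv.Perm (Fin n)) a b
      rw [ha, hb] at h1
      exact h1.symm

theorem five_check : ∀ a b : alternatingGroup (Fin 5), a ≠ 1 → b ≠ 1 → a ≠ b → a * a = 1 → b * b = 1 → a * b = b * a →
    (Finset.univ.filter fun x : alternatingGroup (Fin 5) => a * x = x * a ∧ b * x = x * b).card = 4 ∧
    (Finset.univ.filter fun x : alternatingGroup (Fin 5) =>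
      x * a * x⁻¹ ∈ [1, a, b, a * b] ∧ x * b * x⁻¹ ∈ [1, a, b, a * b]).card = 12 := by decide +kernel

theorem five_exp : ∀ x : alternatingGroup (Fin 5), x ^ 4 = 1 → x * x = 1 := by decide +kernel

theorem five (P : Sylow 2 (alternatingGroup (Fin 5))) :
    ((Subgroup.centralizer ((P : Subgroup (alternatingGroup (Fin 5))) : Set (alternatingGroup (Fin 5)))).subgroupOf (Subgroup.normalizer ((P : Subgroup (alternatingGroup (Fin 5))) : Set (alternatingGroup (Fin 5))))).index = 3 ∧ IsKleinFour (P : Subgroup (alternatingGroup (Fin 5))) := by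
  classical
  set S := (P : Subgroup (alternatingGroup (Fin 5))) with hSdef
  have hA : Nat.card (alternatingGroup (Fin 5)) = 60 := by
    rw [nat_card_alternatingGroup]; simp [Nat.factorial]
  have hS : Nat.card S = 4 := by
    rw [hSdef, P.card_eq_multiplicity, hA]
    rw [show (60 : ℕ) = 2 ^ 2 * 15 from rfl, Nat.factorization_mul (by norm_num) (by norm_num)]
    rw [Nat.factorization_pow, Finsupp.add_apply, Finsupp.smul_apply, Nat.Prime.factorization_self Nat.prime_two,
      Nat.factorization_eq_zero_of_not_dvd (show ¬ 2 ∣ 15 by norm_num)]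
    rfl
  have hsq : ∀ x ∈ S, x * x = 1 := fun x hx => five_exp x (by
    have h := pow_card_eq_one' (G := S) (x := ⟨x, hx⟩)
    rw [hS] at h
    simpa using congrArg Subtype.val h)
  have hcomm : ∀ x ∈ S, ∀ y ∈ S, x * y = y * x := fun x hx y hy => by
    have h := hsq _ (mul_mem hx hy)
    calc x * y = (x * y)⁻¹ := (inv_eq_of_mul_eq_one_right h).symm
      _ = y * x := by rw [mul_inv_rev, inv_eq_of_mul_eq_one_right (hsq x hx), inv_eq_of_mul_eq_one_right (hsq y hy)]
  let T := Finset.univ.filter fun x => x ∈ S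
  have hT : T.card = 4 := by
    rw [← hS, Nat.card_eq_fintype_card, Fintype.card_subtype]
  obtain ⟨a, haT, ha⟩ := Finset.exists_mem_ne (by omega : 1 < T.card) 1
  have h3 : 0 < ((T.erase 1).erase a).card := by
    rw [Finset.card_erase_of_mem (Finset.mem_erase.2 ⟨ha, haT⟩), Finset.card_erase_of_mem (by simp [T])]
    omega
  obtain ⟨b, hb'⟩ := Finset.card_pos.1 h3
  simp only [Finset.mem_erase] at hb'
  obtain ⟨hba, hb, hbT⟩ := hb'
  have haS : a ∈ S := by simpa [T] using haT
  have hbS : b ∈ S := by simpa [T] using hbT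
  have hmem : ∀ x, x ∈ S ↔ x ∈ [1, a, b, a * b] := by
    have hsub : ([1, a, b, a * b] : List _).toFinset ⊆ T := by
      intro x hx
      simp at hx
      rcases hx with rfl | rfl | rfl | rfl <;> simp [T, haS, hbS, S.one_mem, mul_mem]
    have hnd : ([1, a, b, a * b] : List _).Nodup := by
      have e1 : a * b ≠ 1 := fun e => hba ((inv_eq_of_mul_eq_one_right e).symm.trans (inv_eq_of_mul_eq_one_right (hsq a haS)))
      simp [List.nodup_cons, ha.symm, hb.symm, Ne.symm hba, e1.symm, ha, hb]
    have heq := Finset.eq_of_subset_of_card_le hsub (by rw [hT, List.toFinset_card_of_nodup hnd]; simp)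
    intro x
    rw [← List.mem_toFinset, heq]
    simp [T]
  obtain ⟨hc4, hn12⟩ := five_check a b ha hb hba.symm (hsq a haS) (hsq b hbS) (hcomm a haS b hbS)
  have hC : Nat.card (Subgroup.centralizer (S : Set (alternatingGroup (Fin 5)))) = 4 := by
    rw [← hc4, Nat.card_eq_fintype_card, Fintype.card_subtype]
    congr 1
    refine Finset.filter_congr fun x _ => ?_
    rw [Subgroup.mem_centralizer_iff]
    refine ⟨fun h => ⟨h a haS, h b hbS⟩, fun h y hy => ?_⟩
    have hy' := (hmem y).1 hy
    simp at hy'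
    rcases hy' with rfl | rfl | rfl | rfl
    · simp
    · exact h.1
    · exact h.2
    · rw [mul_assoc, h.2, ← mul_assoc, h.1, mul_assoc]
  have hN : Nat.card (Subgroup.normalizer (S : Set (alternatingGroup (Fin 5)))) = 12 := by
    rw [← hn12, Nat.card_eq_fintype_card, Fintype.card_subtype]
    congr 1
    refine Finset.filter_congr fun x _ => ?_
    rw [Subgroup.mem_normalizer_iff, ← hmem, ← hmem]
    refine ⟨fun h => ⟨(h a).1 haS, (h b).1 hbS⟩, fun h => ?_⟩
    have hle : S.map (MulAut.conj x).toMonoidHom ≤ S := by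
      rintro _ ⟨y, hy, rfl⟩
      have hy' := (hmem y).1 hy
      simp at hy'
      show x * y * x⁻¹ ∈ S
      rcases hy' with rfl | rfl | rfl | rfl
      · simp [S.one_mem]
      · exact h.1
      · exact h.2
      · rw [show x * (a * b) * x⁻¹ = (x * a * x⁻¹) * (x * b * x⁻¹) by group]; exact mul_mem h.1 h.2
    have heq := Subgroup.eq_of_le_of_card_ge hle
      (by rw [Subgroup.card_map_of_injective (MulEquiv.injective _)])
    intro y
    refine ⟨fun hy => hle ⟨y, hy, rfl⟩, fun hy => ?_⟩
    rw [← heq] at hy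
    obtain ⟨z, hz, e⟩ := hy
    rwa [show y = z from (MulAut.conj x).injective e.symm]
  refine ⟨?_, ⟨hS, ?_⟩⟩
  · have hle : Subgroup.centralizer (S : Set (alternatingGroup (Fin 5))) ≤ Subgroup.normalizer (S : Set (alternatingGroup (Fin 5))) := Subgroup.centralizer_le_normalizer _
    have h := ((Subgroup.centralizer (S : Set (alternatingGroup (Fin 5)))).subgroupOf
      (Subgroup.normalizer (S : Set (alternatingGroup (Fin 5))))).card_mul_index
    rw [Nat.card_congr (Subgroup.subgroupOfEquivOfLe hle).toEquiv, hC, hN] at h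
    omega
  · have hd : Monoid.exponent S ∣ 2 := Monoid.exponent_dvd_of_forall_pow_eq_one fun x =>
      Subtype.ext (by rw [pow_two]; exact hsq _ x.2)
    rcases (Nat.dvd_prime Nat.prime_two).1 hd with e | e
    · haveI := Monoid.exp_eq_one_iff.1 e
      rw [Nat.card_unique] at hS
      omega
    · exact e

end CfsgLib.Misc.AltSylowInverse
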