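import Cfsg.Agent.Char.Induce
import Cfsg.Agent.Char.Central
import Cfsg.Prelude.Def_ParabolicCharacters

/-!
Characters induced from the Borel subgroup of GL₂ and SL₂.
-/

set_option autoImplicit false
set_option linter.unusedSectionVars false
set_option linter.unusedSimpArgs false

namespace CfsgLib.Misc.BorelInduced

open Cfsg CfsgLib.Char
open scoped ComplexConjugate

variable {F : Type*} [Field F] [Fintype F] {G : Type*} [Group G] [Fintype G]
  (ι : G →* GL (Fin 2) F) (θ : F → F → ℂ)

/-- the matrix of an element -/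
def mat (g : G) : Matrix (Fin 2) (Fin 2) F := (ι g : Matrix (Fin 2) (Fin 2) F)

theorem mat_mul (g h : G) : mat ι (g * h) = mat ι g * mat ι h := by simp [mat]

/-- the Borel subgroup -/
abbrev Bor : Subgroup G := (upperTriangularGL 2 F).comap ι

theorem mem_Bor {g : G} : g ∈ Bor ι ↔ mat ι g 1 0 = 0 := by
  constructor
  · intro h; exact h (show (0 : Fin 2) < 1 by decide)
  · intro h i j hij
    fin_cases i <;> fin_cases j <;> first | exact h | (exfalso; revert hij; decide)

theorem mat_det_ne (g : G) : (mat ι g).det ≠ 0 := Matrix.GeneralLinearGroup.det_ne_zero (ι g)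

theorem diag_ne {g : G} (h : mat ι g 1 0 = 0) : mat ι g 0 0 ≠ 0 ∧ mat ι g 1 1 ≠ 0 := by
  have hd := mat_det_ne ι g
  rw [Matrix.det_fin_two, h, mul_zero, sub_zero] at hd
  exact mul_ne_zero_iff.1 hd

/-- the inducing function -/
def th (b : Bor ι) : ℂ := θ (mat ι b 0 0) (mat ι b 1 1)

variable (r : Option F → G) (hnone : r none = 1) (hsome : ∀ t, mat ι (r (some t)) = !![t, -1; 1, 0])

include hnone hsome in
theorem decomp : Function.Bijective (fun p : Option F × Bor ι => r p.1 * (p.2 : G)) := by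
  have hcol : ∀ (P : Option F) (h : Bor ι),
      (P = none ↔ mat ι (r P * h) 1 0 = 0) ∧ (∀ t, P = some t → mat ι (r P * h) 0 0 = t * mat ι (r P * h) 1 0) := by
    intro P h
    have hh := (mem_Bor ι).1 h.2
    obtain ⟨h0, -⟩ := diag_ne ι hh
    cases P with
    | none => exact ⟨iff_of_true rfl (by rw [hnone, one_mul]; exact hh), fun t ht => (Option.some_ne_none t ht.symm).elim⟩
    | some t =>
      rw [mat_mul, hsome]
      refine ⟨iff_of_false (Option.some_ne_none t) (by simpa [Matrix.mul_apply, Fin.sum_univ_two] using h0), ?_⟩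
      intro t' ht
      cases ht
      simp [Matrix.mul_apply, Fin.sum_univ_two, hh]
  constructor
  · rintro ⟨P, h⟩ ⟨P', h'⟩ (e : r P * (h : G) = r P' * (h' : G))
    obtain rfl : P = P' := by
      cases P with
      | none => exact ((hcol P' h').1.2 (e ▸ (hcol none h).1.1 rfl)).symm
      | some t =>
        cases P' with
        | none => exact absurd ((hcol (some t) h).1.2 (e.symm ▸ (hcol none h').1.1 rfl)) (Option.some_ne_none t)
        | some t' =>
          have a := (hcol (some t) h).2 t rfl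
          have b := (hcol (some t') h').2 t' rfl
          have c : mat ι (r (some t) * h) 1 0 ≠ 0 := fun hc => Option.some_ne_none t ((hcol (some t) h).1.2 hc)
          rw [e] at a c
          rw [b] at a
          exact congrArg some (mul_right_cancel₀ c a).symm
    exact Prod.ext rfl (Subtype.ext (mul_left_cancel e))
  · intro x
    by_cases hx : mat ι x 1 0 = 0
    · exact ⟨(none, ⟨x, (mem_Bor ι).2 hx⟩), by simp [hnone]⟩
    · refine ⟨(some (mat ι x 0 0 / mat ι x 1 0), ⟨(r (some (mat ι x 0 0 / mat ι x 1 0)))⁻¹ * x, (mem_Bor ι).2 ?_⟩),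
        by simp⟩
      obtain ⟨R, hR⟩ : ∃ R, R = r (some (mat ι x 0 0 / mat ι x 1 0)) := ⟨_, rfl⟩
      rw [← hR]
      obtain ⟨y, hy⟩ : ∃ y, y = R⁻¹ * x := ⟨_, rfl⟩
      have hx' : x = R * y := by rw [hy, mul_inv_cancel_left]
      rw [← hy]
      have e0 : mat ι x 0 0 = (mat ι R * mat ι y) 0 0 := by rw [hx', mat_mul]
      have e1 : mat ι x 1 0 = (mat ι R * mat ι y) 1 0 := by rw [hx', mat_mul]
      rw [hR, hsome] at e0 e1
      simp [Matrix.mul_apply, Fin.sum_univ_two] at e0 e1
      rw [← e1, div_mul_cancel₀ _ hx] at e0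
      linear_combination e0

include hnone hsome in
theorem ind_eq (g : G) :
    indFun (Bor ι) (th ι θ) g =
      extendByZero (Bor ι) (th ι θ) g + ∑ t : F, extendByZero (Bor ι) (th ι θ) ((r (some t))⁻¹ * g * r (some t)) := by
  classical
  have hinv : ∀ (h : Bor ι) (y : G), extendByZero (Bor ι) (th ι θ) ((h : G)⁻¹ * y * h) =
      extendByZero (Bor ι) (th ι θ) y := by
    intro h y
    by_cases hy : y ∈ Bor ι
    · have hm : (h : G)⁻¹ * y * h ∈ Bor ι := (Bor ι).mul_mem ((Bor ι).mul_mem ((Bor ι).inv_mem h.2) hy) h.2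
      rw [extendByZero_mem' _ _ hy, extendByZero_mem' _ _ hm]
      have hh := (mem_Bor ι).1 h.2
      obtain ⟨h0, h1⟩ := diag_ne ι hh
      have e : mat ι h * mat ι ((h : G)⁻¹ * y * h) = mat ι y * mat ι h := by
        rw [← mat_mul, ← mat_mul]
        congr 1
        group
      have z := (mem_Bor ι).1 hm
      have zy := (mem_Bor ι).1 hy
      have e00 := congrFun (congrFun e 0) 0
      have e11 := congrFun (congrFun e 1) 1
      simp [Matrix.mul_apply, Fin.sum_univ_two, hh, z, zy] at e00 e11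
      simp only [th]
      rw [mul_comm] at e00 e11
      rw [mul_right_cancel₀ h0 e00, mul_right_cancel₀ h1 (e11.trans (by ring))]
    · rw [extendByZero_not_mem _ _ hy, extendByZero_not_mem]
      intro hm
      refine hy ?_
      have := (Bor ι).mul_mem ((Bor ι).mul_mem h.2 hm) ((Bor ι).inv_mem h.2)
      simpa [mul_assoc] using this
  haveI : Fintype (Bor ι) := Fintype.ofFinite _
  rw [indFun_apply, ← Fintype.sum_bijective _ (decomp ι r hnone hsome) _ _ (fun _ => rfl), Fintype.sum_prod_type]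
  have e : ∀ P : Option F, ∑ h : Bor ι, extendByZero (Bor ι) (th ι θ) ((r P * (h : G))⁻¹ * g * (r P * h)) =
      (Nat.card (Bor ι) : ℂ) * extendByZero (Bor ι) (th ι θ) ((r P)⁻¹ * g * r P) := by
    intro P
    rw [Nat.card_eq_fintype_card, ← nsmul_eq_mul, ← Finset.card_univ, ← Finset.sum_const]
    refine Finset.sum_congr rfl fun h _ => ?_
    refine Eq.trans ?_ (hinv h _)
    congr 1
    group
  simp only [e, ← Finset.mul_sum]
  rw [inv_mul_cancel_left₀ (Nat.cast_ne_zero.2 Nat.card_pos.ne'), Fintype.sum_option, hnone]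
  simp

variable [DecidableEq F]

include hnone hsome in
theorem ind_formula (g : G) :
    indFun (Bor ι) (th ι θ) g = (if mat ι g 1 0 = 0 then θ (mat ι g 0 0) (mat ι g 1 1) else 0) +
      ∑ t : F, if mat ι g 1 0 * t ^ 2 + (mat ι g 1 1 - mat ι g 0 0) * t - mat ι g 0 1 = 0
        then θ (mat ι g 1 0 * t + mat ι g 1 1) (mat ι g 0 0 - t * mat ι g 1 0) else 0 := by
  have key : ∀ y : G, extendByZero (Bor ι) (th ι θ) y = if mat ι y 1 0 = 0 then θ (mat ι y 0 0) (mat ι y 1 1) else 0 := by
    intro y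
    split_ifs with h
    · rw [extendByZero_mem' _ _ ((mem_Bor ι).2 h)]; rfl
    · exact extendByZero_not_mem _ _ fun hm => h ((mem_Bor ι).1 hm)
  rw [ind_eq ι θ r hnone hsome, key]
  congr 1
  refine Finset.sum_congr rfl fun t _ => ?_
  rw [key]
  obtain ⟨y, hy⟩ : ∃ y, y = (r (some t))⁻¹ * g * r (some t) := ⟨_, rfl⟩
  rw [← hy]
  have e : mat ι (r (some t)) * mat ι y = mat ι g * mat ι (r (some t)) := by
    rw [← mat_mul, ← mat_mul, hy]
    congr 1
    group
  rw [hsome] at e
  have e00 := congrFun (congrFun e 0) 0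
  have e01 := congrFun (congrFun e 0) 1
  have e10 := congrFun (congrFun e 1) 0
  have e11 := congrFun (congrFun e 1) 1
  simp [Matrix.mul_apply, Fin.sum_univ_two] at e00 e01 e10 e11
  have c10 : mat ι y 1 0 = mat ι g 1 0 * t ^ 2 + (mat ι g 1 1 - mat ι g 0 0) * t - mat ι g 0 1 := by
    linear_combination t * e10 - e00
  have c00 : mat ι y 0 0 = mat ι g 1 0 * t + mat ι g 1 1 := by linear_combination e10
  have c11 : mat ι y 1 1 = mat ι g 0 0 - t * mat ι g 1 0 := by linear_combination t * e11 - e01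
  rw [c10, c00, c11]

/-- diagonal with distinct entries -/
theorem ind_diag {g : G} (h10 : mat ι g 1 0 = 0) (h01 : mat ι g 0 1 = 0) (hne : mat ι g 0 0 ≠ mat ι g 1 1)
    (hnone : r none = 1) (hsome : ∀ t, mat ι (r (some t)) = !![t, -1; 1, 0]) :
    indFun (Bor ι) (th ι θ) g = θ (mat ι g 0 0) (mat ι g 1 1) + θ (mat ι g 1 1) (mat ι g 0 0) := by
  rw [ind_formula ι θ r hnone hsome, if_pos h10, h10, h01]
  congr 1
  rw [Finset.sum_eq_single (0 : F)]
  · simp
  · intro t _ ht
    rw [if_neg]
    simp [ht, sub_ne_zero.2 hne.symm]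
  · simp

/-- no eigenvector -/
theorem ind_elliptic {g : G} (h : ∀ (c : F) (v : Fin 2 → F), v ≠ 0 → (mat ι g).mulVec v ≠ c • v)
    (hnone : r none = 1) (hsome : ∀ t, mat ι (r (some t)) = !![t, -1; 1, 0]) :
    indFun (Bor ι) (th ι θ) g = 0 := by
  rw [ind_formula ι θ r hnone hsome, if_neg, zero_add]
  · refine Finset.sum_eq_zero fun t _ => if_neg fun ht => ?_
    refine h (mat ι g 1 0 * t + mat ι g 1 1) ![t, 1] (fun e => one_ne_zero (congrFun e 1)) ?_
    funext i
    fin_cases i <;> simp [Matrix.mulVec, dotProduct, Fin.sum_univ_two]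
    linear_combination -ht
  · intro h10
    refine h (mat ι g 0 0) ![1, 0] (fun e => one_ne_zero (congrFun e 0)) ?_
    funext i
    fin_cases i <;> simp [Matrix.mulVec, dotProduct, Fin.sum_univ_two, h10]

theorem ind_unip {g : G} (h10 : mat ι g 1 0 = 0) (heq : mat ι g 0 0 = mat ι g 1 1) (h01 : mat ι g 0 1 ≠ 0)
    (hnone : r none = 1) (hsome : ∀ t, mat ι (r (some t)) = !![t, -1; 1, 0]) :
    indFun (Bor ι) (th ι θ) g = θ (mat ι g 0 0) (mat ι g 1 1) := by
  rw [ind_formula ι θ r hnone hsome, if_pos h10, add_eq_left]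
  refine Finset.sum_eq_zero fun t _ => if_neg ?_
  rw [h10, heq]
  simpa using h01

theorem ind_scalar {g : G} (h10 : mat ι g 1 0 = 0) (heq : mat ι g 0 0 = mat ι g 1 1) (h01 : mat ι g 0 1 = 0)
    (hnone : r none = 1) (hsome : ∀ t, mat ι (r (some t)) = !![t, -1; 1, 0]) :
    indFun (Bor ι) (th ι θ) g = ((Fintype.card F : ℂ) + 1) * θ (mat ι g 0 0) (mat ι g 1 1) := by
  rw [ind_formula ι θ r hnone hsome, if_pos h10, h10, heq, h01]
  simp
  ring

include hnone hsome in
/-- the inner product of two induced functions, as a sum over the diagonal -/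
theorem inner_ind {T : Type*} [Fintype T] (e : T × F ≃ Bor ι) (a d : T → F)
    (he00 : ∀ p, mat ι (e p) 0 0 = a p.1) (he01 : ∀ p, mat ι (e p) 0 1 = p.2)
    (he11 : ∀ p, mat ι (e p) 1 1 = d p.1) (θ' : F → F → ℂ) :
    classInner (indFun (Bor ι) (th ι θ)) (indFun (Bor ι) (th ι θ')) =
      (Fintype.card T : ℂ)⁻¹ * ∑ s : T, θ (a s) (d s) * (conj (θ' (a s) (d s)) + conj (θ' (d s) (a s))) := by
  classical
  haveI : Fintype (Bor ι) := Fintype.ofFinite _
  rw [CfsgLib.Char.frobenius _ _ (indFun_classFun _ _), classInner_def]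
  rw [← Fintype.sum_equiv e (fun p => th ι θ (e p) * conj (indFun (Bor ι) (th ι θ') (e p : G))) _ (fun _ => rfl),
    Fintype.sum_prod_type]
  have hs : ∀ s : T, ∑ x : F, th ι θ (e (s, x)) * conj (indFun (Bor ι) (th ι θ') (e (s, x) : G)) =
      (Fintype.card F : ℂ) * (θ (a s) (d s) * (conj (θ' (a s) (d s)) + conj (θ' (d s) (a s)))) := by
    intro s
    have hv : ∀ x : F, th ι θ (e (s, x)) * conj (indFun (Bor ι) (th ι θ') (e (s, x) : G)) =
        θ (a s) (d s) * (conj (θ' (a s) (d s)) +
          ∑ t : F, if x = (d s - a s) * t then conj (θ' (d s) (a s)) else 0) := by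
      intro x
      rw [ind_formula ι θ' r hnone hsome, if_pos ((mem_Bor ι).1 (e (s, x)).2), (mem_Bor ι).1 (e (s, x)).2]
      simp only [th, he00, he01, he11, map_add, map_sum, apply_ite conj, map_zero]
      congr 2
      refine Finset.sum_congr rfl fun t _ => ?_
      simp only [zero_mul, zero_add, mul_zero, sub_zero]
      refine if_congr ⟨fun h => by linear_combination -h, fun h => by rw [h]; ring⟩ rfl rfl
    simp only [hv, mul_add, Finset.sum_add_distrib, Finset.sum_const, Finset.card_univ, nsmul_eq_mul, ← Finset.mul_sum]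
    rw [Finset.sum_comm]
    simp
    ring
  simp only [hs, ← Finset.mul_sum]
  rw [Nat.card_congr e.symm, Nat.card_prod, Nat.card_eq_fintype_card, Nat.card_eq_fintype_card, Nat.cast_mul,
    mul_inv, mul_assoc, inv_mul_cancel_left₀ (Nat.cast_ne_zero.2 Fintype.card_ne_zero)]

omit [Fintype G] in
theorem sum_char (μ : MulChar F ℂ) [Decidable (μ = 1)] :
    ∑ a : Fˣ, μ (a : F) = if μ = 1 then (Fintype.card Fˣ : ℂ) else 0 := by
  split_ifs with h
  · subst h; simp
  · rw [show (0 : ℂ) = ∑ a : F, μ a from (MulChar.sum_eq_zero_of_ne_one h).symm]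
    rw [← Finset.add_sum_erase Finset.univ (fun a : F => μ a) (Finset.mem_univ (0 : F)), MulChar.map_zero, zero_add]
    refine Finset.sum_bij (fun a _ => (a : F)) (fun a _ => by simp) (fun a _ b _ h => Units.ext h)
      (fun b hb => ⟨Units.mk0 b (Finset.mem_erase.1 hb).1, Finset.mem_univ _, rfl⟩) (fun a _ => rfl)

end CfsgLib.Misc.BorelInduced
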