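import Cfsg.Agent.Misc.GLTwoClassify
import Cfsg.Agent.Char.Classes

/-!
Counting irreducible characters of GL₂(q) and SL₂(q) by degree.
-/

set_option autoImplicit false
set_option linter.unusedSectionVars false
set_option linter.unusedSimpArgs false

namespace CfsgLib.Misc.CharCount

open Cfsg CfsgLib.Char BorelInduced PrincipalSeries GLTwoClassify

/-- a surjection whose fibres are the pairs `{s, inv s}` -/
theorem card_two_to_one {S T : Type*} [Finite S] (f : S → T) (inv : S → S) (hsurj : Function.Surjective f)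
    (hne : ∀ s, inv s ≠ s) (hf : ∀ s s', f s = f s' ↔ s' = s ∨ s' = inv s) : 2 * Nat.card T = Nat.card S := by
  classical
  haveI := Fintype.ofFinite S
  haveI : Finite T := Finite.of_surjective f hsurj
  haveI := Fintype.ofFinite T
  rw [Nat.card_eq_fintype_card, Nat.card_eq_fintype_card, ← Finset.card_univ (α := S),
    Finset.card_eq_sum_card_fiberwise (f := f) (t := Finset.univ) (fun s _ => Finset.mem_univ _)]
  have e : ∀ t : T, (Finset.univ.filter fun s => f s = t).card = 2 := by
    intro t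
    obtain ⟨s, rfl⟩ := hsurj t
    have : (Finset.univ.filter fun s' => f s' = f s) = {s, inv s} := by
      ext s'
      simp only [Finset.mem_filter, Finset.mem_univ, true_and, Finset.mem_insert, Finset.mem_singleton]
      rw [eq_comm, hf]
    rw [this, Finset.card_pair (hne s).symm]
  rw [Finset.sum_congr rfl fun t _ => e t, Finset.sum_const, Finset.card_univ, smul_eq_mul, mul_comm]

variable {F : Type*} [Field F] [Fintype F]

local notation "GL2" => Matrix.GeneralLinearGroup (Fin 2) F
local notation "qC" => (Fintype.card F : ℂ)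

theorem card_mulChar : Nat.card (MulChar F ℂ) = Fintype.card F - 1 := by
  rw [MulChar.card_eq_card_units_of_hasEnoughRootsOfUnity, Nat.card_units, Nat.card_eq_fintype_card]

variable [DecidableEq F]

/-- diagonal element `(a, 1)` -/
def dg (a : Fˣ) : GL2 :=
  Matrix.GeneralLinearGroup.mkOfDetNeZero !![(a : F), 0; 0, 1] (by simp [Matrix.det_fin_two])

theorem detChar_dg (α : MulChar F ℂ) (a : Fˣ) : detChar α (dg a) = α (a : F) := by
  simp [detChar, dg, Matrix.det_fin_two]

theorem detChar_injective : Function.Injective (detChar : MulChar F ℂ → GL2 → ℂ) := fun α β h =>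
  MulChar.ext fun a => by rw [← detChar_dg, h, detChar_dg]

theorem steinberg_dg (α : MulChar F ℂ) (a : Fˣ) (ha : (a : F) ≠ 1) :
    (psG α α - detChar α) (dg a) = α (a : F) := by
  rw [Pi.sub_apply, detChar_dg, psG, ind_diag (MonoidHom.id GL2) _ rG (g := dg a) rfl rfl ha rfl rG_some]
  simp [mat, dg]

theorem steinberg_injective {α β : MulChar F ℂ} (h : psG α α - detChar α = psG β β - detChar β) : α = β := by
  refine MulChar.ext fun a => ?_
  by_cases ha : (a : F) = 1
  · rw [ha, map_one, map_one]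
  · rw [← steinberg_dg α a ha, h, steinberg_dg β a ha]

theorem card_one (hq : 3 ≤ Fintype.card F) :
    Nat.card {χ : IrrCharacter GL2 // (χ : GL2 → ℂ) 1 = 1} = Fintype.card F - 1 := by
  rw [← card_mulChar (F := F)]
  symm
  refine Nat.card_eq_of_bijective (fun α => ⟨⟨detChar α, irr_detChar α⟩, detChar_one α⟩)
    ⟨fun α β h => detChar_injective (congrArg (fun x => x.1.1) h), ?_⟩
  rintro ⟨⟨χ, hχ⟩, hd⟩
  change χ 1 = 1 at hd
  rcases classify hχ with hc | ⟨α, β, -, rfl⟩ | ⟨α, rfl⟩ | ⟨α, rfl⟩
  · exfalso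
    rw [(cusp_deg hχ hc).1] at hd
    have : Fintype.card F = 2 := by exact_mod_cast (show qC = 2 by linear_combination hd)
    omega
  · exfalso
    rw [psG_one] at hd
    have : Fintype.card F + 1 = 1 := by exact_mod_cast hd
    omega
  · exact ⟨α, rfl⟩
  · exfalso
    rw [steinberg_one] at hd
    have : Fintype.card F = 1 := by exact_mod_cast hd
    omega

theorem card_q (hq : 3 ≤ Fintype.card F) :
    Nat.card {χ : IrrCharacter GL2 // (χ : GL2 → ℂ) 1 = qC} = Fintype.card F - 1 := by
  classical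
  rw [← card_mulChar (F := F)]
  symm
  have hirr : ∀ α : MulChar F ℂ, IsIrrCharacter GL2 (psG α α - detChar α) := by
    intro α
    have h1 : classInner (psG α α) (detChar α) = 1 := by
      haveI : Fintype (Bor (MonoidHom.id GL2)) := Fintype.ofFinite _
      have hch := isCharacter_th (MonoidHom.id GL2) α α
      have heq : (fun b : Bor (MonoidHom.id GL2) => detChar α b) = th (MonoidHom.id GL2) (fun a d => α a * α d) := by
        funext b
        show α (mat (MonoidHom.id GL2) (b : GL2)).det = α _ * α _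
        rw [Matrix.det_fin_two, (mem_Bor (MonoidHom.id GL2)).1 b.2, mul_zero, sub_zero, map_mul]
      rw [CfsgLib.Char.frobenius _ _ (classFun_of_irr (irr_detChar α)), heq]
      exact irr_inner_self (isCharacter_degree_one_irr hch (by simp [th, mat]))
    have h1' : classInner (detChar α) (psG α α) = 1 := by rw [← classInner_conj, h1, map_one]
    refine isIrr_of_char_norm
      (isCharacter_sub_constituent (isCharacter_psG α α) (irr_detChar α) (by rw [h1]; exact one_ne_zero)) ?_
    rw [classInner_sub_left, classInner_sub_right, classInner_sub_right, h1, h1', irr_inner_self (irr_detChar α), inner_G]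
    simp
  refine Nat.card_eq_of_bijective (fun α => ⟨⟨psG α α - detChar α, hirr α⟩, steinberg_one α⟩)
    ⟨fun α β h => steinberg_injective (congrArg (fun x => x.1.1) h), ?_⟩
  rintro ⟨⟨χ, hχ⟩, hd⟩
  change χ 1 = qC at hd
  rcases classify hχ with hc | ⟨α, β, -, rfl⟩ | ⟨α, rfl⟩ | ⟨α, rfl⟩
  · exfalso
    rw [(cusp_deg hχ hc).1] at hd
    exact one_ne_zero (show (1 : ℂ) = 0 by linear_combination -hd)
  · exfalso
    rw [psG_one] at hd
    exact one_ne_zero (show (1 : ℂ) = 0 by linear_combination hd)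
  · exfalso
    rw [detChar_one] at hd
    have : Fintype.card F = 1 := by exact_mod_cast hd.symm
    omega
  · exact ⟨α, rfl⟩

theorem card_ps (hq : 3 ≤ Fintype.card F) :
    2 * Nat.card {χ : IrrCharacter GL2 // (χ : GL2 → ℂ) 1 = qC + 1} =
      (Fintype.card F - 1) * (Fintype.card F - 2) := by
  classical
  haveI : Fintype (MulChar F ℂ) := Fintype.ofFinite _
  have hS : Nat.card {p : MulChar F ℂ × MulChar F ℂ // p.1 ≠ p.2} = (Fintype.card F - 1) * (Fintype.card F - 2) := by
    rw [Nat.card_eq_fintype_card, Fintype.card_subtype]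
    have : (Finset.univ.filter fun p : MulChar F ℂ × MulChar F ℂ => p.1 ≠ p.2) =
        (Finset.univ : Finset (MulChar F ℂ)).offDiag := by
      ext p; simp [Finset.mem_offDiag]
    rw [this, Finset.offDiag_card, Finset.card_univ, ← Nat.card_eq_fintype_card, card_mulChar, ← Nat.mul_sub_one,
      Nat.sub_sub]
  rw [← hS]
  refine card_two_to_one (fun p : {p : MulChar F ℂ × MulChar F ℂ // p.1 ≠ p.2} =>
      (⟨⟨psG p.1.1 p.1.2, irr_G _ _ p.2⟩, psG_one _ _⟩ : {χ : IrrCharacter GL2 // (χ : GL2 → ℂ) 1 = qC + 1}))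
    (fun p => ⟨p.1.swap, Ne.symm p.2⟩) ?_ ?_ ?_
  · rintro ⟨⟨χ, hχ⟩, hd⟩
    change χ 1 = qC + 1 at hd
    rcases classify hχ with hc | ⟨α, β, hab, rfl⟩ | ⟨α, rfl⟩ | ⟨α, rfl⟩
    · exfalso
      rw [(cusp_deg hχ hc).1] at hd
      exact two_ne_zero (show (2 : ℂ) = 0 by linear_combination -hd)
    · exact ⟨⟨(α, β), hab⟩, rfl⟩
    · exfalso
      rw [detChar_one] at hd
      have : 1 = Fintype.card F + 1 := by exact_mod_cast hd
      omega
    · exfalso
      rw [steinberg_one] at hd
      exact one_ne_zero (show (1 : ℂ) = 0 by linear_combination -hd)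
  · rintro ⟨⟨α, β⟩, h⟩ e
    exact h (congrArg (fun x => x.1.2) e)
  · rintro ⟨⟨α, β⟩, h⟩ ⟨⟨α', β'⟩, h'⟩
    simp only [Subtype.mk.injEq, psG_eq_iff, Prod.mk.injEq, Prod.swap_prod_mk]
    constructor
    · rintro (⟨rfl, rfl⟩ | ⟨rfl, rfl⟩) <;> simp
    · rintro (⟨rfl, rfl⟩ | ⟨rfl, rfl⟩) <;> simp

theorem degrees {χ : GL2 → ℂ} (hχ : IsIrrCharacter GL2 χ) :
    χ 1 = 1 ∨ χ 1 = qC - 1 ∨ χ 1 = qC ∨ χ 1 = qC + 1 := by
  rcases classify hχ with hc | ⟨α, β, -, rfl⟩ | ⟨α, rfl⟩ | ⟨α, rfl⟩
  · exact Or.inr (Or.inl (cusp_deg hχ hc).1)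
  · exact Or.inr (Or.inr (Or.inr (psG_one α β)))
  · exact Or.inl (detChar_one α)
  · exact Or.inr (Or.inr (Or.inl (steinberg_one α)))

theorem card_GL : Nat.card GL2 = (Fintype.card F + 1) * ((Fintype.card F - 1) ^ 2 * Fintype.card F) := by
  have hi : (Bor (MonoidHom.id GL2)).index = Fintype.card F + 1 := by
    have h := psG_one (F := F) 1 1
    rw [psG, indFun_one] at h
    simp [th, mat] at h
    exact_mod_cast h
  rw [← Subgroup.index_mul_card (Bor (MonoidHom.id GL2)), hi, Nat.card_congr eG.symm, Nat.card_prod, Nat.card_prod,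
    Nat.card_units, Nat.card_eq_fintype_card, pow_two]

/-- the sum of squares, sorted by degree -/
theorem sum_sq_by_degree {G : Type*} [Group G] [Fintype G] (s : Finset ℂ)
    (h : ∀ χ : IrrCharacter G, (χ : G → ℂ) 1 ∈ s) :
    ∑ d ∈ s, (Nat.card {χ : IrrCharacter G // (χ : G → ℂ) 1 = d} : ℂ) * d ^ 2 = (Nat.card G : ℂ) := by
  classical
  rw [← sum_degree_sq, ← Finset.sum_fiberwise_of_maps_to (t := s) (g := fun χ : IrrCharacter G => (χ : G → ℂ) 1)
    (fun χ _ => h χ)]
  refine Finset.sum_congr rfl fun d _ => ?_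
  rw [Finset.sum_congr rfl fun χ hχ => by rw [(Finset.mem_filter.1 hχ).2], Finset.sum_const, nsmul_eq_mul,
    Nat.card_eq_fintype_card, Fintype.card_subtype]

theorem card_cusp (hq : 3 ≤ Fintype.card F) :
    2 * Nat.card {χ : IrrCharacter GL2 // (χ : GL2 → ℂ) 1 = qC - 1} = Fintype.card F * (Fintype.card F - 1) := by
  classical
  have hs := sum_sq_by_degree (G := GL2) {1, qC - 1, qC, qC + 1} (fun χ => by
    simp only [Finset.mem_insert, Finset.mem_singleton]; exact degrees χ.2)
  have h12 : (1 : ℂ) ≠ qC - 1 := fun e => by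
    have : Fintype.card F = 2 := by exact_mod_cast (show qC = 2 by linear_combination -e)
    omega
  have h13 : (1 : ℂ) ≠ qC := fun e => by
    have : Fintype.card F = 1 := by exact_mod_cast e.symm
    omega
  have h14 : (1 : ℂ) ≠ qC + 1 := fun e => by
    have : Fintype.card F + 1 = 1 := by exact_mod_cast e.symm
    omega
  have h23 : qC - 1 ≠ qC := fun e => one_ne_zero (show (1 : ℂ) = 0 by linear_combination -e)
  have h24 : qC - 1 ≠ qC + 1 := fun e => two_ne_zero (show (2 : ℂ) = 0 by linear_combination -e)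
  have h34 : qC ≠ qC + 1 := fun e => one_ne_zero (show (1 : ℂ) = 0 by linear_combination -e)
  rw [Finset.sum_insert (by simp [h12, h13, h14]), Finset.sum_insert (by simp [h23, h24]),
    Finset.sum_insert (by simp [h34]), Finset.sum_singleton, card_one hq, card_q hq, card_GL] at hs
  have hC := congrArg (fun n : ℕ => (n : ℂ)) (card_ps hq)
  push_cast [Nat.cast_sub (show 1 ≤ Fintype.card F by omega), Nat.cast_sub (show 2 ≤ Fintype.card F by omega)] at hC hs
  have hq1 : qC - 1 ≠ 0 := fun e => h13 (by linear_combination -e)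
  have key : (2 * Nat.card {χ : IrrCharacter GL2 // (χ : GL2 → ℂ) 1 = qC - 1} : ℂ) = qC * (qC - 1) := by
    refine mul_right_cancel₀ (pow_ne_zero 2 hq1) ?_
    linear_combination 2 * hs - (qC + 1) ^ 2 * hC
  have key' : ((2 * Nat.card {χ : IrrCharacter GL2 // (χ : GL2 → ℂ) 1 = qC - 1} : ℕ) : ℂ) =
      ((Fintype.card F * (Fintype.card F - 1) : ℕ) : ℂ) := by
    push_cast [Nat.cast_sub (show 1 ≤ Fintype.card F by omega)]
    exact key
  exact_mod_cast key'

end CfsgLib.Misc.CharCount
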