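import Mathlib
import Cfsg.Agent.Lie.Orders

/-!
Orders of elements commuting with an element of order p in PSL_n.
-/

set_option autoImplicit false
set_option linter.unusedSectionVars false

namespace CfsgLib.MiscCommutePElt

open Module Matrix CfsgLib.Lie.Orders

variable {F : Type*} [Field F] [Fintype F]

theorem not_dvd_GL {q r m d : ℕ} (hF : Fintype.card F = q) (hr : r.Prime) (hrq : ¬ r ∣ q) (hm : 2 ≤ m) (hdm : d ≤ m)
    (hSL : ¬ r ∣ Nat.card (SpecialLinearGroup (Fin m) F)) : ¬ r ∣ Nat.card (GL (Fin d) F) := by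
  intro h
  have hq : 2 ≤ q := hF ▸ Fintype.one_lt_card
  rw [card_GL_fin hF, Prime.dvd_finsetProd_iff hr.prime] at h
  obtain ⟨i, -, hi⟩ := h
  have hid := i.2
  have e : q ^ d - q ^ (i : ℕ) = q ^ (i : ℕ) * (q ^ (d - i) - 1) := by
    rw [Nat.mul_sub_one, ← pow_add, Nat.add_sub_cancel' hid.le]
  rw [e] at hi
  rcases hr.dvd_mul.1 hi with h1 | h1
  · exact hrq (hr.dvd_of_dvd_pow h1)
  have hmul := card_SL_mul hF m (by omega)
  obtain ⟨k, rfl⟩ : ∃ k, m = k + 2 := ⟨m - 2, by omega⟩
  have hq1 : 0 < q - 1 := by omega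
  by_cases h2 : r ∣ q - 1
  · apply hSL
    rw [Fin.prod_univ_castSucc, Fin.prod_univ_castSucc] at hmul
    simp only [Fin.val_castSucc, Fin.val_last] at hmul
    have e1 : q ^ (k + 2) - q ^ (k + 1) = q ^ (k + 1) * (q - 1) := by rw [Nat.mul_sub_one, ← pow_succ]
    have e2 : q ^ (k + 2) - q ^ k = q ^ k * (q ^ 2 - 1) := by rw [Nat.mul_sub_one, ← pow_add]
    rw [e1, e2] at hmul
    set P := ∏ i : Fin k, (q ^ (k + 2) - q ^ (i : ℕ))
    have : Nat.card (SpecialLinearGroup (Fin (k + 2)) F) = P * (q ^ k * (q ^ 2 - 1)) * q ^ (k + 1) :=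
      Nat.eq_of_mul_eq_mul_left hq1 (by rw [hmul]; ring)
    rw [this]
    refine dvd_mul_of_dvd_left (dvd_mul_of_dvd_right (dvd_mul_of_dvd_right (h2.trans ?_) _) _) _
    simpa using Nat.sub_dvd_pow_sub_pow q 1 2
  · have hdvd : r ∣ ∏ i : Fin (k + 2), (q ^ (k + 2) - q ^ (i : ℕ)) := by
      refine dvd_trans ?_ (Finset.dvd_prod_of_mem _ (Finset.mem_univ (⟨k + 2 - (d - i), by omega⟩ : Fin (k + 2))))
      show r ∣ q ^ (k + 2) - q ^ (k + 2 - (d - i))
      have e3 : q ^ (k + 2) = q ^ (k + 2 - (d - i)) * q ^ (d - i) := by rw [← pow_add]; congr 1; omega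
      rw [e3, ← Nat.mul_sub_one]
      exact dvd_mul_of_dvd_right h1 _
    rw [← hmul] at hdvd
    rcases hr.dvd_mul.1 hdvd with h3 | h3
    · exact h2 h3
    · exact hSL h3

variable {V : Type*} [AddCommGroup V] [Module F V] [FiniteDimensional F V]

set_option maxHeartbeats 800000 in
theorem sub_mem_of_small {q r m : ℕ} (hF : Fintype.card F = q) (hr : r.Prime) (hrq : ¬ r ∣ q) (hm : 2 ≤ m)
    (hSL : ¬ r ∣ Nat.card (SpecialLinearGroup (Fin m) F)) {b : Module.End F V} (hb : b ^ r = 1)
    {X Y : Submodule F V} (hXY : X ≤ Y) (hX : ∀ x ∈ X, b x ∈ X) (hY : ∀ y ∈ Y, b y ∈ Y)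
    (hdim : finrank F Y ≤ m + finrank F X) : ∀ y ∈ Y, b y - y ∈ X := by
  classical
  let X' : Submodule F Y := X.comap Y.subtype
  let bY : Module.End F Y := b.restrict hY
  have hX' : X' ≤ X'.comap bY := fun y hy => hX _ hy
  let bQ : Module.End F (Y ⧸ X') := X'.mapQ X' bY hX'
  have hpow : bQ ^ r = 1 := by
    refine LinearMap.ext fun z => ?_
    obtain ⟨y, rfl⟩ := Submodule.Quotient.mk_surjective _ z
    have h1 : ∀ k, (bQ ^ k) (Submodule.Quotient.mk y) = Submodule.Quotient.mk ((bY ^ k) y) := fun k => by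
      induction k with
      | zero => simp
      | succ k ih => rw [pow_succ', pow_succ', Module.End.mul_apply, ih, Module.End.mul_apply]; rfl
    rw [h1, Module.End.pow_restrict]
    have : (b ^ r).restrict (fun y hy => by rw [hb]; exact hy) y = y := Subtype.ext (by simp [hb])
    rw [Module.End.one_apply]
    exact congrArg _ this
  have hd : finrank F (Y ⧸ X') ≤ m := by
    have h1 := Submodule.finrank_quotient_add_finrank X'
    have h2 : finrank F X' = finrank F X := (Submodule.comapSubtypeEquivOfLe hXY).finrank_eq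
    omega
  let u : (Module.End F (Y ⧸ X'))ˣ := (IsUnit.of_pow_eq_one hpow hr.ne_zero).unit
  have hu : u ^ r = 1 := Units.ext (by rw [Units.val_pow_eq_pow_val, IsUnit.unit_spec, hpow, Units.val_one])
  let e : (Module.End F (Y ⧸ X'))ˣ ≃* GL (Fin (finrank F (Y ⧸ X'))) F :=
    Units.mapEquiv (LinearMap.toMatrixAlgEquiv (Module.finBasis F (Y ⧸ X'))).toMulEquiv
  have hu1 : e u = 1 := by
    have h1 : orderOf (e u) ∣ r := orderOf_dvd_of_pow_eq_one (by rw [← map_pow, hu, map_one])
    rcases (Nat.dvd_prime hr).1 h1 with h | h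
    · exact orderOf_eq_one_iff.1 h
    · exact absurd (h ▸ orderOf_dvd_natCard _) (not_dvd_GL hF hr hrq hm hd hSL)
  have hone : bQ = 1 := by
    have : u = 1 := e.injective (by rw [hu1, map_one])
    have := congrArg Units.val this
    rwa [IsUnit.unit_spec, Units.val_one] at this
  intro y hy
  have := LinearMap.congr_fun hone (Submodule.Quotient.mk ⟨y, hy⟩)
  rw [Module.End.one_apply] at this
  exact (Submodule.Quotient.eq X').1 this

theorem eq_one_of_commute {q r p n : ℕ} [Fact p.Prime] [CharP F p] (hF : Fintype.card F = q) (hr : r.Prime)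
    (hrq : ¬ r ∣ q) (hn : 4 ≤ n) (hV : finrank F V = n) (hSL : ¬ r ∣ Nat.card (SpecialLinearGroup (Fin (n - 2)) F))
    {b N : Module.End F V} (hb : b ^ r = 1) (hc : b * N = N * b) (hN : N ≠ 0) (hnil : IsNilpotent N) : b = 1 := by
  have hcv : ∀ x, b (N x) = N (b x) := fun x => LinearMap.congr_fun hc x
  have hK : ∀ x ∈ LinearMap.ker N, b x ∈ LinearMap.ker N := fun x hx => by
    rw [LinearMap.mem_ker, ← hcv, LinearMap.mem_ker.1 hx, map_zero]
  have hbnil : IsNilpotent (b - 1) := by
    have small := @sub_mem_of_small F _ _ V _ _ _ q r (n - 2) hF hr hrq (by omega) hSL b hb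
    by_cases hk : finrank F (LinearMap.ker N) ≤ n - 2
    · have h1 := small (X := ⊥) (Y := LinearMap.ker N) bot_le (by simp) hK (by omega)
      have key : ∀ i x, (N ^ i) x = 0 → ((b - 1) ^ i) x = 0 := by
        intro i
        induction i with
        | zero => exact fun x hx => hx
        | succ i ih =>
          intro x hx
          rw [pow_succ, Module.End.mul_apply] at hx
          have hcomm : Commute ((b - 1) ^ i) N :=
            (Commute.sub_left (show Commute b N from hc) (Commute.one_left N)).pow_left i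
          have h2 : N (((b - 1) ^ i) x) = 0 := by
            rw [← Module.End.mul_apply, ← hcomm.eq, Module.End.mul_apply]
            exact ih _ hx
          rw [pow_succ', Module.End.mul_apply, LinearMap.sub_apply, Module.End.one_apply]
          exact (Submodule.mem_bot F).1 (h1 _ h2)
      obtain ⟨i, hi⟩ := hnil
      exact ⟨i, LinearMap.ext fun x => key i x (by rw [hi]; rfl)⟩
    · have hrk := LinearMap.finrank_range_add_finrank_ker N
      have hlt : finrank F (LinearMap.ker N) < n := by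
        rw [← hV]
        refine Submodule.finrank_lt fun h => hN (LinearMap.ker_eq_top.1 h)
      have hR1 : finrank F (LinearMap.range N) = 1 := by omega
      have hK1 : finrank F (LinearMap.ker N) = n - 1 := by omega
      have hRK : LinearMap.range N ≤ LinearMap.ker N := by
        rintro _ ⟨x, rfl⟩
        by_contra hx
        have htop : LinearMap.range N = LinearMap.range (N * N) := by
          refine (Submodule.eq_of_le_of_finrank_le (by rintro _ ⟨y, rfl⟩; exact ⟨N y, rfl⟩) ?_).symm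
          rw [hR1]
          refine Nat.one_le_iff_ne_zero.2 fun h0 => hx ?_
          rw [Submodule.finrank_eq_zero, LinearMap.range_eq_bot] at h0
          rw [LinearMap.mem_ker]
          exact LinearMap.congr_fun h0 x
        obtain ⟨i, hi⟩ := hnil
        have : ∀ j, LinearMap.range (N ^ (j + 1)) = LinearMap.range N := by
          intro j
          induction j with
          | zero => rw [zero_add, pow_one]
          | succ j ih =>
            rw [pow_succ', Module.End.mul_eq_comp, LinearMap.range_comp, ih, ← LinearMap.range_comp]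
            exact htop.symm
        have h0 := this i
        rw [pow_succ, hi, zero_mul, LinearMap.range_zero] at h0
        rw [← h0, finrank_bot] at hR1
        omega
      have hR : ∀ x ∈ LinearMap.range N, b x ∈ LinearMap.range N := by
        rintro _ ⟨y, rfl⟩
        exact ⟨b y, (hcv y).symm⟩
      have h1 := small (X := LinearMap.ker N) (Y := ⊤) le_top hK (fun _ _ => trivial)
        (by rw [finrank_top, hV]; omega)
      have h2 := small (X := LinearMap.range N) (Y := LinearMap.ker N) hRK hR hK (by omega)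
      have h3 := small (X := ⊥) (Y := LinearMap.range N) bot_le (by simp) hR (by omega)
      refine ⟨3, LinearMap.ext fun x => ?_⟩
      rw [pow_succ', sq, Module.End.mul_apply, Module.End.mul_apply]
      exact (Submodule.mem_bot F).1 (h3 _ (h2 _ (h1 x trivial)))
  obtain ⟨i, hi⟩ := hbnil
  rcases Nat.eq_zero_or_pos n with h0 | h0
  · omega
  haveI : Nontrivial V := Module.nontrivial_of_finrank_pos (R := F) (by omega)
  haveI : CharP (Module.End F V) p := charP_of_injective_algebraMap (algebraMap F (Module.End F V)).injective p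
  have hp : b ^ (p ^ i) = 1 := by
    have h := sub_pow_char_pow_of_commute p i (Commute.one_right b)
    rw [pow_eq_zero_of_le (Nat.lt_pow_self (Fact.out : p.Prime).one_lt).le hi, one_pow] at h
    exact sub_eq_zero.1 h.symm
  have hco : (p ^ i).gcd r = 1 := by
    refine Nat.Coprime.pow_left _ ((Nat.coprime_primes Fact.out hr).2 fun e => hrq ?_)
    obtain ⟨f, -, hf⟩ := FiniteField.card F p
    rw [← hF, hf, ← e]
    exact dvd_pow_self p f.pos.ne'
  have := pow_gcd_eq_one.2 ⟨hp, hb⟩
  rwa [hco, pow_one] at this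

theorem exists_lift {n p : ℕ} (hn : 1 ≤ n) (hp : p.Prime)
    (hpZ : p.Coprime (Nat.card (Subgroup.center (SpecialLinearGroup (Fin n) F))))
    (a : ProjectiveSpecialLinearGroup (Fin n) F) (ha : a ^ p = 1) :
    ∃ A : SpecialLinearGroup (Fin n) F, QuotientGroup.mk A = a ∧ A ^ p = 1 := by
  obtain ⟨A₀, rfl⟩ := QuotientGroup.mk_surjective a
  obtain ⟨m, hm1, hm2⟩ := Nat.chineseRemainder hpZ 1 0
  have hZ : A₀ ^ p ∈ Subgroup.center (SpecialLinearGroup (Fin n) F) := (QuotientGroup.eq_one_iff _).1 ha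
  refine ⟨A₀ ^ m, ?_, ?_⟩
  · have e1 : ((A₀ ^ m : SpecialLinearGroup (Fin n) F) : ProjectiveSpecialLinearGroup (Fin n) F) =
        (A₀ : ProjectiveSpecialLinearGroup (Fin n) F) ^ m := QuotientGroup.mk_pow _ _ m
    rw [e1, pow_eq_pow_mod m ha, hm1, Nat.mod_eq_of_lt hp.one_lt, pow_one]
  · rw [← pow_mul, mul_comm, pow_mul]
    have h1 : (⟨_, hZ⟩ : Subgroup.center (SpecialLinearGroup (Fin n) F)) ^ m = 1 := by
      refine orderOf_dvd_iff_pow_eq_one.1 ((orderOf_dvd_natCard _).trans (Nat.modEq_zero_iff_dvd.1 hm2))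
    exact congrArg Subtype.val h1

set_option maxHeartbeats 800000 in
theorem main (p : ℕ) [Fact p.Prime] [CharP F p] (n : ℕ) (hn : 4 ≤ n)
    (a b : ProjectiveSpecialLinearGroup (Fin n) F) (ha : orderOf a = p) (hab : Commute a b) :
    (orderOf b).primeFactors ⊆ (Nat.card (SpecialLinearGroup (Fin (n - 2)) F)).primeFactors := by
  classical
  intro r hr
  rw [Nat.mem_primeFactors] at hr ⊢
  obtain ⟨hr, hrb, hb0⟩ := hr
  refine ⟨hr, ?_, Nat.card_pos.ne'⟩
  obtain ⟨f, hpp, hf⟩ := FiniteField.card F p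
  by_contra hSL
  haveI : Nonempty (Fin n) := ⟨⟨0, by omega⟩⟩
  have hfix : ¬ r ∣ Fintype.card F - 1 ∧ r ≠ p := by
    have hmul := card_SL_mul (F := F) rfl (n - 2) (by omega)
    obtain ⟨k, hk⟩ : ∃ k, n - 2 = k + 2 := ⟨n - 4, by omega⟩
    rw [hk] at hSL hmul
    refine ⟨fun h => not_dvd_GL (F := F) rfl hr (fun h' => ?_) (show 2 ≤ k + 2 by omega) (show 1 ≤ k + 2 by omega) hSL ?_,
      fun e => hSL ?_⟩
    · have h1 : r ∣ Fintype.card F - (Fintype.card F - 1) := Nat.dvd_sub h' h
      rw [Nat.sub_sub_self Fintype.card_pos] at h1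
      exact hr.not_dvd_one h1
    · rw [card_GL_fin (F := F) rfl 1]
      simpa using h
    · subst e
      rw [hf] at hmul
      have hd : r ∣ ∏ i : Fin (k + 2), ((r ^ (f : ℕ)) ^ (k + 2) - (r ^ (f : ℕ)) ^ (i : ℕ)) := by
        refine dvd_trans ?_ (Finset.dvd_prod_of_mem _ (Finset.mem_univ (Fin.last (k + 1))))
        refine Nat.dvd_sub (dvd_pow (dvd_pow_self r f.pos.ne') (by omega)) ?_
        simp only [Fin.val_last]
        exact dvd_pow (dvd_pow_self r f.pos.ne') (by omega)
      rw [← hmul] at hd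
      refine (hr.dvd_mul.1 hd).resolve_left fun h => hr.not_dvd_one ?_
      have h1 : r ∣ r ^ (f : ℕ) - (r ^ (f : ℕ) - 1) := Nat.dvd_sub (dvd_pow_self r f.pos.ne') h
      rwa [Nat.sub_sub_self (Nat.one_le_pow _ _ hr.pos)] at h1
  obtain ⟨hr1, hrp⟩ := hfix
  have hrq : ¬ r ∣ Fintype.card F := by
    rw [hf]; exact fun h => hrp ((Nat.prime_dvd_prime_iff_eq hr hpp).1 (hr.dvd_of_dvd_pow h))
  obtain ⟨t, ht⟩ := hrb
  have hb' : orderOf (b ^ t) = r := by
    have ht0 : t ≠ 0 := by rintro rfl; exact hb0 (by simpa using ht)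
    rw [orderOf_pow' b ht0, ht, Nat.gcd_mul_left_left, Nat.mul_div_cancel _ (Nat.pos_of_ne_zero ht0)]
  have hZ : ∀ s : ℕ, s.Prime → ¬ s ∣ Fintype.card F - 1 →
      s.Coprime (Nat.card (Subgroup.center (SpecialLinearGroup (Fin n) F))) := fun s hs h => by
    rw [hs.coprime_iff_not_dvd, card_center_SL, Nat.card_eq_fintype_card]
    exact fun hd => h (hd.trans (Nat.gcd_dvd_right _ _))
  have hp1 : ¬ p ∣ Fintype.card F - 1 := fun h => hpp.not_dvd_one (by
    have h1 : p ∣ Fintype.card F - (Fintype.card F - 1) := Nat.dvd_sub (by rw [hf]; exact dvd_pow_self p f.pos.ne') h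
    rwa [Nat.sub_sub_self Fintype.card_pos] at h1)
  obtain ⟨A, hA, hAp⟩ := exists_lift (by omega) hpp (hZ p hpp hp1) a (ha ▸ pow_orderOf_eq_one a)
  obtain ⟨B, hB, hBr⟩ := exists_lift (by omega) hr (hZ r hr hr1) (b ^ t) (by rw [← hb', pow_orderOf_eq_one])
  have hzmem : A * B * A⁻¹ * B⁻¹ ∈ Subgroup.center (SpecialLinearGroup (Fin n) F) := by
    rw [← QuotientGroup.eq_one_iff]
    show (QuotientGroup.mk A : ProjectiveSpecialLinearGroup (Fin n) F) * QuotientGroup.mk B * (QuotientGroup.mk A)⁻¹ *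
      (QuotientGroup.mk B)⁻¹ = 1
    rw [hA, hB, (hab.pow_right t).eq]
    group
  have hAB : A * B = B * A := by
    set z := A * B * A⁻¹ * B⁻¹ with hz
    have h1 : A * B * A⁻¹ = z * B := by rw [hz]; group
    have h2 : z ^ r = 1 := by
      have h3 := congrArg (· ^ r) h1
      simp only [conj_pow, hBr, mul_one, mul_inv_cancel] at h3
      rw [(show Commute z B from (Subgroup.mem_center_iff.1 hzmem B).symm).mul_pow, hBr, mul_one] at h3
      exact h3.symm
    have h4 : (⟨z, hzmem⟩ : Subgroup.center (SpecialLinearGroup (Fin n) F)) = 1 :=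
      orderOf_eq_one_iff.1 (Nat.eq_one_of_dvd_coprimes (hZ r hr hr1)
        (orderOf_dvd_of_pow_eq_one (Subtype.ext h2)) (orderOf_dvd_natCard _))
    rw [show z = 1 from congrArg Subtype.val h4, one_mul] at h1
    rwa [mul_inv_eq_iff_eq_mul] at h1
  let φ : SpecialLinearGroup (Fin n) F →* Module.End F (Fin n → F) :=
    (Matrix.toLinAlgEquiv' : Matrix (Fin n) (Fin n) F ≃ₐ[F] _).toMonoidHom.comp
      { toFun := fun g => (g : Matrix (Fin n) (Fin n) F), map_one' := rfl, map_mul' := fun _ _ => rfl }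
  have hφ : Function.Injective φ := fun x y h => Subtype.ext (Matrix.toLinAlgEquiv'.injective h)
  haveI : CharP (Module.End F (Fin n → F)) p :=
    charP_of_injective_algebraMap (algebraMap F (Module.End F (Fin n → F))).injective p
  have h := eq_one_of_commute (p := p) (b := φ B) (N := φ A - 1) rfl hr hrq hn (Module.finrank_fin_fun F) hSL
    (by rw [← map_pow, hBr, map_one])
    (by rw [mul_sub, sub_mul, mul_one, one_mul, ← map_mul, ← map_mul, hAB])
    (fun h0 => by
      rw [sub_eq_zero, ← map_one φ] at h0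
      rw [hφ h0, QuotientGroup.mk_one] at hA
      rw [← hA, orderOf_one] at ha
      exact hpp.ne_one ha.symm)
    ⟨p, by rw [sub_pow_char_of_commute p (Commute.one_right _), ← map_pow, hAp, map_one, one_pow, sub_self]⟩
  rw [← map_one φ] at h
  rw [hφ h, QuotientGroup.mk_one] at hB
  rw [← hB, orderOf_one] at hb'
  exact hr.ne_one hb'.symm

end CfsgLib.MiscCommutePElt
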