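import Cfsg.Agent.Solv.PGroups
import Cfsg.Agent.Solv.CoprimeSylow

/-!
Coprime action by a group generated by two sets with pairwise fusion conditions is trivial.
-/

set_option autoImplicit false
set_option linter.unusedSectionVars false
set_option linter.style.haveILetI false

open scoped commutatorElement

namespace CfsgLib.Misc.CoprimePairs

/-- The norm of an automorphism of order dividing `p`. -/
def nrm {V : Type*} [CommGroup V] (p : ℕ) (g : MulAut V) : V →* V :=
  ∏ i ∈ Finset.range p, (g ^ i).toMonoidHom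

theorem nrm_apply {V : Type*} [CommGroup V] (p : ℕ) (g : MulAut V) (v : V) :
    nrm p g v = ∏ i ∈ Finset.range p, (g ^ i) v := by
  simp [nrm]

theorem nrm_fix {V : Type*} [CommGroup V] (p : ℕ) {g : MulAut V} (hg : g ^ p = 1) (v : V) :
    g (nrm p g v) = nrm p g v := by
  simp only [nrm_apply, map_prod, ← MulAut.mul_apply, ← pow_succ']
  have h := Finset.prod_range_succ (fun i => (g ^ i) v) p
  rw [Finset.prod_range_succ'] at h
  simp only [hg, pow_zero] at h
  exact mul_right_cancel h

theorem nrm_of_fix {V : Type*} [CommGroup V] (p : ℕ) {g : MulAut V} {v : V} (hv : g v = v) :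
    nrm p g v = v ^ p := by
  have : ∀ i : ℕ, (g ^ i) v = v := by
    intro i
    induction i with
    | zero => rfl
    | succ i ih => rw [pow_succ', MulAut.mul_apply, ih, hv]
  simp [nrm_apply, this]

theorem nrm_zmod {V : Type*} [CommGroup V] {p : ℕ} [Fact p.Prime] (g : MulAut V) (v : V) :
    nrm p g v = ∏ i : ZMod p, (g ^ (i : ZMod p).val) v := by
  rw [nrm_apply]
  refine Finset.prod_bij (fun i _ => ((i : ℕ) : ZMod p)) (fun _ _ => Finset.mem_univ _) ?_ ?_ ?_
  · intro a ha b hb h
    have := congrArg ZMod.val h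
    rwa [ZMod.val_natCast_of_lt (Finset.mem_range.1 ha), ZMod.val_natCast_of_lt (Finset.mem_range.1 hb)] at this
  · intro b _
    exact ⟨b.val, Finset.mem_range.2 (ZMod.val_lt b), ZMod.natCast_zmod_val b⟩
  · intro a ha
    rw [ZMod.val_natCast_of_lt (Finset.mem_range.1 ha)]

theorem eq_top_of_closure_le {G : Type*} [Group G] {S : Set G} {H K : Subgroup G} (h : Subgroup.closure S = H)
    (hne : ¬ H ≤ K) : ∃ s ∈ S, s ∉ K := by
  by_contra hc
  push_neg at hc
  exact hne (h ▸ (Subgroup.closure_le K).2 hc)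

section Minimal

variable {V : Type*} [CommGroup V] [Finite V] {p : ℕ} [Fact p.Prime]

theorem generator_of_cyclic {Q : Subgroup (MulAut V)} (hQ : IsPGroup p Q) [IsCyclic Q] [Finite Q]
    (hne : Q ≠ ⊥) {S : Set (MulAut V)} (hS : Subgroup.closure S = Q) :
    ∃ s ∈ S, Subgroup.zpowers s = Q := by
  obtain ⟨g, hg⟩ := IsCyclic.exists_generator (α := Q)
  obtain ⟨s, hsS, hs⟩ := eq_top_of_closure_le hS (K := Subgroup.zpowers ((g : MulAut V) ^ p)) (by
    intro hle
    obtain ⟨k, hk⟩ := (IsPGroup.iff_orderOf.1 hQ g)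
    have hg1 := hle g.2
    have hk0 : k ≠ 0 := by
      rintro rfl
      rw [pow_zero, orderOf_eq_one_iff] at hk
      refine hne ((Subgroup.eq_bot_iff_forall _).2 fun x hx => ?_)
      obtain ⟨i, hi⟩ := Subgroup.mem_zpowers_iff.1 (hg ⟨x, hx⟩)
      rw [hk, one_zpow] at hi
      exact (congrArg Subtype.val hi).symm
    obtain ⟨k', rfl⟩ := Nat.exists_eq_succ_of_ne_zero hk0
    have h1 : orderOf (g : MulAut V) ∣ orderOf ((g : MulAut V) ^ p) := orderOf_dvd_of_mem_zpowers hg1
    rw [Subgroup.orderOf_coe, ← SubmonoidClass.coe_pow, Subgroup.orderOf_coe, hk,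
      orderOf_pow' g (Fact.out : p.Prime).ne_zero, hk,
      Nat.gcd_eq_right (dvd_pow_self p (Nat.succ_ne_zero k'))] at h1
    have hp := (Fact.out : p.Prime)
    rw [pow_succ, Nat.mul_div_cancel _ hp.pos] at h1
    have := Nat.le_of_dvd (pow_pos hp.pos _) h1
    exact absurd this (not_le.2 (lt_mul_of_one_lt_right (pow_pos hp.pos _) hp.one_lt)))
  have hsQ : s ∈ Q := hS ▸ Subgroup.subset_closure hsS
  obtain ⟨k, hk⟩ := (IsPGroup.iff_orderOf.1 hQ g)
  obtain ⟨i, hi⟩ := Subgroup.mem_zpowers_iff.1 (hg ⟨s, hsQ⟩)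
  have hi' : (g : MulAut V) ^ i = s := congrArg Subtype.val hi
  refine ⟨s, hsS, le_antisymm (Subgroup.zpowers_le.2 hsQ) fun x hx => ?_⟩
  have hnd : ¬ (p : ℤ) ∣ i := by
    rintro ⟨t, rfl⟩
    exact hs (Subgroup.mem_zpowers_iff.2 ⟨t, by rw [← hi', zpow_mul, zpow_natCast]⟩)
  have hcop : IsCoprime i ((p : ℤ) ^ k) :=
    ((Nat.prime_iff_prime_int.1 (Fact.out : p.Prime)).coprime_iff_not_dvd.2 hnd).symm.pow_right
  obtain ⟨a, b, hab⟩ := hcop
  obtain ⟨j, hj⟩ := Subgroup.mem_zpowers_iff.1 (hg ⟨x, hx⟩)
  have hgp : (g : MulAut V) ^ ((p : ℤ) ^ k) = 1 := by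
    rw [← Nat.cast_pow, zpow_natCast, ← SubmonoidClass.coe_pow, ← hk, pow_orderOf_eq_one]; rfl
  refine Subgroup.mem_zpowers_iff.2 ⟨a * j, ?_⟩
  rw [← hi', ← zpow_mul, ← show (g : MulAut V) ^ j = x from congrArg Subtype.val hj,
    show i * (a * j) = j + (p : ℤ) ^ k * (-(b * j)) by linear_combination j * hab, zpow_add, zpow_mul _ ((p : ℤ) ^ k),
    hgp, one_zpow, mul_one]

theorem minimal_case (hp3 : 3 ≤ p) (hcop : (Nat.card V).Coprime p) (Q : Subgroup (MulAut V))
    (hQ : IsPGroup p Q) (C D : Set (MulAut V)) (hC : Subgroup.closure C = Q) (hD : Subgroup.closure D = Q)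
    (hsum : ∀ x : V, ∀ c ∈ C, ∀ d ∈ D, ∃ n : V, d n = n ∧ c (n⁻¹ * x) = n⁻¹ * x)
    (hmin : ∀ U : Subgroup V, U ≠ ⊤ → (∀ q ∈ Q, ∀ u ∈ U, q u ∈ U) → ∀ q ∈ Q, ∀ u ∈ U, q u = u) :
    Q = ⊥ := by
  classical
  haveI : Fintype V := Fintype.ofFinite V
  haveI : Finite (MulAut V) := Finite.of_injective (fun f : MulAut V => (f : V → V)) DFunLike.coe_injective
  by_contra hne
  have hpow : ∀ a b : V, a ^ p = b ^ p → a = b := fun a b h => (powCoprime hcop).injective h
  -- central elements of order p have no fixed points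
  have step : ∀ z ∈ Q, (∀ q ∈ Q, q * z = z * q) → z ^ p = 1 → z ≠ 1 → ∀ v : V, z v = v → v = 1 := by
    intro z hzQ hzc hzp hz1 v hv
    by_contra hv1
    let U : Subgroup V :=
      { carrier := {u | z u = u}
        one_mem' := map_one z
        mul_mem' := fun {a b} ha hb => by
          show z (a * b) = a * b
          rw [map_mul, show z a = a from ha, show z b = b from hb]
        inv_mem' := fun {a} ha => by
          show z a⁻¹ = a⁻¹
          rw [map_inv, show z a = a from ha] }
    have hUinv : ∀ q ∈ Q, ∀ u ∈ U, q u ∈ U := fun q hq u hu => by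
      show z (q u) = q u
      rw [← MulAut.mul_apply, ← hzc q hq, MulAut.mul_apply, show z u = u from hu]
    have hUfix := hmin U (fun h => hz1 (MulEquiv.ext fun u => (h ▸ Subgroup.mem_top u : u ∈ U))) hUinv
    let W := (nrm p z).ker
    have hWinv : ∀ q ∈ Q, ∀ u ∈ W, q u ∈ W := fun q hq u hu => by
      rw [MonoidHom.mem_ker, nrm_apply]
      have : ∀ i : ℕ, (z ^ i) (q u) = q ((z ^ i) u) := fun i => by
        rw [← MulAut.mul_apply, ← MulAut.mul_apply]
        exact congrArg (fun f : MulAut V => f u) ((Commute.pow_right (hzc q hq : Commute q z) i).eq.symm)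
      simp only [this, ← map_prod]
      rw [← nrm_apply, MonoidHom.mem_ker.1 hu, map_one]
    have hWfix := hmin W (fun h => hv1 (hpow v 1 (by
      rw [one_pow, ← nrm_of_fix p hv]
      exact MonoidHom.mem_ker.1 (h ▸ Subgroup.mem_top v : v ∈ W)))) hWinv
    refine hne ((Subgroup.eq_bot_iff_forall _).2 fun q hq => MulEquiv.ext fun x => hpow _ _ ?_)
    have h1 : nrm p z x ∈ U := nrm_fix p hzp x
    have h2 : x ^ p * (nrm p z x)⁻¹ ∈ W := by
      rw [MonoidHom.mem_ker, map_mul, map_pow, map_inv, nrm_of_fix p (nrm_fix p hzp x), mul_inv_cancel]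
    show (q x) ^ p = x ^ p
    rw [← map_pow, show x ^ p = x ^ p * (nrm p z x)⁻¹ * nrm p z x from (inv_mul_cancel_right _ _).symm,
      map_mul, hWfix q hq _ h2, hUfix q hq _ h1]
  haveI : Nontrivial Q := (Subgroup.nontrivial_iff_ne_bot Q).2 hne
  by_cases hcyc : IsCyclic Q
  · haveI := hcyc
    obtain ⟨c, hcC, hc⟩ := generator_of_cyclic hQ hne hC
    obtain ⟨d, hdD, hd⟩ := generator_of_cyclic hQ hne hD
    haveI := hQ.center_nontrivial
    obtain ⟨z, hz⟩ := exists_prime_orderOf_dvd_card' p (by
      obtain ⟨k, hk0, hk⟩ := hQ.nontrivial_iff_card.1 inferInstance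
      rw [hk]; exact dvd_pow_self p hk0.ne' : p ∣ Nat.card Q)
    have hz' : ∀ v : V, (z : MulAut V) v = v → v = 1 := by
      refine step z z.2 (fun q hq => ?_) ?_ ?_
      · letI := IsCyclic.commGroup (α := Q)
        exact congrArg Subtype.val (mul_comm (⟨q, hq⟩ : Q) z)
      · rw [← SubmonoidClass.coe_pow, ← hz, pow_orderOf_eq_one]; rfl
      · intro h
        rw [Subtype.ext h (a2 := (1 : Q)), orderOf_one] at hz
        exact (Fact.out : p.Prime).ne_one hz.symm
    have hfix : ∀ (g : MulAut V), Subgroup.zpowers g = Q → ∀ v, g v = v → v = 1 := by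
      intro g hg v hv
      refine hz' v ?_
      have hzm : (z : MulAut V) ∈ Subgroup.zpowers g := hg ▸ z.2
      obtain ⟨i, hi⟩ := Subgroup.mem_zpowers_iff.1 hzm
      rw [← hi]
      exact (MulAction.stabilizer (MulAut V) v).zpow_mem hv i
    refine hne ((Subgroup.eq_bot_iff_forall _).2 fun q _ => MulEquiv.ext fun x => ?_)
    obtain ⟨n, hn, hn'⟩ := hsum x c hcC d hdD
    have h1 := hfix d hd n hn
    have h2 := hfix c hc _ hn'
    rw [h1, inv_one, one_mul] at h2
    rw [h2, map_one, map_one]
  · obtain ⟨E, hEn, ⟨hEc, hEp⟩, hEcard⟩ := Solv.exists_normal_rank_two _ Q p (by omega) rfl hQ hcyc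
    haveI := hEn
    haveI : Nontrivial E := Finite.one_lt_card_iff_nontrivial.1 (by
      rw [hEcard]; exact Nat.one_lt_pow two_ne_zero (Fact.out : p.Prime).one_lt)
    have hb := Perm.inf_center_ne_bot hQ E ((Subgroup.nontrivial_iff_ne_bot E).1 inferInstance)
    obtain ⟨z, hz, hz1⟩ := (Subgroup.ne_bot_iff_exists_ne_one.1 hb : ∃ z : ↥(E ⊓ Subgroup.center Q), z ≠ 1)
      |> fun ⟨z, h⟩ => (⟨z.1, z.2, fun e => h (Subtype.ext e)⟩ : ∃ z : Q, z ∈ E ⊓ Subgroup.center Q ∧ z ≠ 1)
    obtain ⟨hzE, hzC⟩ := Subgroup.mem_inf.1 hz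
    have hzfpf : ∀ v : V, (z : MulAut V) v = v → v = 1 :=
      step z z.2 (fun q hq => congrArg Subtype.val (Subgroup.mem_center_iff.1 hzC ⟨q, hq⟩))
        (by rw [← SubmonoidClass.coe_pow, hEp z hzE]; rfl)
        (fun e => hz1 (Subtype.ext e))
    have hzo : orderOf z = p := orderOf_eq_prime (hEp z hzE) hz1
    obtain ⟨e, heE, hez⟩ : ∃ e ∈ E, e ∉ Subgroup.zpowers z := by
      by_contra h
      push_neg at h
      have := Subgroup.card_le_of_le (show E ≤ Subgroup.zpowers z from h)
      rw [hEcard, Nat.card_zpowers, hzo] at this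
      have hp := (Fact.out : p.Prime).one_lt
      nlinarith
    have hcomm : ∀ a ∈ E, ∀ b ∈ E, a * b = b * a := fun a ha b hb =>
      congrArg Subtype.val (hEc.is_comm.comm (⟨a, ha⟩ : E) ⟨b, hb⟩)
    let g : ZMod p → MulAut V := fun i => ((e * z ^ i.val : Q) : MulAut V)
    have hgE : ∀ i : ZMod p, e * z ^ i.val ∈ E := fun i => mul_mem heE (pow_mem hzE _)
    have hgp : ∀ i, g i ^ p = 1 := fun i => by
      show ((e * z ^ i.val : Q) : MulAut V) ^ p = 1
      rw [← SubmonoidClass.coe_pow, hEp _ (hgE i)]; rfl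
    have hzpow : ∀ a b : ℕ, ((a : ZMod p) = b) → z ^ a = z ^ b := fun a b h => by
      rw [pow_eq_pow_iff_modEq, hzo, ← ZMod.natCast_eq_natCast_iff]
      exact h
    -- the decomposition
    have hdecomp : ∀ x : V, x ^ p = ∏ i : ZMod p, nrm p (g i) x := by
      intro x
      let F : ZMod p → ZMod p → V := fun j k => ((e ^ j.val * z ^ k.val : Q) : MulAut V) x
      have hlines : ∀ i : ZMod p, nrm p (g i) x = ∏ j : ZMod p, F j (i * j) := fun i => by
        rw [nrm_zmod]
        refine Finset.prod_congr rfl fun j _ => ?_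
        show (((e * z ^ i.val : Q) : MulAut V) ^ j.val) x = _
        rw [← SubmonoidClass.coe_pow, (show Commute e (z ^ i.val) from hcomm _ heE _ (pow_mem hzE _)).mul_pow,
          ← pow_mul, hzpow (i.val * j.val) (i * j).val (by push_cast; simp)]
      have haxis : ∀ j : ZMod p, ∏ k : ZMod p, F j k = 1 := fun j => by
        show ∏ k : ZMod p, ((e ^ j.val * z ^ k.val : Q) : MulAut V) x = 1
        simp only [Subgroup.coe_mul, MulAut.mul_apply, ← map_prod, SubmonoidClass.coe_pow]
        rw [← nrm_zmod, hzfpf _ (nrm_fix p (by rw [← SubmonoidClass.coe_pow, hEp z hzE]; rfl) x), map_one]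
      have := Solv.prod_lines_mul_prod_axis F
      simp only [haxis, mul_one, Finset.prod_const_one] at this
      rw [Finset.prod_congr rfl fun i _ => hlines i, this]
      simp [F]
    have hgfix : ∀ i j : ZMod p, i ≠ j → ∀ v, g i v = v → g j v = v → v = 1 := by
      intro i j hij v h1 h2
      refine hzfpf v ?_
      let St := MulAction.stabilizer (MulAut V) v
      have hm : ((z : Q) : MulAut V) ^ ((i.val : ℤ) - j.val) ∈ St := by
        have := St.mul_mem (St.inv_mem (show g j ∈ St from h2)) (show g i ∈ St from h1)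
        convert this using 1
        show _ = ((e * z ^ j.val : Q) : MulAut V)⁻¹ * ((e * z ^ i.val : Q) : MulAut V)
        rw [← Subgroup.coe_inv, ← Subgroup.coe_mul, ← SubgroupClass.coe_zpow]
        congr 1
        rw [mul_inv_rev, mul_assoc, inv_mul_cancel_left, zpow_sub, zpow_natCast, zpow_natCast]
        exact ((Commute.refl z).pow_pow i.val j.val).inv_right.eq
      have hd : ¬ (p : ℤ) ∣ ((i.val : ℤ) - j.val) := by
        rw [← ZMod.intCast_zmod_eq_zero_iff_dvd]
        push_cast
        simpa [sub_eq_zero] using hij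
      obtain ⟨a, b, hab⟩ := ((Nat.prime_iff_prime_int.1 (Fact.out : p.Prime)).coprime_iff_not_dvd.2 hd)
      have hz' := St.zpow_mem hm b
      rw [← zpow_mul, show ((i.val : ℤ) - j.val) * b = 1 + (p : ℤ) * (-a) by linear_combination hab, zpow_add,
        zpow_one, zpow_mul, zpow_natCast, ← SubmonoidClass.coe_pow, hEp z hzE] at hz'
      simpa [St] using hz'
    by_cases hcent : ∀ q : Q, q * e = e * q
    · -- a central plane is impossible
      refine hne ((Subgroup.eq_bot_iff_forall _).2 fun q _ => MulEquiv.ext fun x => ?_)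
      have hx : x = 1 := hpow x 1 (by
        rw [one_pow, hdecomp]
        refine Finset.prod_eq_one fun i _ => ?_
        refine step (g i) (e * z ^ i.val : Q).2 (fun r hr => ?_) (hgp i) ?_ _ (nrm_fix p (hgp i) x)
        · exact congrArg Subtype.val (show (⟨r, hr⟩ : Q) * (e * z ^ i.val) = e * z ^ i.val * ⟨r, hr⟩ by
            rw [← mul_assoc, hcent, mul_assoc, mul_assoc]
            congr 1
            exact ((Commute.pow_right (Subgroup.mem_center_iff.1 hzC ⟨r, hr⟩ : Commute (⟨r, hr⟩ : Q) z)) _).eq)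
        · intro h
          refine hez ?_
          have h' : e * z ^ i.val = 1 := Subtype.ext h
          rw [eq_inv_of_mul_eq_one_left h']
          exact inv_mem (Subgroup.npow_mem_zpowers z _))
      subst hx
      rw [map_one, map_one]
    -- elements moving `e`
    have hline : ∀ c : Q, c * e ≠ e * c → ∃ a : ZMod p, a ≠ 0 ∧ ∀ i : ZMod p,
        (c : MulAut V) * g i = g (i + a) * c := by
      intro c hc
      have hgen : ∀ x ∈ E, ∃ b a : ℤ, x = e ^ b * z ^ a := by
        intro x hx
        have hle : Subgroup.zpowers e ⊔ Subgroup.zpowers z ≤ E :=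
          sup_le (Subgroup.zpowers_le.2 heE) (Subgroup.zpowers_le.2 hzE)
        have hlt : Subgroup.zpowers z < Subgroup.zpowers e ⊔ Subgroup.zpowers z :=
          lt_of_le_of_ne le_sup_right fun h =>
            hez (h ▸ Subgroup.mem_sup_left (Subgroup.mem_zpowers e) : e ∈ Subgroup.zpowers z)
        obtain ⟨m, hm2, hm⟩ := (Nat.dvd_prime_pow (Fact.out : p.Prime)).1
          (hEcard ▸ Subgroup.card_dvd_of_le hle)
        have hm' : m = 2 := by
          by_contra hm'
          have h1 : Nat.card ↥(Subgroup.zpowers z) < Nat.card ↥(Subgroup.zpowers e ⊔ Subgroup.zpowers z) := by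
            exact lt_of_le_of_ne (Subgroup.card_le_of_le hlt.le)
              fun eq => hlt.ne (Subgroup.eq_of_le_of_card_ge hlt.le eq.ge)
          rw [Nat.card_zpowers, hzo, hm] at h1
          have : p ^ m ≤ p ^ 1 := Nat.pow_le_pow_right (Fact.out : p.Prime).pos (by omega)
          rw [pow_one] at this
          omega
        have heq : Subgroup.zpowers e ⊔ Subgroup.zpowers z = E :=
          Subgroup.eq_of_le_of_card_ge hle (by rw [hEcard, hm, hm'])
        haveI : (Subgroup.zpowers z).Normal := ⟨fun y hy q => by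
          obtain ⟨t, rfl⟩ := Subgroup.mem_zpowers_iff.1 hy
          rw [((show Commute q z from Subgroup.mem_center_iff.1 hzC q).zpow_right t).eq, mul_inv_cancel_right]
          exact Subgroup.zpow_mem_zpowers z t⟩
        rw [← heq, Subgroup.mem_sup_of_normal_right] at hx
        obtain ⟨_, hy, _, hy', rfl⟩ := hx
        obtain ⟨b, rfl⟩ := Subgroup.mem_zpowers_iff.1 hy
        obtain ⟨a, rfl⟩ := Subgroup.mem_zpowers_iff.1 hy'
        exact ⟨b, a, rfl⟩
      obtain ⟨b, a, hba⟩ := hgen _ (hEn.conj_mem e heE c)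
      have hiter : ∀ k : ℕ, ∃ t : ℤ, c ^ k * e * (c ^ k)⁻¹ = e ^ (b ^ k) * z ^ t := by
        intro k
        induction k with
        | zero => exact ⟨0, by simp⟩
        | succ k ih =>
          obtain ⟨t, ht⟩ := ih
          refine ⟨a * b ^ k + t, ?_⟩
          rw [pow_succ' c k, mul_inv_rev, show c * c ^ k * e * ((c ^ k)⁻¹ * c⁻¹) = MulAut.conj c (c ^ k * e * (c ^ k)⁻¹) by
            simp [mul_assoc], ht, map_mul, map_zpow, map_zpow,
            show MulAut.conj c e = e ^ b * z ^ a from hba,
            show MulAut.conj c z = z by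
              rw [MulAut.conj_apply, Subgroup.mem_center_iff.1 hzC c, mul_inv_cancel_right]]
          rw [((show Commute (e ^ b) z from Subgroup.mem_center_iff.1 hzC (e ^ b)).zpow_right a).mul_zpow, mul_assoc,
            ← zpow_mul, ← zpow_mul, ← zpow_add, ← pow_succ']
      obtain ⟨k, hk⟩ := (IsPGroup.iff_orderOf.1 hQ c)
      obtain ⟨t, ht⟩ := hiter (p ^ k)
      rw [← hk, pow_orderOf_eq_one, one_mul, inv_one, mul_one, hk] at ht
      have hb : ((b : ZMod p)) = 1 := by
        have hmem : e ^ (b ^ (p ^ k) - 1) ∈ Subgroup.zpowers z := by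
          refine Subgroup.mem_zpowers_iff.2 ⟨-t, ?_⟩
          have he : e ^ (b ^ p ^ k) = e * (z ^ t)⁻¹ := eq_mul_inv_of_mul_eq ht.symm
          rw [zpow_sub, zpow_one, he, zpow_neg, Subgroup.mem_center_iff.1 (inv_mem (zpow_mem hzC t)) e,
            mul_inv_cancel_right]
        have hd : (p : ℤ) ∣ b ^ (p ^ k) - 1 := by
          by_contra hd
          obtain ⟨u, v, huv⟩ := ((Nat.prime_iff_prime_int.1 (Fact.out : p.Prime)).coprime_iff_not_dvd.2 hd)
          refine hez ?_
          have := (Subgroup.zpowers z).zpow_mem hmem v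
          rw [← zpow_mul, show (b ^ (p ^ k) - 1) * v = 1 + (p : ℤ) * (-u) by linear_combination huv, zpow_add,
            zpow_one, zpow_mul, zpow_natCast, hEp e heE, one_zpow, mul_one] at this
          exact this
        rw [← ZMod.intCast_zmod_eq_zero_iff_dvd] at hd
        push_cast at hd
        rwa [ZMod.pow_card_pow, sub_eq_zero] at hd
      have hce : c * e * c⁻¹ = e * z ^ (a : ZMod p).val := by
        rw [hba]
        congr 1
        · conv_rhs => rw [← zpow_one e]
          obtain ⟨w, hw⟩ := (ZMod.intCast_eq_intCast_iff_dvd_sub 1 b p).1 (by rw [hb]; simp)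
          rw [show b = 1 + (p : ℤ) * w by linear_combination hw, zpow_add, zpow_mul, zpow_natCast, hEp e heE,
            one_zpow, mul_one]
        · rw [← zpow_natCast, ZMod.val_intCast]
          conv_lhs => rw [← zpow_mod_orderOf]
          rw [hzo]
      refine ⟨(a : ZMod p), fun ha => hc ?_, fun i => ?_⟩
      · rw [ha, ZMod.val_zero, pow_zero, mul_one, mul_inv_eq_iff_eq_mul] at hce
        exact hce
      · show ((c : MulAut V) * ((e * z ^ i.val : Q) : MulAut V)) = ((e * z ^ (i + (a : ZMod p)).val : Q) : MulAut V) * c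
        rw [← Subgroup.coe_mul, ← Subgroup.coe_mul]
        congr 1
        rw [← mul_assoc, mul_inv_eq_iff_eq_mul.1 hce, hzpow (i + (a : ZMod p)).val ((a : ZMod p).val + i.val)
          (by push_cast; simp [add_comm]), pow_add, mul_assoc, mul_assoc, mul_assoc,
          ((show Commute c z from Subgroup.mem_center_iff.1 hzC c).pow_right i.val).eq]
        simp only [mul_assoc]
    have hcard : ∀ c : Q, c * e ≠ e * c →
        Nat.card {v : V // (c : MulAut V) v = v} ≤ Nat.card {v : V // g 0 v = v} ∧
          Nat.card {v : V // g 0 v = v} ^ p ≤ Nat.card V := by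
      intro c hc
      obtain ⟨a, ha, hca⟩ := hline c hc
      have hcai : ∀ (i : ZMod p) (v : V), (c : MulAut V) (g i v) = g (i + a) ((c : MulAut V) v) := fun i v => by
        rw [← MulAut.mul_apply, hca, MulAut.mul_apply]
      have hnr : ∀ (i : ZMod p) (v : V), (c : MulAut V) (nrm p (g i) v) = nrm p (g (i + a)) ((c : MulAut V) v) := by
        intro i v
        have : ∀ k : ℕ, (c : MulAut V) ((g i ^ k) v) = (g (i + a) ^ k) ((c : MulAut V) v) := by
          intro k
          induction k with
          | zero => rfl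
          | succ k ih => rw [pow_succ', MulAut.mul_apply, hcai, ih, pow_succ', MulAut.mul_apply]
        simp only [nrm_apply, map_prod, this]
      constructor
      · refine Nat.card_le_card_of_injective (fun v => ⟨nrm p (g 0) v.1, nrm_fix p (hgp 0) _⟩) ?_
        intro v w h
        have h0 : nrm p (g 0) v.1 = nrm p (g 0) w.1 := congrArg Subtype.val h
        have hall : ∀ k : ℕ, nrm p (g (k • a)) v.1 = nrm p (g (k • a)) w.1 := by
          intro k
          induction k with
          | zero => simpa using h0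
          | succ k ih =>
            have := congrArg (c : MulAut V) ih
            rw [hnr, hnr, v.2, w.2] at this
            rwa [succ_nsmul]
        refine Subtype.ext (hpow _ _ ?_)
        rw [hdecomp, hdecomp]
        refine Finset.prod_congr rfl fun i _ => ?_
        have := hall (i * a⁻¹).val
        rwa [nsmul_eq_mul, ZMod.natCast_zmod_val, mul_assoc, inv_mul_cancel₀ ha, mul_one] at this
      · have hsh : ∀ (k : ℕ) (v : V), g 0 v = v → g (k • a) (((c : MulAut V) ^ k) v) = ((c : MulAut V) ^ k) v := by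
          intro k
          induction k with
          | zero => simp
          | succ k ih =>
            intro v hv
            rw [pow_succ', MulAut.mul_apply, succ_nsmul, ← hcai, ih v hv]
        let Φ : (ZMod p → {v : V // g 0 v = v}) → V := fun w => ∏ k : ZMod p, ((c : MulAut V) ^ k.val) (w k).1
        have hΦ : Function.Injective Φ := by
          intro u w h
          funext k
          refine Subtype.ext (((c : MulAut V) ^ k.val).injective (hpow _ _ ?_))
          have h' := congrArg (nrm p (g (k.val • a))) h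
          have hone : ∀ (u : ZMod p → {v : V // g 0 v = v}),
              nrm p (g (k.val • a)) (Φ u) = (((c : MulAut V) ^ k.val) (u k).1) ^ p := by
            intro u
            rw [map_prod, Finset.prod_eq_single k]
            · exact nrm_of_fix p (hsh _ _ (u k).2)
            · intro j _ hj
              have hne' : k.val • a ≠ j.val • a := fun e => hj (by
                rw [nsmul_eq_mul, nsmul_eq_mul, ZMod.natCast_zmod_val, ZMod.natCast_zmod_val] at e
                exact (mul_right_cancel₀ ha e).symm)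
              refine hgfix _ _ hne' _ (nrm_fix p (hgp _) _) ?_
              have hcm : Commute (g (k.val • a)) (g (j.val • a)) :=
                congrArg Subtype.val (hcomm _ (hgE (k.val • a)) _ (hgE (j.val • a)))
              have hfx := hsh j.val _ (u j).2
              simp only [nrm_apply, map_prod]
              refine Finset.prod_congr rfl fun i _ => ?_
              rw [← MulAut.mul_apply, ← (hcm.pow_left i).eq, MulAut.mul_apply, hfx]
            · simp
          rwa [hone, hone] at h'
        have := Nat.card_le_card_of_injective Φ hΦ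
        rwa [Nat.card_fun, Nat.card_zmod] at this
    obtain ⟨c, hcC, hce⟩ : ∃ c : Q, (c : MulAut V) ∈ C ∧ c * e ≠ e * c := by
      by_contra h
      push_neg at h
      refine hcent fun q => ?_
      have : Subgroup.closure C ≤ Subgroup.centralizer {(e : MulAut V)} := by
        rw [Subgroup.closure_le]
        intro c hc
        exact Subgroup.mem_centralizer_singleton_iff.2
          (congrArg Subtype.val (h ⟨c, hC ▸ Subgroup.subset_closure hc⟩ hc))
      exact Subtype.ext (Subgroup.mem_centralizer_singleton_iff.1 (this (hC.symm ▸ q.2)))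
    obtain ⟨d, hdD, hde⟩ : ∃ d : Q, (d : MulAut V) ∈ D ∧ d * e ≠ e * d := by
      by_contra h
      push_neg at h
      refine hcent fun q => ?_
      have : Subgroup.closure D ≤ Subgroup.centralizer {(e : MulAut V)} := by
        rw [Subgroup.closure_le]
        intro c hc
        exact Subgroup.mem_centralizer_singleton_iff.2
          (congrArg Subtype.val (h ⟨c, hD ▸ Subgroup.subset_closure hc⟩ hc))
      exact Subtype.ext (Subgroup.mem_centralizer_singleton_iff.1 (this (hD.symm ▸ q.2)))
    obtain ⟨hc1, hlow⟩ := hcard c hce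
    obtain ⟨hd1, -⟩ := hcard d hde
    have hVle : Nat.card V ≤ Nat.card {v : V // (d : MulAut V) v = v} * Nat.card {v : V // (c : MulAut V) v = v} := by
      rw [← Nat.card_prod]
      refine Nat.card_le_card_of_surjective (fun q => q.1.1 * q.2.1) fun x => ?_
      obtain ⟨n, hn, hn'⟩ := hsum x c hcC d hdD
      exact ⟨(⟨n, hn⟩, ⟨n⁻¹ * x, hn'⟩), mul_inv_cancel_left n x⟩
    set m := Nat.card {v : V // g 0 v = v}
    have h2 : m ^ p ≤ m ^ 2 := hlow.trans (hVle.trans ((Nat.mul_le_mul hd1 hc1).trans (pow_two m).ge))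
    have hm : m ≤ 1 := by
      by_contra hm
      have := Nat.pow_lt_pow_right (show 1 < m by omega) (show 2 < p by omega)
      omega
    have : Nat.card V ≤ 1 := hVle.trans ((Nat.mul_le_mul (hd1.trans hm) (hc1.trans hm)).trans le_rfl)
    haveI := Finite.card_le_one_iff_subsingleton.1 this
    exact hne ((Subgroup.eq_bot_iff_forall _).2 fun q _ => MulEquiv.ext fun x => Subsingleton.elim _ _)

end Minimal

section Sum

variable {V : Type*} [CommGroup V] [Finite V] {p : ℕ} [Fact p.Prime]

/-- Every element of the generating sets fixes every vector. -/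
theorem core (hp3 : 3 ≤ p) (hcop : (Nat.card V).Coprime p) (Q : Subgroup (MulAut V))
    (hQ : IsPGroup p Q) (C D : Set (MulAut V)) (hC : Subgroup.closure C = Q) (hD : Subgroup.closure D = Q)
    (hsum : ∀ W : Subgroup V, (∀ q ∈ Q, ∀ w ∈ W, q w ∈ W) → ∀ x ∈ W, ∀ c ∈ C, ∀ d ∈ D,
      ∃ n ∈ W, d n = n ∧ c (n⁻¹ * x) = n⁻¹ * x) :
    ∀ q ∈ Q, ∀ v : V, q v = v := by
  suffices H : ∀ (k : ℕ) (W : Subgroup V), Nat.card W = k → (∀ q ∈ Q, ∀ w ∈ W, q w ∈ W) →
      ∀ q ∈ Q, ∀ w ∈ W, q w = w from fun q hq v => H _ ⊤ rfl (fun _ _ _ _ => trivial) q hq v trivial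
  intro k
  induction k using Nat.strong_induction_on with
  | _ k ih =>
    intro W hk hW
    classical
    have hinv : ∀ q ∈ Q, ∀ w ∈ W, q⁻¹ w ∈ W := fun q hq w hw => hW _ (inv_mem hq) w hw
    let ψ : Q →* MulAut W :=
      { toFun := fun q =>
          { toFun := fun w => ⟨(q : MulAut V) w, hW q q.2 w w.2⟩
            invFun := fun w => ⟨(q : MulAut V)⁻¹ w, hinv q q.2 w w.2⟩
            left_inv := fun w => Subtype.ext (MulEquiv.symm_apply_apply (q : MulAut V) w)
            right_inv := fun w => Subtype.ext (MulEquiv.apply_symm_apply (q : MulAut V) w)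
            map_mul' := fun a b => Subtype.ext (map_mul (q : MulAut V) (a : V) b) }
        map_one' := MulEquiv.ext fun _ => rfl
        map_mul' := fun _ _ => MulEquiv.ext fun _ => rfl }
    have hψ : ∀ (q : Q) (w : W), ((ψ q w : W) : V) = (q : MulAut V) w := fun q w => rfl
    have hcl : ∀ S : Set (MulAut V), Subgroup.closure S = Q →
        Subgroup.closure (ψ '' ((Q.subtype) ⁻¹' S)) = ψ.range := by
      intro S hS
      have hSQ : S ⊆ Q := hS ▸ Subgroup.subset_closure
      have htop : Subgroup.closure ((Q.subtype) ⁻¹' S) = ⊤ := by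
        refine Subgroup.map_injective Q.subtype_injective ?_
        rw [MonoidHom.map_closure, ← MonoidHom.range_eq_map, Q.range_subtype,
          Set.image_preimage_eq_of_subset (by simpa using hSQ), hS]
      rw [← MonoidHom.map_closure, htop, ← MonoidHom.range_eq_map]
    have hbot := minimal_case (V := W) hp3 (hcop.of_dvd_left (Subgroup.card_subgroup_dvd_card W)) ψ.range
      (hQ.of_surjective ψ.rangeRestrict ψ.rangeRestrict_surjective) _ _ (hcl C hC) (hcl D hD) ?_ ?_
    · intro q hq w hw
      have h1 : ψ ⟨q, hq⟩ = 1 := Subgroup.mem_bot.1 (hbot ▸ ⟨_, rfl⟩)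
      rw [← hψ ⟨q, hq⟩ ⟨w, hw⟩, h1]
      rfl
    · rintro x _ ⟨c, hc, rfl⟩ _ ⟨d, hd, rfl⟩
      obtain ⟨n, hnW, hn, hn'⟩ := hsum W hW x x.2 _ hc _ hd
      exact ⟨⟨n, hnW⟩, Subtype.ext hn, Subtype.ext hn'⟩
    · intro U hU hUinv
      rintro _ ⟨q, rfl⟩ u hu
      refine Subtype.ext ?_
      have hlt : Nat.card (U.map W.subtype) < k := by
        rw [← hk, Nat.card_congr (U.equivMapOfInjective _ W.subtype_injective).toEquiv.symm]
        exact lt_of_le_of_ne (Nat.le_of_dvd Nat.card_pos (Subgroup.card_subgroup_dvd_card U))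
          fun h => hU (Subgroup.eq_top_of_card_eq U h)
      exact ih _ hlt (U.map W.subtype) rfl (by
        rintro r hr _ ⟨w, hw, rfl⟩
        exact ⟨ψ ⟨r, hr⟩ w, hUinv _ ⟨_, rfl⟩ w hw, rfl⟩) q q.2 u ⟨u, hu, rfl⟩

end Sum

section Group

variable {G : Type*} [Group G] [Finite G] {p : ℕ} [Fact p.Prime]

theorem trivial_on_pGroup (hp3 : 3 ≤ p) {P : Subgroup G} (hP : IsPGroup p P) {C D : Set G}
    (hC : Subgroup.closure C = P) (hD : Subgroup.closure D = P) {r : ℕ} [Fact r.Prime] (hrp : r ≠ p) :
    ∀ (k : ℕ) (R : Subgroup G), Nat.card R = k → IsPGroup r R → P ≤ Subgroup.normalizer (R : Set G) →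
      (∀ x ∈ R, ∀ c ∈ C, ∀ d ∈ D, IsPGroup p ↥(Subgroup.closure ({x * c * x⁻¹, d} : Set G))) →
      ∀ q ∈ P, ∀ x ∈ R, q * x = x * q := by
  intro k
  induction k using Nat.strong_induction_on with
  | _ k ih =>
    intro R hk hR hPR h
    classical
    rcases subsingleton_or_nontrivial R with hs | hnt
    · intro q _ x hx
      rw [show x = 1 from congrArg Subtype.val (Subsingleton.elim (⟨x, hx⟩ : R) 1), mul_one, one_mul]
    haveI := hnt
    haveI : Group.IsNilpotent R := hR.isNilpotent
    set K := (commutator R).map R.subtype with hKdef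
    have hKR : K ≤ R := Subgroup.map_subtype_le _
    have hconjR : ∀ q ∈ P, ∀ x ∈ R, q * x * q⁻¹ ∈ R := fun q hq x hx =>
      (Subgroup.mem_normalizer_iff.1 (hPR hq) x).1 hx
    let φ : P →* MulAut R :=
      { toFun := fun q =>
          { toFun := fun x => ⟨(q : G) * x * (q : G)⁻¹, hconjR q q.2 x x.2⟩
            invFun := fun x => ⟨(q : G)⁻¹ * x * (q : G), by simpa using hconjR _ (inv_mem q.2) x x.2⟩
            left_inv := fun x => Subtype.ext (by simp [mul_assoc])
            right_inv := fun x => Subtype.ext (by simp [mul_assoc])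
            map_mul' := fun a b => Subtype.ext (by simp [mul_assoc]) }
        map_one' := MulEquiv.ext fun x => Subtype.ext (by simp)
        map_mul' := fun a b => MulEquiv.ext fun x => Subtype.ext (by simp [mul_assoc]) }
    have hφ : ∀ (q : P) (x : R), ((φ q x : R) : G) = (q : G) * x * (q : G)⁻¹ := fun q x => rfl
    have hPK : P ≤ Subgroup.normalizer (K : Set G) := by
      rw [Solv.le_normalizer_iff_forall_conj_mem]
      rintro q hq _ ⟨x, hx, rfl⟩
      exact ⟨φ ⟨q, hq⟩ x, Solv.map_mem_of_characteristic (φ ⟨q, hq⟩) hx, rfl⟩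
    have hKlt : Nat.card K < k := by
      rw [← hk, hKdef, Nat.card_congr ((commutator R).equivMapOfInjective _ R.subtype_injective).toEquiv.symm]
      refine lt_of_le_of_ne (Nat.le_of_dvd Nat.card_pos (Subgroup.card_subgroup_dvd_card _)) fun e => ?_
      exact (Group.IsSolvable.commutator_lt_top_of_nontrivial R).ne (Subgroup.eq_top_of_card_eq _ e)
    have hfixK := ih _ hKlt K rfl (hR.to_le hKR) hPK fun x hx => h x (hKR hx)
    -- the action on the abelianization
    let ψ : P →* MulAut (Abelianization R) :=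
      { toFun := fun q => MulEquiv.abelianizationCongr (φ q)
        map_one' := MulEquiv.ext fun x => by
          obtain ⟨x, rfl⟩ := QuotientGroup.mk_surjective x
          exact congrArg Abelianization.of (MulEquiv.congr_fun (map_one φ) x)
        map_mul' := fun a b => MulEquiv.ext fun x => by
          obtain ⟨x, rfl⟩ := QuotientGroup.mk_surjective x
          exact congrArg Abelianization.of (MulEquiv.congr_fun (map_mul φ a b) x) }
    have hψ : ∀ (q : P) (x : R), ψ q (Abelianization.of x) = Abelianization.of (φ q x) := fun q x => rfl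
    have hcopR : (Nat.card (Abelianization R)).Coprime p := by
      obtain ⟨j, hj⟩ := (hR.to_quotient (commutator R)).exists_card_eq
      show (Nat.card (R ⧸ commutator R)).Coprime p
      rw [hj]
      exact ((Nat.coprime_primes Fact.out Fact.out).2 hrp).pow_left j
    have hdisj : ∀ {M : Subgroup G}, M ≤ R → ∀ m ∈ M, m ∈ P → m = 1 := by
      intro M hM m hm hmP
      have hd := IsPGroup.disjoint_of_ne r p hrp R P hR hP
      exact Subgroup.disjoint_def.1 hd (hM hm) hmP
    have hcl : ∀ S : Set G, Subgroup.closure S = P → Subgroup.closure (ψ '' (P.subtype ⁻¹' S)) = ψ.range := by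
      intro S hS
      have htop : Subgroup.closure (P.subtype ⁻¹' S) = ⊤ := by
        refine Subgroup.map_injective P.subtype_injective ?_
        rw [MonoidHom.map_closure, ← MonoidHom.range_eq_map, P.range_subtype,
          Set.image_preimage_eq_of_subset (by simpa using hS ▸ Subgroup.subset_closure), hS]
      rw [← MonoidHom.map_closure, htop, ← MonoidHom.range_eq_map]
    have hV := core hp3 hcopR ψ.range (hP.of_surjective ψ.rangeRestrict ψ.rangeRestrict_surjective) _ _
      (hcl C hC) (hcl D hD) ?_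
    · -- lift to R
      intro q hq x hx
      have h1 : Abelianization.of (φ ⟨q, hq⟩ ⟨x, hx⟩ * (⟨x, hx⟩ : R)⁻¹) = 1 := by
        rw [map_mul, map_inv, ← hψ, hV (ψ ⟨q, hq⟩) ⟨_, rfl⟩, mul_inv_cancel]
      have h2 : φ ⟨q, hq⟩ ⟨x, hx⟩ * (⟨x, hx⟩ : R)⁻¹ ∈ commutator R := (QuotientGroup.eq_one_iff _).1 h1
      have hzK : q * x * q⁻¹ * x⁻¹ ∈ K := ⟨_, h2, rfl⟩
      set z := q * x * q⁻¹ * x⁻¹ with hz
      have hcomm : q * z = z * q := hfixK q hq z hzK
      have hit : ∀ i : ℕ, q ^ i * x = z ^ i * x * q ^ i := by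
        intro i
        induction i with
        | zero => simp
        | succ i ih =>
          have e1 : q * x = z * x * q := by rw [hz]; group
          calc q ^ (i + 1) * x = q * (z ^ i * x * q ^ i) := by rw [pow_succ', mul_assoc, ih]
            _ = z ^ i * (q * x) * q ^ i := by
              rw [← mul_assoc, ← mul_assoc, (show Commute q z from hcomm).pow_right i |>.eq, mul_assoc (z ^ i)]
            _ = _ := by rw [e1, pow_succ, pow_succ']; simp [mul_assoc]
      have h3 := hit (orderOf q)
      rw [pow_orderOf_eq_one, one_mul, mul_one] at h3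
      have h4 : z ^ orderOf q = 1 := by
        have := h3.symm
        rwa [mul_eq_right] at this
      have hz1 : z = 1 := by
        obtain ⟨i, hi⟩ := hR ⟨z, hKR hzK⟩
        obtain ⟨j, hj⟩ := (IsPGroup.iff_orderOf.1 hP ⟨q, hq⟩)
        rw [Subgroup.orderOf_mk] at hj
        rw [← orderOf_eq_one_iff]
        refine Nat.eq_one_of_dvd_coprimes
          (((Nat.coprime_primes Fact.out Fact.out).2 hrp).pow i j)
          (orderOf_dvd_of_pow_eq_one (congrArg Subtype.val hi)) (hj ▸ orderOf_dvd_of_pow_eq_one h4)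
      rw [hz, mul_inv_eq_one, mul_inv_eq_iff_eq_mul] at hz1
      exact hz1
    -- the decomposition on invariant sections
    intro W hW
    intro y hy
    rintro _ ⟨c, hc, rfl⟩ _ ⟨d, hd, rfl⟩
    obtain ⟨x, rfl⟩ : ∃ x, Abelianization.of x = y := QuotientGroup.mk_surjective y
    set M := (W.comap (Abelianization.of (G := R))).map R.subtype with hM
    have hMR : M ≤ R := Subgroup.map_subtype_le _
    have hPM : P ≤ Subgroup.normalizer (M : Set G) := by
      rw [Solv.le_normalizer_iff_forall_conj_mem]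
      rintro q hq _ ⟨m, hm, rfl⟩
      refine ⟨φ ⟨q, hq⟩ m, ?_, rfl⟩
      show Abelianization.of (φ ⟨q, hq⟩ m) ∈ W
      rw [← hψ]
      exact hW _ ⟨_, rfl⟩ _ hm
    have hxM : (x : G) ∈ M := ⟨x, hy, rfl⟩
    set H := Subgroup.closure ({(x : G) * (c : G) * (x : G)⁻¹, (d : G)} : Set G) with hH
    have hHp : IsPGroup p H := h x x.2 c hc d hd
    have hHle : H ≤ P ⊔ M := by
      rw [hH, Subgroup.closure_le]
      rintro _ (rfl | rfl)
      · exact mul_mem (mul_mem (Subgroup.mem_sup_right hxM) (Subgroup.mem_sup_left c.2))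
          (inv_mem (Subgroup.mem_sup_right hxM))
      · exact Subgroup.mem_sup_left d.2
    have hdec : ∀ u : H, ∃ m : R, ∃ q : P, (m : G) ∈ M ∧ (u : G) = (m : G) * q := by
      intro u
      have hu : (u : G) ∈ ((P ⊔ M : Subgroup G) : Set G) := hHle u.2
      rw [Subgroup.coe_mul_of_left_le_normalizer_right P M hPM] at hu
      obtain ⟨q, hq, m, hm, e⟩ := Set.mem_mul.1 hu
      have hm' : q * m * q⁻¹ ∈ M := (Subgroup.mem_normalizer_iff.1 (hPM hq) m).1 hm
      exact ⟨⟨q * m * q⁻¹, hMR hm'⟩, ⟨q, hq⟩, hm', by simp [mul_assoc, ← e]⟩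
    choose fm fq hfM hfu using hdec
    have huniq : ∀ (u : H) (m : R) (q : P), (u : G) = (m : G) * q → fm u = m ∧ fq u = q := by
      intro u m q e
      have e1 : ((m : G))⁻¹ * fm u = (q : G) * (fq u : G)⁻¹ := by
        rw [eq_mul_inv_iff_mul_eq, mul_assoc, ← hfu, e, inv_mul_cancel_left]
      have h1 := hdisj (le_refl R) _ (mul_mem (inv_mem m.2) (fm u).2) (e1 ▸ mul_mem q.2 (inv_mem (fq u).2))
      have hm : fm u = m := (Subtype.ext (inv_mul_eq_one.1 h1)).symm
      exact ⟨hm, Subtype.ext (mul_left_cancel (a := (m : G)) ((hm ▸ (hfu u).symm).trans e))⟩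
    let f : H → Abelianization R := fun u => Abelianization.of (fm u)
    have hcocycle : ∀ u v : H, f (u * v) = f u * ψ (fq u) (f v) := by
      intro u v
      have := huniq (u * v) (fm u * φ (fq u) (fm v)) (fq u * fq v) (by
        simp only [Subgroup.coe_mul, hfu u, hfu v, hφ]
        group)
      show Abelianization.of (fm (u * v)) = _
      rw [this.1, map_mul, ← hψ]
    haveI := Fintype.ofFinite H
    set n0 := ∏ u : H, f u with hn0
    have hcopH : (Nat.card (Abelianization R)).Coprime (Nat.card H) := by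
      obtain ⟨j, hj⟩ := hHp.exists_card_eq
      rw [hj]
      exact hcopR.pow_right j
    set n := (powCoprime hcopH).symm n0
    have hn : n ^ Nat.card H = n0 := (powCoprime hcopH).apply_symm_apply n0
    have hn0W : n0 ∈ W := Subgroup.prod_mem W fun u _ => by
      obtain ⟨m, hm, e⟩ := hfM u
      show Abelianization.of (fm u) ∈ W
      rw [show fm u = m from (Subtype.ext e).symm]
      exact hm
    have hnW : n ∈ W := by
      obtain ⟨a, b, hab⟩ : IsCoprime (Nat.card H : ℤ) (Nat.card (Abelianization R)) :=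
        Nat.isCoprime_iff_coprime.2 hcopH.symm
      have : n = n0 ^ a := by
        conv_lhs => rw [← zpow_one n, ← hab]
        rw [zpow_add, zpow_mul', zpow_mul', zpow_natCast, zpow_natCast, pow_card_eq_one', one_zpow, mul_one, hn]
      rw [this]
      exact W.zpow_mem hn0W a
    have hkey : ∀ u : H, f u * ψ (fq u) n = n := by
      intro u
      refine (powCoprime hcopH).injective ?_
      show (f u * ψ (fq u) n) ^ Nat.card H = n ^ Nat.card H
      rw [mul_pow, ← map_pow (ψ (fq u)), hn]
      conv_rhs => rw [hn0, ← Equiv.prod_comp (Equiv.mulLeft u)]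
      simp only [Equiv.coe_mulLeft, hcocycle, Finset.prod_mul_distrib, Finset.prod_const, Finset.card_univ,
        ← Nat.card_eq_fintype_card, ← map_prod, ← hn0]
    refine ⟨n, hnW, ?_, ?_⟩
    · have hu := huniq ⟨d, Subgroup.subset_closure (by simp)⟩ 1 d (by simp)
      have := hkey ⟨d, Subgroup.subset_closure (by simp)⟩
      simp only [f, hu.1, hu.2, map_one, one_mul] at this
      exact this
    · have hu := huniq ⟨(x : G) * (c : G) * (x : G)⁻¹, Subgroup.subset_closure (by simp)⟩
        (x * φ c x⁻¹) c (by simp [hφ, mul_assoc])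
      have := hkey ⟨(x : G) * (c : G) * (x : G)⁻¹, Subgroup.subset_closure (by simp)⟩
      simp only [f, hu.1, hu.2, map_mul, map_inv, ← hψ] at this
      rw [map_mul, map_inv]
      generalize ψ c (Abelianization.of x) = a at this ⊢
      generalize ψ c n = b at this ⊢
      generalize Abelianization.of x = e at this ⊢
      rw [← this]
      simp [mul_inv_rev, mul_assoc]

theorem commutator_eq_bot (hp3 : 3 ≤ p) (P : Subgroup G) (hP : IsPGroup p P) (N : Subgroup G) [hNn : N.Normal]
    (hN : (Nat.card N).Coprime p) {C D : Set G} (hC : Subgroup.closure C = P) (hD : Subgroup.closure D = P)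
    (h : ∀ x ∈ N, ∀ c ∈ C, ∀ d ∈ D, IsPGroup p ↥(Subgroup.closure ({x * c * x⁻¹, d} : Set G))) :
    ⁅P, N⁆ = ⊥ := by
  rw [Subgroup.commutator_comm, Subgroup.commutator_eq_bot_iff_le_centralizer]
  obtain ⟨j, hj⟩ := hP.exists_card_eq
  haveI : Group.IsNilpotent P := hP.isNilpotent
  refine Solv.le_of_forall_invariant_pGroup (A := P) Subgroup.le_normalizer_of_normal
    (hj ▸ hN.symm.pow_left j) (Or.inl inferInstance) fun r R hr hR hRN hPR x hx => ?_
  haveI := Fact.mk hr
  rcases eq_or_ne r p with rfl | hrp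
  · obtain ⟨i, hi⟩ := hR.exists_card_eq
    have : Nat.card R = 1 := Nat.eq_one_of_dvd_coprimes (hN.pow_right i) (Subgroup.card_dvd_of_le hRN) (dvd_of_eq hi)
    rw [Subgroup.eq_bot_of_card_eq _ this, Subgroup.mem_bot] at hx
    subst hx
    exact one_mem _
  · rw [Subgroup.mem_centralizer_iff]
    intro q hq
    exact trivial_on_pGroup hp3 hP hC hD hrp _ R rfl hR hPR (fun y hy => h y (hRN hy)) q hq x hx

end Group

end CfsgLib.Misc.CoprimePairs
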