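import Mathlib.GroupTheory.Coxeter.Basic
import Mathlib.GroupTheory.Perm.Sign
import Mathlib.GroupTheory.Perm.Cycle.Type
import Mathlib.GroupTheory.Perm.Closure
import Mathlib.Tactic

/-!
The symmetric group is the Coxeter group of type A.
-/

set_option autoImplicit false

namespace CfsgLib.Misc.CoxeterSymm

variable {G : Type*} [Group G]

/-- `s (n+1-d) * ... * s n` -/
def tailProd (s : ℕ → G) (n : ℕ) : ℕ → G
  | 0 => 1
  | d + 1 => s (n - d) * tailProd s n d

/-- The braid relations up to `n`. -/
def BraidRel (s : ℕ → G) (n : ℕ) : Prop :=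
  (∀ i < n, s i * s i = 1) ∧ (∀ i j, i + 2 ≤ j → j < n → s i * s j = s j * s i) ∧
    (∀ i, i + 1 < n → s i * s (i + 1) * s i = s (i + 1) * s i * s (i + 1))

theorem commute_tailProd {s : ℕ → G} {n : ℕ} (h : BraidRel s (n + 1)) {j : ℕ} :
    ∀ d, j + d + 1 ≤ n → s j * tailProd s n d = tailProd s n d * s j
  | 0, _ => by simp [tailProd]
  | d + 1, hd => by
    rw [tailProd, ← mul_assoc, h.2.1 j (n - d) (by omega) (by omega), mul_assoc,
      commute_tailProd h d (by omega), mul_assoc]

theorem shift_tailProd {s : ℕ → G} {n : ℕ} (h : BraidRel s (n + 1)) :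
    ∀ (d j : ℕ), d ≤ n + 1 → n + 1 < d + j → j ≤ n → s j * tailProd s n d = tailProd s n d * s (j - 1)
  | 0, j, _, h1, h2 => by omega
  | d + 1, j, hd, h1, h2 => by
    rcases Nat.lt_or_ge (n + 1) (d + j) with hlt | hge
    · rw [tailProd, ← mul_assoc, ← h.2.1 (n - d) j (by omega) (by omega), mul_assoc,
        shift_tailProd h d j (by omega) hlt h2, mul_assoc]
    · obtain ⟨e, rfl⟩ : ∃ e, d = e + 1 := ⟨d - 1, by omega⟩
      have hj : j = n - (e + 1) + 1 := by omega
      subst hj
      rw [Nat.add_sub_cancel, tailProd, tailProd, show n - e = n - (e + 1) + 1 by omega, ← mul_assoc,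
        ← mul_assoc, ← h.2.2 (n - (e + 1)) (by omega), mul_assoc _ (s (n - (e + 1))),
        commute_tailProd h e (by omega)]
      simp only [mul_assoc]

theorem finite_card_le (s : ℕ → G) : ∀ n, BraidRel s n →
    ((Subgroup.closure (s '' Set.Iio n) : Subgroup G) : Set G).Finite ∧
      ((Subgroup.closure (s '' Set.Iio n) : Subgroup G) : Set G).ncard ≤ (n + 1).factorial
  | 0, _ => by
    rw [show s '' Set.Iio 0 = ∅ by simp, Subgroup.closure_empty, Subgroup.coe_bot]
    simp
  | n + 1, h => by
    obtain ⟨hfin, hcard⟩ := finite_card_le s n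
      ⟨fun i hi => h.1 i (by omega), fun i j a b => h.2.1 i j a (by omega),
        fun i a => h.2.2 i (by omega)⟩
    set H := Subgroup.closure (s '' Set.Iio n) with hH
    set X := (fun p : ℕ × G => tailProd s n p.1 * p.2) '' (Set.Iio (n + 2) ×ˢ (H : Set G)) with hX
    have hmem : ∀ i < n, s i ∈ H := fun i hi => Subgroup.subset_closure ⟨i, hi, rfl⟩
    have hstep : ∀ j ≤ n, ∀ x ∈ X, s j * x ∈ X := by
      rintro j hj _ ⟨⟨d, y⟩, ⟨hd, hy⟩, rfl⟩
      simp only [Set.mem_Iio] at hd
      have mk : ∀ d' y', d' < n + 2 → y' ∈ H → tailProd s n d' * y' ∈ X := fun d' y' a b =>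
        ⟨(d', y'), ⟨a, b⟩, rfl⟩
      dsimp only
      rw [← mul_assoc]
      rcases lt_trichotomy (d + j) n with h1 | h1 | h1
      · rw [commute_tailProd h d (by omega), mul_assoc]
        exact mk d _ hd (mul_mem (hmem j (by omega)) hy)
      · rw [show j = n - d by omega]
        exact mk (d + 1) y (by omega) hy
      · rcases Nat.lt_or_ge (n + 1) (d + j) with h2 | h2
        · rw [shift_tailProd h d j (by omega) h2 hj, mul_assoc]
          exact mk d _ hd (mul_mem (hmem (j - 1) (by omega)) hy)
        · obtain ⟨e, rfl⟩ : ∃ e, d = e + 1 := ⟨d - 1, by omega⟩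
          rw [tailProd, show n - e = j by omega, ← mul_assoc, h.1 j (by omega), one_mul]
          exact mk e y (by omega) hy
    have hsub : ((Subgroup.closure (s '' Set.Iio (n + 1)) : Subgroup G) : Set G) ⊆ X := by
      intro x hx
      induction hx using Subgroup.closure_induction_left with
      | one => exact ⟨(0, 1), ⟨by simp, one_mem H⟩, by simp [tailProd]⟩
      | mul_left a ha y _ ih =>
        obtain ⟨j, hj, rfl⟩ := ha
        exact hstep j (by simpa [Nat.lt_succ_iff] using hj) y ih
      | inv_mul_cancel a ha y _ ih =>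
        obtain ⟨j, hj, rfl⟩ := ha
        rw [inv_eq_of_mul_eq_one_right (h.1 j hj)]
        exact hstep j (by simpa [Nat.lt_succ_iff] using hj) y ih
    have hfinP := (Set.finite_Iio (n + 2)).prod hfin
    refine ⟨(hfinP.image _).subset hsub, ?_⟩
    calc _ ≤ X.ncard := Set.ncard_le_ncard hsub (hfinP.image _)
      _ ≤ (Set.Iio (n + 2) ×ˢ (H : Set G)).ncard := Set.ncard_image_le hfinP
      _ = (n + 2) * (H : Set G).ncard := by
        rw [Set.ncard_prod, ← Finset.coe_Iio, Set.ncard_coe_finset, Nat.card_Iio]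
      _ ≤ _ := by
        rw [Nat.factorial_succ (n + 1)]
        exact Nat.mul_le_mul_left _ hcard

/-- The adjacent transposition. -/
def adjSwap {n : ℕ} (i : Fin n) : Equiv.Perm (Fin (n + 1)) := Equiv.swap i.castSucc i.succ

theorem adjSwap_liftable (n : ℕ) : (CoxeterMatrix.A n).IsLiftable (adjSwap (n := n)) := by
  have h3 : ∀ i j : Fin n, (i : ℕ) + 1 = j → (adjSwap i * adjSwap j) ^ 3 = 1 := by
    intro i j hij
    have e : j.castSucc = i.succ := Fin.ext (by simp [← hij])
    have : (adjSwap i * adjSwap j).IsThreeCycle := by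
      rw [adjSwap, adjSwap, e, Equiv.swap_comm i.castSucc]
      exact Equiv.Perm.isThreeCycle_swap_mul_swap_same
        (fun hh => by simp [Fin.ext_iff] at hh) (fun hh => by simp [Fin.ext_iff] at hh; omega)
        (fun hh => by simp [Fin.ext_iff] at hh; omega)
    rw [← this.orderOf, pow_orderOf_eq_one]
  intro i j
  have hM : (CoxeterMatrix.A n).M i j =
      if i = j then 1 else (if (j : ℕ) + 1 = i ∨ (i : ℕ) + 1 = j then 3 else 2) := rfl
  rw [hM]
  split_ifs with h1 h2
  · subst h1
    simp [adjSwap]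
  · rcases h2 with h2 | h2
    · have := h3 j i h2
      rw [show adjSwap i * adjSwap j = (adjSwap j * adjSwap i)⁻¹ by
        rw [mul_inv_rev, adjSwap, adjSwap, Equiv.swap_inv, Equiv.swap_inv], inv_pow, this, inv_one]
    · exact h3 i j h2
  · have hc : Commute (adjSwap i) (adjSwap j) := by
      refine Equiv.Perm.Disjoint.commute fun x => ?_
      push_neg at h2
      have h1' : (i : ℕ) ≠ j := fun hh => h1 (Fin.ext hh)
      by_cases hx : x = i.castSucc ∨ x = i.succ
      · right
        refine Equiv.swap_apply_of_ne_of_ne ?_ ?_ <;>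
          (intro hh; rcases hx with hx | hx <;> simp [Fin.ext_iff] at hx hh <;> omega)
      · push_neg at hx
        exact Or.inl (Equiv.swap_apply_of_ne_of_ne hx.1 hx.2)
    rw [pow_two, mul_assoc, ← mul_assoc (adjSwap j), ← hc.eq, ← mul_assoc, ← mul_assoc, adjSwap,
      Equiv.swap_mul_self, one_mul, adjSwap, Equiv.swap_mul_self]

theorem exists_coxeterSystem (n : ℕ) :
    ∃ cs : CoxeterSystem (CoxeterMatrix.A n) (Equiv.Perm (Fin (n + 1))),
      ∀ i : Fin n, cs.simple i = adjSwap i := by
  classical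
  set M := CoxeterMatrix.A n with hMdef
  set cs0 := M.toCoxeterSystem
  set φ := cs0.lift ⟨adjSwap, adjSwap_liftable n⟩
  have hφ : ∀ i, φ (M.simple i) = adjSwap i := fun i => cs0.lift_apply_simple _ i
  have hsurj : Function.Surjective φ := by
    rw [← MonoidHom.mrange_eq_top, eq_top_iff, ← Equiv.Perm.mclosure_swap_castSucc_succ n,
      Submonoid.closure_le]
    rintro _ ⟨i, rfl⟩
    exact ⟨M.simple i, hφ i⟩
  let s : ℕ → M.Group := fun i => if h : i < n then M.simple ⟨i, h⟩ else 1
  have hrel : ∀ i j : Fin n, (M.simple i * M.simple j) ^ M.M i j = 1 := fun i j =>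
    cs0.simple_mul_simple_pow i j
  have hsq : ∀ i : Fin n, M.simple i * M.simple i = 1 := fun i => by
    have := hrel i i
    rwa [M.diagonal, pow_one] at this
  have hinv : ∀ i : Fin n, (M.simple i)⁻¹ = M.simple i := fun i =>
    inv_eq_of_mul_eq_one_right (hsq i)
  have hM : ∀ i j : Fin n, M.M i j =
      if i = j then 1 else (if (j : ℕ) + 1 = i ∨ (i : ℕ) + 1 = j then 3 else 2) := fun i j => rfl
  have hb : BraidRel s n := by
    refine ⟨fun i hi => ?_, fun i j hij hj => ?_, fun i hi => ?_⟩
    · simp only [s, hi, dif_pos]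
      exact hsq _
    · simp only [s, hj, dif_pos, show i < n by omega]
      have := hrel ⟨i, by omega⟩ ⟨j, hj⟩
      rw [hM, if_neg (fun hh => by simp [Fin.ext_iff] at hh; omega),
        if_neg (by simp only; omega), pow_two] at this
      have := eq_inv_of_mul_eq_one_left this
      rwa [mul_inv_rev, hinv, hinv] at this
    · simp only [s, hi, dif_pos, show i < n by omega]
      have := hrel ⟨i, by omega⟩ ⟨i + 1, hi⟩
      rw [hM, if_neg (fun hh => by simp [Fin.ext_iff] at hh), if_pos (Or.inr rfl)] at this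
      set a := M.simple ⟨i, _⟩
      set b := M.simple ⟨i + 1, _⟩
      have e : (a * b * a) * (b * a * b) = 1 := by
        rw [← this, pow_succ, pow_two]; group
      have := eq_inv_of_mul_eq_one_left e
      rw [mul_inv_rev, mul_inv_rev, hinv, hinv] at this
      rw [this, mul_assoc]
  obtain ⟨hfin, hcard⟩ := finite_card_le s n hb
  have htop : Subgroup.closure (s '' Set.Iio n) = ⊤ := by
    rw [eq_top_iff, ← cs0.subgroup_closure_range_simple]
    refine Subgroup.closure_mono ?_
    rintro _ ⟨i, rfl⟩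
    exact ⟨i, i.2, by simp [s, cs0, CoxeterMatrix.toCoxeterSystem_simple]⟩
  rw [htop, Subgroup.coe_top] at hfin hcard
  have : Finite M.Group := Set.finite_univ_iff.1 hfin
  rw [Set.ncard_univ] at hcard
  have hp : Nat.card (Equiv.Perm (Fin (n + 1))) = (n + 1).factorial := by
    rw [Nat.card_eq_fintype_card, Fintype.card_perm, Fintype.card_fin]
  have hbij : Function.Bijective φ :=
    (Nat.bijective_iff_surjective_and_card φ).2 ⟨hsurj,
      le_antisymm (hp ▸ hcard) (Nat.card_le_card_of_surjective φ hsurj)⟩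
  refine ⟨⟨(MulEquiv.ofBijective φ hbij).symm⟩, fun i => ?_⟩
  exact hφ i

end CfsgLib.Misc.CoxeterSymm
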