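import Mathlib

/-!
Linear maps of order prime to the characteristic: conjugacy by characteristic polynomial, determinants in
centralisers, counting.
-/

set_option autoImplicit false
set_option linter.unusedSectionVars false

namespace CfsgLib.MiscSemi

open Module Polynomial

variable {F : Type*} [Field F]

section Lin

variable {V : Type*} [AddCommGroup V] [Module F V]

def Ord (T : Module.End F V) : Prop := ∃ N : ℕ, (N : F) ≠ 0 ∧ T ^ N = 1

theorem Ord.restrict {T : Module.End F V} (h : Ord T) {W : Submodule F V} (hW : ∀ x ∈ W, T x ∈ W) :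
    Ord (LinearMap.restrict T hW) := by
  obtain ⟨N, hN, hT⟩ := h
  refine ⟨N, hN, ?_⟩
  rw [Module.End.pow_restrict]
  ext ⟨x, hx⟩
  simp [hT]

theorem pow_restrict_apply {T : Module.End F V} {W : Submodule F V} (hW : ∀ x ∈ W, T x ∈ W) (k : ℕ) (w : W) :
    (((LinearMap.restrict T hW) ^ k) w : V) = (T ^ k) (w : V) := by
  induction k generalizing w with
  | zero => rfl
  | succ k ih =>
    rw [pow_succ, pow_succ, Module.End.mul_apply, Module.End.mul_apply, ih]
    rfl

theorem aeval_restrict {T : Module.End F V} {W : Submodule F V} (hW : ∀ x ∈ W, T x ∈ W) (r : F[X]) (w : W) :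
    ((aeval (LinearMap.restrict T hW) r w : W) : V) = aeval T r (w : V) := by
  induction r using Polynomial.induction_on' generalizing w with
  | add a b ha hb => simp [ha, hb]
  | monomial k c => simp [pow_restrict_apply, Algebra.algebraMap_eq_smul_one]

variable [FiniteDimensional F V]

/-- multiplication by the root -/
noncomputable def rootEnd (p : F[X]) : Module.End F (AdjoinRoot p) := Algebra.lmul F (AdjoinRoot p) (AdjoinRoot.root p)

theorem charpoly_root {p : F[X]} (hm : p.Monic) (hp : Irreducible p) :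
    haveI := hm.finite_adjoinRoot
    (rootEnd p).charpoly = p := by
  haveI := hm.finite_adjoinRoot
  have hdim : finrank F (AdjoinRoot p) = p.natDegree := by
    rw [(AdjoinRoot.powerBasis hm.ne_zero).finrank, AdjoinRoot.powerBasis_dim]
  have h := LinearMap.aeval_self_charpoly (rootEnd p)
  rw [rootEnd, Polynomial.aeval_algHom_apply, AdjoinRoot.aeval_eq] at h
  have h1 : p ∣ (rootEnd p).charpoly := by
    rw [← AdjoinRoot.mk_eq_zero]
    have h2 := LinearMap.congr_fun h 1
    rw [Algebra.coe_lmul_eq_mul, LinearMap.mul_apply', mul_one, LinearMap.zero_apply] at h2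
    exact h2
  refine Polynomial.eq_of_monic_of_dvd_of_natDegree_le hm (LinearMap.charpoly_monic _) h1 ?_
  rw [LinearMap.charpoly_natDegree, hdim]

theorem split1 {T : Module.End F V} (hT : Ord T) {p : F[X]} (hm : p.Monic) (hp : Irreducible p) {v : V}
    (hv : v ≠ 0) (hpv : aeval T p v = 0) :
    ∃ (W : Submodule F V) (hW : ∀ x ∈ W, T x ∈ W) (e : (AdjoinRoot p × W) ≃ₗ[F] V),
      (∀ y, T (e y) = e (rootEnd p y.1, LinearMap.restrict T hW y.2)) ∧
      T.charpoly = p * (LinearMap.restrict T hW).charpoly ∧ finrank F V = p.natDegree + finrank F W := by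
  haveI := Fact.mk hp
  haveI := hm.finite_adjoinRoot
  let φ : AdjoinRoot p →ₗ[F] V :=
    (LinearMap.applyₗ v).comp ((aeval T).toLinearMap.comp (AdjoinRoot.modByMonicHom hm))
  have hφ : ∀ r : F[X], φ (AdjoinRoot.mk p r) = aeval T r v := fun r => by
    show aeval T (AdjoinRoot.modByMonicHom hm (AdjoinRoot.mk p r)) v = _
    rw [AdjoinRoot.modByMonicHom_mk hm]
    conv_rhs => rw [← Polynomial.modByMonic_add_div r p, mul_comm p, map_add, map_mul, LinearMap.add_apply,
      Module.End.mul_apply, hpv, map_zero, add_zero]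
  have hφX : ∀ x, φ (rootEnd p x) = T (φ x) := fun x => by
    induction x using AdjoinRoot.induction_on with
    | ih r =>
      rw [rootEnd, Algebra.coe_lmul_eq_mul, LinearMap.mul_apply', ← AdjoinRoot.mk_X, ← map_mul, hφ, hφ, map_mul,
        aeval_X, Module.End.mul_apply]
  have hinj : Function.Injective φ := by
    refine (injective_iff_map_eq_zero _).2 fun x hx => ?_
    by_contra hne
    obtain ⟨s, hs⟩ := AdjoinRoot.mk_surjective x⁻¹
    obtain ⟨r, hr⟩ := AdjoinRoot.mk_surjective x
    apply hv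
    have h : φ 1 = 0 := by
      rw [← inv_mul_cancel₀ hne, ← hs, ← hr, ← map_mul, hφ, map_mul, Module.End.mul_apply, ← hφ, hr, hx, map_zero]
    rwa [← map_one (AdjoinRoot.mk p), hφ, map_one, Module.End.one_apply] at h
  have hSinv : LinearMap.range φ ∈ Module.End.invtSubmodule T := by
    rw [Module.End.mem_invtSubmodule]
    rintro _ ⟨x, rfl⟩
    exact ⟨rootEnd p x, hφX x⟩
  obtain ⟨N, hN, hTN⟩ := hT
  have hss : T.IsSemisimple := by
    refine Module.End.isSemisimple_of_squarefree_aeval_eq_zero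
      ((Polynomial.separable_X_pow_sub_C (1 : F) hN one_ne_zero).squarefree) ?_
    simp [hTN]
  obtain ⟨W, hW', hc⟩ := Module.End.isSemisimple_iff.1 hss _ hSinv
  have hW : ∀ x ∈ W, T x ∈ W := fun x hx => (Module.End.mem_invtSubmodule T).1 hW' hx
  let e : (AdjoinRoot p × W) ≃ₗ[F] V :=
    ((LinearEquiv.ofInjective φ hinj).prodCongr (LinearEquiv.refl F W)).trans (Submodule.prodEquivOfIsCompl _ W hc)
  have he : ∀ y, e y = φ y.1 + y.2 := fun y => rfl
  have hcomm : ∀ y, T (e y) = e (rootEnd p y.1, LinearMap.restrict T hW y.2) := fun y => by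
    rw [he, he, map_add, hφX]; rfl
  refine ⟨W, hW, e, hcomm, ?_, ?_⟩
  · have hc2 : T = e.conj ((rootEnd p).prodMap (LinearMap.restrict T hW)) := by
      ext x
      rw [LinearEquiv.conj_apply_apply, LinearMap.prodMap_apply, ← hcomm, e.apply_symm_apply]
    conv_lhs => rw [hc2]
    rw [LinearEquiv.charpoly_conj, LinearMap.charpoly_prodMap, charpoly_root hm hp]
  · rw [← e.finrank_eq, Module.finrank_prod, (AdjoinRoot.powerBasis hm.ne_zero).finrank, AdjoinRoot.powerBasis_dim]

end Lin

universe u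

theorem exists_ker (n : ℕ) : ∀ {V : Type u} [AddCommGroup V] [Module F V] [FiniteDimensional F V],
    finrank F V = n → ∀ {T : Module.End F V}, Ord T → ∀ {p : F[X]}, p.Monic → Irreducible p → p ∣ T.charpoly →
      ∃ v : V, v ≠ 0 ∧ aeval T p v = 0 := by
  induction n using Nat.strong_induction_on with
  | _ n IH =>
    intro V _ _ _ hn T hT p hm hp hdvd
    have hVpos : 0 < finrank F V := by
      rw [← LinearMap.charpoly_natDegree T]
      exact lt_of_lt_of_le hp.natDegree_pos (Polynomial.natDegree_le_of_dvd hdvd (LinearMap.charpoly_monic T).ne_zero)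
    haveI : Nontrivial V := Module.finrank_pos_iff.1 hVpos
    have hint : IsIntegral F T := Algebra.IsIntegral.isIntegral T
    obtain ⟨q, hqm, hq, r, hr⟩ := Polynomial.exists_monic_irreducible_factor (minpoly F T) (minpoly.not_isUnit F T)
    obtain ⟨v, hv, hqv⟩ : ∃ v : V, v ≠ 0 ∧ aeval T q v = 0 := by
      by_contra hall
      push Not at hall
      have h0 : aeval T r = 0 := by
        ext x
        by_contra hx
        have h1 := LinearMap.congr_fun (minpoly.aeval F T) x
        rw [hr, map_mul, Module.End.mul_apply, LinearMap.zero_apply] at h1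
        exact hall _ hx h1
      have hr0 : r ≠ 0 := fun e => minpoly.ne_zero hint (by rw [hr, e, mul_zero])
      have h2 := Polynomial.natDegree_le_of_dvd (minpoly.dvd F T h0) hr0
      rw [hr, Polynomial.natDegree_mul hq.ne_zero hr0] at h2
      have := hq.natDegree_pos
      omega
    obtain ⟨W, hW, e, -, hch, hdim⟩ := split1 hT hqm hq hv hqv
    by_cases hpq : p = q
    · exact ⟨v, hv, hpq ▸ hqv⟩
    · rw [hch] at hdvd
      rcases hp.prime.dvd_or_dvd hdvd with h | h
      · exact absurd (Polynomial.eq_of_monic_of_associated hm hqm (hp.associated_of_dvd hq h)) hpq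
      · have := hq.natDegree_pos
        obtain ⟨w, hw, hpw⟩ := IH (finrank F W) (by omega) rfl (hT.restrict hW) hm hp h
        refine ⟨w, fun h0 => hw (Subtype.ext h0), ?_⟩
        rw [← aeval_restrict hW, hpw]
        rfl

theorem split {V : Type u} [AddCommGroup V] [Module F V] [FiniteDimensional F V] {T : Module.End F V} (hT : Ord T)
    {p : F[X]} (hm : p.Monic) (hp : Irreducible p) (hdvd : p ∣ T.charpoly) :
    ∃ (W : Submodule F V) (hW : ∀ x ∈ W, T x ∈ W) (e : (AdjoinRoot p × W) ≃ₗ[F] V),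
      (∀ y, T (e y) = e (rootEnd p y.1, LinearMap.restrict T hW y.2)) ∧
      T.charpoly = p * (LinearMap.restrict T hW).charpoly ∧ finrank F V = p.natDegree + finrank F W := by
  obtain ⟨v, hv, hpv⟩ := exists_ker _ rfl hT hm hp hdvd
  exact split1 hT hm hp hv hpv

theorem exists_factor {V : Type u} [AddCommGroup V] [Module F V] [FiniteDimensional F V] (T : Module.End F V)
    (hn : 0 < finrank F V) : ∃ p : F[X], p.Monic ∧ Irreducible p ∧ p ∣ T.charpoly :=
  Polynomial.exists_monic_irreducible_factor _ (Polynomial.not_isUnit_of_natDegree_pos _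
    (by rwa [LinearMap.charpoly_natDegree]))

theorem iso (n : ℕ) : ∀ {V W : Type u} [AddCommGroup V] [Module F V] [FiniteDimensional F V] [AddCommGroup W]
    [Module F W] [FiniteDimensional F W], finrank F V = n → ∀ {T : Module.End F V} {U : Module.End F W},
    Ord T → Ord U → T.charpoly = U.charpoly → ∃ e : V ≃ₗ[F] W, ∀ x, e (T x) = U (e x) := by
  induction n using Nat.strong_induction_on with
  | _ n IH =>
    intro V W _ _ _ _ _ _ hn T U hT hU hch
    have hWn : finrank F W = n := by
      rw [← LinearMap.charpoly_natDegree U, ← hch, LinearMap.charpoly_natDegree, hn]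
    rcases Nat.eq_zero_or_pos n with rfl | hpos
    · haveI := Module.finrank_zero_iff.1 hWn
      exact ⟨LinearEquiv.ofFinrankEq V W (hn.trans hWn.symm), fun x => Subsingleton.elim _ _⟩
    · obtain ⟨p, hm, hp, hdvd⟩ := exists_factor T (hn ▸ hpos)
      obtain ⟨V', hV', e1, h1, hc1, hd1⟩ := split hT hm hp hdvd
      obtain ⟨W', hW', e2, h2, hc2, -⟩ := split hU hm hp (hch ▸ hdvd)
      have hc' := mul_left_cancel₀ hm.ne_zero (hc1.symm.trans (hch.trans hc2))
      have := hp.natDegree_pos
      obtain ⟨e', he'⟩ := IH (finrank F V') (by omega) rfl (hT.restrict hV') (hU.restrict hW') hc'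
      refine ⟨(e1.symm.trans ((LinearEquiv.refl F _).prodCongr e')).trans e2, fun x => ?_⟩
      obtain ⟨y, rfl⟩ := e1.surjective x
      simp only [LinearEquiv.trans_apply, LinearEquiv.symm_apply_apply, h1]
      rw [h2]
      congr 1
      exact Prod.ext rfl (he' y.2)

theorem det_surj [Finite F] {V : Type u} [AddCommGroup V] [Module F V] [FiniteDimensional F V] {T : Module.End F V}
    (hT : Ord T) (hn : 0 < finrank F V) (δ : F) : ∃ D : Module.End F V, LinearMap.det D = δ ∧ ∀ x, D (T x) = T (D x) := by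
  obtain ⟨p, hm, hp, hdvd⟩ := exists_factor T hn
  obtain ⟨W, hW, e, he, -, -⟩ := split hT hm hp hdvd
  haveI := Fact.mk hp
  haveI := hm.finite_adjoinRoot
  haveI : Finite (AdjoinRoot p) := Module.finite_of_finite F
  obtain ⟨a, ha⟩ := FiniteField.norm_surjective F (AdjoinRoot p) δ
  refine ⟨e.conj ((Algebra.lmul F (AdjoinRoot p) a).prodMap LinearMap.id), ?_, fun x => ?_⟩
  · rw [LinearEquiv.conj_apply, LinearMap.comp_assoc, LinearMap.det_conj, LinearMap.det_prodMap, LinearMap.det_id,
      mul_one, ← ha, Algebra.norm_apply]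
  · obtain ⟨y, rfl⟩ := e.surjective x
    simp only [LinearEquiv.conj_apply_apply, he, LinearEquiv.symm_apply_apply, LinearMap.prodMap_apply]
    congr 1
    simp [rootEnd, mul_left_comm]

theorem exists_ord [Finite F] (n : ℕ) : ∀ {χ : F[X]}, χ.natDegree = n → χ.Monic → χ.coeff 0 ≠ 0 →
    ∃ T : Module.End F (Fin n → F), Ord T ∧ T.charpoly = χ := by
  induction n using Nat.strong_induction_on with
  | _ n IH =>
    intro χ hn hm h0
    rcases Nat.eq_zero_or_pos n with rfl | hpos
    · refine ⟨1, ⟨1, by simp, one_pow 1⟩, ?_⟩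
      rw [Polynomial.eq_one_of_monic_natDegree_zero hm hn]
      exact Polynomial.eq_one_of_monic_natDegree_zero (LinearMap.charpoly_monic _) (by simp [LinearMap.charpoly_natDegree])
    · obtain ⟨p, hpm, hp, r, rfl⟩ := Polynomial.exists_monic_irreducible_factor χ
        (Polynomial.not_isUnit_of_natDegree_pos _ (hn ▸ hpos))
      have hrm : r.Monic := hpm.of_mul_monic_left hm
      rw [Polynomial.mul_coeff_zero] at h0
      rw [Polynomial.natDegree_mul hpm.ne_zero hrm.ne_zero] at hn
      have hd := hp.natDegree_pos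
      obtain ⟨T', ⟨N', hN', hT'⟩, hc'⟩ := IH r.natDegree (by omega) rfl hrm (fun e => h0 (by rw [e, mul_zero]))
      haveI := Fact.mk hp
      haveI := hpm.finite_adjoinRoot
      haveI : Finite (AdjoinRoot p) := Module.finite_of_finite F
      haveI := Fintype.ofFinite (AdjoinRoot p)
      haveI := Fintype.ofFinite F
      have hroot : AdjoinRoot.root p ≠ 0 := by
        intro e
        rw [← AdjoinRoot.mk_X, AdjoinRoot.mk_eq_zero] at e
        have := Polynomial.eq_of_monic_of_associated hpm Polynomial.monic_X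
          (hp.associated_of_dvd Polynomial.irreducible_X e)
        apply h0
        simp [this]
      have hdim : finrank F (AdjoinRoot p) = p.natDegree := by
        rw [(AdjoinRoot.powerBasis hpm.ne_zero).finrank, AdjoinRoot.powerBasis_dim]
      have hcard : Fintype.card (AdjoinRoot p) = Fintype.card F ^ p.natDegree := by
        rw [Module.card_eq_pow_finrank (K := F), hdim]
      have hNp : ((Fintype.card (AdjoinRoot p) - 1 : ℕ) : F) ≠ 0 := by
        rw [Nat.cast_sub Fintype.card_pos, hcard, Nat.cast_pow, FiniteField.cast_card_eq_zero,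
          zero_pow (by omega)]
        simp
      let θ : (AdjoinRoot p × (Fin r.natDegree → F)) ≃ₗ[F] (Fin n → F) := LinearEquiv.ofFinrankEq _ _ (by
        rw [Module.finrank_prod, hdim, Module.finrank_fin_fun, Module.finrank_fin_fun, hn])
      refine ⟨θ.conj ((rootEnd p).prodMap T'), ⟨(Fintype.card (AdjoinRoot p) - 1) * N', ?_, ?_⟩, ?_⟩
      · rw [Nat.cast_mul]; exact mul_ne_zero hNp hN'
      · have e1 : rootEnd p ^ ((Fintype.card (AdjoinRoot p) - 1) * N') = 1 := by
          rw [rootEnd, ← map_pow, pow_mul, FiniteField.pow_card_sub_one_eq_one _ hroot, one_pow, map_one]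
        have e2 : T' ^ ((Fintype.card (AdjoinRoot p) - 1) * N') = 1 := by rw [mul_comm, pow_mul, hT', one_pow]
        show (θ.conjAlgEquiv F (LinearMap.prodMapAlgHom F (AdjoinRoot p) (Fin r.natDegree → F) (rootEnd p, T'))) ^ _ = 1
        rw [← map_pow, ← map_pow, Prod.pow_mk, e1, e2, Prod.mk_one_one, map_one, map_one]
      · rw [LinearEquiv.charpoly_conj, LinearMap.charpoly_prodMap, charpoly_root hpm hp, hc']

/-! ### Matrices -/

section Mat

variable [Fintype F] {n : ℕ}

open Matrix

noncomputable abbrev toEnd (g : GL (Fin n) F) : Module.End F (Fin n → F) :=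
  Matrix.toLinAlgEquiv' (g : Matrix (Fin n) (Fin n) F)

theorem charpoly_toEnd (g : GL (Fin n) F) : (toEnd g).charpoly = (g : Matrix (Fin n) (Fin n) F).charpoly :=
  Matrix.charpoly_toLin' _

theorem ord_toEnd {p : ℕ} [Fact p.Prime] [CharP F p] {g : GL (Fin n) F} (hg : (orderOf g).Coprime p) :
    Ord (toEnd g) := by
  refine ⟨orderOf g, fun h => ?_, ?_⟩
  · rw [CharP.cast_eq_zero_iff F p] at h
    exact (Fact.out : p.Prime).ne_one (Nat.eq_one_of_dvd_coprimes hg h dvd_rfl)
  · rw [toEnd, ← map_pow, ← Units.val_pow_eq_pow_val, pow_orderOf_eq_one, Units.val_one, map_one]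

theorem conj_of_charpoly {p : ℕ} [Fact p.Prime] [CharP F p] {g h : GL (Fin n) F} (hg : (orderOf g).Coprime p)
    (hh : (orderOf h).Coprime p)
    (hc : (g : Matrix (Fin n) (Fin n) F).charpoly = (h : Matrix (Fin n) (Fin n) F).charpoly) :
    ∃ c : GL (Fin n) F, c * g * c⁻¹ = h := by
  obtain ⟨e, he⟩ := iso _ rfl (ord_toEnd hg) (ord_toEnd hh) (by rw [charpoly_toEnd, charpoly_toEnd, hc])
  let c : GL (Fin n) F := Matrix.GeneralLinearGroup.toLin.symm
    ((LinearMap.GeneralLinearGroup.generalLinearEquiv F (Fin n → F)).symm e)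
  have hc : ∀ x, (c : Matrix (Fin n) (Fin n) F).mulVec x = e x := fun x => by
    have : Matrix.toLin' (c : Matrix (Fin n) (Fin n) F) = (e : (Fin n → F) →ₗ[F] (Fin n → F)) := by
      show Matrix.toLin' (LinearMap.toMatrix' (e : (Fin n → F) →ₗ[F] (Fin n → F))) = _
      rw [Matrix.toLin'_toMatrix']
    exact LinearMap.congr_fun this x
  refine ⟨c, mul_inv_eq_of_eq_mul (Units.ext (Matrix.ext_of_mulVec_single fun i => ?_))⟩
  rw [Units.val_mul, Units.val_mul, ← Matrix.mulVec_mulVec, ← Matrix.mulVec_mulVec, hc, hc]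
  exact he _

theorem centralizer_det {p : ℕ} [Fact p.Prime] [CharP F p] (hn : 1 ≤ n) {x : GL (Fin n) F}
    (hx : (orderOf x).Coprime p) (δ : Fˣ) :
    ∃ d : GL (Fin n) F, d * x = x * d ∧ (d : Matrix (Fin n) (Fin n) F).det = δ := by
  obtain ⟨D, hD, hc⟩ := det_surj (ord_toEnd hx) (by rw [Module.finrank_fin_fun]; exact hn) (δ : F)
  have hdet : (LinearMap.toMatrix' D).det = δ := by rw [LinearMap.det_toMatrix', hD]
  refine ⟨Matrix.GeneralLinearGroup.mkOfDetNeZero (LinearMap.toMatrix' D) (by rw [hdet]; exact δ.ne_zero),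
    Units.ext (Matrix.ext_of_mulVec_single fun i => ?_), hdet⟩
  rw [Units.val_mul, Units.val_mul, ← Matrix.mulVec_mulVec, ← Matrix.mulVec_mulVec]
  show LinearMap.toMatrix' D *ᵥ ((x : Matrix (Fin n) (Fin n) F) *ᵥ Pi.single i 1) =
    (x : Matrix (Fin n) (Fin n) F) *ᵥ (LinearMap.toMatrix' D *ᵥ Pi.single i 1)
  rw [LinearMap.toMatrix'_mulVec, LinearMap.toMatrix'_mulVec]
  exact hc _

theorem det_conj_fix {p : ℕ} [Fact p.Prime] [CharP F p] (x g : GL (Fin n) F) (hx : (orderOf x).Coprime p) :
    ∃ h : GL (Fin n) F, (h : Matrix (Fin n) (Fin n) F).det = 1 ∧ h * x * h⁻¹ = g * x * g⁻¹ := by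
  rcases Nat.eq_zero_or_pos n with rfl | hn
  · exact ⟨1, by simp, Subsingleton.elim _ _⟩
  obtain ⟨d, hd, hdet⟩ := centralizer_det hn hx (Matrix.GeneralLinearGroup.det g)⁻¹
  refine ⟨g * d, ?_, ?_⟩
  · rw [Units.val_mul, Matrix.det_mul, hdet, ← Matrix.GeneralLinearGroup.val_det_apply, ← Units.val_mul,
      mul_inv_cancel, Units.val_one]
  · rw [_root_.mul_inv_rev, mul_assoc g d x, hd]
    group

theorem conj_SL {p : ℕ} [Fact p.Prime] [CharP F p] (g h : Matrix.SpecialLinearGroup (Fin n) F)
    (hg : (orderOf g).Coprime p) (hh : (orderOf h).Coprime p)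
    (hc : (g : Matrix (Fin n) (Fin n) F).charpoly = (h : Matrix (Fin n) (Fin n) F).charpoly) : IsConj g h := by
  have hi := Matrix.SpecialLinearGroup.toGL_injective (n := Fin n) (R := F)
  have hg' : (orderOf (Matrix.SpecialLinearGroup.toGL g)).Coprime p := by rwa [orderOf_injective _ hi]
  have hv : ∀ x : Matrix.SpecialLinearGroup (Fin n) F,
      ((Matrix.SpecialLinearGroup.toGL x : GL (Fin n) F) : Matrix (Fin n) (Fin n) F) = (x : Matrix (Fin n) (Fin n) F) :=
    fun _ => rfl
  have hh' : (orderOf (Matrix.SpecialLinearGroup.toGL h)).Coprime p := by rwa [orderOf_injective _ hi]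
  obtain ⟨c, hc'⟩ := conj_of_charpoly hg' hh' (by rw [hv, hv, hc])
  obtain ⟨c', hdet, hc''⟩ := det_conj_fix (Matrix.SpecialLinearGroup.toGL g) c hg'
  let t : Matrix.SpecialLinearGroup (Fin n) F := ⟨(c' : Matrix (Fin n) (Fin n) F), hdet⟩
  have hcc : Matrix.SpecialLinearGroup.toGL t = c' := Units.ext (hv t)
  refine isConj_iff.2 ⟨t, hi ?_⟩
  rw [map_mul, map_mul, map_inv, hcc, hc'', hc']

theorem coeff_ext {χ ψ : F[X]} (h1 : χ.Monic) (h2 : ψ.Monic) (d1 : χ.natDegree = n) (d2 : ψ.natDegree = n)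
    (h : ∀ i : Fin n, χ.coeff i = ψ.coeff i) : χ = ψ := by
  ext i
  rcases lt_trichotomy i n with hi | rfl | hi
  · exact h ⟨i, hi⟩
  · rw [← d1, h1.coeff_natDegree, d1, ← d2, h2.coeff_natDegree]
  · rw [Polynomial.coeff_eq_zero_of_natDegree_lt (d1 ▸ hi), Polynomial.coeff_eq_zero_of_natDegree_lt (d2 ▸ hi)]

theorem exists_semisimple {p : ℕ} [Fact p.Prime] [CharP F p] (hn : 1 ≤ n) (a : Fin n → F) (ha : a ⟨0, hn⟩ ≠ 0) :
    ∃ g : GL (Fin n) F, (orderOf g).Coprime p ∧ ∀ i : Fin n, (g : Matrix (Fin n) (Fin n) F).charpoly.coeff i = a i := by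
  let s := (Polynomial.degreeLTEquiv F n).symm a
  have hs : (s : F[X]).degree < (n : WithBot ℕ) := Polynomial.mem_degreeLT.1 s.2
  have hcs : ∀ i : Fin n, (s : F[X]).coeff i = a i := fun i =>
    congrFun ((Polynomial.degreeLTEquiv F n).apply_symm_apply a) i
  set χ : F[X] := X ^ n + (s : F[X])
  have hm : χ.Monic := Polynomial.monic_X_pow_add hs
  have hd : χ.natDegree = n := by
    refine Polynomial.natDegree_eq_of_degree_eq_some ?_
    rw [Polynomial.degree_add_eq_left_of_degree_lt (by rwa [Polynomial.degree_X_pow]), Polynomial.degree_X_pow]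
  have hco : ∀ i : Fin n, χ.coeff i = a i := fun i => by
    rw [Polynomial.coeff_add, Polynomial.coeff_X_pow, if_neg i.2.ne, zero_add, hcs]
  obtain ⟨T, ⟨N, hN, hTN⟩, hT⟩ := exists_ord n hd hm (by rw [show (0 : ℕ) = ((⟨0, hn⟩ : Fin n) : ℕ) from rfl, hco]; exact ha)
  have hN0 : N ≠ 0 := fun e => hN (by rw [e, Nat.cast_zero])
  have hu : (Matrix.toLinAlgEquiv'.symm T : Matrix (Fin n) (Fin n) F) ^ N = 1 := by
    rw [← map_pow, hTN, map_one]
  have hunit : IsUnit (Matrix.toLinAlgEquiv'.symm T : Matrix (Fin n) (Fin n) F) :=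
    IsUnit.of_pow_eq_one hu hN0
  refine ⟨hunit.unit, ?_, fun i => ?_⟩
  · have hdvd : orderOf hunit.unit ∣ N := orderOf_dvd_of_pow_eq_one (Units.ext (by
      rw [Units.val_pow_eq_pow_val, IsUnit.unit_spec, hu, Units.val_one]))
    refine Nat.Coprime.coprime_dvd_left hdvd ?_
    rw [Nat.coprime_comm, (Fact.out : p.Prime).coprime_iff_not_dvd]
    exact fun h => hN ((CharP.cast_eq_zero_iff F p N).2 h)
  · rw [← charpoly_toEnd, toEnd, IsUnit.unit_spec, AlgEquiv.apply_symm_apply, hT, hco]

theorem card_GL_classes {p q : ℕ} [Fact p.Prime] [CharP F p] (hq : Fintype.card F = q) (hn : 1 ≤ n) :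
    Nat.card {c : ConjClasses (GL (Fin n) F) // ∃ g : GL (Fin n) F, ConjClasses.mk g = c ∧ (orderOf g).Coprime p} =
      (q - 1) * q ^ (n - 1) := by
  classical
  obtain ⟨k, rfl⟩ : ∃ k, n = k + 1 := ⟨n - 1, by omega⟩
  let f : {c : ConjClasses (GL (Fin (k + 1)) F) // ∃ g, ConjClasses.mk g = c ∧ (orderOf g).Coprime p} →
      {a : Fin (k + 1) → F // a 0 ≠ 0} := fun c =>
    ⟨fun i => (c.2.choose : Matrix (Fin (k + 1)) (Fin (k + 1)) F).charpoly.coeff i, fun e => by
      refine (Matrix.GeneralLinearGroup.det c.2.choose).ne_zero ?_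
      rw [Matrix.GeneralLinearGroup.val_det_apply, Matrix.det_eq_sign_charpoly_coeff]
      have e' : (c.2.choose : Matrix (Fin (k + 1)) (Fin (k + 1)) F).charpoly.coeff 0 = 0 := e
      rw [e', mul_zero]⟩
  have hf : Function.Bijective f := by
    constructor
    · intro c c' e
      refine Subtype.ext ?_
      rw [← c.2.choose_spec.1, ← c'.2.choose_spec.1]
      obtain ⟨d, hd⟩ := conj_of_charpoly c.2.choose_spec.2 c'.2.choose_spec.2
        (coeff_ext (n := k + 1) (Matrix.charpoly_monic _) (Matrix.charpoly_monic _) (by simp [Matrix.charpoly_natDegree_eq_dim])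
          (by simp [Matrix.charpoly_natDegree_eq_dim]) (congrFun (congrArg Subtype.val e)))
      exact ConjClasses.mk_eq_mk_iff_isConj.2 (isConj_iff.2 ⟨d, hd⟩)
    · rintro ⟨a, ha⟩
      obtain ⟨g, hg, hc⟩ := exists_semisimple (p := p) hn a ha
      have hex : ∃ g' : GL (Fin (k + 1)) F, ConjClasses.mk g' = ConjClasses.mk g ∧ (orderOf g').Coprime p := ⟨g, rfl, hg⟩
      refine ⟨⟨ConjClasses.mk g, hex⟩, Subtype.ext (funext fun i => ?_)⟩
      obtain ⟨d, hd⟩ := isConj_iff.1 (ConjClasses.mk_eq_mk_iff_isConj.1 hex.choose_spec.1.symm)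
      show (hex.choose : Matrix (Fin (k + 1)) (Fin (k + 1)) F).charpoly.coeff i = a i
      rw [← hd, Units.val_mul, Units.val_mul, Matrix.coe_units_inv, Matrix.charpoly_units_conj, hc]
  have E : {a : Fin (k + 1) → F // a 0 ≠ 0} ≃ {a : F × (Fin k → F) // a.1 ≠ 0} :=
    Equiv.subtypeEquiv (Fin.consEquiv fun _ => F).symm fun a => Iff.rfl
  rw [Nat.card_eq_of_bijective f hf, Nat.card_congr E,
    Nat.card_congr (Equiv.prodSubtypeFstEquivSubtypeProd (p := fun a : F => a ≠ 0)), Nat.card_prod,
    ← Nat.card_congr (unitsEquivNeZero : Fˣ ≃ {a : F // a ≠ 0})]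
  simp [Nat.card_units, Fintype.card_units, hq]

theorem card_SL_classes {p q : ℕ} [Fact p.Prime] [CharP F p] (hq : Fintype.card F = q) (hn : 1 ≤ n) :
    Nat.card {c : ConjClasses (Matrix.SpecialLinearGroup (Fin n) F) //
      ∃ g : Matrix.SpecialLinearGroup (Fin n) F, ConjClasses.mk g = c ∧ (orderOf g).Coprime p} = q ^ (n - 1) := by
  classical
  obtain ⟨k, rfl⟩ : ∃ k, n = k + 1 := ⟨n - 1, by omega⟩
  let f : {c : ConjClasses (Matrix.SpecialLinearGroup (Fin (k + 1)) F) //
      ∃ g, ConjClasses.mk g = c ∧ (orderOf g).Coprime p} → (Fin k → F) := fun c i =>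
    (c.2.choose : Matrix (Fin (k + 1)) (Fin (k + 1)) F).charpoly.coeff (i.succ : Fin (k + 1))
  have h0 : ∀ g : Matrix.SpecialLinearGroup (Fin (k + 1)) F,
      (g : Matrix (Fin (k + 1)) (Fin (k + 1)) F).charpoly.coeff 0 = (-1) ^ (k + 1) := fun g => by
    have h := g.2
    rw [Matrix.det_eq_sign_charpoly_coeff, Fintype.card_fin] at h
    have hsq : (-1 : F) ^ (k + 1) * (-1) ^ (k + 1) = 1 := by rw [← mul_pow, neg_one_mul, neg_neg, one_pow]
    linear_combination (-1 : F) ^ (k + 1) * h -
      (g : Matrix (Fin (k + 1)) (Fin (k + 1)) F).charpoly.coeff 0 * hsq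
  have hf : Function.Bijective f := by
    constructor
    · intro c c' e
      refine Subtype.ext ?_
      rw [← c.2.choose_spec.1, ← c'.2.choose_spec.1]
      refine ConjClasses.mk_eq_mk_iff_isConj.2 (conj_SL _ _ c.2.choose_spec.2 c'.2.choose_spec.2
        (coeff_ext (n := k + 1) (Matrix.charpoly_monic _) (Matrix.charpoly_monic _) (by simp [Matrix.charpoly_natDegree_eq_dim])
          (by simp [Matrix.charpoly_natDegree_eq_dim]) fun i => ?_))
      refine Fin.cases ?_ (fun j => congrFun e j) i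
      rw [Fin.val_zero, h0, h0]
    · intro a
      obtain ⟨g, hg, hc⟩ := exists_semisimple (F := F) (p := p) hn (Fin.cons (α := fun _ => F) ((-1) ^ (k + 1)) a) (by
        show Fin.cons (α := fun _ => F) ((-1 : F) ^ (k + 1)) a 0 ≠ 0
        rw [Fin.cons_zero]
        exact pow_ne_zero _ (neg_ne_zero.2 one_ne_zero))
      have hdet : (g : Matrix (Fin (k + 1)) (Fin (k + 1)) F).det = 1 := by
        have h := hc 0
        rw [Fin.val_zero, Fin.cons_zero] at h
        rw [Matrix.det_eq_sign_charpoly_coeff, Fintype.card_fin, h, ← mul_pow]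
        simp
      let s : Matrix.SpecialLinearGroup (Fin (k + 1)) F := ⟨_, hdet⟩
      have hs : Matrix.SpecialLinearGroup.toGL s = g := Units.ext rfl
      have hso : (orderOf s).Coprime p := by
        rw [← orderOf_injective _ Matrix.SpecialLinearGroup.toGL_injective s, hs]; exact hg
      have hex : ∃ g' : Matrix.SpecialLinearGroup (Fin (k + 1)) F,
          ConjClasses.mk g' = ConjClasses.mk s ∧ (orderOf g').Coprime p := ⟨s, rfl, hso⟩
      refine ⟨⟨ConjClasses.mk s, hex⟩, funext fun i => ?_⟩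
      obtain ⟨d, hd⟩ := isConj_iff.1 (ConjClasses.mk_eq_mk_iff_isConj.1 hex.choose_spec.1.symm)
      show (hex.choose : Matrix (Fin (k + 1)) (Fin (k + 1)) F).charpoly.coeff _ = a i
      have hd' := congrArg Matrix.SpecialLinearGroup.toGL hd
      rw [map_mul, map_mul, map_inv, hs] at hd'
      show ((Matrix.SpecialLinearGroup.toGL hex.choose : GL (Fin (k + 1)) F) : Matrix (Fin (k + 1)) (Fin (k + 1)) F).charpoly.coeff _ = a i
      rw [← hd', Units.val_mul, Units.val_mul, Matrix.coe_units_inv, Matrix.charpoly_units_conj, hc,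
        Fin.cons_succ]
  rw [Nat.card_eq_of_bijective f hf]
  simp [hq]

end Mat

end CfsgLib.MiscSemi
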