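import Mathlib
import Cfsg.Agent.Misc.Semisimple

/-!
Similarity to the transpose; centralisers of elements acting irreducibly; maximal element order of PGL.
-/

set_option autoImplicit false
set_option linter.unusedSectionVars false

namespace CfsgLib.MiscCyclic

open Polynomial Matrix Module

variable {F : Type*} [Field F]

section Transpose

variable {ι : Type*} [Fintype ι] [DecidableEq ι]

set_option maxHeartbeats 1000000 in
theorem isConj_transpose (A : Matrix ι ι F) : IsConj A Aᵀ := by
  classical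
  set T := Matrix.toLin' A with hTdef
  let φ := Module.AEval'.of T
  have htor : Module.IsTorsion F[X] (Module.AEval' T) := fun x => by
    refine ⟨⟨T.charpoly, mem_nonZeroDivisors_of_ne_zero (LinearMap.charpoly_monic T).ne_zero⟩, ?_⟩
    show T.charpoly • x = 0
    apply φ.symm.injective
    rw [map_zero]
    show (Module.AEval.of F (ι → F) T).symm (T.charpoly • x) = 0
    rw [Module.AEval.of_symm_smul, LinearMap.aeval_self_charpoly]
    rfl
  obtain ⟨κ, _, p, hp, e, ⟨E⟩⟩ := Module.equiv_directSum_of_isTorsion htor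
  let g : κ → F[X] := fun i => (p i ^ e i) * C (p i ^ e i).leadingCoeff⁻¹
  have hg : ∀ i, (g i).Monic := fun i =>
    Polynomial.monic_mul_leadingCoeff_inv (pow_ne_zero _ (hp i).ne_zero)
  let EC : (i : κ) → Module.AEval' T →ₗ[F[X]] F[X] ⧸ F[X] ∙ p i ^ e i := fun i =>
    (DirectSum.component F[X] κ (fun j => F[X] ⧸ F[X] ∙ p j ^ e j) i).comp E.toLinearMap
  let rep : (i : κ) → (ι → F) → F[X] := fun i v => (EC i (φ v)).out
  have hrep : ∀ i v, (Submodule.Quotient.mk (rep i v) : F[X] ⧸ F[X] ∙ p i ^ e i) = EC i (φ v) := fun i v =>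
    Quotient.out_eq _
  have hdvd : ∀ i (r r' : F[X]), (Submodule.Quotient.mk r : F[X] ⧸ F[X] ∙ p i ^ e i) = Submodule.Quotient.mk r' →
      g i ∣ r - r' := fun i r r' h => by
    obtain ⟨a, ha⟩ := Submodule.mem_span_singleton.1 ((Submodule.Quotient.eq _).1 h)
    refine ⟨a * C (p i ^ e i).leadingCoeff, ?_⟩
    rw [← ha, smul_eq_mul]
    have h1 : C (p i ^ e i).leadingCoeff⁻¹ * C (p i ^ e i).leadingCoeff = 1 := by
      rw [← map_mul, inv_mul_cancel₀ (leadingCoeff_ne_zero.2 (pow_ne_zero _ (hp i).ne_zero)), map_one]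
    linear_combination -(a * p i ^ e i) * h1
  let c : κ → F[X] → F := fun i r => (r %ₘ g i).coeff ((g i).natDegree - 1)
  have hc_congr : ∀ i r r', g i ∣ r - r' → c i r = c i r' := fun i r r' h => by
    have h0 : (r - r') %ₘ g i = 0 := (modByMonic_eq_zero_iff_dvd (hg i)).2 h
    rw [Polynomial.sub_modByMonic, sub_eq_zero] at h0
    show (r %ₘ g i).coeff _ = (r' %ₘ g i).coeff _
    rw [h0]
  have hc_add : ∀ i r r', c i (r + r') = c i r + c i r' := fun i r r' => by
    show ((r + r') %ₘ g i).coeff _ = _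
    rw [Polynomial.add_modByMonic, Polynomial.coeff_add]
  have hc_smul : ∀ i (a : F) r, c i (C a * r) = a * c i r := fun i a r => by
    show ((C a * r) %ₘ g i).coeff _ = _
    rw [← Polynomial.smul_eq_C_mul, Polynomial.smul_modByMonic, Polynomial.coeff_smul, smul_eq_mul]
  let b : (ι → F) → (ι → F) → F := fun u v => ∑ i, c i (rep i u * rep i v)
  have hb_add : ∀ u u' v, b (u + u') v = b u v + b u' v := fun u u' v => by
    simp only [b, ← Finset.sum_add_distrib]
    refine Finset.sum_congr rfl fun i _ => ?_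
    rw [← hc_add, ← add_mul]
    refine hc_congr i _ _ ?_
    rw [← sub_mul]
    exact Dvd.dvd.mul_right (hdvd i _ _ (by rw [Submodule.Quotient.mk_add, hrep, hrep, hrep, map_add, map_add])) _
  have hb_smul : ∀ (a : F) u v, b (a • u) v = a * b u v := fun a u v => by
    simp only [b, Finset.mul_sum]
    refine Finset.sum_congr rfl fun i _ => ?_
    rw [← hc_smul, ← mul_assoc]
    refine hc_congr i _ _ ?_
    rw [← sub_mul]
    refine Dvd.dvd.mul_right (hdvd i _ _ ?_) _
    rw [hrep, map_smul, ← smul_eq_mul, Submodule.Quotient.mk_smul, hrep, ← map_smul, ← Polynomial.algebraMap_eq,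
      algebraMap_smul, map_smul, LinearMap.map_smul_of_tower]
  have hb_symm : ∀ u v, b u v = b v u := fun u v => by simp only [b, mul_comm]
  let B : (ι → F) →ₗ[F] (ι → F) →ₗ[F] F := LinearMap.mk₂ F b hb_add (fun a u v => hb_smul a u v)
    (fun u v w => by rw [hb_symm, hb_add, hb_symm v, hb_symm w])
    (fun a u v => by rw [hb_symm, hb_smul, hb_symm v, smul_eq_mul])
  have hadj : ∀ u v, B (T u) v = B u (T v) := fun u v => by
    show b (T u) v = b u (T v)
    refine Finset.sum_congr rfl fun i _ => ?_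
    have hX : ∀ w, g i ∣ rep i (T w) - X * rep i w := fun w => hdvd i _ _ (by
      rw [hrep, ← smul_eq_mul, Submodule.Quotient.mk_smul, hrep, ← map_smul]
      congr 1
      exact (Module.AEval'.X_smul_of T w).symm)
    rw [hc_congr i (rep i (T u) * rep i v) (X * rep i u * rep i v) (by rw [← sub_mul]; exact (hX u).mul_right _),
      hc_congr i (rep i u * rep i (T v)) (rep i u * (X * rep i v)) (by rw [← mul_sub]; exact (hX v).mul_left _)]
    congr 1
    ring
  have hnd : ∀ u, (∀ v, B u v = 0) → u = 0 := fun u hu => by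
    by_contra hne
    obtain ⟨i, hi⟩ : ∃ i, EC i (φ u) ≠ 0 := by
      by_contra h
      push Not at h
      refine hne (φ.injective (E.injective ?_))
      rw [map_zero, map_zero]
      exact DirectSum.ext_component F[X] fun i => by rw [map_zero]; exact h i
    set r := rep i u %ₘ g i
    have hr : r ≠ 0 := fun h => by
      apply hi
      obtain ⟨a, ha⟩ := (modByMonic_eq_zero_iff_dvd (hg i)).1 h
      rw [← hrep, Submodule.Quotient.mk_eq_zero, Submodule.mem_span_singleton]
      exact ⟨C (p i ^ e i).leadingCoeff⁻¹ * a, by rw [ha, smul_eq_mul]; ring⟩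
    have hdeg : r.natDegree < (g i).natDegree := by
      refine natDegree_modByMonic_lt _ (hg i) fun h => hr ?_
      show rep i u %ₘ g i = 0
      rw [h, modByMonic_one]
    let k := (g i).natDegree - 1 - r.natDegree
    obtain ⟨v, hv⟩ := φ.surjective (E.symm (DirectSum.lof F[X] κ (fun j => F[X] ⧸ F[X] ∙ p j ^ e j) i
      (Submodule.Quotient.mk (X ^ k))))
    have hvi : EC i (φ v) = Submodule.Quotient.mk (X ^ k) := by
      rw [hv]
      show DirectSum.component F[X] κ _ i (E (E.symm _)) = _
      rw [E.apply_symm_apply, DirectSum.component.lof_self]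
    have hvj : ∀ j, j ≠ i → EC j (φ v) = 0 := fun j hj => by
      rw [hv]
      show DirectSum.component F[X] κ _ j (E (E.symm _)) = _
      rw [E.apply_symm_apply]
      exact DirectSum.of_eq_of_ne i j _ hj
    have h := hu v
    change ∑ j, c j (rep j u * rep j v) = 0 at h
    rw [Finset.sum_eq_single i (fun j _ hj => ?_) (fun h' => absurd (Finset.mem_univ i) h')] at h
    · rw [hc_congr i _ (r * X ^ k) ?_] at h
      · have hd2 : (r * X ^ k).natDegree < (g i).natDegree := by
          rw [natDegree_mul hr (pow_ne_zero _ X_ne_zero), natDegree_X_pow]; omega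
        change ((r * X ^ k) %ₘ g i).coeff _ = 0 at h
        rw [(modByMonic_eq_self_iff (hg i)).2 (degree_lt_degree hd2),
          show (g i).natDegree - 1 = r.natDegree + k by omega, coeff_mul_X_pow] at h
        exact hr (leadingCoeff_eq_zero.1 h)
      · have h1 : g i ∣ rep i v - X ^ k := hdvd i _ _ (by rw [hrep, hvi])
        have h2 : g i ∣ rep i u - r := ⟨rep i u /ₘ g i, by
          linear_combination (-1 : F[X]) * modByMonic_add_div (rep i u) (g i)⟩
        have := dvd_add (h1.mul_left (rep i u)) (h2.mul_right (X ^ k))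
        convert this using 1
        ring
    · have h1 : g j ∣ rep j v - 0 := hdvd j _ _ (by rw [hrep, hvj j hj]; rfl)
      rw [sub_zero] at h1
      show ((rep j u * rep j v) %ₘ g j).coeff _ = 0
      rw [(modByMonic_eq_zero_iff_dvd (hg j)).2 (h1.mul_left _), coeff_zero]
  set M := LinearMap.toMatrix₂' F B
  have hM : ∀ u v, B u v = u ⬝ᵥ (M *ᵥ v) := fun u v => by
    rw [← Matrix.toLinearMap₂'_apply', Matrix.toLinearMap₂'_toMatrix']
  have hdet : M.det ≠ 0 := fun h => by
    obtain ⟨v, hv, hv0⟩ := Matrix.exists_mulVec_eq_zero_iff.2 h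
    refine hv (hnd v fun w => ?_)
    show b v w = 0
    rw [hb_symm]
    show B w v = 0
    rw [hM, hv0, dotProduct_zero]
  refine ⟨((Matrix.isUnit_iff_isUnit_det M).2 (isUnit_iff_ne_zero.2 hdet)).unit, ?_⟩
  show M * A = Aᵀ * M
  refine Matrix.ext fun i j => ?_
  have h := hadj (Pi.single i 1) (Pi.single j 1)
  rw [hM, hM, hTdef, Matrix.toLin'_apply, Matrix.toLin'_apply, Matrix.mulVec_mulVec, ← Matrix.vecMul_transpose,
    ← Matrix.dotProduct_mulVec, Matrix.mulVec_mulVec] at h
  simpa [Matrix.mulVec_single, single_dotProduct] using h.symm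

end Transpose

theorem symplectic_inv {m : ℕ} (A : Matrix.symplecticGroup (Fin m) F) :
    IsConj (A : Matrix (Fin m ⊕ Fin m) (Fin m ⊕ Fin m) F)
      ((A⁻¹ : Matrix.symplecticGroup (Fin m) F) : Matrix (Fin m ⊕ Fin m) (Fin m ⊕ Fin m) F) := by
  refine (isConj_transpose _).trans ?_
  have hJ : Matrix.J (Fin m) F * (-Matrix.J (Fin m) F) = 1 := by rw [mul_neg, Matrix.J_squared, neg_neg]
  have hJ' : (-Matrix.J (Fin m) F) * Matrix.J (Fin m) F = 1 := by rw [neg_mul, Matrix.J_squared, neg_neg]
  refine ⟨⟨Matrix.J (Fin m) F, -Matrix.J (Fin m) F, hJ, hJ'⟩, ?_⟩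
  show Matrix.J (Fin m) F * _ = _ * Matrix.J (Fin m) F
  rw [SymplecticGroup.coe_inv]
  simp [mul_assoc, Matrix.J_squared]

variable [Fintype F]

set_option maxHeartbeats 1000000 in
theorem centralizer_prime {p q : ℕ} [Fact p.Prime] [CharP F p] (hF : Fintype.card F = q) {n r : ℕ} (hn : 1 ≤ n)
    (hr : r.Prime) (hrp : r ≠ p) (hi : orderOf (q : ZMod r) = n) (x : GL (Fin n) F) (hx : orderOf x = r) :
    IsCyclic ↥(Subgroup.centralizer ({x} : Set (GL (Fin n) F))) ∧
      Nat.card ↥(Subgroup.centralizer ({x} : Set (GL (Fin n) F))) = q ^ n - 1 := by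
  classical
  haveI := Fact.mk hr
  set T := CfsgLib.MiscSemi.toEnd x with hTdef
  have hT : CfsgLib.MiscSemi.Ord T :=
    CfsgLib.MiscSemi.ord_toEnd (p := p) (by rw [hx]; exact (Nat.coprime_primes hr Fact.out).2 hrp)
  have hTr : T ^ r = 1 := by
    rw [hTdef, CfsgLib.MiscSemi.toEnd, ← map_pow, ← Units.val_pow_eq_pow_val, ← hx, pow_orderOf_eq_one, Units.val_one, map_one]
  have hr0 : (r : F) ≠ 0 := fun h =>
    hrp ((Nat.prime_dvd_prime_iff_eq Fact.out hr).1 ((CharP.cast_eq_zero_iff F p r).1 h)).symm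
  set G : F[X] := ∑ i ∈ Finset.range r, X ^ i
  have hne : T ≠ 1 := fun h => by
    have : x = 1 := Units.ext (by
      apply (Matrix.toLinAlgEquiv' (R := F) (n := Fin n)).injective
      rw [Units.val_one, map_one]; exact h)
    rw [this, orderOf_one] at hx
    exact hr.ne_one hx.symm
  have hGT : aeval T G * (T - 1) = 0 := by
    rw [map_sum]
    simp only [map_pow, aeval_X]
    rw [geom_sum_mul, hTr, sub_self]
  set W := LinearMap.ker (aeval T G)
  have hW : ∀ v ∈ W, T v ∈ W := fun v hv => by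
    rw [LinearMap.mem_ker] at hv ⊢
    have hc := ((Commute.all G (X : F[X])).map (aeval T)).eq
    rw [aeval_X] at hc
    rw [← Module.End.mul_apply, hc, Module.End.mul_apply, hv, map_zero]
  obtain ⟨u, hu⟩ : ∃ u, (T - 1) u ≠ 0 := by
    by_contra h
    push Not at h
    exact hne (sub_eq_zero.1 (LinearMap.ext h))
  have hWpos : 0 < finrank F W := by
    refine Module.finrank_pos_iff.2 (Submodule.nontrivial_iff_ne_bot.2 fun h => hu ?_)
    have : (T - 1) u ∈ W := LinearMap.mem_ker.2 (LinearMap.congr_fun hGT u)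
    rwa [h, Submodule.mem_bot] at this
  obtain ⟨f, hfm, hf, hfd⟩ := CfsgLib.MiscSemi.exists_factor (LinearMap.restrict T hW) hWpos
  obtain ⟨w, hw, hfw⟩ := CfsgLib.MiscSemi.exists_ker _ rfl (hT.restrict hW) hfm hf hfd
  have hfw' : aeval T f (w : Fin n → F) = 0 := by rw [← CfsgLib.MiscSemi.aeval_restrict hW, hfw]; rfl
  have hw' : (w : Fin n → F) ≠ 0 := fun h => hw (Subtype.ext h)
  have hf1 : f ≠ X - 1 := fun h => by
    rw [h, map_sub, aeval_X, map_one, LinearMap.sub_apply, Module.End.one_apply, sub_eq_zero] at hfw'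
    have h1 := LinearMap.mem_ker.1 w.2
    rw [map_sum, LinearMap.sum_apply] at h1
    have h2 : ∀ i, aeval T ((X : F[X]) ^ i) (w : Fin n → F) = w := fun i => by
      induction i with
      | zero => simp
      | succ i ih => rw [pow_succ, map_mul, Module.End.mul_apply, aeval_X, hfw', ih]
    rw [Finset.sum_congr rfl fun i _ => h2 i, Finset.sum_const, Finset.card_range, ← Nat.cast_smul_eq_nsmul F,
      smul_eq_zero] at h1
    exact h1.elim hr0 hw'
  haveI := Fact.mk hf
  haveI := hfm.finite_adjoinRoot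
  haveI : Finite (AdjoinRoot f) := Module.finite_of_finite F
  haveI := Fintype.ofFinite (AdjoinRoot f)
  have hdvd : f ∣ X ^ r - 1 := by
    by_contra h
    obtain ⟨a, b, hab⟩ := (Irreducible.coprime_iff_not_dvd hf).2 h
    apply hw'
    have := LinearMap.congr_fun (congrArg (aeval T) hab) (w : Fin n → F)
    rw [map_add, map_mul, map_mul, LinearMap.add_apply, Module.End.mul_apply, Module.End.mul_apply, hfw'] at this
    simpa [hTr] using this.symm
  have hroot : AdjoinRoot.root f ^ r = 1 := by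
    rw [← AdjoinRoot.mk_eq_zero, map_sub, map_pow, map_one, AdjoinRoot.mk_X, sub_eq_zero] at hdvd
    exact hdvd
  have hroot1 : AdjoinRoot.root f ≠ 1 := fun h => by
    rw [← AdjoinRoot.mk_X, ← map_one (AdjoinRoot.mk f), ← sub_eq_zero, ← map_sub, AdjoinRoot.mk_eq_zero] at h
    exact hf1 (eq_of_monic_of_associated hfm (by rw [← C_1]; exact monic_X_sub_C 1)
      (hf.associated_of_dvd (by rw [← C_1]; exact irreducible_X_sub_C 1) h))
  obtain ⟨W', hW', e, he, -, hdim⟩ := CfsgLib.MiscSemi.split1 hT hfm hf hw' hfw'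
  have hcard : Fintype.card (AdjoinRoot f) = q ^ f.natDegree := by
    rw [Module.card_eq_pow_finrank (K := F), (AdjoinRoot.powerBasis hfm.ne_zero).finrank, AdjoinRoot.powerBasis_dim, hF]
  have hroot0 : AdjoinRoot.root f ≠ 0 := fun h => by
    rw [h, zero_pow hr.ne_zero] at hroot
    exact zero_ne_one hroot
  have hnd : n ∣ f.natDegree := by
    rw [← hi]
    apply orderOf_dvd_of_pow_eq_one
    have h1 : r ∣ Fintype.card (AdjoinRoot f) - 1 := by
      rw [← orderOf_eq_prime hroot hroot1]
      exact orderOf_dvd_of_pow_eq_one (FiniteField.pow_card_sub_one_eq_one _ hroot0)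
    rw [hcard] at h1
    have h2 : 1 ≤ q ^ f.natDegree := hcard ▸ Fintype.card_pos
    have h3 : ((q ^ f.natDegree - 1 : ℕ) : ZMod r) = 0 := (ZMod.natCast_eq_zero_iff _ _).2 h1
    rw [Nat.cast_sub h2, Nat.cast_one, sub_eq_zero, Nat.cast_pow] at h3
    exact h3
  rw [Module.finrank_fin_fun] at hdim
  have hW'0 : finrank F W' = 0 := by have := Nat.le_of_dvd hf.natDegree_pos hnd; omega
  have hdeg : f.natDegree = n := by omega
  haveI := Module.finrank_zero_iff.1 hW'0
  haveI : Unique W' := uniqueOfSubsingleton 0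
  let e0 : AdjoinRoot f ≃ₗ[F] (Fin n → F) := (LinearEquiv.prodUnique (R := F) (M := AdjoinRoot f) (M₂ := W')).symm.trans e
  have he0 : ∀ a, T (e0 a) = e0 (AdjoinRoot.root f * a) := fun a => by
    show T (e _) = e _
    rw [he]
    congr 1
    exact Prod.ext rfl (Subsingleton.elim _ _)
  let ψ : AdjoinRoot f →* Matrix (Fin n) (Fin n) F :=
    ((e0.conjAlgEquiv F).trans LinearMap.toMatrixAlgEquiv').toMulEquiv.toMonoidHom.comp
      (Algebra.lmul F (AdjoinRoot f)).toMonoidHom
  have hψ : ∀ a v, ψ a *ᵥ v = e0 (a * e0.symm v) := fun a v => by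
    show LinearMap.toMatrix' (e0.conj (Algebra.lmul F (AdjoinRoot f) a)) *ᵥ v = _
    rw [LinearMap.toMatrix'_mulVec, LinearEquiv.conj_apply_apply]
    rfl
  let Ψ : (AdjoinRoot f)ˣ →* GL (Fin n) F := Units.map ψ
  have hinj : Function.Injective Ψ := fun a b h => by
    have := congrArg (fun g : GL (Fin n) F => (g : Matrix (Fin n) (Fin n) F) *ᵥ e0 1) h
    simp only [Ψ, Units.coe_map, hψ, LinearEquiv.symm_apply_apply, mul_one] at this
    exact Units.ext (e0.injective this)
  have hrange : Ψ.range = Subgroup.centralizer ({x} : Set (GL (Fin n) F)) := by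
    ext g
    rw [Subgroup.mem_centralizer_singleton_iff]
    constructor
    · rintro ⟨a, rfl⟩
      refine Units.ext (Matrix.ext_of_mulVec_single fun i => ?_)
      obtain ⟨b, hb⟩ := e0.surjective (Pi.single i 1)
      rw [← hb, Units.val_mul, Units.val_mul, ← Matrix.mulVec_mulVec, ← Matrix.mulVec_mulVec]
      show ψ a *ᵥ T (e0 b) = T (ψ a *ᵥ e0 b)
      rw [he0, hψ, hψ, he0, LinearEquiv.symm_apply_apply, LinearEquiv.symm_apply_apply, mul_left_comm]
    · intro hg
      let G' : AdjoinRoot f → AdjoinRoot f := fun a => e0.symm ((g : Matrix (Fin n) (Fin n) F) *ᵥ e0 a)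
      have hG'X : ∀ a, G' (AdjoinRoot.root f * a) = AdjoinRoot.root f * G' a := fun a => by
        apply e0.injective
        rw [← he0, LinearEquiv.apply_symm_apply, LinearEquiv.apply_symm_apply, ← he0]
        show (g : Matrix (Fin n) (Fin n) F) *ᵥ ((x : Matrix (Fin n) (Fin n) F) *ᵥ e0 a) =
          (x : Matrix (Fin n) (Fin n) F) *ᵥ ((g : Matrix (Fin n) (Fin n) F) *ᵥ e0 a)
        rw [Matrix.mulVec_mulVec, Matrix.mulVec_mulVec, ← Units.val_mul, hg, Units.val_mul]
      have hG' : ∀ a, G' a = a * G' 1 := fun a => by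
        induction a using AdjoinRoot.induction_on with
        | ih s =>
          induction s using Polynomial.induction_on' with
          | add s t hs ht =>
            rw [map_add, add_mul, ← hs, ← ht]
            simp only [G', map_add, Matrix.mulVec_add]
          | monomial k c =>
            rw [← C_mul_X_pow_eq_monomial, map_mul, AdjoinRoot.mk_C, map_pow, AdjoinRoot.mk_X,
              ← AdjoinRoot.algebraMap_eq, ← Algebra.smul_def, smul_mul_assoc]
            have h2 : ∀ j, G' (AdjoinRoot.root f ^ j) = AdjoinRoot.root f ^ j * G' 1 := fun j => by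
              induction j with
              | zero => simp
              | succ j ih => rw [pow_succ', hG'X, ih, mul_assoc]
            rw [← h2]
            simp only [G', map_smul, Matrix.mulVec_smul]
      have h0 : G' 1 ≠ 0 := fun h => by
        have h1 := hG' (e0.symm ((g⁻¹ : GL (Fin n) F).val *ᵥ e0 1))
        rw [h, mul_zero] at h1
        simp only [G', LinearEquiv.apply_symm_apply, Matrix.mulVec_mulVec, ← Units.val_mul, mul_inv_cancel,
          Units.val_one, Matrix.one_mulVec, LinearEquiv.symm_apply_apply] at h1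
        exact one_ne_zero h1
      refine ⟨Units.mk0 _ h0, Units.ext (Matrix.ext_of_mulVec_single fun i => ?_)⟩
      show ψ (G' 1) *ᵥ _ = _
      rw [hψ, mul_comm, ← hG']
      simp only [G', LinearEquiv.apply_symm_apply]
  rw [← hrange]
  refine ⟨isCyclic_of_surjective Ψ.rangeRestrict Ψ.rangeRestrict_surjective, ?_⟩
  rw [Nat.card_congr (MonoidHom.ofInjective hinj).toEquiv.symm, Nat.card_units, Nat.card_eq_fintype_card, hcard, hdeg]

set_option maxHeartbeats 1000000 in
theorem max_order {d : ℕ} (hd : 1 ≤ d) :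
    (∀ g : (GL (Fin d) F ⧸ Subgroup.center (GL (Fin d) F)),
      (Fintype.card F - 1) * orderOf g ≤ Fintype.card F ^ d - 1) ∧
    (∃ g : (GL (Fin d) F ⧸ Subgroup.center (GL (Fin d) F)),
      (Fintype.card F - 1) * orderOf g = Fintype.card F ^ d - 1) := by
  classical
  haveI : Nonempty (Fin d) := ⟨⟨0, hd⟩⟩
  have hupper : ∀ g : (GL (Fin d) F ⧸ Subgroup.center (GL (Fin d) F)),
      (Fintype.card F - 1) * orderOf g ≤ Fintype.card F ^ d - 1 := by
    intro g
    obtain ⟨g, rfl⟩ := QuotientGroup.mk_surjective g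
    set A := (g : Matrix (Fin d) (Fin d) F)
    let L : Polynomial.degreeLT F d →ₗ[F] Matrix (Fin d) (Fin d) F :=
      (aeval A).toLinearMap.comp (Polynomial.degreeLT F d).subtype
    have hmem : ∀ i : ℕ, A ^ i ∈ LinearMap.range L := fun i => by
      have hA := Matrix.aeval_self_charpoly A
      refine ⟨⟨X ^ i %ₘ A.charpoly, mem_degreeLT.2 ((degree_modByMonic_lt _ (Matrix.charpoly_monic A)).trans_eq ?_)⟩, ?_⟩
      · rw [degree_eq_natDegree (Matrix.charpoly_monic A).ne_zero, Matrix.charpoly_natDegree_eq_dim, Fintype.card_fin]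
      · show aeval A (X ^ i %ₘ A.charpoly) = A ^ i
        conv_rhs => rw [← aeval_X (R := F) A, ← map_pow, ← modByMonic_add_div (X ^ i) A.charpoly, map_add, map_mul, hA,
          zero_mul, add_zero]
    let o := orderOf (QuotientGroup.mk g : GL (Fin d) F ⧸ Subgroup.center (GL (Fin d) F))
    let Φ : Fin o × Fˣ → {M : Matrix (Fin d) (Fin d) F // M ∈ LinearMap.range L ∧ M ≠ 0} := fun ic =>
      ⟨(ic.2 : F) • A ^ (ic.1 : ℕ), Submodule.smul_mem _ _ (hmem _),
        smul_ne_zero ic.2.ne_zero (by rw [← Units.val_pow_eq_pow_val]; exact Units.ne_zero _)⟩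
    have hΦ : Function.Injective Φ := by
      rintro ⟨i, c⟩ ⟨j, c'⟩ h
      have h' : (c : F) • A ^ (i : ℕ) = (c' : F) • A ^ (j : ℕ) := congrArg Subtype.val h
      have hz : (g ^ (i : ℕ))⁻¹ * g ^ (j : ℕ) ∈ Subgroup.center (GL (Fin d) F) := by
        rw [Matrix.GeneralLinearGroup.mem_center_iff_val_mem_range_scalar]
        refine ⟨(c : F) / c', ?_⟩
        rw [Units.val_mul]
        have : (g ^ (j : ℕ) : GL (Fin d) F).val = ((c : F) / c') • (g ^ (i : ℕ) : GL (Fin d) F).val := by
          rw [Units.val_pow_eq_pow_val, Units.val_pow_eq_pow_val, div_eq_inv_mul, mul_smul]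
          show A ^ (j : ℕ) = _ • ((c : F) • A ^ (i : ℕ))
          rw [h', inv_smul_smul₀ c'.ne_zero]
        rw [this, mul_smul_comm, Units.inv_mul, Matrix.smul_one_eq_diagonal]
        rfl
      rw [← QuotientGroup.eq, QuotientGroup.mk_pow, QuotientGroup.mk_pow] at hz
      have hij : i = j := Fin.ext (pow_injOn_Iio_orderOf i.2 j.2 hz)
      subst hij
      refine Prod.ext rfl (Units.ext ?_)
      have hne : A ^ (i : ℕ) ≠ 0 := by rw [← Units.val_pow_eq_pow_val]; exact Units.ne_zero _
      exact smul_left_injective F hne h'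
    have h1 := Nat.card_le_card_of_injective Φ hΦ
    have hsub : Nat.card {M : Matrix (Fin d) (Fin d) F // M ∈ LinearMap.range L ∧ M ≠ 0} + 1 =
        Nat.card (LinearMap.range L) := by
      have e1 : Nat.card {M : Matrix (Fin d) (Fin d) F // M ∈ LinearMap.range L ∧ M ≠ 0} =
          Nat.card {M : LinearMap.range L // M ≠ 0} :=
        Nat.card_congr ((Equiv.subtypeSubtypeEquivSubtypeInter _ (fun M => M ≠ 0)).symm.trans
          (Equiv.subtypeEquivRight fun M => by rw [ne_eq, ne_eq, Submodule.coe_eq_zero]))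
      rw [e1, ← Nat.card_congr (Equiv.sumCompl fun M : LinearMap.range L => M ≠ 0), Nat.card_sum]
      congr 1
      rw [eq_comm, Nat.card_eq_one_iff_unique]
      exact ⟨⟨fun a b => Subtype.ext ((not_not.1 a.2).trans (not_not.1 b.2).symm)⟩, ⟨⟨0, by simp⟩⟩⟩
    have h2 : Nat.card (LinearMap.range L) ≤ Fintype.card F ^ d := by
      haveI : Finite (Polynomial.degreeLT F d) := Finite.of_equiv _ (Polynomial.degreeLTEquiv F d).toEquiv.symm
      refine (Nat.card_le_card_of_surjective L.rangeRestrict L.surjective_rangeRestrict).trans ?_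
      rw [Nat.card_congr (Polynomial.degreeLTEquiv F d).toEquiv]
      simp
    rw [Nat.card_prod, Nat.card_fin, Nat.card_units, Nat.card_eq_fintype_card] at h1
    rw [mul_comm] at h1
    show (Fintype.card F - 1) * o ≤ _
    omega
  refine ⟨hupper, ?_⟩
  obtain ⟨p, hp⟩ := CharP.exists F
  haveI := hp
  haveI : Fact p.Prime := ⟨CharP.char_is_prime F p⟩
  haveI : NeZero d := ⟨by omega⟩
  let K := FiniteField.Extension F p d
  haveI : Fintype K := Fintype.ofFinite K
  have hK : Fintype.card K = Fintype.card F ^ d := by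
    rw [← Nat.card_eq_fintype_card, FiniteField.natCard_extension, Nat.card_eq_fintype_card]
  let θ : K ≃ₗ[F] (Fin d → F) := LinearEquiv.ofFinrankEq _ _ (by rw [FiniteField.finrank_extension, Module.finrank_fin_fun])
  let ψ : K →* Matrix (Fin d) (Fin d) F :=
    ((θ.conjAlgEquiv F).trans LinearMap.toMatrixAlgEquiv').toMulEquiv.toMonoidHom.comp (Algebra.lmul F K).toMonoidHom
  have hψ : ∀ a v, ψ a *ᵥ v = θ (a * θ.symm v) := fun a v => by
    show LinearMap.toMatrix' (θ.conj (Algebra.lmul F K a)) *ᵥ v = _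
    rw [LinearMap.toMatrix'_mulVec, LinearEquiv.conj_apply_apply]
    rfl
  obtain ⟨z, hz⟩ := IsCyclic.exists_generator (α := Kˣ)
  have hzo : orderOf z = Fintype.card K - 1 := by
    rw [orderOf_eq_card_of_forall_mem_zpowers hz, Nat.card_units, Nat.card_eq_fintype_card]
  refine ⟨QuotientGroup.mk (Units.map ψ z), le_antisymm (hupper _) ?_⟩
  set o := orderOf (QuotientGroup.mk (Units.map ψ z) : GL (Fin d) F ⧸ Subgroup.center (GL (Fin d) F))
  have ho : (Units.map ψ z) ^ o ∈ Subgroup.center (GL (Fin d) F) := by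
    rw [← QuotientGroup.eq_one_iff, QuotientGroup.mk_pow]
    exact pow_orderOf_eq_one _
  rw [Matrix.GeneralLinearGroup.mem_center_iff_val_mem_range_scalar] at ho
  obtain ⟨c, hc⟩ := ho
  rw [← map_pow, Units.coe_map] at hc
  have hc' : ((z ^ o : Kˣ) : K) = algebraMap F K c := by
    have h := congrArg (fun M : Matrix (Fin d) (Fin d) F => θ.symm (M *ᵥ θ 1)) hc
    simp only [hψ, LinearEquiv.symm_apply_apply, mul_one, Matrix.scalar_apply] at h
    rw [show Matrix.diagonal (fun _ : Fin d => c) *ᵥ θ 1 = c • θ 1 by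
      funext i; simp [Matrix.mulVec_diagonal], map_smul, LinearEquiv.symm_apply_apply] at h
    rw [← h, Algebra.algebraMap_eq_smul_one]
  have hc0 : c ≠ 0 := fun h => (z ^ o).ne_zero (by rw [hc', h, map_zero])
  have h1 : z ^ (o * (Fintype.card F - 1)) = 1 := Units.ext (by
    rw [pow_mul, Units.val_pow_eq_pow_val, hc', ← map_pow, FiniteField.pow_card_sub_one_eq_one c hc0, map_one,
      Units.val_one])
  have h2 := orderOf_dvd_of_pow_eq_one h1
  rw [hzo, hK, mul_comm] at h2
  refine Nat.le_of_dvd (Nat.mul_pos ?_ (orderOf_pos _)) h2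
  have := Fintype.one_lt_card (α := F)
  omega

end CfsgLib.MiscCyclic
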