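import Mathlib
import Cfsg.Agent.Lie.OrthBasis

/-!
The discriminant classifies quadratic forms over a finite field of odd characteristic.
-/

set_option autoImplicit false
set_option linter.unusedSectionVars false

namespace CfsgLib.MiscDiscriminant

open Module QuadraticMap Matrix

variable {F : Type*} [Field F] [Fintype F] {n : ℕ}

/-- the Gram matrix -/
noncomputable def gram {ι : Type*} (Q : QuadraticForm F (Fin n → F)) (b : ι → (Fin n → F)) : Matrix ι ι F :=
  Matrix.of fun i j => polar ⇑Q (b i) (b j)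

theorem gram_std (Q : QuadraticForm F (Fin n → F)) :
    Matrix.of (fun i j : Fin n => polar ⇑Q (Pi.single i 1) (Pi.single j 1)) = gram Q (Pi.basisFun F (Fin n)) := by
  ext i j; simp [gram]

theorem gram_change (Q : QuadraticForm F (Fin n → F)) (M : Matrix (Fin n) (Fin n) F) (b : Fin n → (Fin n → F))
    (hb : ∀ i, b i = M.mulVec (Pi.single i 1)) :
    gram Q b = M.transpose * gram Q (Pi.basisFun F (Fin n)) * M := by
  have key : ∀ x y : Fin n → F, polar ⇑Q x y = dotProduct x ((gram Q (Pi.basisFun F (Fin n))).mulVec y) := by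
    intro x y
    have e : gram Q (Pi.basisFun F (Fin n)) = LinearMap.BilinForm.toMatrix' (polarBilin Q) := by
      ext i j; simp [gram]
    rw [e, ← Matrix.toBilin'_apply', Matrix.toBilin'_toMatrix']
    rfl
  ext i j
  have h1 : (M.transpose * gram Q (Pi.basisFun F (Fin n)) * M) i j =
      dotProduct (Pi.single i (1 : F)) ((M.transpose * gram Q (Pi.basisFun F (Fin n)) * M).mulVec (Pi.single j 1)) := by
    simp
  show polar ⇑Q (b i) (b j) = _
  rw [h1, key, hb, hb, ← Matrix.mulVec_mulVec, ← Matrix.mulVec_mulVec, Matrix.dotProduct_mulVec (Pi.single i 1) M.transpose,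
    Matrix.vecMul_transpose]

theorem det_change (Q : QuadraticForm F (Fin n → F)) (b : Fin n → (Fin n → F))
    (M : Matrix (Fin n) (Fin n) F) (hb : ∀ i, b i = M.mulVec (Pi.single i 1)) :
    (gram Q b).det = M.det ^ 2 * (gram Q (Pi.basisFun F (Fin n))).det := by
  rw [gram_change Q M b hb, Matrix.det_mul, Matrix.det_mul, Matrix.det_transpose]
  ring

theorem normal (h2 : (2 : F) ≠ 0) (α : F) (hα : ¬ IsSquare α) (Q : QuadraticForm F (Fin (n + 1) → F))
    (hQ : (polarBilin Q).Nondegenerate) :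
    ∃ (b : Basis (Fin (n + 1)) F (Fin (n + 1) → F)) (δ s : F), (δ = 1 ∨ δ = α) ∧ s ≠ 0 ∧
      (∀ i j, polar ⇑Q (b i) (b j) = if i = j then (if i = Fin.last n then δ else 1) else 0) ∧
      s ^ 2 * (gram Q (Pi.basisFun F (Fin (n + 1)))).det = δ := by
  obtain ⟨b, ho, h1, hl⟩ := CfsgLib.Lie.OrthBasis.exists_basis_discr (polarBilin Q) h2
    (fun a c => polar_comm (⇑Q) a c) hQ.1 (Module.finrank_fin_fun F) α hα
  let δ := polar ⇑Q (b (Fin.last n)) (b (Fin.last n))
  let M := (Pi.basisFun F (Fin (n + 1))).toMatrix b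
  have hb : ∀ i, b i = M.mulVec (Pi.single i 1) := fun i => by
    ext j; simp [M, Basis.toMatrix_apply]
  have hd : gram Q b = Matrix.diagonal fun i => if i = Fin.last n then δ else 1 := by
    ext i j
    show polar ⇑Q (b i) (b j) = _
    by_cases h : i = j
    · subst h
      rw [Matrix.diagonal_apply_eq]
      split_ifs with hi
      · subst hi; rfl
      · exact h1 i hi
    · rw [Matrix.diagonal_apply_ne _ h]; exact ho i j h
  refine ⟨b, δ, M.det, hl, ?_, fun i j => ?_, ?_⟩
  · exact ((Pi.basisFun F (Fin (n + 1))).isUnit_det b).ne_zero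
  · have := congrFun (congrFun hd i) j
    rw [Matrix.diagonal_apply] at this
    exact this
  · rw [← det_change Q b M hb, hd, Matrix.det_diagonal, Finset.prod_ite_eq']
    simp

theorem classify (h2 : (2 : F) ≠ 0) (Q₁ Q₂ : QuadraticForm F (Fin n → F))
    (h₁ : (polarBilin Q₁).Nondegenerate) (h₂ : (polarBilin Q₂).Nondegenerate) :
    (∃ g : (Fin n → F) ≃ₗ[F] (Fin n → F), ∀ v, Q₂ (g v) = Q₁ v) ↔
      IsSquare ((Matrix.of (fun i j : Fin n => polar ⇑Q₁ (Pi.single i 1) (Pi.single j 1))).det *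
        (Matrix.of (fun i j : Fin n => polar ⇑Q₂ (Pi.single i 1) (Pi.single j 1))).det) := by
  rw [gram_std, gram_std]
  constructor
  · rintro ⟨g, hg⟩
    let M := LinearMap.toMatrix' (g : (Fin n → F) →ₗ[F] (Fin n → F))
    have hM : ∀ x, M.mulVec x = g x := fun x => LinearMap.toMatrix'_mulVec _ _
    have e : gram Q₁ (Pi.basisFun F (Fin n)) = gram Q₂ (fun i => g (Pi.basisFun F (Fin n) i)) := by
      ext i j
      simp only [gram, Matrix.of_apply, polar, ← map_add, hg]
    rw [e, det_change Q₂ _ M (fun i => by rw [hM]; simp)]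
    exact ⟨M.det * (gram Q₂ (Pi.basisFun F (Fin n))).det, by ring⟩
  · intro hsq
    rcases n with _ | n
    · exact ⟨LinearEquiv.refl F _, fun v => by rw [Subsingleton.elim v 0, map_zero, QuadraticMap.map_zero, QuadraticMap.map_zero]⟩
    obtain ⟨α, hα⟩ := FiniteField.exists_nonsquare (F := F) (fun h => h2 (by
      have := ringChar.spec F 2; rw [h] at this; exact_mod_cast this.2 dvd_rfl))
    have hα0 : α ≠ 0 := fun h => hα (h ▸ IsSquare.zero)
    obtain ⟨b₁, δ₁, s₁, hδ₁, hs₁, hb₁, hd₁⟩ := normal h2 α hα Q₁ h₁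
    obtain ⟨b₂, δ₂, s₂, hδ₂, hs₂, hb₂, hd₂⟩ := normal h2 α hα Q₂ h₂
    have hδ : δ₁ = δ₂ := by
      obtain ⟨r, hr⟩ := hsq
      have h : IsSquare (δ₁ * δ₂) := ⟨s₁ * s₂ * r, by rw [← hd₁, ← hd₂]; linear_combination (s₁ * s₂) ^ 2 * hr⟩
      rcases hδ₁ with e | e <;> rcases hδ₂ with e' | e' <;> rw [e, e'] at h ⊢
      · exact absurd (by rwa [one_mul] at h) hα
      · exact absurd (by rwa [mul_one] at h) hα
    let g := b₁.equiv b₂ (Equiv.refl _)
    have hg : ∀ x y, polarBilin Q₂ (g x) (g y) = polarBilin Q₁ x y := by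
      have : (polarBilin Q₂).compl₁₂ (g : _ →ₗ[F] _) (g : _ →ₗ[F] _) = polarBilin Q₁ :=
        LinearMap.ext_basis b₁ b₁ fun i j => by
          show polar ⇑Q₂ (g (b₁ i)) (g (b₁ j)) = polar ⇑Q₁ (b₁ i) (b₁ j)
          simp only [g, Basis.equiv_apply, Equiv.refl_apply]
          rw [hb₁, hb₂, hδ]
      intro x y
      exact LinearMap.congr_fun (LinearMap.congr_fun this x) y
    refine ⟨g, fun v => ?_⟩
    have := hg v v
    simp only [polarBilin_apply_apply, polar_self, nsmul_eq_mul, Nat.cast_ofNat] at this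
    exact mul_left_cancel₀ h2 this

theorem similar (hn : 2 ≤ n) (he : Even n) (Q : QuadraticForm F (Fin n → F))
    (hQ : (polarBilin Q).Nondegenerate) (c : F) (hc : c ≠ 0) :
    ∃ g : (Fin n → F) ≃ₗ[F] (Fin n → F), ∀ v, Q (g v) = c * Q v := by
  by_cases h2 : (2 : F) = 0
  · haveI : CharP F 2 := CharP.ringChar_of_prime_eq_zero Nat.prime_two (show ((2 : ℕ) : F) = 0 by exact_mod_cast h2) ▸ ringChar.charP F
    haveI : Fact (Nat.Prime 2) := ⟨Nat.prime_two⟩
    obtain ⟨s, hs⟩ := (frobeniusEquiv F 2).surjective c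
    rw [frobeniusEquiv_apply, frobenius_def] at hs
    have hs0 : s ≠ 0 := fun h => hc (by rw [← hs, h]; simp)
    refine ⟨LinearEquiv.smulOfUnit (Units.mk0 s hs0), fun v => ?_⟩
    show Q (s • v) = c * Q v
    rw [QuadraticMap.map_smul, ← hs, smul_eq_mul, _root_.sq]
  · have hP : ∀ x y, polar ⇑(c • Q) x y = c * polar ⇑Q x y := fun x y => by
      simp only [polar, QuadraticMap.smul_apply, smul_eq_mul]; ring
    have hnd : (polarBilin (c • Q)).Nondegenerate := by
      constructor
      · intro x hx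
        exact hQ.1 x fun y => by
          have := hx y
          rw [polarBilin_apply_apply, hP] at this
          exact (mul_eq_zero.1 this).resolve_left hc
      · intro x hx
        exact hQ.2 x fun y => by
          have := hx y
          rw [polarBilin_apply_apply, hP] at this
          exact (mul_eq_zero.1 this).resolve_left hc
    obtain ⟨g, hg⟩ := (classify h2 (c • Q) Q hnd hQ).2 (by
      have : Matrix.of (fun i j : Fin n => polar ⇑(c • Q) (Pi.single i 1) (Pi.single j 1)) =
          c • Matrix.of (fun i j : Fin n => polar ⇑Q (Pi.single i 1) (Pi.single j 1)) := by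
        ext i j; simpa using hP (Pi.single i 1) (Pi.single j 1)
      rw [this, Matrix.det_smul, Fintype.card_fin]
      obtain ⟨k, hk⟩ := he
      have hck : c ^ n = c ^ k * c ^ k := by rw [← pow_add]; exact congrArg _ hk
      exact ⟨c ^ k * (Matrix.of (fun i j : Fin n => polar ⇑Q (Pi.single i 1) (Pi.single j 1))).det, by rw [hck]; ring⟩)
    exact ⟨g, fun v => by rw [hg]; simp⟩

end CfsgLib.MiscDiscriminant
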