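import Mathlib

/-! A nontrivial p-group of matrices in characteristic p is contained in the unipotent radical of the stabiliser of
a flag stabilised by its normaliser. -/

set_option autoImplicit false

open Matrix

namespace CfsgLib.Misc.FlagStabilised

variable {F : Type*} [Field F] {n : ℕ} (U : Subgroup (SpecialLinearGroup (Fin n) F))

theorem act_mul (g h : SpecialLinearGroup (Fin n) F) (v : Fin n → F) :
    (g : Matrix (Fin n) (Fin n) F) *ᵥ ((h : Matrix (Fin n) (Fin n) F) *ᵥ v) =
      ((g * h : SpecialLinearGroup (Fin n) F) : Matrix (Fin n) (Fin n) F) *ᵥ v := by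
  rw [mulVec_mulVec]; rfl

theorem act_one (v : Fin n → F) :
    ((1 : SpecialLinearGroup (Fin n) F) : Matrix (Fin n) (Fin n) F) *ᵥ v = v := one_mulVec v

/-- One step of the fixed-point filtration. -/
def step (W : Submodule F (Fin n → F)) : Submodule F (Fin n → F) where
  carrier := {v | ∀ u ∈ U, (u : Matrix (Fin n) (Fin n) F) *ᵥ v - v ∈ W}
  zero_mem' := fun u _ => by simp
  add_mem' := fun {a b} ha hb u hu => by
    have := add_mem (ha u hu) (hb u hu)
    rwa [mulVec_add, add_sub_add_comm]
  smul_mem' := fun c a ha u hu => by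
    rw [mulVec_smul, ← smul_sub]; exact W.smul_mem c (ha u hu)

/-- The filtration. -/
def fil : ℕ → Submodule F (Fin n → F)
  | 0 => ⊥
  | (i + 1) => step U (fil i)

theorem fil_le (i : ℕ) : fil U i ≤ fil U (i + 1) := by
  induction i with
  | zero => exact bot_le
  | succ i ih => exact fun v hv u hu => ih (hv u hu)

theorem fil_invariant (i : ℕ) : ∀ u ∈ U, ∀ v ∈ fil U i, (u : Matrix (Fin n) (Fin n) F) *ᵥ v ∈ fil U i := by
  induction i with
  | zero =>
    intro u _ v hv
    rw [show v = 0 from (Submodule.mem_bot F).1 hv, mulVec_zero]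
    exact zero_mem _
  | succ i _ =>
    intro u hu v hv
    have := add_mem (fil_le U i (hv u hu)) hv
    rwa [sub_add_cancel] at this

theorem fil_normalizer (i : ℕ) : ∀ g ∈ Subgroup.normalizer (U : Set (SpecialLinearGroup (Fin n) F)),
    ∀ v ∈ fil U i, (g : Matrix (Fin n) (Fin n) F) *ᵥ v ∈ fil U i := by
  induction i with
  | zero =>
    intro g _ v hv
    rw [show v = 0 from (Submodule.mem_bot F).1 hv, mulVec_zero]
    exact zero_mem _
  | succ i ih =>
    intro g hg v hv u hu
    have hu' : g⁻¹ * u * g ∈ U := (Subgroup.mem_normalizer_iff''.1 hg u).1 hu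
    have h := ih g hg _ (hv _ hu')
    rw [mulVec_sub, act_mul, mul_assoc, mul_inv_cancel_left, ← act_mul] at h
    exact h

theorem fil_strict [Finite F] (p : ℕ) [Fact p.Prime] [CharP F p] (hU : IsPGroup p ↥U) (i : ℕ)
    (h : fil U i ≠ ⊤) : fil U i < fil U (i + 1) := by
  classical
  haveI := Fintype.ofFinite F
  refine lt_of_le_of_ne (fil_le U i) fun heq => ?_
  let W := fil U i
  let A : ↥U → ((Fin n → F) ⧸ W) →ₗ[F] ((Fin n → F) ⧸ W) := fun u =>
    W.mapQ W ((u : SpecialLinearGroup (Fin n) F) : Matrix (Fin n) (Fin n) F).mulVecLin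
      (fun v hv => fil_invariant U i _ u.2 v hv)
  letI act : MulAction ↥U ((Fin n → F) ⧸ W) :=
    { smul := fun u x => A u x
      one_smul := fun x => by
        induction x using Submodule.Quotient.induction_on with | _ v => ?_
        show Submodule.Quotient.mk _ = _
        simp
      mul_smul := fun u u' x => by
        induction x using Submodule.Quotient.induction_on with | _ v => ?_
        show Submodule.Quotient.mk _ = Submodule.Quotient.mk _
        simp [mulVecLin_apply, mulVec_mulVec] }
  have hfix0 : (0 : (Fin n → F) ⧸ W) ∈ MulAction.fixedPoints ↥U ((Fin n → F) ⧸ W) := fun u => map_zero (A u)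
  have hdvd : p ∣ Nat.card ((Fin n → F) ⧸ W) := by
    rw [Module.natCard_eq_pow_finrank (K := F)]
    obtain ⟨e, -, he⟩ := FiniteField.card F p
    have hd : 0 < Module.finrank F ((Fin n → F) ⧸ W) := by
      rw [Module.finrank_pos_iff]
      exact Submodule.Quotient.nontrivial_iff.2 h
    refine dvd_pow ?_ hd.ne'
    rw [Nat.card_eq_fintype_card, he]
    exact dvd_pow_self p e.pos.ne'
  obtain ⟨b, hb, hb0⟩ := hU.exists_fixed_point_of_prime_dvd_card_of_fixed_point _ hdvd hfix0
  induction b using Submodule.Quotient.induction_on with | _ v => ?_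
  have hv : v ∈ fil U (i + 1) := fun u hu => by
    have h1 : Submodule.Quotient.mk ((u : Matrix (Fin n) (Fin n) F) *ᵥ v) =
        (Submodule.Quotient.mk v : (Fin n → F) ⧸ W) := hb ⟨u, hu⟩
    exact (Submodule.Quotient.eq W).1 h1
  rw [← heq] at hv
  exact hb0 ((Submodule.Quotient.mk_eq_zero W).2 hv).symm

theorem main [Finite F] (p : ℕ) [Fact p.Prime] [CharP F p] (hU : IsPGroup p ↥U) (hne : U ≠ ⊥) :
    ∃ (k : ℕ) (V : Fin (k + 2) → Submodule F (Fin n → F)), 1 ≤ k ∧ StrictMono V ∧ V 0 = ⊥ ∧
      V (Fin.last (k + 1)) = ⊤ ∧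
      (∀ g ∈ Subgroup.normalizer (U : Set (SpecialLinearGroup (Fin n) F)), ∀ i,
        (V i).map (mulVecLin (g : Matrix (Fin n) (Fin n) F)) = V i) ∧
      (∀ u ∈ U, ∀ i : Fin (k + 1), ∀ v ∈ V i.succ,
        (u : Matrix (Fin n) (Fin n) F).mulVec v - v ∈ V (Fin.castSucc i)) := by
  classical
  have hex : ∃ j, fil U j = ⊤ := by
    by_contra hno
    push Not at hno
    have hm : StrictMono fun j => Module.finrank F (fil U j) :=
      strictMono_nat_of_lt_succ fun j => Submodule.finrank_lt_finrank_of_lt (fil_strict U p hU j (hno j))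
    have := hm.le_apply (x := n + 1)
    have h' := Submodule.finrank_le (fil U (n + 1))
    simp at this h'
    omega
  have hlast := Nat.find_spec hex
  have hlt : ∀ j < Nat.find hex, fil U j ≠ ⊤ := fun j hj => Nat.find_min hex hj
  have hn : 1 ≤ n := by
    by_contra h
    obtain rfl : n = 0 := by omega
    exact hne (by
      rw [Subgroup.eq_bot_iff_forall]
      intro x _; apply Subtype.ext; funext i; exact i.elim0)
  have h2 : 2 ≤ Nat.find hex := by
    rw [Nat.le_find_iff]
    intro j hj hj'
    interval_cases j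
    · have h0 : (⊥ : Submodule F (Fin n → F)) = ⊤ := hj'
      have h1 := congrArg (fun W : Submodule F (Fin n → F) => Module.finrank F W) h0
      simp at h1
      omega
    · refine hne ((Subgroup.eq_bot_iff_forall U).2 fun u hu => Subtype.ext ?_)
      refine ext_of_mulVec_single fun c => ?_
      have hc : (Pi.single c 1 : Fin n → F) ∈ fil U 1 := hj' ▸ Submodule.mem_top
      refine Eq.trans ?_ (act_one _).symm
      exact sub_eq_zero.1 ((Submodule.mem_bot F).1 (hc u hu))
  obtain ⟨k, hk⟩ : ∃ k, Nat.find hex = k + 1 := ⟨Nat.find hex - 1, by omega⟩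
  refine ⟨k, fun i => fil U i.val, by omega, ?_, rfl, ?_, ?_, ?_⟩
  · refine Fin.strictMono_iff_lt_succ.2 fun i => ?_
    exact fil_strict U p hU i.val (hlt _ (by omega))
  · show fil U (k + 1) = ⊤
    rw [← hk]; exact hlast
  · intro g hg i
    refine le_antisymm ?_ fun v hv => ?_
    · rintro _ ⟨v, hv, rfl⟩; exact fil_normalizer U i.val g hg v hv
    · refine ⟨_, fil_normalizer U i.val g⁻¹ (inv_mem hg) v hv, ?_⟩
      rw [mulVecLin_apply, act_mul, mul_inv_cancel, act_one]
  · intro u hu i v hv
    exact hv u hu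

end CfsgLib.Misc.FlagStabilised
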