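import Mathlib
import Cfsg.Prelude.Def_Classical
import Cfsg.Agent.Lie.Sp

/-!
Quadratic forms over the field with two elements with a fixed symplectic polar form.
-/

set_option autoImplicit false
set_option linter.unusedSectionVars false

namespace CfsgLib.MiscFormsTwo

abbrev K := ZMod 2

abbrev W (m : ℕ) := Fin m ⊕ Fin m → K

variable {m : ℕ}

def pp (u v : W m) : K :=
  Cfsg.quadFormPlus m K (u + v) - Cfsg.quadFormPlus m K u - Cfsg.quadFormPlus m K v

theorem pp_sum (u v : W m) : pp u v = ∑ i, (u (.inl i) * v (.inr i) + v (.inl i) * u (.inr i)) := by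
  simp only [pp, Cfsg.quadFormPlus, ← Finset.sum_sub_distrib, Pi.add_apply]
  exact Finset.sum_congr rfl fun i _ => by ring

theorem pp_bf (u v : W m) : pp u v = CfsgLib.Lie.Sp.bf m K u v := by
  rw [pp_sum, CfsgLib.Lie.Sp.bf_apply]
  refine Finset.sum_congr rfl fun i _ => ?_
  rw [CharTwo.sub_eq_add]
  ring

theorem pp_comm (u v : W m) : pp u v = pp v u := by simp only [pp, add_comm u v]; ring

theorem pp_add (u v w : W m) : pp (u + v) w = pp u w + pp v w := by simp [pp_bf]

theorem pp_self (u : W m) : pp u u = 0 := by rw [pp_bf, CfsgLib.Lie.Sp.bf_self]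

theorem cases_two (a : K) : a = 0 ∨ a = 1 := by revert a; decide

theorem mul_self_two (a : K) : a * a = a := by revert a; decide

theorem add_self_two (a : K) : a + a = 0 := CharTwo.add_self_eq_zero a

def Compat (q : W m → K) : Prop := ∀ u v, q (u + v) = q u + q v + pp u v

theorem compat_plus : Compat (Cfsg.quadFormPlus m K) := fun u v => by rw [pp]; ring

theorem compat_shift {q : W m → K} (hq : Compat q) (w : W m) : Compat fun v => q v + pp v w := fun u v => by
  simp only [hq u v, pp_add]; ring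

theorem compat_zero {q : W m → K} (hq : Compat q) : q 0 = 0 := by
  have h := hq 0 0
  rw [add_zero, pp_self, add_zero, add_self_two] at h
  exact h

/-- the sign -/
def sg (a : K) : ℤ := if a = 0 then 1 else -1

theorem sg_add (a b : K) : sg (a + b) = sg a * sg b := by revert a b; decide

/-- the signed number of values -/
def total (q : W m → K) : ℤ := ∑ v, sg (q v)

theorem total_shift {q : W m → K} (hq : Compat q) (w : W m) :
    total (fun v => q v + pp v w) = sg (q w) * total q := by
  rw [total, total, Finset.mul_sum, ← Equiv.sum_comp (Equiv.addRight w) fun v => sg (q w) * sg (q v)]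
  refine Finset.sum_congr rfl fun v _ => ?_
  rw [Equiv.coe_addRight, hq v w, ← sg_add]
  congr 1
  linear_combination -(add_self_two (q w))

theorem exists_pp_one {w : W m} (hw : w ≠ 0) : ∃ x, pp x w = 1 := by
  obtain ⟨x, hx⟩ := CfsgLib.Lie.Sp.exists_bf_eq_one hw
  exact ⟨x, by rw [pp_comm, pp_bf, hx]⟩

theorem total_sq {q : W m → K} (hq : Compat q) : total q * total q = Fintype.card (W m) := by
  have h1 : total q * total q = ∑ w, sg (q w) * ∑ u, sg (pp u w) := by
    rw [total, Finset.sum_mul_sum]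
    simp only [Finset.mul_sum]
    rw [Finset.sum_comm (f := fun w u => sg (q w) * sg (pp u w))]
    refine Finset.sum_congr rfl fun u _ => ?_
    rw [← Equiv.sum_comp (Equiv.addLeft u)]
    refine Finset.sum_congr rfl fun v _ => ?_
    rw [Equiv.coe_addLeft, hq u v, ← sg_add, ← sg_add]
    congr 1
    linear_combination add_self_two (q u)
  rw [h1, Finset.sum_eq_single 0]
  · simp [compat_zero hq, sg, pp]
    simp [Cfsg.quadFormPlus]
  · intro w _ hw
    obtain ⟨x, hx⟩ := exists_pp_one hw
    have h2 : ∑ u, sg (pp u w) = -∑ u, sg (pp u w) := by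
      conv_lhs => rw [← Equiv.sum_comp (Equiv.addRight x)]
      rw [← Finset.sum_neg_distrib]
      refine Finset.sum_congr rfl fun u _ => ?_
      rw [Equiv.coe_addRight, pp_add, sg_add, hx]
      simp [sg]
    rw [show ∑ u, sg (pp u w) = 0 by omega, mul_zero]
  · simp

theorem total_ne_zero {q : W m → K} (hq : Compat q) : total q ≠ 0 := fun h => by
  have := total_sq hq
  rw [h, mul_zero] at this
  exact_mod_cast absurd this.symm (by simp)

theorem total_congr {q q' : W m → K} (g : W m ≃ W m) (h : ∀ v, q' v = q (g v)) : total q' = total q := by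
  rw [total, total, ← Equiv.sum_comp g fun v => sg (q v)]
  exact Finset.sum_congr rfl fun v _ => by rw [h]

/-- the transvection -/
def tv (w : W m) : W m ≃ₗ[K] W m where
  toFun v := v + pp v w • w
  map_add' x y := by rw [pp_add, add_smul]; abel
  map_smul' c x := by
    rw [RingHom.id_apply, smul_add, smul_smul, pp_bf, pp_bf, map_smul]
    rfl
  invFun v := v + pp v w • w
  left_inv v := by
    show v + pp v w • w + pp (v + pp v w • w) w • w = v
    have : pp (v + pp v w • w) w = pp v w := by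
      rw [pp_add, pp_bf (pp v w • w), map_smul, LinearMap.smul_apply, CfsgLib.Lie.Sp.bf_self, smul_zero, add_zero]
    rw [this, add_assoc, ← add_smul, add_self_two, zero_smul, add_zero]
  right_inv v := by
    show v + pp v w • w + pp (v + pp v w • w) w • w = v
    have : pp (v + pp v w • w) w = pp v w := by
      rw [pp_add, pp_bf (pp v w • w), map_smul, LinearMap.smul_apply, CfsgLib.Lie.Sp.bf_self, smul_zero, add_zero]
    rw [this, add_assoc, ← add_smul, add_self_two, zero_smul, add_zero]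

theorem tv_eq {q : W m → K} (hq : Compat q) {w : W m} (hw : q w = 0) (v : W m) : q v + pp v w = q (tv w v) := by
  show _ = q (v + pp v w • w)
  rcases cases_two (pp v w) with h | h <;> simp [h, hq v w, hw]

theorem shift_iff {q : W m → K} (hq : Compat q) (w : W m) :
    (∃ g : W m ≃ₗ[K] W m, ∀ v, q v + pp v w = q (g v)) ↔ q w = 0 := by
  refine ⟨fun ⟨g, hg⟩ => ?_, fun h => ⟨tv w, tv_eq hq h⟩⟩
  by_contra h
  have h1 := total_shift hq w
  rw [total_congr g.toEquiv hg] at h1
  rw [show sg (q w) = -1 by rw [sg, if_neg h]] at h1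
  exact total_ne_zero hq (by omega)

/-- the anisotropic vector -/
def w₀ (k : ℕ) : W (k + 1) := Sum.elim (Pi.single (Fin.last k) 1) (Pi.single (Fin.last k) 1)

theorem plus_w₀ (k : ℕ) : Cfsg.quadFormPlus (k + 1) K (w₀ k) = 1 := by
  simp [Cfsg.quadFormPlus, w₀, Pi.single_apply]

/-- index bijection -/
def idx (k : ℕ) : (Fin k ⊕ Fin k) ⊕ Fin 2 ≃ Fin (k + 1) ⊕ Fin (k + 1) where
  toFun x := Sum.elim (Sum.elim (fun i => .inl i.castSucc) (fun i => .inr i.castSucc))
    (fun j => if j = 0 then .inl (Fin.last k) else .inr (Fin.last k)) x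
  invFun y := Sum.elim (fun i => Fin.lastCases (Sum.inr 0) (fun j => .inl (.inl j)) i)
    (fun i => Fin.lastCases (Sum.inr 1) (fun j => .inl (.inr j)) i) y
  left_inv x := by
    rcases x with (i | i) | i
    · simp
    · simp
    · fin_cases i <;> simp
  right_inv y := by
    rcases y with i | i <;> refine Fin.lastCases ?_ (fun j => ?_) i <;> simp

theorem minus_eq {k : ℕ} (v : W (k + 1)) :
    Cfsg.quadFormMinus k K 1 1 (LinearEquiv.funCongrLeft K K (idx k) v) =
      Cfsg.quadFormPlus (k + 1) K v + pp v (w₀ k) := by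
  rw [pp_sum]
  simp [Cfsg.quadFormMinus, Cfsg.quadFormPlus, idx, LinearMap.funLeft, w₀, Fin.sum_univ_castSucc, Pi.single_apply,
    Fin.castSucc_ne_last, sq, mul_self_two]
  ring

/-- every compatible form is a shift of the plus form -/
theorem exists_shift {q : W m → K} (hq : Compat q) :
    ∃ w, q = fun v => Cfsg.quadFormPlus m K v + pp v w := by
  let L : W m →+ K := AddMonoidHom.mk' (fun v => q v + Cfsg.quadFormPlus m K v) fun u v => by
    rw [hq u v, compat_plus u v]
    linear_combination add_self_two (pp u v)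
  let Ll : W m →ₗ[K] K := L.toZModLinearMap 2
  let w : W m := Sum.elim (fun i => L (Pi.single (.inr i) 1)) (fun i => L (Pi.single (.inl i) 1))
  refine ⟨w, funext fun v => ?_⟩
  have h : Ll = (CfsgLib.Lie.Sp.bf m K).flip w := by
    refine LinearMap.pi_ext fun i x => ?_
    rcases cases_two x with rfl | rfl
    · simp
    · rw [LinearMap.flip_apply, ← pp_bf, pp_sum]
      rcases i with i | i <;> simp [Ll, w, Pi.single_apply]
  have := LinearMap.congr_fun h v
  rw [LinearMap.flip_apply, ← pp_bf] at this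
  change q v + Cfsg.quadFormPlus m K v = pp v w at this
  linear_combination this - add_self_two (Cfsg.quadFormPlus m K v)

theorem shift_injective : Function.Injective fun (w : W m) (v : W m) => Cfsg.quadFormPlus m K v + pp v w := by
  intro a b h
  by_contra hne
  obtain ⟨x, hx⟩ := exists_pp_one (sub_ne_zero.2 hne)
  have := congrFun h x
  rw [add_right_inj, pp_bf, pp_bf] at this
  rw [pp_bf, map_sub, this, sub_self] at hx
  exact zero_ne_one hx

theorem plus_type_iff (w : W m) :
    (∃ g : W m ≃ₗ[K] W m, ∀ v, Cfsg.quadFormPlus m K v + pp v w = Cfsg.quadFormPlus m K (g v)) ↔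
      Cfsg.quadFormPlus m K w = 0 := shift_iff compat_plus w

theorem minus_type_iff {k : ℕ} (w : W (k + 1)) :
    (∃ g : W (k + 1) ≃ₗ[K] ((Fin k ⊕ Fin k) ⊕ Fin 2 → K),
      ∀ v, Cfsg.quadFormPlus (k + 1) K v + pp v w = Cfsg.quadFormMinus k K 1 1 (g v)) ↔
      Cfsg.quadFormPlus (k + 1) K w = 1 := by
  set P := Cfsg.quadFormPlus (k + 1) K
  set e := LinearEquiv.funCongrLeft K K (idx k)
  have hq' := compat_shift (compat_plus (m := k + 1)) (w₀ k)
  constructor
  · rintro ⟨g, hg⟩
    refine (cases_two (P w)).resolve_left fun h => ?_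
    obtain ⟨g₁, hg₁⟩ := (plus_type_iff w).2 h
    have h1 : ∃ g₂ : W (k + 1) ≃ₗ[K] W (k + 1), ∀ v, P v + pp v (w₀ k) = P (g₂ v) :=
      ⟨(e.trans g.symm).trans g₁, fun v => by
        rw [← minus_eq]
        have := hg (g.symm (e v))
        rw [g.apply_symm_apply] at this
        rw [← this]
        exact hg₁ _⟩
    rw [plus_type_iff, plus_w₀] at h1
    exact one_ne_zero h1
  · intro h
    have hz : (fun v => P v + pp v (w₀ k)) (w + w₀ k) = 0 := by
      show P (w + w₀ k) + pp (w + w₀ k) (w₀ k) = 0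
      rw [show P (w + w₀ k) = P w + P (w₀ k) + pp w (w₀ k) from compat_plus w _, h, show P (w₀ k) = 1 from plus_w₀ k,
        pp_add, pp_self]
      linear_combination add_self_two (1 : K) + add_self_two (pp w (w₀ k))
    refine ⟨(tv (w + w₀ k)).trans e, fun v => ?_⟩
    have := tv_eq hq' hz v
    rw [LinearEquiv.trans_apply, minus_eq, ← this]
    rw [pp_comm v (w + w₀ k), pp_add, pp_comm w v, pp_comm (w₀ k) v]
    linear_combination -(add_self_two (pp v (w₀ k)))

theorem total_plus : total (Cfsg.quadFormPlus m K) = 2 ^ m := by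
  let e : (Fin m → K × K) ≃ W m :=
    { toFun := fun f => Sum.elim (fun i => (f i).1) (fun i => (f i).2)
      invFun := fun v i => (v (.inl i), v (.inr i))
      left_inv := fun f => rfl
      right_inv := fun v => by funext i; cases i <;> rfl }
  have hs : ∀ (s : Finset (Fin m)) (a : Fin m → K), sg (∑ i ∈ s, a i) = ∏ i ∈ s, sg (a i) := by
    intro s a
    induction s using Finset.induction_on with
    | empty => simp [sg]
    | insert j s hj ih => rw [Finset.sum_insert hj, Finset.prod_insert hj, sg_add, ih]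
  rw [total, ← Equiv.sum_comp e]
  simp only [Cfsg.quadFormPlus, hs]
  change ∑ f : Fin m → K × K, ∏ i, sg ((f i).1 * (f i).2) = _
  rw [← Fintype.prod_sum fun _ (p : K × K) => sg (p.1 * p.2)]
  rw [show ∑ p : K × K, sg (p.1 * p.2) = 2 by decide, Finset.prod_const, Finset.card_univ, Fintype.card_fin]

theorem card_W : Nat.card (W m) = 2 ^ (2 * m) := by
  simp [Nat.card_eq_fintype_card, two_mul]

theorem card_values (hm : 1 ≤ m) :
    Nat.card {w : W m // Cfsg.quadFormPlus m K w = 0} = 2 ^ (2 * m - 1) + 2 ^ (m - 1) ∧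
      Nat.card {w : W m // Cfsg.quadFormPlus m K w = 1} = 2 ^ (2 * m - 1) - 2 ^ (m - 1) := by
  classical
  set P := Cfsg.quadFormPlus m K
  have h1 : total P = (Nat.card {w : W m // P w = 0} : ℤ) - Nat.card {w : W m // P w = 1} := by
    have hP : ∀ v, sg (P v) = (if P v = 0 then (1 : ℤ) else 0) - (if P v = 1 then 1 else 0) := fun v => by
      rcases cases_two (P v) with h | h <;> simp [h, sg]
    simp only [total, hP, Finset.sum_sub_distrib, Finset.sum_boole, Nat.card_eq_fintype_card, Fintype.card_subtype]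
  have h2 : Nat.card {w : W m // P w = 0} + Nat.card {w : W m // P w = 1} = 2 ^ (2 * m) := by
    rw [← card_W (m := m), ← Nat.card_sum]
    refine Nat.card_congr ((Equiv.sumCongr (Equiv.refl _) (Equiv.subtypeEquivRight fun w => ?_)).trans
      (Equiv.sumCompl fun w => P w = 0))
    rcases cases_two (P w) with h | h <;> simp [h]
  rw [total_plus] at h1
  have e1 : 2 ^ (2 * m) = 2 ^ (2 * m - 1) * 2 := by rw [← pow_succ, show 2 * m - 1 + 1 = 2 * m by omega]
  have e2 : (2 : ℤ) ^ m = ((2 ^ (m - 1) : ℕ) : ℤ) * 2 := by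
    push_cast
    rw [← pow_succ, show m - 1 + 1 = m by omega]
  rw [e2] at h1
  rw [e1] at h2
  have hle : 2 ^ (m - 1) ≤ 2 ^ (2 * m - 1) := Nat.pow_le_pow_right two_pos (by omega)
  omega

theorem count (hm : 1 ≤ m) (p : (W m → K) → Prop) (c : K)
    (hp : ∀ w, p (fun v => Cfsg.quadFormPlus m K v + pp v w) ↔ Cfsg.quadFormPlus m K w = c) :
    Nat.card {q : W m → K // Compat q ∧ p q} = Nat.card {w : W m // Cfsg.quadFormPlus m K w = c} := by
  refine (Nat.card_eq_of_bijective
    (fun w => ⟨fun v => Cfsg.quadFormPlus m K v + pp v w.1, compat_shift compat_plus _, (hp _).2 w.2⟩) ⟨?_, ?_⟩).symm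
  · intro a b h
    exact Subtype.ext (shift_injective (congrArg Subtype.val h))
  · rintro ⟨q, hq, hpq⟩
    obtain ⟨w, rfl⟩ := exists_shift hq
    exact ⟨⟨w, (hp w).1 hpq⟩, rfl⟩

theorem main (k : ℕ) :
    Nat.card {q : W (k + 1) → K // Compat q} = 2 ^ (2 * (k + 1)) ∧
    (∀ q : W (k + 1) → K, Compat q →
      (∃ g : W (k + 1) ≃ₗ[K] W (k + 1), ∀ v, q v = Cfsg.quadFormPlus (k + 1) K (g v)) ∨
      (∃ g : W (k + 1) ≃ₗ[K] ((Fin k ⊕ Fin k) ⊕ Fin 2 → K), ∀ v, q v = Cfsg.quadFormMinus k K 1 1 (g v))) ∧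
    Nat.card {q : W (k + 1) → K // Compat q ∧
      ∃ g : W (k + 1) ≃ₗ[K] W (k + 1), ∀ v, q v = Cfsg.quadFormPlus (k + 1) K (g v)} =
        2 ^ (2 * (k + 1) - 1) + 2 ^ (k + 1 - 1) ∧
    Nat.card {q : W (k + 1) → K // Compat q ∧
      ∃ g : W (k + 1) ≃ₗ[K] ((Fin k ⊕ Fin k) ⊕ Fin 2 → K), ∀ v, q v = Cfsg.quadFormMinus k K 1 1 (g v)} =
        2 ^ (2 * (k + 1) - 1) - 2 ^ (k + 1 - 1) := by
  refine ⟨?_, fun q hq => ?_, ?_, ?_⟩
  · rw [← card_W]
    refine (Nat.card_eq_of_bijective
      (fun w => ⟨fun v => Cfsg.quadFormPlus _ K v + pp v w, compat_shift compat_plus _⟩) ⟨?_, ?_⟩).symm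
    · intro a b h
      exact shift_injective (congrArg Subtype.val h)
    · rintro ⟨q, hq⟩
      obtain ⟨w, rfl⟩ := exists_shift hq
      exact ⟨w, rfl⟩
  · obtain ⟨w, rfl⟩ := exists_shift hq
    rcases cases_two (Cfsg.quadFormPlus (k + 1) K w) with h | h
    · exact Or.inl ((plus_type_iff w).2 h)
    · exact Or.inr ((minus_type_iff w).2 h)
  · rw [← (card_values (by omega)).1]
    exact count (by omega) _ 0 fun w => plus_type_iff w
  · rw [← (card_values (by omega)).2]
    exact count (by omega) _ 1 fun w => minus_type_iff w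

/-- totally singular subspaces of the minus form -/
theorem minus_singular_le {F : Type*} [Field F] {n : ℕ} (ζ : F) (hζ : ∀ t : F, t ^ 2 + t + ζ ≠ 0)
    (U : Submodule F ((Fin n ⊕ Fin n) ⊕ Fin 2 → F)) (hU : ∀ w ∈ U, Cfsg.quadFormMinus n F 1 ζ w = 0) :
    Module.finrank F U ≤ n := by
  classical
  let πy : U →ₗ[F] (Fin n → F) :=
    (LinearMap.funLeft F F (fun i : Fin n => (Sum.inl (Sum.inr i) : (Fin n ⊕ Fin n) ⊕ Fin 2))).comp U.subtype
  let πx : U →ₗ[F] (Fin n → F) :=
    (LinearMap.funLeft F F (fun i : Fin n => (Sum.inl (Sum.inl i) : (Fin n ⊕ Fin n) ⊕ Fin 2))).comp U.subtype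
  have hker : ∀ w : U, w ∈ LinearMap.ker πy →
      (w : (Fin n ⊕ Fin n) ⊕ Fin 2 → F) (.inr 0) = 0 ∧ (w : (Fin n ⊕ Fin n) ⊕ Fin 2 → F) (.inr 1) = 0 := by
    intro w hw
    have h0 : ∀ i, (w : (Fin n ⊕ Fin n) ⊕ Fin 2 → F) (.inl (.inr i)) = 0 := fun i => congrFun (LinearMap.mem_ker.1 hw) i
    have := hU _ w.2
    simp only [Cfsg.quadFormMinus, h0, mul_zero, Finset.sum_const_zero, zero_add, one_mul] at this
    by_cases h1 : (w : (Fin n ⊕ Fin n) ⊕ Fin 2 → F) (.inr 1) = 0
    · rw [h1] at this
      simp at this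
      exact ⟨this, h1⟩
    · exfalso
      refine hζ ((w : (Fin n ⊕ Fin n) ⊕ Fin 2 → F) (.inr 0) / (w : (Fin n ⊕ Fin n) ⊕ Fin 2 → F) (.inr 1)) ?_
      field_simp
      linear_combination this
  let A := (LinearMap.ker πy).map πx
  have hA : Module.finrank F A = Module.finrank F (LinearMap.ker πy) := by
    refine LinearMap.finrank_range_of_inj (f := πx.comp (LinearMap.ker πy).subtype) ?_ ▸ ?_
    · rintro ⟨w, hw⟩ ⟨w', hw'⟩ e
      refine Subtype.ext (Subtype.ext (funext fun i => ?_))
      rcases i with (i | i) | i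
      · exact congrFun e i
      · exact (congrFun (LinearMap.mem_ker.1 hw) i).trans (congrFun (LinearMap.mem_ker.1 hw') i).symm
      · fin_cases i
        · exact (hker w hw).1.trans (hker w' hw').1.symm
        · exact (hker w hw).2.trans (hker w' hw').2.symm
    · rw [LinearMap.range_comp, Submodule.range_subtype]
  have hperp : (LinearMap.range πy).map (dotProductEquiv F (Fin n)).toLinearMap ≤ A.dualAnnihilator := by
    rintro _ ⟨_, ⟨w, rfl⟩, rfl⟩
    rw [Submodule.mem_dualAnnihilator]
    rintro _ ⟨u, hu, rfl⟩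
    have hu0 : ∀ i, (u : (Fin n ⊕ Fin n) ⊕ Fin 2 → F) (.inl (.inr i)) = 0 := fun i => congrFun (LinearMap.mem_ker.1 hu) i
    obtain ⟨hz0, hz1⟩ := hker u hu
    have e1 := hU _ (U.add_mem w.2 u.2)
    have e2 := hU _ w.2
    simp [Cfsg.quadFormMinus, hu0, hz0, hz1, Pi.add_apply, add_mul, Finset.sum_add_distrib] at e1 e2
    show ∑ i, (w : (Fin n ⊕ Fin n) ⊕ Fin 2 → F) (.inl (.inr i)) * (u : (Fin n ⊕ Fin n) ⊕ Fin 2 → F) (.inl (.inl i)) = 0
    rw [Finset.sum_congr rfl fun i _ => mul_comm _ _]
    linear_combination e1 - e2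
  have h1 := Submodule.finrank_mono hperp
  rw [LinearEquiv.finrank_map_eq] at h1
  have h2 := Subspace.finrank_add_finrank_dualAnnihilator_eq A
  have h3 := LinearMap.finrank_range_add_finrank_ker πy
  rw [Module.finrank_fin_fun, hA] at h2
  omega

theorem plus_singular_le (U : Submodule K (W m)) (hU : ∀ u ∈ U, Cfsg.quadFormPlus m K u = 0) :
    Module.finrank K U ≤ m := by
  have hle : U.map (CfsgLib.Lie.Sp.bf m K) ≤ U.dualAnnihilator := by
    rintro _ ⟨u, hu, rfl⟩
    rw [Submodule.mem_dualAnnihilator]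
    intro v hv
    rw [← pp_bf, pp, hU _ (U.add_mem hu hv), hU _ hu, hU _ hv, sub_zero, sub_zero]
  have hinj : Function.Injective (CfsgLib.Lie.Sp.bf m K) := by
    refine (injective_iff_map_eq_zero _).2 fun u hu => ?_
    by_contra h
    obtain ⟨x, hx⟩ := CfsgLib.Lie.Sp.exists_bf_eq_one h
    rw [hu] at hx
    exact zero_ne_one hx
  have h1 := Submodule.finrank_mono hle
  rw [← (Submodule.equivMapOfInjective _ hinj U).finrank_eq] at h1
  have h2 : Module.finrank K U + Module.finrank K U.dualAnnihilator = m + m := by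
    have := Subspace.finrank_add_finrank_dualAnnihilator_eq U
    rw [Module.finrank_pi, Fintype.card_sum, Fintype.card_fin] at this
    exact this
  generalize hA : Module.finrank K U.dualAnnihilator = a at h2
  have h3 : Module.finrank K U ≤ a := hA ▸ h1
  omega

theorem singular_dims (k : ℕ) :
    (∃ U : Submodule K (W (k + 1)), (∀ u ∈ U, Cfsg.quadFormPlus (k + 1) K u = 0) ∧ Module.finrank K U = k + 1) ∧
    (∀ U : Submodule K (W (k + 1)), (∀ u ∈ U, Cfsg.quadFormPlus (k + 1) K u = 0) → Module.finrank K U ≤ k + 1) ∧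
    (∃ U : Submodule K ((Fin k ⊕ Fin k) ⊕ Fin 2 → K),
      (∀ u ∈ U, Cfsg.quadFormMinus k K 1 1 u = 0) ∧ Module.finrank K U = k) ∧
    (∀ U : Submodule K ((Fin k ⊕ Fin k) ⊕ Fin 2 → K),
      (∀ u ∈ U, Cfsg.quadFormMinus k K 1 1 u = 0) → Module.finrank K U ≤ k) := by
  refine ⟨?_, fun U hU => plus_singular_le U hU, ?_, fun U hU => minus_singular_le 1 (by decide) U hU⟩
  · let X : (Fin (k + 1) → K) →ₗ[K] W (k + 1) :=
      { toFun := fun x => Sum.elim x 0
        map_add' := fun x y => by funext i; cases i <;> simp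
        map_smul' := fun c x => by funext i; cases i <;> simp }
    refine ⟨LinearMap.range X, ?_, ?_⟩
    · rintro _ ⟨x, rfl⟩; simp [X, Cfsg.quadFormPlus]
    · rw [LinearMap.finrank_range_of_inj fun x y e => funext fun i => congrFun e (.inl i), Module.finrank_fin_fun]
  · let X : (Fin k → K) →ₗ[K] ((Fin k ⊕ Fin k) ⊕ Fin 2 → K) :=
      { toFun := fun x => Sum.elim (Sum.elim x 0) 0
        map_add' := fun x y => by funext i; rcases i with (i | i) | i <;> simp
        map_smul' := fun c x => by funext i; rcases i with (i | i) | i <;> simp }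
    refine ⟨LinearMap.range X, ?_, ?_⟩
    · rintro _ ⟨x, rfl⟩; simp [X, Cfsg.quadFormMinus]
    · rw [LinearMap.finrank_range_of_inj fun x y e => funext fun i => congrFun e (.inl (.inl i)), Module.finrank_fin_fun]

end CfsgLib.MiscFormsTwo
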