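import Mathlib
import Cfsg.Agent.Lie.Orders

/-! Sylow subgroups of GL and SL at primes larger than the degree. -/

set_option autoImplicit false
set_option linter.unusedSectionVars false

namespace CfsgLib.Misc.GLAbelianSylow

variable {r : ℕ} [hr : Fact r.Prime]

theorem one_le_orderOf {q : ℕ} (hrq : ¬ r ∣ q) : 1 ≤ orderOf (q : ZMod r) := by
  have hq : (q : ZMod r) ≠ 0 := by rwa [Ne, ZMod.natCast_eq_zero_iff]
  exact orderOf_pos_iff.2 (isOfFinOrder_iff_pow_eq_one.2
    ⟨r - 1, by have := hr.out.two_le; omega, ZMod.pow_card_sub_one_eq_one hq⟩)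

theorem dvd_pow_sub_one {q : ℕ} (hq : 1 ≤ q) (m : ℕ) :
    r ∣ q ^ m - 1 ↔ orderOf (q : ZMod r) ∣ m := by
  rw [← ZMod.natCast_eq_zero_iff, Nat.cast_sub (Nat.one_le_pow _ _ hq), Nat.cast_one, sub_eq_zero,
    Nat.cast_pow, orderOf_dvd_iff_pow_eq_one]

theorem val_cyclotomic {q : ℕ} (hq : 2 ≤ q) (hrq : ¬ r ∣ q) :
    padicValNat r ((Polynomial.cyclotomic (orderOf (q : ZMod r)) ℤ).eval (q : ℤ)).natAbs =
      (q ^ orderOf (q : ZMod r) - 1).factorization r := by
  set d := orderOf (q : ZMod r) with hd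
  have hd1 : 1 ≤ d := one_le_orderOf hrq
  have hprod := congrArg (Polynomial.eval (q : ℤ)) (Polynomial.prod_cyclotomic_eq_X_pow_sub_one hd1 ℤ)
  rw [Polynomial.eval_prod, Polynomial.eval_sub, Polynomial.eval_pow, Polynomial.eval_X, Polynomial.eval_one] at hprod
  have hcast : (q : ℤ) ^ d - 1 = ((q ^ d - 1 : ℕ) : ℤ) := by
    rw [Nat.cast_sub (Nat.one_le_pow _ _ (by omega))]; push_cast; ring
  rw [hcast] at hprod
  have habs := congrArg Int.natAbs hprod
  rw [Int.natAbs_natCast, show (∏ i ∈ d.divisors, Polynomial.eval (q : ℤ) (Polynomial.cyclotomic i ℤ)).natAbs =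
    ∏ i ∈ d.divisors, (Polynomial.eval (q : ℤ) (Polynomial.cyclotomic i ℤ)).natAbs from map_prod Int.natAbsHom _ _] at habs
  have hpos : q ^ d - 1 ≠ 0 := by
    have := Nat.one_lt_pow (show d ≠ 0 by omega) hq
    omega
  have hne : ∀ i ∈ d.divisors, (Polynomial.eval (q : ℤ) (Polynomial.cyclotomic i ℤ)).natAbs ≠ 0 := by
    intro i hi h0
    rw [Finset.prod_eq_zero hi h0] at habs
    exact hpos habs.symm
  rw [← habs, Nat.factorization_prod_apply hne, Finset.sum_eq_single d, Nat.factorization_def _ hr.out]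
  · intro i hi hid
    refine Nat.factorization_eq_zero_of_not_dvd fun h => hid ?_
    have hi' := Nat.mem_divisors.1 hi
    have h' : (r : ℤ) ∣ Polynomial.eval (q : ℤ) (Polynomial.cyclotomic i ℤ) := Int.natCast_dvd.2 h
    have h2 : (r : ℤ) ∣ ((q ^ i - 1 : ℕ) : ℤ) := by
      refine h'.trans ?_
      have := Polynomial.eval_dvd (x := (q : ℤ)) (Polynomial.cyclotomic.dvd_X_pow_sub_one i ℤ)
      rw [Nat.cast_sub (Nat.one_le_pow _ _ (by omega))]
      simpa using this
    exact Nat.dvd_antisymm hi'.1 ((dvd_pow_sub_one (by omega) i).1 (Int.natCast_dvd_natCast.1 h2))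
  · intro h
    exact absurd (Nat.mem_divisors.2 ⟨dvd_rfl, by omega⟩) h

theorem val_pow {q : ℕ} (hq : 2 ≤ q) (hrq : ¬ r ∣ q) {m : ℕ} (hm : 1 ≤ m) (hmr : m < r) :
    (q ^ m - 1).factorization r = if orderOf (q : ZMod r) ∣ m then
      (q ^ orderOf (q : ZMod r) - 1).factorization r else 0 := by
  set d := orderOf (q : ZMod r) with hd
  have hd1 : 1 ≤ d := one_le_orderOf hrq
  split_ifs with h
  · obtain ⟨j, rfl⟩ := h
    set x := q ^ d with hx
    have hx2 : 2 ≤ x := le_trans hq (Nat.le_self_pow (by omega) _)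
    have hj : 1 ≤ j := Nat.pos_of_mul_pos_left hm
    have hjr : j < r := lt_of_le_of_lt (Nat.le_mul_of_pos_left _ hd1) hmr
    have hgs : q ^ (d * j) - 1 = (∑ i ∈ Finset.range j, x ^ i) * (x - 1) := by
      rw [pow_mul, ← hx]
      have h1 := geom_sum_mul_add (x - 1) j
      rw [Nat.sub_add_cancel (by omega : 1 ≤ x)] at h1
      omega
    have hS : ¬ r ∣ ∑ i ∈ Finset.range j, x ^ i := by
      rw [← ZMod.natCast_eq_zero_iff, Nat.cast_sum]
      have hx1 : (x : ZMod r) = 1 := by rw [hx, Nat.cast_pow, hd, pow_orderOf_eq_one]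
      simp only [Nat.cast_pow, hx1, one_pow, Finset.sum_const, Finset.card_range, nsmul_eq_mul, mul_one]
      rw [ZMod.natCast_eq_zero_iff]
      intro h
      have := Nat.le_of_dvd hj h
      omega
    have hS0 : (∑ i ∈ Finset.range j, x ^ i) ≠ 0 := fun h => hS (h ▸ dvd_zero r)
    rw [hgs, Nat.factorization_mul hS0 (by omega), Finsupp.add_apply,
      Nat.factorization_eq_zero_of_not_dvd hS, zero_add]
  · exact Nat.factorization_eq_zero_of_not_dvd fun h' => h ((dvd_pow_sub_one (by omega) m).1 h')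

variable {F : Type*} [Field F] [Fintype F]

theorem factorization_GL {q : ℕ} (hq : Fintype.card F = q) (hrq : ¬ r ∣ q) (n : ℕ) (hrn : n < r) :
    (Nat.card (GL (Fin n) F)).factorization r =
      ((Finset.Ioc 0 n).filter (fun i => orderOf (q : ZMod r) ∣ i)).card *
        (q ^ orderOf (q : ZMod r) - 1).factorization r := by
  classical
  have hq2 : 2 ≤ q := hq ▸ Fintype.one_lt_card
  rw [Matrix.card_GL_field, hq, Nat.factorization_prod_apply fun i _ => (Nat.sub_pos_of_lt (Nat.pow_lt_pow_right hq2 i.2)).ne']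
  have hv : ∀ i : Fin n, (q ^ n - q ^ (i : ℕ)).factorization r =
      if orderOf (q : ZMod r) ∣ n - i then (q ^ orderOf (q : ZMod r) - 1).factorization r else 0 := by
    intro i
    have hi := i.2
    rw [← val_pow hq2 hrq (m := n - i) (by omega) (by omega),
      show q ^ n - q ^ (i : ℕ) = q ^ (i : ℕ) * (q ^ (n - (i : ℕ)) - 1) by
        rw [Nat.mul_sub, mul_one, ← pow_add, Nat.add_sub_cancel' hi.le],
      Nat.factorization_mul (pow_ne_zero _ (by omega))
        (by have := Nat.one_lt_pow (show n - (i : ℕ) ≠ 0 by omega) hq2; omega),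
      Finsupp.add_apply, Nat.factorization_pow, Finsupp.smul_apply, Nat.factorization_eq_zero_of_not_dvd hrq,
      smul_zero, zero_add]
  rw [Finset.sum_congr rfl fun i _ => hv i, ← Finset.sum_filter, Finset.sum_const, smul_eq_mul]
  congr 1
  refine Finset.card_bij (fun i _ => n - (i : ℕ)) (fun i hi => ?_) (fun a _ b _ h => Fin.ext ?_) (fun m hm => ?_)
  · simp at hi ⊢
    exact hi
  · have := a.2; have := b.2; omega
  · simp at hm
    refine ⟨⟨n - m, by omega⟩, ?_, ?_⟩
    · simp [Nat.sub_sub_self hm.1.2, hm.2]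
    · simp [Nat.sub_sub_self hm.1.2]

/-- Embedding of the cyclic group of order `r ^ e` into GL of degree `d`. -/
theorem exists_cyclic {q : ℕ} (hq : Fintype.card F = q) (d : ℕ) (hd : 1 ≤ d) :
    ∃ ψ : Multiplicative (ZMod (r ^ (q ^ d - 1).factorization r)) →* GL (Fin d) F, Function.Injective ψ := by
  classical
  obtain ⟨p, hp⟩ := CharP.exists F
  haveI : Fact p.Prime := ⟨CharP.char_is_prime F p⟩
  haveI : NeZero d := ⟨by omega⟩
  let K := FiniteField.Extension F p d
  haveI : Fintype K := Fintype.ofFinite K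
  have hK : Nat.card Kˣ = q ^ d - 1 := by
    have h := Nat.card_eq_card_units_add_one K
    rw [FiniteField.natCard_extension F p d, Nat.card_eq_fintype_card, hq] at h
    omega
  obtain ⟨g, hg⟩ := IsCyclic.exists_generator (α := Kˣ)
  have hord : orderOf g = q ^ d - 1 := by rw [orderOf_eq_card_of_forall_mem_zpowers hg, hK]
  set e := (q ^ d - 1).factorization r
  have hdvd : r ^ e ∣ orderOf g := hord ▸ Nat.ordProj_dvd _ _
  let x := g ^ (orderOf g / r ^ e)
  have hx : orderOf x = r ^ e := by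
    have h0 : orderOf g ≠ 0 := (orderOf_pos g).ne'
    rw [orderOf_pow_orderOf_div h0 hdvd]
  have hz : Nat.card (Subgroup.zpowers x) = r ^ e := by rw [Nat.card_zpowers, hx]
  let j : Multiplicative (ZMod (r ^ e)) ≃* Subgroup.zpowers x :=
    hz ▸ zmodCyclicMulEquiv (inferInstance : IsCyclic (Subgroup.zpowers x))
  let i₁ : Multiplicative (ZMod (r ^ e)) →* Kˣ :=
    (Subgroup.zpowers x).subtype.comp j.toMonoidHom
  let b := (Module.finBasisOfFinrankEq F K (FiniteField.finrank_extension F p d))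
  let i₂ : Kˣ →* GL (Fin d) F := Units.map (Algebra.leftMulMatrix b).toRingHom.toMonoidHom
  have h1 : Function.Injective i₁ := Subtype.val_injective.comp j.injective
  have h2 : Function.Injective i₂ := Units.map_injective (Algebra.leftMulMatrix_injective b)
  refine ⟨i₂.comp i₁, fun a b h => h1 (h2 h)⟩

/-- Block diagonal copies. -/
def block (k d t : ℕ) : (Fin k → GL (Fin d) F) →* GL ((Fin d × Fin k) ⊕ Fin t) F :=
  (Units.map
    { toFun := fun M : Fin k → Matrix (Fin d) (Fin d) F => Matrix.fromBlocks (Matrix.blockDiagonal M) 0 0 1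
      map_one' := by rw [Matrix.blockDiagonal_one, Matrix.fromBlocks_one]
      map_mul' := fun M N => by rw [Matrix.fromBlocks_multiply]; simp [← Matrix.blockDiagonal_mul, Pi.mul_def] }).comp
    MulEquiv.piUnits.symm.toMonoidHom

theorem block_injective (k d t : ℕ) : Function.Injective (block (F := F) k d t) := by
  intro a b h
  funext i
  have h' : Matrix.fromBlocks (Matrix.blockDiagonal fun i => ((a i : GL (Fin d) F) : Matrix (Fin d) (Fin d) F)) 0 0 (1 : Matrix (Fin t) (Fin t) F) =
      Matrix.fromBlocks (Matrix.blockDiagonal fun i => ((b i : GL (Fin d) F) : Matrix (Fin d) (Fin d) F)) 0 0 1 :=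
    congrArg Units.val h
  exact Units.ext (congrFun (Matrix.blockDiagonal_injective (Matrix.fromBlocks_inj.1 h').1) i)

theorem exists_embedding {q : ℕ} (hq : Fintype.card F = q) (n d : ℕ) (hd : 1 ≤ d) :
    ∃ φ : (Fin (n / d) → Multiplicative (ZMod (r ^ (q ^ d - 1).factorization r))) →* GL (Fin n) F,
      Function.Injective φ := by
  classical
  obtain ⟨ψ, hψ⟩ := exists_cyclic (r := r) hq d hd
  let e : ((Fin d × Fin (n / d)) ⊕ Fin (n % d)) ≃ Fin n := Fintype.equivFinOfCardEq (by
    simp [Nat.div_add_mod])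
  refine ⟨(Units.map ((Matrix.reindexAlgEquiv F F e : _ ≃ₐ[F] _) : _ →* _)).comp
    ((block (n / d) d (n % d)).comp (ψ.compLeft (Fin (n / d)))), ?_⟩
  intro a b h
  have h' : block (F := F) (n / d) d (n % d) (fun i => ψ (a i)) = block (n / d) d (n % d) (fun i => ψ (b i)) :=
    Units.ext ((Matrix.reindexAlgEquiv F F e).injective (congrArg Units.val h))
  exact funext fun i => hψ (congrFun (block_injective _ _ _ h') i)

theorem sylow_iso {G H : Type*} [Group G] [Finite G] [Group H] (φ : H →* G) (hφ : Function.Injective φ)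
    (hcard : Nat.card H = r ^ (Nat.card G).factorization r) (P : Sylow r G) :
    Nonempty ((P : Subgroup G) ≃* H) := by
  have hR : Nat.card φ.range = r ^ (Nat.card G).factorization r := by
    rw [← hcard]; exact (Nat.card_congr (MonoidHom.ofInjective hφ).toEquiv).symm
  exact ⟨(P.equiv (Sylow.ofCard φ.range hR)).trans (MonoidHom.ofInjective hφ).symm⟩

theorem card_pow (k e : ℕ) : Nat.card (Fin k → Multiplicative (ZMod (r ^ e))) = r ^ (k * e) := by
  rw [Nat.card_fun, Nat.card_fin, Nat.card_congr Multiplicative.toAdd, Nat.card_zmod, ← pow_mul, mul_comm e]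

theorem filter_card (n d : ℕ) : ((Finset.Ioc 0 n).filter (fun i => d ∣ i)).card = n / d :=
  Nat.Ioc_filter_dvd_card_eq_div n d

theorem gl_sylow {q : ℕ} (hq : Fintype.card F = q) (n : ℕ) (hrn : n < r) (hrq : ¬ r ∣ q)
    (P : Sylow r (GL (Fin n) F)) :
    Nonempty (↥(P : Subgroup (GL (Fin n) F)) ≃*
      (Fin (n / orderOf (q : ZMod r)) →
        Multiplicative (ZMod (r ^ padicValNat r ((Polynomial.cyclotomic (orderOf (q : ZMod r)) ℤ).eval (q : ℤ)).natAbs)))) := by
  have hq2 : 2 ≤ q := hq ▸ Fintype.one_lt_card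
  rw [val_cyclotomic hq2 hrq]
  obtain ⟨φ, hφ⟩ := exists_embedding (r := r) hq n _ (one_le_orderOf hrq)
  refine sylow_iso φ hφ ?_ P
  rw [card_pow, factorization_GL hq hrq n hrn, filter_card]

theorem filter_Icc_two (n d : ℕ) (hn : 1 ≤ n) :
    ((Finset.Ioc 0 n).filter (fun i => d ∣ i)).card =
      ((Finset.Icc 2 n).filter (fun i => d ∣ i)).card + if d = 1 then 1 else 0 := by
  have h : Finset.Ioc 0 n = insert 1 (Finset.Icc 2 n) := by ext x; simp; omega
  rw [h, Finset.filter_insert]
  split_ifs with h1 h2 h2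
  · rw [Finset.card_insert_of_notMem (by simp)]
  · exact absurd (Nat.dvd_one.1 h1) h2
  · exact absurd (h2 ▸ dvd_rfl) h1
  · rfl

theorem sl_card {q : ℕ} (hq : Fintype.card F = q) (n : ℕ) (hrn : n < r) (hrq : ¬ r ∣ q) :
    (Nat.card (Matrix.SpecialLinearGroup (Fin n) F)).factorization r =
      ((Finset.Icc 2 n).filter (fun i => orderOf (q : ZMod r) ∣ i)).card *
        (q ^ orderOf (q : ZMod r) - 1).factorization r := by
  classical
  rcases Nat.eq_zero_or_pos n with rfl | hn
  · rw [Nat.card_unique]; simp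
  haveI : NeZero n := ⟨by omega⟩
  have hq2 : 2 ≤ q := hq ▸ Fintype.one_lt_card
  have h := factorization_GL hq hrq n hrn
  rw [CfsgLib.Lie.Orders.card_GL_eq_mul_card_SL, Nat.card_eq_fintype_card (α := F), hq,
    Nat.factorization_mul (by omega) Nat.card_pos.ne', Finsupp.add_apply, filter_Icc_two n _ hn, add_mul] at h
  have h1 := val_pow (r := r) hq2 hrq (le_refl 1) hr.out.one_lt
  rw [pow_one] at h1
  rw [h1] at h
  by_cases hd : orderOf (q : ZMod r) = 1
  · simp [hd] at h ⊢; omega
  · simp [hd] at h ⊢; omega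

theorem det_eq_one {n e : ℕ} (hr1 : ¬ r ∣ Fintype.card F - 1) {k : ℕ}
    (φ : (Fin k → Multiplicative (ZMod (r ^ e))) →* GL (Fin n) F) (v : Fin k → Multiplicative (ZMod (r ^ e))) :
    ((φ v : GL (Fin n) F) : Matrix (Fin n) (Fin n) F).det = 1 := by
  classical
  have hv : v ^ (r ^ e) = 1 := funext fun i => by
    show (v i) ^ (r ^ e) = 1
    rw [← ofAdd_toAdd (v i), ← ofAdd_nsmul, nsmul_eq_mul, ZMod.natCast_self, zero_mul, ofAdd_zero]
  set u := Matrix.GeneralLinearGroup.det (φ v)
  have h1 : u ^ (r ^ e) = 1 := by rw [← map_pow, ← map_pow, hv, map_one, map_one]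
  have hd := Nat.dvd_gcd (orderOf_dvd_of_pow_eq_one h1) (orderOf_dvd_card (x := u))
  rw [Fintype.card_units, (Nat.Coprime.pow_left e ((Nat.Prime.coprime_iff_not_dvd hr.out).2 hr1)).gcd_eq_one,
    Nat.dvd_one, orderOf_eq_one_iff] at hd
  exact congrArg Units.val hd

theorem sl_embedding {q : ℕ} (hq : Fintype.card F = q) (n : ℕ) (hrn : n < r) (hrq : ¬ r ∣ q) :
    ∃ φ : (Fin ((Finset.Icc 2 n).filter (fun i => orderOf (q : ZMod r) ∣ i)).card →
        Multiplicative (ZMod (r ^ (q ^ orderOf (q : ZMod r) - 1).factorization r))) →*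
        Matrix.SpecialLinearGroup (Fin n) F, Function.Injective φ := by
  classical
  have hq2 : 2 ≤ q := hq ▸ Fintype.one_lt_card
  set d := orderOf (q : ZMod r) with hd
  set e := (q ^ d - 1).factorization r with he
  suffices h : ∀ k, k = ((Finset.Icc 2 n).filter (fun i => d ∣ i)).card →
      ∃ φ : (Fin k → Multiplicative (ZMod (r ^ e))) →* GL (Fin n) F, Function.Injective φ ∧
        ∀ v, ((φ v : GL (Fin n) F) : Matrix (Fin n) (Fin n) F).det = 1 by
    obtain ⟨φ, hφ, hdet⟩ := h _ rfl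
    refine ⟨⟨⟨fun v => ⟨_, hdet v⟩, Subtype.ext (by simp)⟩, fun a b => Subtype.ext (by
      rw [Matrix.SpecialLinearGroup.coe_mul]; exact congrArg Units.val (map_mul φ a b))⟩, fun a b h => ?_⟩
    exact hφ (Units.ext (congrArg Subtype.val h))
  intro k hk
  by_cases hd1 : d = 1
  · rcases Nat.eq_zero_or_pos n with rfl | hn
    · refine ⟨1, fun a b _ => ?_, fun v => by simp⟩
      funext i
      exact absurd i.2 (by simp at hk; omega)
    obtain ⟨m, rfl⟩ : ∃ m, n = m + 1 := ⟨n - 1, by omega⟩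
    have hk' : k = m := by
      rw [hk, hd1]; simp
    subst hk'
    have hex := exists_cyclic (r := r) hq 1 le_rfl
    have he' : (q ^ 1 - 1).factorization r = e := by rw [he, hd1]
    rw [he'] at hex
    obtain ⟨ψ, hψ⟩ := hex
    let χ : Multiplicative (ZMod (r ^ e)) →* Fˣ := Matrix.GeneralLinearGroup.det.comp ψ
    have hχ : Function.Injective χ := fun a b h => hψ (Units.ext (by
      ext i j
      have h' := congrArg Units.val h
      simpa [χ, Matrix.det_fin_one, Subsingleton.elim i 0, Subsingleton.elim j 0] using h'))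
    let ext : (Fin k → Multiplicative (ZMod (r ^ e))) →* (Fin (k + 1) → Multiplicative (ZMod (r ^ e))) :=
      { toFun := fun v => Fin.cons (∏ i, v i)⁻¹ v
        map_one' := by ext i; refine Fin.cases ?_ (fun j => ?_) i <;> simp
        map_mul' := fun a b => by
          funext i; refine Fin.cases ?_ (fun j => ?_) i
          · simp [Finset.prod_mul_distrib, mul_comm]
          · simp }
    let diag : (Fin (k + 1) → Fˣ) →* GL (Fin (k + 1)) F :=
      (Units.map ((Matrix.diagonalRingHom (Fin (k + 1)) F) : (Fin (k + 1) → F) →* _)).comp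
        MulEquiv.piUnits.symm.toMonoidHom
    refine ⟨diag.comp ((χ.compLeft (Fin (k + 1))).comp ext), ?_, fun v => ?_⟩
    · intro a b h
      funext i
      have h' : Matrix.diagonal (fun t => ((χ (ext a t) : Fˣ) : F)) = Matrix.diagonal (fun t => ((χ (ext b t) : Fˣ) : F)) :=
        congrArg Units.val h
      simpa [ext] using hχ (Units.ext (congrFun (Matrix.diagonal_injective h') i.succ))
    · show (Matrix.diagonal fun i => ((χ (ext v i) : Fˣ) : F)).det = 1
      rw [Matrix.det_diagonal, ← Units.coe_prod, ← map_prod, Fin.prod_univ_succ]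
      simp [ext]
  · have hkn : k = n / d := by
      rcases Nat.eq_zero_or_pos n with rfl | hn
      · simp [hk]
      · have := filter_Icc_two n d hn
        rw [filter_card] at this
        simp [hd1] at this
        omega
    subst hkn
    obtain ⟨φ, hφ⟩ := exists_embedding (r := r) hq n d (one_le_orderOf hrq)
    refine ⟨φ, hφ, det_eq_one (fun h => hd1 ?_) φ⟩
    rw [hq] at h
    have := (dvd_pow_sub_one (r := r) (by omega : 1 ≤ q) 1).1 (by rwa [pow_one])
    exact Nat.dvd_one.1 this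

theorem sl_sylow {q : ℕ} (hq : Fintype.card F = q) (n : ℕ) (hrn : n < r) (hrq : ¬ r ∣ q)
    (P : Sylow r (Matrix.SpecialLinearGroup (Fin n) F)) :
    Nonempty (↥(P : Subgroup (Matrix.SpecialLinearGroup (Fin n) F)) ≃*
      (Fin ((Finset.Icc 2 n).filter (fun i => orderOf (q : ZMod r) ∣ i)).card →
        Multiplicative (ZMod (r ^ padicValNat r ((Polynomial.cyclotomic (orderOf (q : ZMod r)) ℤ).eval (q : ℤ)).natAbs)))) := by
  have hq2 : 2 ≤ q := hq ▸ Fintype.one_lt_card
  rw [val_cyclotomic hq2 hrq]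
  obtain ⟨φ, hφ⟩ := sl_embedding (r := r) hq n hrn hrq
  refine sylow_iso φ hφ ?_ P
  rw [card_pow, sl_card hq n hrn hrq]

end CfsgLib.Misc.GLAbelianSylow
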