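import Mathlib
import Cfsg.Agent.Lie.SLn

/-!
Subgroups of GL_n normalised by SL_n.
-/

set_option autoImplicit false
set_option linter.unusedSectionVars false

namespace CfsgLib.MiscGLNormal

open Matrix
open scoped commutatorElement

variable {F : Type*} [Field F] {n : ℕ}

theorem scalar_of_commute {g : GL (Fin n) F}
    (h : ∀ s : SpecialLinearGroup (Fin n) F, SpecialLinearGroup.toGL s * g = g * SpecialLinearGroup.toGL s) :
    ∃ c : F, (g : Matrix (Fin n) (Fin n) F) = c • (1 : Matrix (Fin n) (Fin n) F) := by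
  obtain ⟨c, hc⟩ : (g : Matrix (Fin n) (Fin n) F) ∈ Set.range (Matrix.scalar (Fin n)) := by
    refine Matrix.mem_range_scalar_of_commute_transvectionStruct fun t => ?_
    exact congrArg Units.val (h ⟨t.toMatrix, t.det⟩)
  exact ⟨c, by rw [← hc, Matrix.scalar_apply, Matrix.smul_one_eq_diagonal]⟩

theorem comm_center {S : Type*} [Group S] {x y x' y' : S} (hy : y ∈ Subgroup.center S) (hy' : y' ∈ Subgroup.center S) :
    ⁅x * y, x' * y'⁆ = ⁅x, x'⁆ := by
  have e1 : ∀ a b z : S, z ∈ Subgroup.center S → ⁅a * z, b⁆ = ⁅a, b⁆ := fun a b z hz => by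
    have c := Subgroup.mem_center_iff.1 hz b
    simp only [commutatorElement_def]
    calc a * z * b * (a * z)⁻¹ * b⁻¹ = a * (z * b) * (a * z)⁻¹ * b⁻¹ := by rw [mul_assoc a z b]
      _ = a * (b * z) * (a * z)⁻¹ * b⁻¹ := by rw [c]
      _ = a * b * a⁻¹ * b⁻¹ := by group
  rw [e1 _ _ _ hy, ← commutatorElement_inv, e1 _ _ _ hy', commutatorElement_inv]

theorem twist_mul {S : Type*} [Group S] (g a b : S) (za zb : S) (ha : za = a * g * a⁻¹ * g⁻¹)
    (hb : zb = b * g * b⁻¹ * g⁻¹) (hc : za * zb = zb * za) (hb' : a * zb = zb * a) :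
    a * b * g * (a * b)⁻¹ * g⁻¹ = za * zb := by
  have h1 : zb * za = a * zb * a⁻¹ * za := by rw [hb', mul_inv_cancel_right]
  rw [hc, h1, ha, hb]
  group

set_option maxHeartbeats 1000000 in
theorem commute_of_central {S T : Type*} [Group S] [Group T] (ι : S →* T) (hι : Function.Injective ι)
    (hperf : commutator S = ⊤) (g : T) (f : S → S) (hf : ∀ s, f s ∈ Subgroup.center S)
    (hfe : ∀ s, ι (f s) = ι s * g * (ι s)⁻¹ * g⁻¹) (s : S) : ι s * g = g * ι s := by
  let φ : S →* Subgroup.center S := MonoidHom.mk' (fun s => ⟨f s, hf s⟩) fun a b => Subtype.ext (hι (by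
    show ι (f (a * b)) = ι (f a * f b)
    rw [hfe, map_mul ι, map_mul ι]
    exact twist_mul g _ _ _ _ (hfe a) (hfe b)
      (by rw [← map_mul, ← map_mul, Subgroup.mem_center_iff.1 (hf b) (f a)])
      (by rw [← map_mul, ← map_mul, Subgroup.mem_center_iff.1 (hf b) a])))
  have hle : commutator S ≤ φ.ker := by
    rw [commutator_def, Subgroup.commutator_le]
    intro a _ b _
    rw [MonoidHom.mem_ker, map_commutatorElement, commutatorElement_eq_one_iff_mul_comm]
    exact Subtype.ext (Subgroup.mem_center_iff.1 (φ b).2 _)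
  rw [hperf] at hle
  have hker : φ.ker = ⊤ := top_le_iff.1 hle
  have hs : f s = 1 := congrArg Subtype.val (MonoidHom.mem_ker.1 (show s ∈ φ.ker by rw [hker]; exact Subgroup.mem_top s))
  have := hfe s
  rw [hs, map_one] at this
  rw [eq_comm, mul_inv_eq_iff_eq_mul, one_mul, mul_inv_eq_iff_eq_mul] at this
  exact this

set_option maxHeartbeats 2000000 in
theorem main [Fintype F] (hn : 1 ≤ n) (hex : ¬ (n = 2 ∧ Fintype.card F ≤ 3)) (G : Subgroup (GL (Fin n) F))
    (hG : ∀ s : SpecialLinearGroup (Fin n) F, ∀ g ∈ G,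
      (SpecialLinearGroup.toGL s) * g * (SpecialLinearGroup.toGL s)⁻¹ ∈ G) :
    (∀ g ∈ G, ∃ c : F, (g : Matrix (Fin n) (Fin n) F) = c • (1 : Matrix (Fin n) (Fin n) F)) ∨
      (SpecialLinearGroup.toGL : SpecialLinearGroup (Fin n) F →* _).range ≤ G := by
  classical
  rcases eq_or_ne n 1 with rfl | hn1
  · exact Or.inl fun g _ => ⟨(g : Matrix (Fin 1) (Fin 1) F) 0 0, by ext i j; simp [Fin.fin_one_eq_zero i, Fin.fin_one_eq_zero j]⟩
  haveI : Nontrivial (Fin n) := Fin.nontrivial_iff_two_le.2 (by omega)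
  have h : 3 ≤ Fintype.card (Fin n) ∨ ∃ a : F, a ≠ 0 ∧ a ^ 2 ≠ 1 := by
    rw [Fintype.card_fin]
    by_cases h2 : n = 2
    · right
      by_contra hall
      push Not at hall
      have hle : (Finset.univ : Finset F) ⊆ {0, 1, -1} := fun a _ => by
        by_cases ha : a = 0
        · simp [ha]
        · rcases sq_eq_one_iff.1 (hall a ha) with h | h <;> simp [h]
      have := (Finset.card_le_card hle).trans Finset.card_le_three
      exact hex ⟨h2, by rwa [Finset.card_univ] at this⟩
    · left; omega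
  let N : Subgroup (SpecialLinearGroup (Fin n) F) := G.comap SpecialLinearGroup.toGL
  haveI hN : N.Normal := ⟨fun a ha s => by
    show SpecialLinearGroup.toGL (s * a * s⁻¹) ∈ G
    rw [map_mul, map_mul, map_inv]
    exact hG s _ ha⟩
  haveI := CfsgLib.Lie.SLn.isSimpleGroup_PSL (F := F) (ι := Fin n) h
  have hperf := CfsgLib.Lie.SLn.commutator_eq_top (F := F) (ι := Fin n) h
  let π := QuotientGroup.mk' (Subgroup.center (SpecialLinearGroup (Fin n) F))
  haveI : (N.map π).Normal := hN.map π (QuotientGroup.mk'_surjective _)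
  rcases Subgroup.Normal.eq_bot_or_eq_top (inferInstance : (N.map π).Normal) with h0 | h0
  · left
    have hNZ : N ≤ Subgroup.center _ := by
      have := (Subgroup.map_eq_bot_iff N).1 h0
      rwa [QuotientGroup.ker_mk'] at this
    intro g hg
    refine scalar_of_commute fun s => ?_
    have hd : ∀ s : SpecialLinearGroup (Fin n) F, ∃ z : SpecialLinearGroup (Fin n) F,
        z ∈ Subgroup.center _ ∧ SpecialLinearGroup.toGL z = SpecialLinearGroup.toGL s * g * (SpecialLinearGroup.toGL s)⁻¹ * g⁻¹ := by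
      intro s
      have hdet : GeneralLinearGroup.det (SpecialLinearGroup.toGL s * g * (SpecialLinearGroup.toGL s)⁻¹ * g⁻¹) = 1 := by
        rw [map_mul, map_mul, map_mul, map_inv, map_inv, mul_right_comm (GeneralLinearGroup.det _), mul_inv_cancel, one_mul,
          mul_inv_cancel]
      obtain ⟨z, hz⟩ : ∃ z : SpecialLinearGroup (Fin n) F,
          SpecialLinearGroup.toGL z = SpecialLinearGroup.toGL s * g * (SpecialLinearGroup.toGL s)⁻¹ * g⁻¹ :=
        ⟨⟨_, congrArg Units.val hdet⟩, Units.ext rfl⟩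
      refine ⟨z, hNZ ?_, hz⟩
      show SpecialLinearGroup.toGL z ∈ G
      rw [hz]
      exact G.mul_mem (hG s g hg) (G.inv_mem hg)
    choose f hf hfe using hd
    exact commute_of_central SpecialLinearGroup.toGL SpecialLinearGroup.toGL_injective hperf g f hf hfe s
  · right
    have hsup : N ⊔ Subgroup.center _ = ⊤ := by
      have := congrArg (Subgroup.comap π) h0
      rwa [Subgroup.comap_map_eq, QuotientGroup.ker_mk', Subgroup.comap_top] at this
    have hle : commutator (SpecialLinearGroup (Fin n) F) ≤ N := by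
      rw [commutator_def, ← hsup]
      rw [Subgroup.commutator_le]
      intro a ha b hb
      obtain ⟨x, hx, y, hy, rfl⟩ := Subgroup.mem_sup_of_normal_right.1 ha
      obtain ⟨x', hx', y', hy', rfl⟩ := Subgroup.mem_sup_of_normal_right.1 hb
      have e : ⁅x * y, x' * y'⁆ = ⁅x, x'⁆ := comm_center hy hy'
      rw [e, commutatorElement_def]
      exact N.mul_mem (N.mul_mem (N.mul_mem hx hx') (N.inv_mem hx)) (N.inv_mem hx')
    rintro _ ⟨s, rfl⟩
    exact hle (hperf ▸ Subgroup.mem_top s)

end CfsgLib.MiscGLNormal
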