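import Cfsg.Agent.Misc.GelfandGraev
import Cfsg.Agent.Misc.PrincipalSeries
import Cfsg.Agent.Char.Clifford
import Mathlib.NumberTheory.MulChar.Duality

/-!
The irreducible characters of GL₂(q): the principal series and the cuspidal ones.
-/

set_option autoImplicit false
set_option linter.unusedSectionVars false
set_option linter.unusedSimpArgs false

namespace CfsgLib.Misc.GLTwoClassify

open Cfsg CfsgLib.Char BorelInduced PrincipalSeries GelfandGraev
open scoped ComplexConjugate

variable {F : Type*} [Field F] [Fintype F] [DecidableEq F]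

local notation "GL2" => Matrix.GeneralLinearGroup (Fin 2) F
local notation "idG" => MonoidHom.id (Matrix.GeneralLinearGroup (Fin 2) F)

theorem eq_zero_of_mulChar_sums (f : Fˣ → ℂ) (h : ∀ μ : MulChar F ℂ, ∑ a : Fˣ, μ (a : F) * f a = 0) :
    f = 0 := by
  classical
  haveI : Fintype (MulChar F ℂ) := Fintype.ofFinite _
  funext b
  have hz : ∀ a : Fˣ, ∑ μ : MulChar F ℂ, μ⁻¹ (b : F) * μ (a : F) =
      if a = b then (Fintype.card (MulChar F ℂ) : ℂ) else 0 := by
    intro a
    split_ifs with hab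
    · subst hab
      rw [← Finset.card_univ, Finset.sum_eq_card_nsmul (b := (1 : ℂ)), nsmul_one]
      intro μ _
      rw [← MulChar.mul_apply, inv_mul_cancel, MulChar.one_apply_coe]
    · have hne : ((a * b⁻¹ : Fˣ) : F) ≠ 1 := fun e => hab (mul_inv_eq_one.1 (Units.ext e))
      obtain ⟨μ₀, hμ₀⟩ := MulChar.exists_apply_ne_one_of_hasEnoughRootsOfUnity F ℂ hne
      have e : ∀ μ : MulChar F ℂ, μ⁻¹ (b : F) * μ (a : F) = μ ((a * b⁻¹ : Fˣ) : F) := fun μ => by
        rw [Units.val_mul, map_mul, MulChar.inv_apply', ← Units.val_inv_eq_inv_val, mul_comm]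
      simp only [e]
      have hs : μ₀ ((a * b⁻¹ : Fˣ) : F) * ∑ μ : MulChar F ℂ, μ ((a * b⁻¹ : Fˣ) : F) =
          ∑ μ : MulChar F ℂ, μ ((a * b⁻¹ : Fˣ) : F) := by
        rw [Finset.mul_sum]
        exact Fintype.sum_equiv (Equiv.mulLeft μ₀) _ _ fun μ => by simp [MulChar.mul_apply]
      exact (mul_eq_zero.1 (sub_eq_zero.2 hs |> fun e => by linear_combination e :
        (μ₀ ((a * b⁻¹ : Fˣ) : F) - 1) * ∑ μ : MulChar F ℂ, μ ((a * b⁻¹ : Fˣ) : F) = 0)).resolve_left
        (sub_ne_zero.2 hμ₀)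
  have hc : (Fintype.card (MulChar F ℂ) : ℂ) * f b = 0 := by
    calc (Fintype.card (MulChar F ℂ) : ℂ) * f b
        = ∑ a : Fˣ, (∑ μ : MulChar F ℂ, μ⁻¹ (b : F) * μ (a : F)) * f a := by simp [hz]
      _ = ∑ μ : MulChar F ℂ, μ⁻¹ (b : F) * ∑ a : Fˣ, μ (a : F) * f a := by
          simp only [Finset.sum_mul, Finset.mul_sum, mul_assoc]
          exact Finset.sum_comm
      _ = 0 := by simp [h]
  exact (mul_eq_zero.1 hc).resolve_left (Nat.cast_ne_zero.2 Fintype.card_ne_zero)

theorem norm_mulChar (α : MulChar F ℂ) {a : F} (ha : a ≠ 0) : ‖α a‖ = 1 := by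
  haveI : Finite Fˣ := inferInstance
  refine Complex.norm_eq_one_of_pow_eq_one (n := Nat.card Fˣ) ?_ Nat.card_pos.ne'
  rw [← map_pow, show a = ((Units.mk0 a ha : Fˣ) : F) from rfl, ← Units.val_pow_eq_pow_val, pow_card_eq_one',
    Units.val_one, map_one]

/-- upper unitriangular elements and the anti-involution -/
def setupG : Setup idG where
  inj := Function.injective_id
  u x := Matrix.GeneralLinearGroup.mkOfDetNeZero !![1, x; 0, 1] (by simp [Matrix.det_fin_two])
  hu _ := rfl
  τ g := Matrix.GeneralLinearGroup.mkOfDetNeZero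
    !![(g : Matrix (Fin 2) (Fin 2) F) 1 1, (g : Matrix (Fin 2) (Fin 2) F) 0 1;
      (g : Matrix (Fin 2) (Fin 2) F) 1 0, (g : Matrix (Fin 2) (Fin 2) F) 0 0] (by
      have := mat_det_ne idG g
      simp only [mat, MonoidHom.id_apply, Matrix.det_fin_two] at this
      simpa [Matrix.det_fin_two, mul_comm] using this)
  hτ _ := rfl

/-- not a constituent of the principal series -/
def Cuspidal (χ : GL2 → ℂ) : Prop := ∀ α β : MulChar F ℂ, classInner (psG α β) χ = 0

theorem cusp_sum {χ : GL2 → ℂ} (hχ : IsIrrCharacter GL2 χ) (h : Cuspidal χ) (a d : Fˣ) :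
    ∑ x : F, χ (eG ((a, d), x) : GL2) = 0 := by
  classical
  haveI : Fintype (Bor idG) := Fintype.ofFinite _
  let g : Fˣ → Fˣ → ℂ := fun a d => ∑ x : F, conj (χ (eG ((a, d), x) : GL2))
  have hg : ∀ α β : MulChar F ℂ, ∑ a : Fˣ, α (a : F) * ∑ d : Fˣ, β (d : F) * g a d = 0 := by
    intro α β
    have e := h α β
    rw [CfsgLib.Char.frobenius _ _ (classFun_of_irr hχ), classInner_def, mul_eq_zero] at e
    have e' := e.resolve_left (inv_ne_zero (natCard_ne_zero _))
    rw [← Fintype.sum_equiv eG (fun p => th idG (fun a d => α a * β d) (eG p) * conj (χ (eG p : GL2))) _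
      (fun _ => rfl), Fintype.sum_prod_type, Fintype.sum_prod_type] at e'
    rw [← e']
    refine Finset.sum_congr rfl fun a _ => ?_
    simp only [Finset.mul_sum, g]
    refine Finset.sum_congr rfl fun d _ => Finset.sum_congr rfl fun x _ => ?_
    show _ = α (a : F) * β (d : F) * _
    ring
  have h1 : ∀ β : MulChar F ℂ, (fun a : Fˣ => ∑ d : Fˣ, β (d : F) * g a d) = 0 := fun β =>
    eq_zero_of_mulChar_sums _ fun α => hg α β
  have h2 : g a = 0 := eq_zero_of_mulChar_sums _ fun β => congrFun (h1 β) a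
  have := congrArg conj (congrFun h2 d)
  simpa [g, map_sum] using this

theorem eG_one (x : F) : (eG (((1 : Fˣ), (1 : Fˣ)), x) : GL2) = setupG.u x :=
  Units.ext (by simp [eG, setupG, Equiv.ofBijective])

/-- the unipotent values of a cuspidal character, and its degree -/
theorem cusp_deg {χ : GL2 → ℂ} (hχ : IsIrrCharacter GL2 χ) (h : Cuspidal χ) :
    χ 1 = (Fintype.card F : ℂ) - 1 ∧ ∀ y, y ≠ 0 → χ (setupG.u y) = -1 := by
  classical
  have h0 : ∑ z : F, χ (setupG.u z) = 0 := by simpa [eG_one] using cusp_sum hχ h 1 1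
  have hconst : ∀ x : F, x ≠ 0 → χ (setupG.u x) = χ (setupG.u 1) := by
    intro x hx
    let t : GL2 := Matrix.GeneralLinearGroup.mkOfDetNeZero !![x, 0; 0, 1] (by simpa [Matrix.det_fin_two] using hx)
    have e : setupG.u x = t * setupG.u 1 * t⁻¹ := by
      rw [eq_mul_inv_iff_mul_eq]
      refine Units.ext ?_
      show (!![1, x; 0, 1] : Matrix (Fin 2) (Fin 2) F) * !![x, 0; 0, 1] = !![x, 0; 0, 1] * !![1, 1; 0, 1]
      simp
    rw [e]
    exact classFun_of_irr hχ _ _
  obtain ⟨ψ, hψ⟩ : ∃ ψ : AddChar F ℂ, ψ ≠ 1 := by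
    haveI : Nontrivial (AddChar F ℂ) := Fintype.one_lt_card_iff_nontrivial.1 (card_addChar (F := F) ▸ Fintype.one_lt_card)
    exact exists_ne 1
  have hsum : ∀ f : F → ℂ, (∀ x, x ≠ 0 → χ (setupG.u x) = χ (setupG.u 1)) →
      ∑ x : F, f x * χ (setupG.u x) = f 0 * χ 1 + (∑ x : F, f x - f 0) * χ (setupG.u 1) := by
    intro f hf
    rw [← Finset.add_sum_erase Finset.univ _ (Finset.mem_univ (0 : F)), setupG.u_zero,
      Finset.sum_congr rfl (fun x hx => by rw [hf x (Finset.mem_erase.1 hx).1]), ← Finset.sum_mul,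
      Finset.sum_erase_eq_sub (Finset.mem_univ _)]
  have a1 := hsum (fun _ => 1) hconst
  have a2 := hsum (fun z => ψ (-z)) hconst
  simp only [one_mul, Finset.sum_const, Finset.card_univ, nsmul_one, h0] at a1
  rw [show ∑ x : F, ψ (-x) = 0 from (Equiv.sum_comp (Equiv.neg F) (fun z => ψ z)).trans
      ((AddChar.sum_eq_zero_iff_ne_zero).2 hψ), neg_zero,
    AddChar.map_zero_eq_one] at a2
  have hd : χ 1 = (Fintype.card F : ℂ) - 1 := by
    have hne : χ 1 ≠ 0 := irr_one_ne_zero hχ
    have hq : (Fintype.card F : ℂ) ≠ 0 := Nat.cast_ne_zero.2 Fintype.card_ne_zero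
    rcases setupG.coef_le_one ψ hψ hχ with e | e <;> rw [Setup.coef, a2] at e
    · exact (hne (mul_left_cancel₀ hq (by linear_combination -a1 + (Fintype.card F - 1 : ℂ) * e))).elim
    · refine mul_left_cancel₀ hq ?_
      linear_combination -a1 + (Fintype.card F - 1 : ℂ) * e
  exact ⟨hd, fun y hy => setupG.value_of_degree hχ h0 hd hy⟩

/-- a linear character through the determinant -/
noncomputable def detChar (α : MulChar F ℂ) : GL2 → ℂ := fun g => α (g : Matrix (Fin 2) (Fin 2) F).det

theorem irr_detChar (α : MulChar F ℂ) : IsIrrCharacter GL2 (detChar α) := by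
  let μ : GL2 →* ℂ :=
    { toFun := detChar α
      map_one' := by simp [detChar]
      map_mul' := fun a b => by simp [detChar, Matrix.det_mul] }
  exact isIrr_linear μ.toHomUnits

theorem psG_one (α β : MulChar F ℂ) : psG α β 1 = (Fintype.card F : ℂ) + 1 := by
  refine (ind_scalar idG _ rG (g := 1) (by simp [mat]) (by simp [mat]) (by simp [mat]) rfl rG_some).trans ?_
  simp [mat]

theorem isCharacter_psG (α β : MulChar F ℂ) : IsCharacter GL2 (psG α β) :=
  isCharacter_indFun _ (isCharacter_th _ α β)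

theorem classify {χ : GL2 → ℂ} (hχ : IsIrrCharacter GL2 χ) :
    Cuspidal χ ∨ (∃ α β, α ≠ β ∧ χ = psG α β) ∨ (∃ α, χ = detChar α) ∨
      (∃ α, χ = psG α α - detChar α) := by
  classical
  by_cases hc : Cuspidal χ
  · exact Or.inl hc
  refine Or.inr ?_
  unfold Cuspidal at hc
  push Not at hc
  obtain ⟨α, β, hne⟩ := hc
  by_cases hab : α = β
  · subst hab
    have hdet := irr_detChar α
    have h1 : classInner (psG α α) (detChar α) = 1 := by
      haveI : Fintype (Bor idG) := Fintype.ofFinite _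
      have hch := isCharacter_th idG α α
      have heq : (fun b : Bor idG => detChar α b) = th idG (fun a d => α a * α d) := by
        funext b
        show α (mat idG (b : GL2)).det = α _ * α _
        rw [Matrix.det_fin_two, (mem_Bor idG).1 b.2, mul_zero, sub_zero, map_mul]
      rw [CfsgLib.Char.frobenius _ _ (classFun_of_irr hdet), heq]
      have hlin : IsIrrCharacter (Bor idG) (th idG fun a d => α a * α d) :=
        isCharacter_degree_one_irr hch (by simp [th, mat])
      exact irr_inner_self hlin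
    have hrest : IsIrrCharacter GL2 (psG α α - detChar α) := by
      refine isIrr_of_char_norm (isCharacter_sub_constituent (isCharacter_psG α α) hdet (by rw [h1]; exact one_ne_zero)) ?_
      have h1' : classInner (detChar α) (psG α α) = 1 := by rw [← classInner_conj, h1, map_one]
      rw [classInner_sub_left, classInner_sub_right, classInner_sub_right, h1, h1', irr_inner_self hdet, inner_G]
      simp
    rw [show psG α α = detChar α + (psG α α - detChar α) by abel, classInner_add_left, irr_inner hdet hχ,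
      irr_inner hrest hχ] at hne
    by_cases e : detChar α = χ
    · exact Or.inr (Or.inl ⟨α, e.symm⟩)
    · refine Or.inr (Or.inr ⟨α, ?_⟩)
      rw [if_neg e, zero_add] at hne
      by_contra e'
      exact hne (if_neg (Ne.symm e'))
  · refine Or.inl ⟨α, β, hab, ?_⟩
    rw [irr_inner (irr_G α β hab) hχ] at hne
    by_contra e
    exact hne (if_neg (Ne.symm e))

theorem diag_value_cusp {χ : GL2 → ℂ} (hχ : IsIrrCharacter GL2 χ) (h : Cuspidal χ) {g : GL2}
    (h01 : (g : Matrix (Fin 2) (Fin 2) F) 0 1 = 0) (h10 : (g : Matrix (Fin 2) (Fin 2) F) 1 0 = 0)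
    (hne : (g : Matrix (Fin 2) (Fin 2) F) 0 0 ≠ (g : Matrix (Fin 2) (Fin 2) F) 1 1) : χ g = 0 := by
  obtain ⟨h0, h1⟩ := diag_ne idG (g := g) h10
  set a : Fˣ := Units.mk0 _ h0 with ha
  set d : Fˣ := Units.mk0 _ h1 with hd
  have e : ∀ x, χ (eG ((a, d), x) : GL2) = χ g := by
    intro x
    have hs : (a : F) - d ≠ 0 := sub_ne_zero.2 hne
    have : g = setupG.u (x / ((a : F) - d)) * (eG ((a, d), x) : GL2) * (setupG.u (x / ((a : F) - d)))⁻¹ := by
      rw [eq_mul_inv_iff_mul_eq]
      refine Units.ext ?_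
      show (g : Matrix (Fin 2) (Fin 2) F) * !![1, x / ((a : F) - d); 0, 1] =
        !![1, x / ((a : F) - d); 0, 1] * !![(a : F), x; 0, (d : F)]
      rw [Matrix.eta_fin_two (g : Matrix (Fin 2) (Fin 2) F), h01, h10]
      ext i j
      fin_cases i <;> fin_cases j <;> simp [ha, hd, mat] at hs ⊢ <;> (try field_simp) <;> (try ring)
    conv_rhs => rw [this]
    exact (classFun_of_irr hχ _ _).symm
  have := cusp_sum hχ h a d
  simp only [e, Finset.sum_const, Finset.card_univ, nsmul_eq_mul] at this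
  exact (mul_eq_zero.1 this).resolve_left (Nat.cast_ne_zero.2 Fintype.card_ne_zero)

theorem detChar_one (α : MulChar F ℂ) : detChar α 1 = 1 := by simp [detChar]

theorem steinberg_one (α : MulChar F ℂ) : (psG α α - detChar α) 1 = (Fintype.card F : ℂ) := by
  rw [Pi.sub_apply, psG_one, detChar_one]; ring

theorem two_le : 2 ≤ Fintype.card F := Fintype.one_lt_card

end CfsgLib.Misc.GLTwoClassify
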