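import Cfsg.Agent.Misc.BorelInduced
import Mathlib.RepresentationTheory.Basic
import Mathlib.LinearAlgebra.Trace
import Mathlib.Analysis.Fourier.FiniteAbelian.PontryaginDuality

/-!
Multiplicity one for the restriction of an irreducible character of GL₂ or SL₂ to the
upper unipotent subgroup.
-/

set_option autoImplicit false
set_option linter.unusedSectionVars false
set_option linter.unusedSimpArgs false

namespace CfsgLib.Misc.GelfandGraev

open Cfsg CfsgLib.Char BorelInduced MonoidAlgebra Module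

variable {F : Type*} [Field F] [Fintype F] {G : Type*} [Group G] [Fintype G]

/-- a copy of the upper unipotent group and the transpose-type anti-involution -/
structure Setup (ι : G →* GL (Fin 2) F) where
  inj : Function.Injective ι
  u : F → G
  hu : ∀ x, mat ι (u x) = !![1, x; 0, 1]
  τ : G → G
  hτ : ∀ g, mat ι (τ g) = !![mat ι g 1 1, mat ι g 0 1; mat ι g 1 0, mat ι g 0 0]

variable {ι : G →* GL (Fin 2) F} (S : Setup ι)

theorem Setup.ext_mat (S : Setup ι) {g h : G} (e : mat ι g = mat ι h) : g = h := S.inj (Units.ext e)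

theorem Setup.u_add (S : Setup ι) (x y : F) : S.u (x + y) = S.u x * S.u y :=
  S.ext_mat (by rw [mat_mul, S.hu, S.hu, S.hu]; simp [add_comm])

theorem Setup.u_zero (S : Setup ι) : S.u 0 = 1 :=
  S.ext_mat (by rw [S.hu]; simp [mat]; exact Matrix.one_fin_two.symm)

theorem Setup.τ_u (S : Setup ι) (x : F) : S.τ (S.u x) = S.u x :=
  S.ext_mat (by rw [S.hτ, S.hu]; simp)

theorem Setup.τ_one (S : Setup ι) : S.τ 1 = 1 :=
  S.ext_mat (by rw [S.hτ]; simp [mat]; exact Matrix.one_fin_two.symm)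

theorem Setup.τ_mul (S : Setup ι) (g h : G) : S.τ (g * h) = S.τ h * S.τ g := by
  refine S.ext_mat ?_
  rw [mat_mul, S.hτ, S.hτ, S.hτ, mat_mul]
  ext i j
  fin_cases i <;> fin_cases j <;> simp [Matrix.mul_apply, Fin.sum_univ_two] <;> ring

/-- the anti-involution on the group algebra -/
noncomputable def Setup.Φ (S : Setup ι) : MonoidAlgebra ℂ G →ₐ[ℂ] (MonoidAlgebra ℂ G)ᵐᵒᵖ :=
  MonoidAlgebra.lift ℂ (MonoidAlgebra ℂ G)ᵐᵒᵖ G
    { toFun := fun g => MulOpposite.op (of ℂ G (S.τ g))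
      map_one' := by rw [S.τ_one, map_one]; rfl
      map_mul' := fun g h => by rw [S.τ_mul, map_mul]; rfl }

theorem Setup.Φ_of (S : Setup ι) (g : G) : S.Φ (of ℂ G g) = MulOpposite.op (of ℂ G (S.τ g)) :=
  MonoidAlgebra.lift_of _ _

variable (ψ : AddChar F ℂ)

/-- the averaging element -/
noncomputable def Setup.e (S : Setup ι) : MonoidAlgebra ℂ G :=
  ∑ z : F, ψ (-z) • of ℂ G (S.u z)

theorem Setup.e_u (S : Setup ι) (x : F) : S.e ψ * of ℂ G (S.u x) = ψ x • S.e ψ := by
  simp only [Setup.e, Finset.sum_mul, Finset.smul_sum, smul_mul_assoc, ← map_mul, ← S.u_add, smul_smul]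
  refine Fintype.sum_equiv (Equiv.addRight x) _ _ fun z => ?_
  simp only [Equiv.coe_addRight, ← AddChar.map_add_eq_mul]
  congr 2
  ring

theorem Setup.u_e (S : Setup ι) (x : F) : of ℂ G (S.u x) * S.e ψ = ψ x • S.e ψ := by
  rw [← S.e_u]
  simp only [Setup.e, Finset.sum_mul, Finset.mul_sum, smul_mul_assoc, mul_smul_comm, ← map_mul, ← S.u_add, add_comm x]

theorem Setup.e_e (S : Setup ι) : S.e ψ * S.e ψ = (Fintype.card F : ℂ) • S.e ψ := by
  conv_lhs => arg 2; rw [Setup.e]
  simp only [Finset.mul_sum, mul_smul_comm, S.e_u, smul_smul, ← AddChar.map_add_eq_mul, neg_add_cancel,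
    AddChar.map_zero_eq_one, one_smul, Finset.sum_const, Finset.card_univ, ← Nat.cast_smul_eq_nsmul ℂ]

theorem Setup.Φ_e (S : Setup ι) : S.Φ (S.e ψ) = MulOpposite.op (S.e ψ) := by
  simp only [Setup.e, S.Φ_of, S.τ_u, map_sum, map_smul, Finset.op_sum, MulOpposite.op_smul]

theorem Setup.sandwich_u (S : Setup ι) (x y : F) (m : G) :
    S.e ψ * of ℂ G (S.u x * m * S.u y) * S.e ψ = (ψ x * ψ y) • (S.e ψ * of ℂ G m * S.e ψ) := by
  rw [map_mul, map_mul, ← mul_assoc, ← mul_assoc, S.e_u, smul_mul_assoc, smul_mul_assoc, smul_mul_assoc,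
    mul_assoc _ (of ℂ G (S.u y)), S.u_e, mul_smul_comm, smul_smul]

theorem Setup.key (S : Setup ι) (hψ : ψ ≠ 1) (g : G) :
    S.e ψ * of ℂ G g * S.e ψ = S.e ψ * of ℂ G (S.τ g) * S.e ψ := by
  by_cases hc : mat ι g 1 0 = 0
  · have zero : ∀ k : G, mat ι k 1 0 = 0 → mat ι k 0 0 ≠ mat ι k 1 1 → S.e ψ * of ℂ G k * S.e ψ = 0 := by
      intro k h10 hne
      obtain ⟨h0, h1⟩ := diag_ne ι h10
      have hr : mat ι k 1 1 / mat ι k 0 0 - 1 ≠ 0 :=
        sub_ne_zero.2 fun h => hne ((div_eq_one_iff_eq h0).1 h).symm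
      obtain ⟨x, hx⟩ := AddChar.ne_one_iff.1 ((AddChar.IsPrimitive.of_ne_one hψ) hr)
      rw [AddChar.mulShift_apply] at hx
      have hk : S.u x * k = k * S.u (x * (mat ι k 1 1 / mat ι k 0 0)) := by
        refine S.ext_mat ?_
        rw [mat_mul, mat_mul, S.hu, S.hu]
        ext i j
        fin_cases i <;> fin_cases j <;> simp [Matrix.mul_apply, Fin.sum_univ_two, h10]
        field_simp
        ring
      have e1 : S.e ψ * of ℂ G (S.u x * k) * S.e ψ = ψ x • (S.e ψ * of ℂ G k * S.e ψ) := by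
        rw [map_mul, ← mul_assoc, S.e_u, smul_mul_assoc, smul_mul_assoc]
      rw [hk, map_mul, mul_assoc, mul_assoc, S.u_e, mul_smul_comm, mul_smul_comm, ← mul_assoc, ← sub_eq_zero,
        ← sub_smul] at e1
      refine (smul_eq_zero.1 e1).resolve_left fun h => hx ?_
      have hψx : ψ x ≠ 0 := AddChar.val_isUnit ψ x |>.ne_zero
      refine mul_left_cancel₀ hψx ?_
      rw [← AddChar.map_add_eq_mul, mul_one]
      rw [sub_eq_zero] at h
      rw [← h]
      congr 1
      ring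
    by_cases hd : mat ι g 0 0 = mat ι g 1 1
    · rw [show S.τ g = g from S.ext_mat ?_]
      rw [S.hτ]
      ext i j
      fin_cases i <;> fin_cases j <;> simp [hd]
    · rw [zero g hc hd, zero (S.τ g) (by simp [S.hτ, hc]) (by simpa [S.hτ] using Ne.symm hd)]
  · set a := mat ι g 0 0 / mat ι g 1 0 with ha
    set d := mat ι g 1 1 / mat ι g 1 0 with hd
    obtain ⟨m, hm⟩ : ∃ m, m = (S.u a)⁻¹ * g * (S.u d)⁻¹ := ⟨_, rfl⟩
    have hg : g = S.u a * m * S.u d := by simp [hm, mul_assoc]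
    have hinv : ∀ x, (S.u x)⁻¹ = S.u (-x) := fun x =>
      inv_eq_of_mul_eq_one_right (by rw [← S.u_add, add_neg_cancel, S.u_zero])
    have hτ : S.τ g = S.u d * m * S.u a := by
      refine S.ext_mat ?_
      rw [hm, hinv, hinv, mat_mul, mat_mul, mat_mul, mat_mul, S.hu, S.hu, S.hu, S.hu, S.hτ, ha, hd]
      obtain ⟨M, hM⟩ : ∃ M, M = mat ι g := ⟨_, rfl⟩
      simp only [← hM] at hc ⊢
      rw [Matrix.eta_fin_two M]
      simp only [Matrix.mul_fin_two]
      ext i j
      fin_cases i <;> fin_cases j <;> simp [Matrix.mul_apply, Fin.sum_univ_two] <;> field_simp <;> ring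
    rw [hτ]
    conv_lhs => rw [hg]
    rw [S.sandwich_u, S.sandwich_u, mul_comm]

theorem Setup.fixed (S : Setup ι) (hψ : ψ ≠ 1) (a : MonoidAlgebra ℂ G) :
    S.Φ (S.e ψ * a * S.e ψ) = MulOpposite.op (S.e ψ * a * S.e ψ) := by
  induction a using MonoidAlgebra.induction_on with
  | of g =>
    rw [map_mul, map_mul, S.Φ_e, S.Φ_of, ← MulOpposite.op_mul, ← MulOpposite.op_mul, ← mul_assoc,
      ← S.key ψ hψ]
  | add x y hx hy => rw [mul_add, add_mul, map_add, hx, hy, MulOpposite.op_add]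
  | smul r x hx => rw [mul_smul_comm, smul_mul_assoc, map_smul, hx, MulOpposite.op_smul]

theorem Setup.comm (S : Setup ι) (hψ : ψ ≠ 1) (a b : MonoidAlgebra ℂ G) :
    (S.e ψ * a * S.e ψ) * (S.e ψ * b * S.e ψ) = (S.e ψ * b * S.e ψ) * (S.e ψ * a * S.e ψ) := by
  have h := S.fixed ψ hψ (a * S.e ψ * S.e ψ * b)
  rw [show S.e ψ * (a * S.e ψ * S.e ψ * b) * S.e ψ = (S.e ψ * a * S.e ψ) * (S.e ψ * b * S.e ψ) by
    simp only [mul_assoc], map_mul, S.fixed ψ hψ, S.fixed ψ hψ, ← MulOpposite.op_mul] at h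
  exact (MulOpposite.op_injective h).symm

/-- the sum computing the multiplicity of `ψ` -/
def Setup.coef (S : Setup ι) (χ : G → ℂ) : ℂ := ∑ z : F, ψ (-z) * χ (S.u z)

theorem Setup.projection (S : Setup ι) {V : Type*} [AddCommGroup V] [Module ℂ V] [FiniteDimensional ℂ V]
    (ρ : Representation ℂ G V) :
    ∃ P : Module.End ℂ V, P * P = P ∧ P = (Fintype.card F : ℂ)⁻¹ • ρ.asAlgebraHom (S.e ψ) ∧
      S.coef ψ ρ.character = (Fintype.card F : ℂ) * (finrank ℂ (LinearMap.range P) : ℂ) := by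
  have hq : (Fintype.card F : ℂ) ≠ 0 := Nat.cast_ne_zero.2 Fintype.card_ne_zero
  obtain ⟨P, hP⟩ : ∃ P, P = (Fintype.card F : ℂ)⁻¹ • ρ.asAlgebraHom (S.e ψ) := ⟨_, rfl⟩
  have hPP : P * P = P := by
    rw [hP, smul_mul_smul_comm, ← map_mul, S.e_e, map_smul, smul_smul]
    congr 1
    field_simp
  refine ⟨P, hPP, hP, ?_⟩
  rw [← LinearMap.IsProj.trace (LinearMap.IsIdempotentElem.isProj_range P hPP), hP, map_smul, smul_eq_mul,
    mul_inv_cancel_left₀ hq]
  simp [Setup.coef, Setup.e, map_sum, map_smul, Representation.character]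

theorem Setup.coef_nat (S : Setup ι) {χ : G → ℂ} (hχ : IsCharacter G χ) :
    ∃ n : ℕ, S.coef ψ χ = (Fintype.card F : ℂ) * n := by
  obtain ⟨n, ρ, rfl⟩ := hχ
  obtain ⟨P, -, -, h⟩ := S.projection ψ ρ
  exact ⟨_, h⟩

theorem Setup.coef_le_one (S : Setup ι) (hψ : ψ ≠ 1) {χ : G → ℂ} (hχ : IsIrrCharacter G χ) :
    S.coef ψ χ = 0 ∨ S.coef ψ χ = (Fintype.card F : ℂ) := by
  obtain ⟨n, ρ, hirr, rfl⟩ := hχ
  obtain ⟨P, hPP, hP, hc⟩ := S.projection ψ ρ
  suffices hle : finrank ℂ (LinearMap.range P) ≤ 1 by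
    rcases Nat.le_one_iff_eq_zero_or_eq_one.1 hle with h | h <;> rw [hc, h] <;> simp
  let B : G → Module.End ℂ (Fin n → ℂ) := fun g => P * ρ g * P
  have hB : ∀ g h, B g * B h = B h * B g := by
    intro g h
    have e := congrArg ρ.asAlgebraHom (S.comm ψ hψ (of ℂ G g) (of ℂ G h))
    simp only [map_mul, Representation.asAlgebraHom_of] at e
    simp only [B, hP, smul_mul_assoc, mul_smul_comm, smul_smul]
    exact congrArg _ e
  set W := LinearMap.range P with hW
  have hmemW : ∀ v, v ∈ W ↔ P v = v := fun v =>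
    ⟨by rintro ⟨w, rfl⟩; exact LinearMap.congr_fun hPP w, fun h => ⟨v, h⟩⟩
  have hBW : ∀ g v, B g v ∈ W := fun g v => ⟨ρ g (P v), rfl⟩
  have hgen : ∀ v ∈ W, v ≠ 0 → W ≤ Submodule.span ℂ (Set.range fun g => B g v) := by
    intro v hv hv0 w hw
    let U : Subrepresentation ρ :=
      { toSubmodule := Submodule.span ℂ (Set.range fun g => ρ g v)
        apply_mem_toSubmodule := fun k y hy => by
          induction hy using Submodule.span_induction with
          | mem y hy =>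
            obtain ⟨g, rfl⟩ := hy
            exact Submodule.subset_span ⟨k * g, by simp [map_mul]⟩
          | zero => simp
          | add y z _ _ hy hz => rw [map_add]; exact Submodule.add_mem _ hy hz
          | smul c y _ hy => rw [map_smul]; exact Submodule.smul_mem _ c hy }
    have hU : U = ⊤ := by
      refine (hirr.eq_bot_or_eq_top U).resolve_left fun h => hv0 ?_
      have hvU : v ∈ U.toSubmodule := Submodule.subset_span ⟨1, by simp⟩
      rw [h] at hvU
      exact (Submodule.mem_bot ℂ).1 hvU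
    have hwU : w ∈ Submodule.span ℂ (Set.range fun g => ρ g v) := by
      have : w ∈ U.toSubmodule := hU ▸ Submodule.mem_top
      exact this
    have := Submodule.mem_map_of_mem (f := P) hwU
    rw [Submodule.map_span, ← Set.range_comp, (hmemW w).1 hw] at this
    refine Submodule.span_mono ?_ this
    rintro _ ⟨g, rfl⟩
    exact ⟨g, by simp [B, (hmemW v).1 hv]⟩
  by_cases hW0 : W = ⊥
  · rw [hW0, finrank_bot]; exact zero_le_one
  obtain ⟨v, hv, hv0⟩ := Submodule.exists_mem_ne_zero_of_ne_bot hW0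
  have hscal : ∀ g, ∃ μ : ℂ, ∀ w ∈ W, B g w = μ • w := by
    intro g
    haveI : Nontrivial W := (Submodule.nontrivial_iff_ne_bot).2 hW0
    obtain ⟨μ, hμ⟩ := Module.End.exists_eigenvalue ((B g).restrict (p := W) (q := W) fun x _ => hBW g x)
    obtain ⟨v0, hv0⟩ := hμ.exists_hasEigenvector
    have e0 : B g (v0 : Fin n → ℂ) = μ • (v0 : Fin n → ℂ) := congrArg Subtype.val hv0.apply_eq_smul
    refine ⟨μ, fun w hw => ?_⟩
    have := hgen v0 v0.2 (fun h => hv0.2 (Subtype.ext h)) hw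
    clear hw
    induction this using Submodule.span_induction with
    | mem y hy =>
      obtain ⟨h, rfl⟩ := hy
      rw [← Module.End.mul_apply, hB, Module.End.mul_apply, e0, map_smul]
    | zero => simp
    | add y z _ _ hy hz => rw [map_add, smul_add, hy, hz]
    | smul c y _ hy => rw [map_smul, hy, smul_comm]
  have hle : W ≤ Submodule.span ℂ {v} := by
    refine (hgen v hv hv0).trans (Submodule.span_le.2 ?_)
    rintro _ ⟨g, rfl⟩
    obtain ⟨μ, hμ⟩ := hscal g
    simp only [hμ v hv]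
    exact Submodule.smul_mem _ _ (Submodule.mem_span_singleton_self v)
  calc finrank ℂ W ≤ finrank ℂ (Submodule.span ℂ ({v} : Set (Fin n → ℂ))) := Submodule.finrank_mono hle
    _ = 1 := finrank_span_singleton hv0

theorem Setup.fourier (S : Setup ι) (χ : G → ℂ) (y : F) :
    ∑ φ : AddChar F ℂ, S.coef φ χ * φ y = (Fintype.card F : ℂ) * χ (S.u y) := by
  classical
  simp only [Setup.coef, Finset.sum_mul]
  rw [Finset.sum_comm]
  have e : ∀ z, ∑ φ : AddChar F ℂ, φ (-z) * χ (S.u z) * φ y =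
      χ (S.u z) * if z = y then (Fintype.card F : ℂ) else 0 := by
    intro z
    rw [show (if z = y then (Fintype.card F : ℂ) else 0) = if y - z = 0 then (Fintype.card F : ℂ) else 0 by
      simp [sub_eq_zero, eq_comm], ← AddChar.sum_apply_eq_ite (y - z), Finset.mul_sum]
    refine Finset.sum_congr rfl fun φ _ => ?_
    rw [sub_eq_add_neg, AddChar.map_add_eq_mul]
    ring
  rw [Finset.sum_congr rfl fun z _ => e z]
  simp [mul_comm]

theorem Setup.coef_one_eq (S : Setup ι) (χ : G → ℂ) : S.coef 1 χ = ∑ z : F, χ (S.u z) := by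
  simp [Setup.coef]

/-- a character without invariants under the unipotent subgroup has degree at most `q - 1` -/
theorem Setup.degree_le (S : Setup ι) {χ : G → ℂ} (hχ : IsIrrCharacter G χ) (h0 : ∑ z : F, χ (S.u z) = 0) :
    ∃ s : Finset (AddChar F ℂ), (1 : AddChar F ℂ) ∉ s ∧ χ 1 = (s.card : ℂ) ∧
      ∀ y, χ (S.u y) = ∑ φ ∈ s, φ y := by
  classical
  have hq : (Fintype.card F : ℂ) ≠ 0 := Nat.cast_ne_zero.2 Fintype.card_ne_zero
  have h1 : S.coef 1 χ = 0 := (S.coef_one_eq χ).trans h0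
  refine ⟨Finset.univ.filter fun φ => S.coef φ χ ≠ 0, by simp [h1], ?_⟩
  have key : ∀ y, χ (S.u y) = ∑ φ ∈ Finset.univ.filter (fun φ => S.coef φ χ ≠ 0), φ y := by
    intro y
    apply mul_left_cancel₀ hq
    rw [← S.fourier, Finset.mul_sum, Finset.sum_filter]
    refine Finset.sum_congr rfl fun φ _ => ?_
    by_cases hφ : φ = 1
    · subst hφ; simp [h1]
    · rcases S.coef_le_one φ hφ hχ with h | h <;> simp [h, hq]
  refine ⟨?_, key⟩
  rw [← S.u_zero, key]
  simp

theorem card_addChar : Fintype.card (AddChar F ℂ) = Fintype.card F := AddChar.card_eq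

theorem Setup.value_of_degree (S : Setup ι) {χ : G → ℂ} (hχ : IsIrrCharacter G χ)
    (h0 : ∑ z : F, χ (S.u z) = 0) (hdeg : χ 1 = (Fintype.card F : ℂ) - 1) {y : F} (hy : y ≠ 0) :
    χ (S.u y) = -1 := by
  classical
  obtain ⟨s, hs1, hs, hv⟩ := S.degree_le hχ h0
  have hcard : s.card + 1 = Fintype.card (AddChar F ℂ) := by
    rw [card_addChar]
    have : (s.card : ℂ) + 1 = (Fintype.card F : ℂ) := by rw [← hs, hdeg]; ring
    exact_mod_cast this
  have he : s = Finset.univ.erase 1 := by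
    refine Finset.eq_of_subset_of_card_le (fun φ hφ => Finset.mem_erase.2 ⟨ne_of_mem_of_not_mem hφ hs1, Finset.mem_univ _⟩) ?_
    rw [Finset.card_erase_of_mem (Finset.mem_univ _), Finset.card_univ]
    omega
  rw [hv, he, Finset.sum_erase_eq_sub (Finset.mem_univ _), AddChar.sum_apply_eq_ite, if_neg hy]
  simp

theorem Setup.degree_lt (S : Setup ι) {χ : G → ℂ} (hχ : IsIrrCharacter G χ)
    (h0 : ∑ z : F, χ (S.u z) = 0) : ∃ k : ℕ, χ 1 = (k : ℂ) ∧ k < Fintype.card F := by
  classical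
  obtain ⟨s, hs1, hs, -⟩ := S.degree_le hχ h0
  exact ⟨s.card, hs, card_addChar (F := F) ▸ Finset.card_lt_univ_of_notMem hs1⟩

end CfsgLib.Misc.GelfandGraev
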