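import Cfsg.Agent.Misc.TorusNormalizer
import Cfsg.Agent.Misc.SLTwoCount

/-!
The normaliser of a Sylow 2-subgroup of SL₂(q), q odd.
-/

set_option autoImplicit false
set_option linter.unusedSectionVars false
set_option linter.unusedSimpArgs false

namespace CfsgLib.Misc.SLTwoSylowTwo

open PSLTwoProducts (tr tr_conj)
open SLTwoDiscrete (two_ne)
open TorusNormalizer

variable {F : Type*} [Field F] [Fintype F] [DecidableEq F]

local notation "SL2" => Matrix.SpecialLinearGroup (Fin 2) F
local notation "Z" g => Subgroup.centralizer ({g} : Set (Matrix.SpecialLinearGroup (Fin 2) F))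

theorem tr_zero (h2 : (2 : F) ≠ 0) {x : SL2} (hx : x * x = -1) : tr x = 0 := by
  have e := SLTwoTorus.cayley x
  rw [← Matrix.SpecialLinearGroup.coe_mul, hx, Matrix.SpecialLinearGroup.coe_neg] at e
  have e' : tr x • (x : Matrix (Fin 2) (Fin 2) F) = 0 := by
    simp only [Matrix.SpecialLinearGroup.coe_one] at e
    rw [eq_sub_iff_add_eq, neg_add_cancel] at e
    exact e.symm
  rcases smul_eq_zero.1 e' with h | h
  · exact h
  · have hd : (x : Matrix (Fin 2) (Fin 2) F).det = 1 := x.2
    simp [h] at hd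

theorem exists_companion (hodd : Odd (Fintype.card F)) {x : SL2} (hx : x * x = -1) :
    ∃ P : SL2, P⁻¹ * x * P = ⟨!![0, -1; 1, 0], by simp [Matrix.det_fin_two]⟩ := by
  have h2 := two_ne hodd
  have ht : x.1 0 0 + x.1 1 1 = 0 := tr_zero h2 hx
  have hd : x.1 0 0 * x.1 1 1 - x.1 0 1 * x.1 1 0 = 1 := (Matrix.det_fin_two x.1).symm.trans x.2
  obtain ⟨a, b, hab⟩ : ∃ a b : F, a * (x.1 1 0 * a + x.1 1 1 * b) - b * (x.1 0 0 * a + x.1 0 1 * b) = 1 := by
    have h11 : x.1 1 1 = - x.1 0 0 := by linear_combination ht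
    by_cases hc : x.1 1 0 = 0
    · have h00 : x.1 0 0 ≠ 0 := fun e => by
        rw [e, hc] at hd; simp at hd
      refine ⟨(1 + x.1 0 1) / (-(2 * x.1 0 0)), 1, ?_⟩
      rw [hc, h11]
      field_simp
      ring
    · obtain ⟨u, v, huv⟩ := FiniteField.exists_root_sum_quadratic (R := F)
        (f := Polynomial.X ^ 2) (g := Polynomial.X ^ 2 - Polynomial.C (x.1 1 0))
        (by simp) (Polynomial.degree_X_pow_sub_C (by norm_num) _) (Nat.odd_iff.1 hodd)
      simp at huv
      refine ⟨(u + x.1 0 0 * v) / x.1 1 0, v, ?_⟩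
      rw [h11] at hd ⊢
      field_simp
      linear_combination huv + v ^ 2 * hd
  let P : Matrix (Fin 2) (Fin 2) F := !![a, x.1 0 0 * a + x.1 0 1 * b; b, x.1 1 0 * a + x.1 1 1 * b]
  have hP : P.det = 1 := by
    rw [Matrix.det_fin_two]
    simp [P]
    linear_combination hab
  refine ⟨⟨P, hP⟩, ?_⟩
  refine (mul_assoc _ _ _).trans (inv_mul_eq_iff_eq_mul.2 ?_)
  refine Subtype.ext ?_
  show x.1 * P = P * !![0, -1; 1, 0]
  ext i j
  fin_cases i <;> fin_cases j <;> simp [P, Matrix.mul_apply, Fin.sum_univ_two]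
  · linear_combination x.1 0 0 * a * ht - a * hd + x.1 0 1 * b * ht
  · linear_combination x.1 1 1 * b * ht - b * hd + x.1 1 0 * a * ht

theorem conj_of_sq (hodd : Odd (Fintype.card F)) {x y : SL2} (hx : x * x = -1) (hy : y * y = -1) :
    ∃ k : SL2, k * x * k⁻¹ = y := by
  obtain ⟨P, hP⟩ := exists_companion hodd hx
  obtain ⟨Q, hQ⟩ := exists_companion hodd hy
  refine ⟨Q * P⁻¹, ?_⟩
  calc Q * P⁻¹ * x * (Q * P⁻¹)⁻¹ = Q * (P⁻¹ * x * P) * Q⁻¹ := by group
    _ = Q * (Q⁻¹ * y * Q) * Q⁻¹ := by rw [hP, hQ]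
    _ = y := by group

/-- a torus of order divisible by four -/
theorem exists_tor4 (hodd : Odd (Fintype.card F)) :
    ∃ g : SL2, Tor g ∧ g * g = -1 ∧
      ((Fintype.card F % 4 = 1 ∧ Nat.card (Z g) = Fintype.card F - 1) ∨
        (Fintype.card F % 4 = 3 ∧ Nat.card (Z g) = Fintype.card F + 1)) := by
  have h2 := two_ne hodd
  have hmod := Nat.odd_iff.1 hodd
  by_cases hs : IsSquare (-1 : F)
  · obtain ⟨a, ha⟩ := hs
    have ha0 : a ≠ 0 := by rintro rfl; simp at ha
    obtain ⟨hT, hc⟩ := tor_diag hodd (d := diagEl (Units.mk0 a ha0)) rfl rfl (by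
      show a ^ 2 ≠ 1
      rw [pow_two, ← ha]
      intro e
      exact h2 (by linear_combination -e))
    refine ⟨_, hT, Subtype.ext ?_, Or.inl ⟨?_, hc⟩⟩
    · have hi : a⁻¹ * a⁻¹ = -1 := by rw [← mul_inv, ← ha]; simp
      show (diagEl (Units.mk0 a ha0)).1 * (diagEl (Units.mk0 a ha0)).1 = _
      rw [Matrix.SpecialLinearGroup.coe_neg]
      ext i j
      fin_cases i <;> fin_cases j <;> simp [diagEl, Matrix.mul_apply, Fin.sum_univ_two, ← ha, hi]
    · have := (FiniteField.isSquare_neg_one_iff (F := F)).1 ⟨a, ha⟩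
      omega
  · let g : SL2 := ⟨!![0, -1; 1, 0], by simp [Matrix.det_fin_two]⟩
    have hE : SLTwoTorus.Ell g := SLTwoTorus.ell_of_no_root fun a h => hs ⟨a, by
      have : tr g = 0 := by show (0 : F) + 0 = 0; rw [add_zero]
      rw [this] at h
      linear_combination -h⟩
    refine ⟨g, tor_elliptic hodd hE, Subtype.ext ?_, Or.inr ⟨?_, SLTwoTorus.card_centralizer h2 hE⟩⟩
    · show !![0, -1; 1, 0] * !![0, -1; 1, 0] = _
      rw [Matrix.SpecialLinearGroup.coe_neg]
      ext i j
      fin_cases i <;> fin_cases j <;> simp [Matrix.mul_apply, Fin.sum_univ_two]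
    · by_contra hne
      exact hs ((FiniteField.isSquare_neg_one_iff (F := F)).2 (by omega))

theorem card_SL_eq (hodd : Odd (Fintype.card F)) {g : SL2} {t : ℕ}
    (ht : (Fintype.card F % 4 = 1 ∧ t = Fintype.card F - 1) ∨ (Fintype.card F % 4 = 3 ∧ t = Fintype.card F + 1)) :
    ∃ o : ℕ, Odd o ∧ Nat.card SL2 = 2 * t * o := by
  have hq := Nat.odd_iff.1 hodd
  rcases ht with ⟨h, rfl⟩ | ⟨h, rfl⟩
  · refine ⟨Fintype.card F * ((Fintype.card F + 1) / 2), hodd.mul (Nat.odd_iff.2 (by omega)), ?_⟩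
    obtain ⟨c, hc⟩ : ∃ c, Fintype.card F + 1 = 2 * c := ⟨(Fintype.card F + 1) / 2, by omega⟩
    rw [SLTwoCount.card_SL, hc, show 2 * c / 2 = c by omega]
    ring
  · refine ⟨Fintype.card F * ((Fintype.card F - 1) / 2), hodd.mul (Nat.odd_iff.2 (by omega)), ?_⟩
    obtain ⟨c, hc⟩ : ∃ c, Fintype.card F - 1 = 2 * c := ⟨(Fintype.card F - 1) / 2, by omega⟩
    rw [SLTwoCount.card_SL, hc, show 2 * c / 2 = c by omega]
    ring

/-- every Sylow 2-subgroup normalises a torus of order divisible by four -/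
theorem exists_setup (hodd : Odd (Fintype.card F)) (S : Sylow 2 SL2) :
    ∃ g : SL2, Tor g ∧ g * g = -1 ∧ (S : Subgroup SL2) ≤ Subgroup.normalizer ((Z g) : Set SL2) ∧
      ¬ (S : Subgroup SL2) ≤ (Z g) ∧ Nat.card S = 2 * 2 ^ (Nat.card (Z g)).factorization 2 ∧
      ((Fintype.card F % 4 = 1 ∧ Nat.card (Z g) = Fintype.card F - 1) ∨
        (Fintype.card F % 4 = 3 ∧ Nat.card (Z g) = Fintype.card F + 1)) := by
  haveI : Fact (Nat.Prime 2) := ⟨Nat.prime_two⟩
  obtain ⟨g, hT, hsq, hc⟩ := exists_tor4 (F := F) hodd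
  obtain ⟨o, ho, hG⟩ := card_SL_eq (g := g) hodd hc
  have hN := hT.card_normalizer
  have hGf : (Nat.card SL2).factorization 2 = (Nat.card (Subgroup.normalizer ((Z g) : Set SL2))).factorization 2 := by
    rw [hG, hN, Nat.factorization_mul (Nat.mul_ne_zero two_ne_zero Nat.card_pos.ne') (by rintro rfl; exact Nat.not_odd_zero ho),
      Finsupp.add_apply, Nat.factorization_eq_zero_of_not_dvd (n := o) (fun h => by
        obtain ⟨a, rfl⟩ := h; exact Nat.not_even_iff_odd.2 ho (even_two_mul a)), add_zero]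
  obtain ⟨Q⟩ : Nonempty (Sylow 2 (Subgroup.normalizer ((Z g) : Set SL2))) := inferInstance
  obtain ⟨Q', hQ'⟩ := (Q.2.map (Subgroup.normalizer ((Z g) : Set SL2)).subtype).exists_le_sylow
  obtain ⟨h, hh⟩ := MulAction.exists_smul_eq SL2 Q' S
  have heq : (Q : Subgroup _).map (Subgroup.normalizer ((Z g) : Set SL2)).subtype = (Q' : Subgroup SL2) :=
    Subgroup.eq_of_le_of_card_ge hQ' (by
      rw [Subgroup.card_map_of_injective (Subgroup.subtype_injective _), Q.card_eq_multiplicity,
        Q'.card_eq_multiplicity, hGf])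
  obtain ⟨hT', hcard⟩ := hT.conj h
  have hScard : Nat.card S = 2 * 2 ^ (Nat.card (Z (h * g * h⁻¹))).factorization 2 := by
    rw [S.card_eq_multiplicity, hGf, hN, hcard, Nat.factorization_mul two_ne_zero Nat.card_pos.ne',
      Finsupp.add_apply, Nat.Prime.factorization_self Nat.prime_two, pow_add, pow_one]
  refine ⟨h * g * h⁻¹, hT', ?_, ?_, ?_, hScard, by rw [hcard]; exact hc⟩
  · calc h * g * h⁻¹ * (h * g * h⁻¹) = h * (g * g) * h⁻¹ := by group
      _ = -1 := by rw [hsq, ← nc, mul_assoc, mul_inv_cancel, mul_one]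
  · intro x hx
    rw [← hh, Sylow.coe_subgroup_smul, Subgroup.mem_pointwise_smul_iff_inv_smul_mem] at hx
    have hy : h⁻¹ * x * h ∈ (Q' : Subgroup SL2) := by
      simpa [MulAut.conj_inv_apply, MulAut.smul_def] using hx
    rw [← heq] at hy
    obtain ⟨z, -, hz⟩ := Subgroup.mem_map.1 hy
    have hn : h⁻¹ * x * h ∈ Subgroup.normalizer ((Z g) : Set SL2) := hz ▸ z.2
    rw [Subgroup.mem_normalizer_iff] at hn ⊢
    intro c
    rw [centralizer_conj g h c, centralizer_conj g h (x * c * x⁻¹), hn (h⁻¹ * c * h)]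
    rw [show h⁻¹ * x * h * (h⁻¹ * c * h) * (h⁻¹ * x * h)⁻¹ = h⁻¹ * (x * c * x⁻¹) * h by group]
  · intro hle
    have hd := Subgroup.card_dvd_of_le hle
    rw [hScard, ← pow_succ'] at hd
    exact Nat.pow_succ_factorization_not_dvd Nat.card_pos.ne' Nat.prime_two hd

variable {g : Matrix.SpecialLinearGroup (Fin 2) F}

/-- an element sending a regular element of the torus to itself or its inverse normalises the torus -/
theorem mem_normalizer_of (hT : Tor g) {x n : SL2} (hx : x ∈ (Z g)) (h1 : x ≠ 1) (hn1 : x ≠ -1)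
    (h : n * x * n⁻¹ = x ∨ n * x * n⁻¹ = x⁻¹) : n ∈ Subgroup.normalizer ((Z g) : Set SL2) := by
  obtain ⟨w, hw⟩ := hT.inverter
  rcases h with e | e
  · refine Subgroup.le_normalizer ?_
    rw [← hT.cen x hx h1 hn1]
    exact Subgroup.mem_centralizer_singleton_iff.2 (mul_inv_eq_iff_eq_mul.1 e)
  · have hwx := hT.inverts hw hx
    have hm : w⁻¹ * n ∈ (Z g) := by
      rw [← hT.cen x hx h1 hn1]
      refine Subgroup.mem_centralizer_singleton_iff.2 ?_
      rw [← hwx, mul_inv_eq_iff_eq_mul] at e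
      calc w⁻¹ * n * x = w⁻¹ * (n * x) := mul_assoc _ _ _
        _ = x * (w⁻¹ * n) := by rw [e]; group
    have := Subgroup.mul_mem _ (hT.mem_normalizer hw) (Subgroup.le_normalizer hm)
    rwa [mul_inv_cancel_left] at this

section

variable (hT : Tor g) (S : Sylow 2 (Matrix.SpecialLinearGroup (Fin 2) F))
  (hS : (S : Subgroup (Matrix.SpecialLinearGroup (Fin 2) F)) ≤
    Subgroup.normalizer ((Subgroup.centralizer ({g} : Set (Matrix.SpecialLinearGroup (Fin 2) F)) :
      Subgroup (Matrix.SpecialLinearGroup (Fin 2) F)) : Set (Matrix.SpecialLinearGroup (Fin 2) F)))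
  (hnle : ¬ (S : Subgroup (Matrix.SpecialLinearGroup (Fin 2) F)) ≤
    Subgroup.centralizer ({g} : Set (Matrix.SpecialLinearGroup (Fin 2) F)))

include hT hS

theorem mem_of_two {y : SL2} (hy : y ∈ (Z g)) {e : ℕ} (hy2 : y ^ (2 ^ e) = 1) : y ∈ (S : Subgroup SL2) := by
  haveI : Fact (Nat.Prime 2) := ⟨Nat.prime_two⟩
  obtain ⟨w, hw⟩ := hT.inverter
  have hnorm : (S : Subgroup SL2) ≤ Subgroup.normalizer ((Subgroup.zpowers y : Subgroup SL2) : Set SL2) := by
    intro s hs
    have key : ∀ s ∈ Subgroup.normalizer ((Z g) : Set SL2), ∀ z ∈ Subgroup.zpowers y,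
        s * z * s⁻¹ ∈ Subgroup.zpowers y := by
      intro s hs z hz
      have hzT : z ∈ (Z g) := Subgroup.zpowers_le.2 hy hz
      rcases hT.normalizer_cases hw hs with h | h
      · rwa [hT.comm h hzT, mul_inv_cancel_right]
      · have : s * z * s⁻¹ = w * z * w⁻¹ := by
          have hc : (w⁻¹ * s) * z = z * (w⁻¹ * s) := hT.comm h hzT
          calc s * z * s⁻¹ = w * ((w⁻¹ * s) * z) * (w⁻¹ * s)⁻¹ * w⁻¹ := by group
            _ = _ := by rw [hc]; group
        rw [this, hT.inverts hw hzT]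
        exact Subgroup.inv_mem _ hz
    rw [Subgroup.mem_normalizer_iff]
    intro z
    refine ⟨key s (hS hs) z, fun h => ?_⟩
    have := key s⁻¹ (Subgroup.inv_mem _ (hS hs)) _ h
    rwa [inv_inv, show s⁻¹ * (s * z * s⁻¹) * s = z by group] at this
  have hp : IsPGroup 2 (Subgroup.zpowers y) := by
    rintro ⟨z, hz⟩
    obtain ⟨k, rfl⟩ := Subgroup.mem_zpowers_iff.1 hz
    refine ⟨e, Subtype.ext ?_⟩
    show (y ^ k) ^ (2 ^ e) = 1
    rw [← zpow_natCast, ← zpow_mul, mul_comm, zpow_mul, zpow_natCast, hy2, one_zpow]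
  have h := S.2.to_sup_of_normal_right' hp hnorm
  have he := S.3 h le_sup_left
  exact he ▸ Subgroup.mem_sup_right (Subgroup.mem_zpowers y)

include hnle

theorem exists_out : ∃ j ∈ (S : Subgroup SL2), j ∉ (Z g) ∧ j * j = -1 ∧ ∀ c ∈ (Z g), j * c * j⁻¹ = c⁻¹ := by
  obtain ⟨j, hjS, hj⟩ := SetLike.not_le_iff_exists.1 hnle
  obtain ⟨w, hw⟩ := hT.inverter
  refine ⟨j, hjS, hj, hT.sq_eq_neg_one (hS hjS) hj, fun c hc => ?_⟩
  have h := (hT.normalizer_cases hw (hS hjS)).resolve_left hj
  have hcc : (w⁻¹ * j) * c = c * (w⁻¹ * j) := hT.comm h hc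
  rw [← hT.inverts hw hc]
  calc j * c * j⁻¹ = w * ((w⁻¹ * j) * c) * (w⁻¹ * j)⁻¹ * w⁻¹ := by group
    _ = _ := by rw [hcc]; group

theorem self_normalizing {n : SL2} (hn : n ∈ Subgroup.normalizer ((Z g) : Set SL2))
    (hnS : n ∈ Subgroup.normalizer ((S : Subgroup SL2) : Set SL2)) : n ∈ (S : Subgroup SL2) := by
  haveI : Fact (Nat.Prime 2) := ⟨Nat.prime_two⟩
  obtain ⟨j, hjS, hjT, hjsq, hji⟩ := exists_out hT S hS hnle
  have key : ∀ m ∈ (Z g), m ∈ Subgroup.normalizer ((S : Subgroup SL2) : Set SL2) → m ∈ (S : Subgroup SL2) := by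
    intro m hm hmS
    have h1 : m * j * m⁻¹ ∈ (S : Subgroup SL2) := (Subgroup.mem_normalizer_iff.1 hmS j).1 hjS
    have h2 : m * m ∈ (S : Subgroup SL2) := by
      have := Subgroup.mul_mem _ h1 (Subgroup.inv_mem _ hjS)
      rwa [show m * j * m⁻¹ * j⁻¹ = m * (j * m⁻¹ * j⁻¹) by group, hji _ (Subgroup.inv_mem _ hm), inv_inv] at this
    obtain ⟨k, hk⟩ := S.2 ⟨m * m, h2⟩
    refine mem_of_two hT S hS hm (e := k + 1) ?_
    rw [pow_succ', pow_mul, pow_two]
    exact congrArg Subtype.val hk
  obtain ⟨w, hw⟩ := hT.inverter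
  by_cases h : n ∈ (Z g)
  · exact key n h hnS
  · have hm : n * j⁻¹ ∈ (Z g) := by
      have ha := (hT.normalizer_cases hw hn).resolve_left h
      have hb := (hT.normalizer_cases hw (hS hjS)).resolve_left hjT
      have hc : n * j⁻¹ = w * ((w⁻¹ * n) * (w⁻¹ * j)⁻¹) * w⁻¹ := by group
      rw [hc, hT.inverts hw (Subgroup.mul_mem _ ha (Subgroup.inv_mem _ hb))]
      exact Subgroup.inv_mem _ (Subgroup.mul_mem _ ha (Subgroup.inv_mem _ hb))
    have := key _ hm (Subgroup.mul_mem _ hnS (Subgroup.inv_mem _ (Subgroup.le_normalizer hjS)))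
    have := Subgroup.mul_mem _ this hjS
    rwa [inv_mul_cancel_right] at this

end

theorem main (hodd : Odd (Fintype.card F)) (S : Sylow 2 SL2) :
    Subgroup.centralizer ((S : Subgroup SL2) : Set SL2) = Subgroup.center SL2 ∧
    ((Fintype.card F % 8 = 1 ∨ Fintype.card F % 8 = 7) →
      Subgroup.normalizer ((S : Subgroup SL2) : Set SL2) = (S : Subgroup SL2)) ∧
    ((Fintype.card F % 8 = 3 ∨ Fintype.card F % 8 = 5) →
      Nat.card (Subgroup.normalizer ((S : Subgroup SL2) : Set SL2)) = 3 * Nat.card S) := by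
  classical
  haveI : Fact (Nat.Prime 2) := ⟨Nat.prime_two⟩
  obtain ⟨g, hT, hsq, hS, hnle, hScard, hcase⟩ := exists_setup hodd S
  have h2 := two_ne hodd
  have hneg : (-1 : SL2) ≠ 1 := fun e => h2 (by
    have := congrArg (fun k : SL2 => (k : Matrix (Fin 2) (Fin 2) F) 0 0) e
    simp at this
    linear_combination -this)
  obtain ⟨j, hjS, hjT, hjsq, hji⟩ := exists_out hT S hS hnle
  have hgS : g ∈ (S : Subgroup SL2) :=
    mem_of_two hT S hS Tor.self_mem (e := 2) (by
      show g ^ 4 = 1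
      rw [show (4 : ℕ) = 2 + 2 from rfl, pow_add, pow_two, hsq, nsq])
  have hgj : g * j = j * g⁻¹ := by
    have := hji g⁻¹ (Subgroup.inv_mem _ Tor.self_mem)
    rw [inv_inv, mul_inv_eq_iff_eq_mul] at this
    exact this.symm
  have hgi : g⁻¹ = -1 * g := inv_eq_of_mul_eq_one_right (by rw [← mul_assoc, ← nc, mul_assoc, hsq, nsq])
  have hji' : j⁻¹ = -1 * j := inv_eq_of_mul_eq_one_right (by rw [← mul_assoc, ← nc, mul_assoc, hjsq, nsq])
  refine ⟨le_antisymm (fun y hy => ?_) (fun y hy => ?_), fun h8 => ?_, fun h8 => ?_⟩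
  · rw [Subgroup.mem_centralizer_iff] at hy
    have hyT : y ∈ (Z g) := Subgroup.mem_centralizer_singleton_iff.2 (hy g hgS).symm
    have e := hji y hyT
    rw [hy j hjS, mul_inv_cancel_right] at e
    rcases involution h2 (mul_eq_one_iff_eq_inv.2 e) with a | a <;> rw [a, Subgroup.mem_center_iff]
    · simp
    · exact fun k => (nc k).symm
  · rw [Subgroup.mem_centralizer_iff]
    exact fun s _ => Subgroup.mem_center_iff.1 hy s
  · refine le_antisymm (fun n hn => ?_) Subgroup.le_normalizer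
    haveI := hT.cyc
    set v := (Nat.card (Z g)).factorization 2 with hv
    have h8d : 8 ∣ Nat.card (Z g) := by rcases hcase with ⟨a, b⟩ | ⟨a, b⟩ <;> rw [b] <;> omega
    have hv3 : 3 ≤ v := (Nat.Prime.pow_dvd_iff_le_factorization Nat.prime_two Nat.card_pos.ne').1 (by simpa using h8d)
    obtain ⟨c0, hc0⟩ := IsCyclic.exists_ofOrder_eq_natCard (α := (Z g))
    have hd : 2 ^ v ∣ orderOf c0 := by rw [hc0]; exact Nat.ordProj_dvd _ 2
    obtain ⟨r, hr⟩ := hd
    have hc : orderOf (((c0 ^ r : (Z g))) : SL2) = 2 ^ v := by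
      rw [Subgroup.orderOf_coe, orderOf_pow_of_dvd (by
        rintro rfl; rw [mul_zero] at hr; exact (orderOf_pos c0).ne' hr) ⟨2 ^ v, by rw [hr, mul_comm]⟩, hr,
        Nat.mul_div_cancel _ (Nat.pos_of_ne_zero (by
          rintro rfl; rw [mul_zero] at hr; exact (orderOf_pos c0).ne' hr))]
    set c : SL2 := ((c0 ^ r : (Z g)) : SL2) with hcdef
    have hcT : c ∈ (Z g) := (c0 ^ r).2
    have hcS : c ∈ (S : Subgroup SL2) := mem_of_two hT S hS hcT (e := v) (by rw [← hc, pow_orderOf_eq_one])
    have h8o : 8 ≤ orderOf c := by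
      rw [hc]
      calc 8 = 2 ^ 3 := rfl
        _ ≤ _ := Nat.pow_le_pow_right (by norm_num) hv3
    have c1 : c ≠ 1 := fun e => by rw [e, orderOf_one] at h8o; omega
    have cn : c ≠ -1 := fun e => by
      have : orderOf c ≤ 2 := orderOf_le_of_pow_eq_one (by norm_num) (by rw [e, pow_two, nsq])
      omega
    have hm : n * c * n⁻¹ ∈ (S : Subgroup SL2) := (Subgroup.mem_normalizer_iff.1 hn c).1 hcS
    have hmT : n * c * n⁻¹ ∈ (Z g) := by
      by_contra hno
      have e := hT.sq_eq_neg_one (hS hm) hno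
      have : orderOf c ≤ 4 := orderOf_le_of_pow_eq_one (by norm_num) (by
        have e' : (c * c) = -1 := by
          calc c * c = n⁻¹ * (n * c * n⁻¹ * (n * c * n⁻¹)) * n := by group
            _ = -1 := by rw [e, ← nc, mul_assoc, inv_mul_cancel, mul_one]
        rw [show (4 : ℕ) = 2 + 2 from rfl, pow_add, pow_two, e', nsq])
      omega
    exact self_normalizing hT S hS hnle
      (mem_normalizer_of hT hcT c1 cn (hT.pair c hcT _ hmT c1 cn (tr_conj n c))) hn
  · haveI := hT.cyc
    have hv : (Nat.card (Z g)).factorization 2 = 2 := by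
      obtain ⟨o, ho⟩ : ∃ o, Nat.card (Z g) = 4 * (2 * o + 1) := by
        rcases hcase with ⟨a, b⟩ | ⟨a, b⟩ <;> refine ⟨Nat.card (Z g) / 8, ?_⟩ <;> rw [b] <;> omega
      rw [ho, Nat.factorization_mul (by norm_num) (by omega), Finsupp.add_apply,
        Nat.factorization_eq_zero_of_not_dvd (show ¬ 2 ∣ 2 * o + 1 by omega),
        show (4 : ℕ) = 2 ^ 2 from rfl, Nat.factorization_pow, Finsupp.smul_apply,
        Nat.Prime.factorization_self Nat.prime_two]
      rfl
    have h8 : Nat.card S = 8 := by rw [hScard, hv]; rfl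
    have hg1 := hT.h1
    have hgn := hT.hn
    -- torus part of S
    have hfour : ∀ y ∈ (S : Subgroup SL2), y ∈ (Z g) → y = 1 ∨ y = -1 ∨ y = g ∨ y = g⁻¹ := by
      intro y hyS hy
      have hy4 : y ^ 4 = 1 := by
        have hd8 : orderOf y ∣ 8 := by
          have := orderOf_dvd_natCard (⟨y, hyS⟩ : (S : Subgroup SL2))
          rw [Subgroup.orderOf_mk] at this
          exact h8 ▸ this
        have hdT : orderOf y ∣ Nat.card (Z g) := by
          have := orderOf_dvd_natCard (⟨y, hy⟩ : (Z g))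
          rwa [Subgroup.orderOf_mk] at this
        have hg : orderOf y ∣ 4 := by
          obtain ⟨e, he, hoe⟩ := (Nat.dvd_prime_pow Nat.prime_two).1 (show orderOf y ∣ 2 ^ 3 from hd8)
          rw [hoe] at hdT ⊢
          have := (Nat.Prime.pow_dvd_iff_le_factorization Nat.prime_two Nat.card_pos.ne').1 hdT
          rw [hv] at this
          exact pow_dvd_pow 2 this
        exact orderOf_dvd_iff_pow_eq_one.1 hg
      have e : (y * y) * (y * y) = 1 := by rw [← hy4]; simp [pow_succ, mul_assoc]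
      rcases involution h2 e with a | a
      · rcases involution h2 a with b | b
        exacts [Or.inl b, Or.inr (Or.inl b)]
      · rcases hT.pair g Tor.self_mem y hy hg1 hgn (by rw [tr_zero h2 a, tr_zero h2 hsq]) with b | b
        exacts [Or.inr (Or.inr (Or.inl b)), Or.inr (Or.inr (Or.inr b))]
    have hdec : ∀ x ∈ (S : Subgroup SL2), x ∈ Subgroup.closure ({g, j} : Set SL2) := by
      intro x hx
      have hgc : g ∈ Subgroup.closure ({g, j} : Set SL2) := Subgroup.subset_closure (Set.mem_insert _ _)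
      have hjc : j ∈ Subgroup.closure ({g, j} : Set SL2) := Subgroup.subset_closure (Set.mem_insert_of_mem _ rfl)
      have hone : ∀ y ∈ (S : Subgroup SL2), y ∈ (Z g) → y ∈ Subgroup.closure ({g, j} : Set SL2) := by
        intro y hy hyT
        rcases hfour y hy hyT with rfl | rfl | rfl | rfl
        · exact Subgroup.one_mem _
        · rw [← hsq]; exact Subgroup.mul_mem _ hgc hgc
        · exact hgc
        · exact Subgroup.inv_mem _ hgc
      by_cases hxT : x ∈ (Z g)
      · exact hone x hx hxT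
      · obtain ⟨w, hw⟩ := hT.inverter
        have ha := (hT.normalizer_cases hw (hS hx)).resolve_left hxT
        have hb := (hT.normalizer_cases hw (hS hjS)).resolve_left hjT
        have : j⁻¹ * x ∈ (Z g) := by
          have := Subgroup.mul_mem _ (Subgroup.inv_mem _ hb) ha
          rwa [mul_inv_rev, inv_inv, mul_assoc, mul_inv_cancel_left] at this
        have := Subgroup.mul_mem _ hjc (hone _ (Subgroup.mul_mem _ (Subgroup.inv_mem _ hjS) hx) this)
        rwa [mul_inv_cancel_left] at this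
    -- a normalising element outside S
    obtain ⟨n, hnN, hnS⟩ : ∃ n ∈ Subgroup.normalizer ((S : Subgroup SL2) : Set SL2), n ∉ (S : Subgroup SL2) := by
      obtain ⟨h, hh⟩ := conj_of_sq hodd hsq hjsq
      obtain ⟨hTj, hcardj⟩ := hT.conj h
      rw [hh] at hTj hcardj
      set j' := h * j * h⁻¹
      obtain ⟨w, hw⟩ := hT.inverter
      have hginv : j * g * j⁻¹ = g⁻¹ := hji g Tor.self_mem
      -- both elements invert j
      have h1 : j' * j * j'⁻¹ = j⁻¹ := by
        calc j' * j * j'⁻¹ = j' * (h * g * h⁻¹) * j'⁻¹ := by rw [hh]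
          _ = h * (j * g * j⁻¹) * h⁻¹ := by simp only [j']; group
          _ = _ := by rw [hginv, ← hh]; group
      have h2' : (j * g) * j * (j * g)⁻¹ = j⁻¹ := by
        have e : g * j * g⁻¹ = j⁻¹ := by
          rw [hgj, mul_assoc, ← mul_inv_rev, hsq, inv_eq_of_mul_eq_one_right nsq, hji', nc]
        calc j * g * j * (j * g)⁻¹ = j * (g * j * g⁻¹) * j⁻¹ := by group
          _ = _ := by rw [e]; group
      haveI := hTj.cyc
      set t := j'⁻¹ * (j * g) with ht
      have htZ : t ∈ (Z j) := Subgroup.mem_centralizer_singleton_iff.2 (by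
        have := h2'.trans h1.symm
        rw [mul_inv_eq_iff_eq_mul] at this
        calc t * j = j'⁻¹ * (j * g * j) := by simp only [t]; group
          _ = j * t := by rw [this]; simp only [t]; group)
      obtain ⟨a, ha⟩ := IsCyclic.exists_generator (α := (Z j))
      obtain ⟨u, hu, htu⟩ : ∃ u ∈ (Z j), t = u * u ∨ t = u * u * j := by
        obtain ⟨m, hm⟩ := Subgroup.mem_zpowers_iff.1 (ha ⟨j, Subgroup.mem_centralizer_singleton_iff.2 rfl⟩)
        obtain ⟨l, hl⟩ := Subgroup.mem_zpowers_iff.1 (ha ⟨t, htZ⟩)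
        have hm' : (a : SL2) ^ m = j := congrArg Subtype.val hm
        have hl' : (a : SL2) ^ l = t := congrArg Subtype.val hl
        rcases Int.even_or_odd l with ⟨b, hb⟩ | hlo
        · exact ⟨(a : SL2) ^ b, Subgroup.zpow_mem _ a.2 b, Or.inl (by rw [← hl', hb, zpow_add])⟩
        · rcases Int.even_or_odd m with ⟨b, hb⟩ | hmo
          · exfalso
            have hj8 : orderOf ((a : SL2) ^ b) = 8 := by
              have e2 : ((a : SL2) ^ b) ^ 2 = j := by rw [pow_two, ← zpow_add, ← hb, hm']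
              refine orderOf_eq_prime_pow (p := 2) (n := 2) ?_ ?_
              · rw [show 2 ^ 2 = 2 * 2 from rfl, pow_mul, e2, pow_two, hjsq]; exact hneg
              · rw [show 2 ^ (2 + 1) = 2 * (2 * 2) from rfl, pow_mul, e2, pow_mul, pow_two j, hjsq, pow_two, nsq]
            have hd : orderOf ((a : SL2) ^ b) ∣ Nat.card (Z j) := by
              have := orderOf_dvd_natCard (⟨(a : SL2) ^ b, Subgroup.zpow_mem _ a.2 b⟩ : (Z j))
              rwa [Subgroup.orderOf_mk] at this
            rw [hj8, hcardj] at hd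
            have := (Nat.Prime.pow_dvd_iff_le_factorization Nat.prime_two Nat.card_pos.ne').1
              (show 2 ^ 3 ∣ Nat.card (Z g) from hd)
            omega
          · obtain ⟨b, hb⟩ : Even (l - m) := Odd.sub_odd hlo hmo
            refine ⟨(a : SL2) ^ b, Subgroup.zpow_mem _ a.2 b, Or.inr ?_⟩
            have e3 : (a : SL2) ^ l = (a : SL2) ^ b * (a : SL2) ^ b * (a : SL2) ^ m := by
              rw [← zpow_add, ← zpow_add, ← hb]; congr 1; ring
            exact hl'.symm.trans (e3.trans (congrArg _ hm'))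
      refine ⟨u⁻¹ * h, ?_, ?_⟩
      · have huj : u⁻¹ * j * u = j := by
          rw [mul_assoc, ← Subgroup.mem_centralizer_singleton_iff.1 hu, inv_mul_cancel_left]
        have hgm : u⁻¹ * h * g * (u⁻¹ * h)⁻¹ = j := by
          calc u⁻¹ * h * g * (u⁻¹ * h)⁻¹ = u⁻¹ * (h * g * h⁻¹) * u := by group
            _ = j := by rw [hh, huj]
        have hj'u : j' * u * j'⁻¹ = u⁻¹ := by
          have hj'1 : j ≠ 1 := hTj.h1
          exact hTj.inverts h1 hu
        have hjm : u⁻¹ * h * j * (u⁻¹ * h)⁻¹ ∈ (S : Subgroup SL2) := by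
          have e : u⁻¹ * h * j * (u⁻¹ * h)⁻¹ = j' * (u * u) := by
            calc u⁻¹ * h * j * (u⁻¹ * h)⁻¹ = u⁻¹ * j' * u := by simp only [j']; group
              _ = (j' * u * j'⁻¹) * j' * u := by rw [hj'u]
              _ = j' * (u * u) := by group
          rw [e]
          have hjg : j * g ∈ (S : Subgroup SL2) := Subgroup.mul_mem _ hjS hgS
          rcases htu with e' | e'
          · rw [← e', ht, mul_inv_cancel_left]; exact hjg
          · rw [show u * u = t * j⁻¹ by rw [e', mul_inv_cancel_right], ht, ← mul_assoc, mul_inv_cancel_left]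
            exact Subgroup.mul_mem _ hjg (Subgroup.inv_mem _ hjS)
        have hle : (S : Subgroup SL2).map (MulAut.conj (u⁻¹ * h)).toMonoidHom ≤ (S : Subgroup SL2) := by
          refine (Subgroup.map_mono (fun x hx => hdec x hx)).trans ?_
          rw [MonoidHom.map_closure, Subgroup.closure_le]
          rintro _ ⟨z, (rfl | rfl), rfl⟩
          · show u⁻¹ * h * z * (u⁻¹ * h)⁻¹ ∈ _
            rw [hgm]; exact hjS
          · exact hjm
        have heq := Subgroup.eq_of_le_of_card_ge hle (by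
          rw [Subgroup.card_map_of_injective (MulEquiv.injective _)])
        rw [Subgroup.mem_normalizer_iff]
        intro x
        constructor
        · exact fun hx => hle ⟨x, hx, rfl⟩
        · intro hx
          rw [← heq] at hx
          obtain ⟨y, hy, e⟩ := hx
          have e' : u⁻¹ * h * y * (u⁻¹ * h)⁻¹ = u⁻¹ * h * x * (u⁻¹ * h)⁻¹ := e
          rw [mul_left_inj, mul_right_inj] at e'
          exact e' ▸ hy
      · intro hmem
        have huj : u⁻¹ * j * u = j := by
          rw [mul_assoc, ← Subgroup.mem_centralizer_singleton_iff.1 hu, inv_mul_cancel_left]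
        have hgm : u⁻¹ * h * g * (u⁻¹ * h)⁻¹ = j := by
          calc u⁻¹ * h * g * (u⁻¹ * h)⁻¹ = u⁻¹ * (h * g * h⁻¹) * u := by group
            _ = j := by rw [hh, huj]
        have := (Subgroup.mem_normalizer_iff.1 (hS hmem) g).1 Tor.self_mem
        rw [hgm] at this
        exact hjT this
    -- upper bound
    set N := Subgroup.normalizer ((S : Subgroup SL2) : Set SL2) with hNdef
    have hdvd : Nat.card S ∣ Nat.card N := Subgroup.card_dvd_of_le Subgroup.le_normalizer
    have hub : Nat.card N ≤ 24 := by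
      haveI : Fintype N := Fintype.ofFinite N
      let T6 : Finset SL2 := {g, g⁻¹, j, j⁻¹, j * g, (j * g)⁻¹}
      let φ : N → SL2 := fun m => (m : SL2) * g * (m : SL2)⁻¹
      have himg : ∀ m : N, φ m ∈ T6 := by
        intro m
        have hm : φ m ∈ (S : Subgroup SL2) := (Subgroup.mem_normalizer_iff.1 m.2 g).1 hgS
        have hsq' : φ m * φ m = -1 := by
          calc φ m * φ m = (m : SL2) * (g * g) * (m : SL2)⁻¹ := by simp only [φ]; group
            _ = -1 := by rw [hsq, ← nc, mul_assoc, mul_inv_cancel, mul_one]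
        simp only [T6, Finset.mem_insert, Finset.mem_singleton]
        by_cases hTm : φ m ∈ (Z g)
        · rcases hfour _ hm hTm with e | e | e | e
          · rw [e, one_mul] at hsq'; exact absurd hsq'.symm hneg
          · rw [e, nsq] at hsq'; exact absurd hsq'.symm hneg
          · exact Or.inl e
          · exact Or.inr (Or.inl e)
        · obtain ⟨w, hw⟩ := hT.inverter
          have ha := (hT.normalizer_cases hw (hS hm)).resolve_left hTm
          have hb := (hT.normalizer_cases hw (hS hjS)).resolve_left hjT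
          have hq : j⁻¹ * φ m ∈ (Z g) := by
            have := Subgroup.mul_mem _ (Subgroup.inv_mem _ hb) ha
            rwa [mul_inv_rev, inv_inv, mul_assoc, mul_inv_cancel_left] at this
          rcases hfour _ (Subgroup.mul_mem _ (Subgroup.inv_mem _ hjS) hm) hq with e | e | e | e <;>
            rw [inv_mul_eq_iff_eq_mul] at e
          · rw [mul_one] at e; exact Or.inr (Or.inr (Or.inl e))
          · refine Or.inr (Or.inr (Or.inr (Or.inl ?_)))
            rw [e, ← nc]
            exact (inv_eq_of_mul_eq_one_right (by rw [← mul_assoc, ← nc, mul_assoc, hjsq, nsq])).symm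
          · exact Or.inr (Or.inr (Or.inr (Or.inr (Or.inl e))))
          · refine Or.inr (Or.inr (Or.inr (Or.inr (Or.inr ?_))))
            rw [e, mul_inv_rev, ← hgj, hgi, hji', nc g, mul_assoc g, ← mul_assoc (-1), nsq, one_mul]
      have hfib : ∀ y ∈ T6, (Finset.univ.filter fun m : N => φ m = y).card ≤ 4 := by
        intro y _
        rcases (Finset.univ.filter fun m : N => φ m = y).eq_empty_or_nonempty with h | ⟨m0, hm0⟩
        · rw [h]; simp
        rw [Finset.mem_filter] at hm0
        let C4 : Finset SL2 := {1, -1, g, g⁻¹}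
        refine (Finset.card_le_card_of_injOn (t := C4) (fun m : N => (m0 : SL2)⁻¹ * (m : SL2)) ?_ ?_).trans
          Finset.card_le_four
        · intro m hm
          rw [Finset.coe_filter] at hm
          have e : φ m0 = φ m := hm0.2.trans hm.2.symm
          have hz : (m0 : SL2)⁻¹ * (m : SL2) ∈ (Z g) := Subgroup.mem_centralizer_singleton_iff.2 (by
            simp only [φ] at e
            calc (m0 : SL2)⁻¹ * m * g = (m0 : SL2)⁻¹ * (m * g * (m : SL2)⁻¹) * m := by group
              _ = g * ((m0 : SL2)⁻¹ * m) := by rw [← e]; group)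
          have hn' : (m0 : SL2)⁻¹ * (m : SL2) ∈ N := Subgroup.mul_mem _ (Subgroup.inv_mem _ m0.2) m.2
          have := self_normalizing hT S hS hnle (Subgroup.le_normalizer hz) hn'
          simp only [C4, Finset.coe_insert, Finset.coe_singleton, Set.mem_insert_iff, Set.mem_singleton_iff]
          exact hfour _ this hz
        · intro a _ b _ e
          exact Subtype.ext (mul_left_cancel e)
      rw [Nat.card_eq_fintype_card, ← Finset.card_univ]
      refine (Finset.card_le_mul_card_image_of_maps_to (fun m _ => himg m) 4 hfib).trans ?_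
      have : T6.card ≤ 6 := Finset.card_le_six
      omega
    have hne : Nat.card N ≠ Nat.card S := fun e =>
      hnS ((Subgroup.eq_of_le_of_card_ge Subgroup.le_normalizer e.le : (S : Subgroup SL2) = N) ▸ hnN)
    obtain ⟨m, hm⟩ := hdvd
    have hodd' : Odd m := by
      rw [← Nat.not_even_iff_odd, even_iff_two_dvd]
      intro h2m
      have hd : 2 ^ 4 ∣ Nat.card SL2 := by
        refine dvd_trans ?_ (Subgroup.card_subgroup_dvd_card N)
        rw [hm, h8]
        exact mul_dvd_mul (dvd_refl 8) h2m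
      have := (Nat.Prime.pow_dvd_iff_le_factorization Nat.prime_two Nat.card_pos.ne').1 hd
      have he : (8 : ℕ) = 2 ^ (Nat.card SL2).factorization 2 := h8.symm.trans S.card_eq_multiplicity
      have := Nat.pow_right_injective (le_refl 2) (show 2 ^ 3 = 2 ^ (Nat.card SL2).factorization 2 from he)
      omega
    rw [hm, h8] at hub hne
    rw [hm, h8]
    obtain ⟨r, rfl⟩ := hodd'
    omega

end CfsgLib.Misc.SLTwoSylowTwo
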