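import Cfsg.Agent.Misc.IcosaElevenCheck
import Cfsg.Agent.Misc.SLTwoSylowTwo
import Cfsg.Agent.Lie.SLn
import Cfsg.Agent.Lie.ProjLine
import Cfsg.Agent.Perm.PrimePSLField
import Cfsg.Agent.S0804

/-! The two classes of icosahedral subgroups of PSL(2, 11). -/

set_option autoImplicit false
set_option linter.unusedSectionVars false

namespace CfsgLib.Misc.IcosaEleven

open scoped Pointwise

instance factEleven : Fact (Nat.Prime 11) := ⟨by norm_num⟩

local notation "G" => Matrix.SpecialLinearGroup (Fin 2) (ZMod 11)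
local notation "P" => Matrix.ProjectiveSpecialLinearGroup (Fin 2) (ZMod 11)

def tupM (M : Matrix (Fin 2) (Fin 2) (ZMod 11)) : T :=
  ((M 0 0).val, (M 0 1).val, (M 1 0).val, (M 1 1).val)

def tup (M : G) : T := tupM M.1

theorem tupM_mul (M N : Matrix (Fin 2) (Fin 2) (ZMod 11)) : tupM (M * N) = mulT (tupM M) (tupM N) := by
  simp [tupM, mulT, Matrix.mul_apply, Fin.sum_univ_two, ZMod.val_add, ZMod.val_mul, Nat.add_mod, Nat.mul_mod]

theorem tup_mul (M N : G) : tup (M * N) = mulT (tup M) (tup N) := tupM_mul _ _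

theorem tup_inj {M N : G} (h : tup M = tup N) : M = N := by
  simp only [tup, tupM, Prod.mk.injEq] at h
  obtain ⟨a, b, c, d⟩ := h
  have := ZMod.val_injective 11
  apply Subtype.ext
  ext i j
  fin_cases i <;> fin_cases j
  exacts [this a, this b, this c, this d]

theorem tup_inv (M : G) : tup M⁻¹ = invT (tup M) := by
  have hn : ∀ x : ZMod 11, (-x).val = (11 - x.val) % 11 := by decide
  show tupM (M⁻¹).1 = _
  rw [Matrix.SpecialLinearGroup.coe_inv, Matrix.adjugate_fin_two]
  simp [tup, tupM, invT, hn]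

theorem allT_apply {p : T → Bool} (h : allT p = true) (M : G) : p (tup M) = true :=
  allT_spec h _ _ _ _ (ZMod.val_lt _) (ZMod.val_lt _) (ZMod.val_lt _) (ZMod.val_lt _)

theorem tup_det (M : G) : detOk (tup M) = true := by
  have h : M.1 0 0 * M.1 1 1 + (-M.1 0 1) * M.1 1 0 = 1 := by
    have := M.2
    rw [Matrix.det_fin_two] at this
    linear_combination this
  have hn : ∀ x : ZMod 11, (-x).val = (11 - x.val) % 11 := by decide
  have h' := congrArg ZMod.val h
  rw [ZMod.val_add, ZMod.val_mul, ZMod.val_mul, hn] at h'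
  simp only [detOk, tup, tupM, beq_iff_eq]
  rw [show (1 : ZMod 11).val = 1 from rfl] at h'
  simpa [Nat.add_mod, Nat.mul_mod] using h'

theorem lift_tup {x : T} (hdet : detOk x = true) (ha : x.1 < 11) (hb : x.2.1 < 11) (hc : x.2.2.1 < 11)
    (hd : x.2.2.2 < 11) : ∃ M : G, tup M = x := by
  refine ⟨⟨!![(x.1 : ZMod 11), (x.2.1 : ZMod 11); (x.2.2.1 : ZMod 11), (x.2.2.2 : ZMod 11)], ?_⟩, ?_⟩
  · rw [Matrix.det_fin_two_of]
    simp only [detOk, beq_iff_eq] at hdet
    have h := congrArg (fun n : ℕ => (n : ZMod 11)) hdet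
    simp only [ZMod.natCast_mod, Nat.cast_add, Nat.cast_mul, Nat.cast_sub hb.le, Nat.cast_one,
      ZMod.natCast_self] at h
    linear_combination h
  · simp [tup, tupM, ZMod.val_natCast, Nat.mod_eq_of_lt, ha, hb, hc, hd]

def w : G := ⟨!![0, -1; 1, 0], by decide⟩

theorem tup_w : tup w = wT := by decide
theorem tup_negw : tup (-w) = negwT := by decide
theorem tup_one : tup (1 : G) = oneT := by decide
theorem tup_neg : tup (-1 : G) = negT := by decide

/-- a certified subgroup -/
structure Cert where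
  L : List T
  mask : Nat
  bit : allT (fun x => ! Nat.testBit mask (code x) || L.any (eqT x)) = true
  mul : (L.all fun x => L.all fun y => Nat.testBit mask (code (mulT x y))) = true
  inv : (L.all fun x => Nat.testBit mask (code (invT x))) = true
  base : (Nat.testBit mask (code oneT) && Nat.testBit mask (code negT) &&
    Nat.testBit mask (code wT) && Nat.testBit mask (code negwT)) = true
  len : L.length = 120

def C1 : Cert := ⟨L1, mask1, bit1, mul1, inv1, base1, len1⟩
def C2 : Cert := ⟨L2, mask2, bit2, mul2, inv2, base2, len2⟩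

theorem Cert.mem_L (C : Cert) {M : G} (h : Nat.testBit C.mask (code (tup M)) = true) : tup M ∈ C.L := by
  have := allT_apply C.bit M
  simp only [h, Bool.not_true, Bool.false_or, List.any_eq_true] at this
  obtain ⟨x, hx, he⟩ := this
  rw [(eqT_iff _ _).1 he]
  exact hx

theorem Cert.bases (C : Cert) : Nat.testBit C.mask (code oneT) = true ∧ Nat.testBit C.mask (code negT) = true ∧
    Nat.testBit C.mask (code wT) = true ∧ Nat.testBit C.mask (code negwT) = true := by
  have := C.base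
  simp only [Bool.and_eq_true] at this
  exact ⟨this.1.1.1, this.1.1.2, this.1.2, this.2⟩

def Cert.S (C : Cert) : Subgroup G where
  carrier := {M | Nat.testBit C.mask (code (tup M)) = true}
  one_mem' := by
    show Nat.testBit C.mask (code (tup 1)) = true
    rw [tup_one]; exact C.bases.1
  mul_mem' {a b} ha hb := by
    show Nat.testBit C.mask (code (tup (a * b))) = true
    rw [tup_mul]
    have := C.mul
    simp only [List.all_eq_true] at this
    exact this _ (C.mem_L ha) _ (C.mem_L hb)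
  inv_mem' {a} ha := by
    show Nat.testBit C.mask (code (tup a⁻¹)) = true
    rw [tup_inv]
    have := C.inv
    simp only [List.all_eq_true] at this
    exact this _ (C.mem_L ha)

theorem center_pm {z : G} (hz : z ∈ Subgroup.center G) : z = 1 ∨ z = -1 := by
  have hc : ∀ u : G, mulT (tup z) (tup u) = mulT (tup u) (tup z) := fun u => by
    rw [← tup_mul, ← tup_mul, Subgroup.mem_center_iff.1 hz u]
  have h := allT_apply center_check z
  have h1 := hc ⟨!![1, 1; 0, 1], by decide⟩
  have h2 := hc ⟨!![1, 0; 1, 1], by decide⟩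
  rw [show tup (⟨!![1, 1; 0, 1], by decide⟩ : G) = (1, 1, 0, 1) by decide] at h1
  rw [show tup (⟨!![1, 0; 1, 1], by decide⟩ : G) = (1, 0, 1, 1) by decide] at h2
  simp only [tup_det, (eqT_iff _ _).2 h1, (eqT_iff _ _).2 h2, Bool.not_true, Bool.false_or, Bool.or_eq_true,
    eqT_iff] at h
  rcases h with h | h
  · exact Or.inl (tup_inj (h.trans tup_one.symm))
  · exact Or.inr (tup_inj (h.trans tup_neg.symm))

theorem neg_central : (-1 : G) ∈ Subgroup.center G :=
  Subgroup.mem_center_iff.2 fun k => Subtype.ext (by simp)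

/-- the projection -/
def π : G →* P := QuotientGroup.mk' (Subgroup.center G)

theorem π_surj : Function.Surjective π := QuotientGroup.mk'_surjective _

theorem π_eq {M N : G} (h : π M = π N) : M = N ∨ M = -N := by
  have h' : M⁻¹ * N ∈ Subgroup.center G := QuotientGroup.eq.1 h
  rcases center_pm h' with e | e
  · exact Or.inl (inv_mul_eq_one.1 e)
  · refine Or.inr ?_
    rw [inv_mul_eq_iff_eq_mul] at e
    rw [e]
    exact Subtype.ext (by simp)

theorem π_neg (M : G) : π (-M) = π M := by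
  refine QuotientGroup.eq.2 ?_
  rw [show (-M)⁻¹ * M = -1 from inv_mul_eq_iff_eq_mul.2 (Subtype.ext (by simp))]
  exact neg_central

def Cert.H (C : Cert) : Subgroup P := C.S.map π

theorem Cert.mem_H (C : Cert) {M : G} : π M ∈ C.H ↔ M ∈ C.S := by
  refine ⟨?_, fun h => ⟨M, h, rfl⟩⟩
  rintro ⟨N, hN, e⟩
  rcases π_eq e.symm with rfl | rfl
  · exact hN
  · have h1 : (-1 : G) ∈ C.S := by
      show Nat.testBit C.mask (code (tup (-1))) = true
      rw [tup_neg]; exact C.bases.2.1
    have := C.S.mul_mem h1 hN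
    rwa [show (-1 : G) * N = -N from Subtype.ext (by simp)] at this

theorem Cert.w_mem (C : Cert) : π w ∈ C.H := C.mem_H.2 (by
  show Nat.testBit C.mask (code (tup w)) = true
  rw [tup_w]; exact C.bases.2.2.1)

theorem Cert.card_le (C : Cert) : Nat.card C.H ≤ 60 := by
  classical
  have hS : Nat.card C.S ≤ 120 := by
    let f : C.S → {x // x ∈ C.L.toFinset} := fun M => ⟨tup M.1, List.mem_toFinset.2 (C.mem_L M.2)⟩
    have hf : Function.Injective f := fun a b e => Subtype.ext (tup_inj (congrArg Subtype.val e))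
    refine (Nat.card_le_card_of_injective f hf).trans ?_
    rw [Nat.card_eq_fintype_card, Fintype.card_coe]
    exact (List.toFinset_card_le _).trans C.len.le
  let f : C.S →* C.H := π.subgroupMap C.S
  have h2 : 2 ≤ Nat.card f.ker := by
    have h1 : (-1 : G) ∈ C.S := by
      show Nat.testBit C.mask (code (tup (-1))) = true
      rw [tup_neg]; exact C.bases.2.1
    have hmem : (⟨-1, h1⟩ : C.S) ∈ f.ker := Subtype.ext (by
      show π (-1) = 1
      rw [π_neg, map_one])
    haveI : Nontrivial f.ker := ⟨⟨⟨_, hmem⟩, 1, fun e => by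
      have : (-1 : G) = 1 := congrArg (fun z : f.ker => ((z : C.S) : G)) e
      exact absurd this (by decide)⟩⟩
    exact Finite.one_lt_card
  have h3 := f.ker.card_mul_index
  have hr := MonoidHom.range_eq_top.2 (π.subgroupMap_surjective C.S)
  rw [Subgroup.index_ker, show f.range = ⊤ from hr, Subgroup.card_top] at h3
  nlinarith

/-- conjugation by the matrix with rows (1,-1), (1,1) -/
def φ : G ≃* G where
  toFun M := ⟨!![1, -1; 1, 1] * M.1 * !![6, 6; -6, 6], by
    rw [Matrix.det_mul, Matrix.det_mul, M.2, Matrix.det_fin_two_of, Matrix.det_fin_two_of]; decide⟩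
  invFun M := ⟨!![6, 6; -6, 6] * M.1 * !![1, -1; 1, 1], by
    rw [Matrix.det_mul, Matrix.det_mul, M.2, Matrix.det_fin_two_of, Matrix.det_fin_two_of]; decide⟩
  left_inv M := Subtype.ext (by
    show !![6, 6; -6, 6] * (!![1, -1; 1, 1] * M.1 * !![6, 6; -6, 6]) * !![1, -1; 1, 1] = M.1
    have e : (!![6, 6; -6, 6] : Matrix (Fin 2) (Fin 2) (ZMod 11)) * !![1, -1; 1, 1] = 1 := by decide
    rw [show ∀ a b c : Matrix (Fin 2) (Fin 2) (ZMod 11), a * (b * M.1 * c) * b = (a * b) * M.1 * (c * b) from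
      fun a b c => by simp only [Matrix.mul_assoc], e, Matrix.one_mul, Matrix.mul_one])
  right_inv M := Subtype.ext (by
    show !![1, -1; 1, 1] * (!![6, 6; -6, 6] * M.1 * !![1, -1; 1, 1]) * !![6, 6; -6, 6] = M.1
    have e : (!![1, -1; 1, 1] : Matrix (Fin 2) (Fin 2) (ZMod 11)) * !![6, 6; -6, 6] = 1 := by decide
    rw [show ∀ a b c : Matrix (Fin 2) (Fin 2) (ZMod 11), a * (b * M.1 * c) * b = (a * b) * M.1 * (c * b) from
      fun a b c => by simp only [Matrix.mul_assoc], e, Matrix.one_mul, Matrix.mul_one])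
  map_mul' M N := Subtype.ext (by
    have e : (!![6, 6; -6, 6] : Matrix (Fin 2) (Fin 2) (ZMod 11)) * !![1, -1; 1, 1] = 1 := by decide
    show !![1, -1; 1, 1] * (M.1 * N.1) * !![6, 6; -6, 6] =
      !![1, -1; 1, 1] * M.1 * !![6, 6; -6, 6] * (!![1, -1; 1, 1] * N.1 * !![6, 6; -6, 6])
    rw [show ∀ a b c d : Matrix (Fin 2) (Fin 2) (ZMod 11), a * M.1 * b * (c * N.1 * d) = a * (M.1 * ((b * c) * N.1)) * d from
      fun a b c d => by simp only [Matrix.mul_assoc], e, Matrix.one_mul])

theorem tup_φ (M : G) : tup (φ M) = phiT (tup M) := by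
  show tupM (!![1, -1; 1, 1] * M.1 * !![6, 6; -6, 6]) = _
  rw [tupM_mul, tupM_mul]
  rfl

theorem map_center (e : G ≃* G) : (Subgroup.center G).map e.toMonoidHom = Subgroup.center G := by
  ext M
  constructor
  · rintro ⟨N, hN, rfl⟩
    refine Subgroup.mem_center_iff.2 fun L => e.symm.injective ?_
    show e.symm (L * e N) = e.symm (e N * L)
    rw [map_mul, map_mul, e.symm_apply_apply]
    exact Subgroup.mem_center_iff.1 hN _
  · intro h
    refine ⟨e.symm M, Subgroup.mem_center_iff.2 fun L => e.injective ?_, e.apply_symm_apply M⟩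
    rw [map_mul, map_mul, e.apply_symm_apply]
    exact Subgroup.mem_center_iff.1 h _

def φbar : P ≃* P := QuotientGroup.congr _ _ φ (map_center φ)

theorem φbar_π (M : G) : φbar (π M) = π (φ M) := rfl

theorem φ_one {x : P} (hx : x ∈ C1.H) : φbar x ∈ C2.H := by
  obtain ⟨M, hM, rfl⟩ := hx
  rw [φbar_π, C2.mem_H]
  show Nat.testBit mask2 (code (tup (φ M))) = true
  rw [tup_φ]
  exact List.all_eq_true.1 phi1 _ (C1.mem_L hM)

theorem φ_two {x : P} (hx : x ∈ C2.H) : φbar x ∈ C1.H := by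
  obtain ⟨M, hM, rfl⟩ := hx
  rw [φbar_π, C1.mem_H]
  show Nat.testBit mask1 (code (tup (φ M))) = true
  rw [tup_φ]
  exact List.all_eq_true.1 phi2 _ (C2.mem_L hM)

theorem a5_gens : ∃ a b : alternatingGroup (Fin 5), a * a = 1 ∧ a ≠ 1 ∧ b * b * b = 1 ∧ b ≠ 1 ∧
    (a * b) * (a * b) * (a * b) * (a * b) * (a * b) = 1 ∧ a * b ≠ 1 := by decide +kernel

theorem a5_card : Nat.card (alternatingGroup (Fin 5)) = 60 := by
  rw [nat_card_alternatingGroup]; simp [Nat.factorial]

theorem closure_gens {a b : alternatingGroup (Fin 5)} (h1 : a * a = 1) (h1' : a ≠ 1) (h2 : b * b * b = 1)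
    (h2' : b ≠ 1) (h3 : (a * b) * (a * b) * (a * b) * (a * b) * (a * b) = 1) (h3' : a * b ≠ 1) :
    Subgroup.closure ({a, b} : Set (alternatingGroup (Fin 5))) = ⊤ := by
  set K := Subgroup.closure ({a, b} : Set (alternatingGroup (Fin 5)))
  have ha : a ∈ K := Subgroup.subset_closure (Set.mem_insert _ _)
  have hb : b ∈ K := Subgroup.subset_closure (Set.mem_insert_of_mem _ rfl)
  have key : ∀ (p : ℕ) [Fact p.Prime] (x : alternatingGroup (Fin 5)), x ∈ K → x ≠ 1 → x ^ p = 1 → p ∣ Nat.card K := by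
    intro p _ x hx hx1 hxp
    have := orderOf_dvd_natCard (⟨x, hx⟩ : K)
    rwa [Subgroup.orderOf_mk, orderOf_eq_prime hxp hx1] at this
  haveI : Fact (Nat.Prime 2) := ⟨Nat.prime_two⟩
  haveI : Fact (Nat.Prime 3) := ⟨Nat.prime_three⟩
  haveI : Fact (Nat.Prime 5) := ⟨by norm_num⟩
  have d2 := key 2 a ha h1' (by rw [pow_two, h1])
  have d3 := key 3 b hb h2' (by rw [pow_succ, pow_two, h2])
  have d5 := key 5 (a * b) (mul_mem ha hb) h3' (by simpa [pow_succ] using h3)
  have h30 : 30 ∣ Nat.card K :=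
    Nat.Coprime.mul_dvd_of_dvd_of_dvd (by decide : Nat.Coprime 6 5)
      (Nat.Coprime.mul_dvd_of_dvd_of_dvd (by decide : Nat.Coprime 2 3) d2 d3) d5
  have hm := K.card_mul_index
  rw [a5_card] at hm
  obtain ⟨c, hc⟩ := h30
  have hi : K.index ≤ 2 := by
    rcases Nat.eq_zero_or_pos c with rfl | hpos
    · rw [hc] at hm; simp at hm
    · rw [hc] at hm; nlinarith
  rcases (show K.index = 0 ∨ K.index = 1 ∨ K.index = 2 by omega) with h | h | h
  · rw [h] at hm; simp at hm
  · exact Subgroup.index_eq_one.1 h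
  · haveI := Subgroup.normal_of_index_eq_two h
    haveI : IsSimpleGroup (alternatingGroup (Fin 5)) := alternatingGroup.isSimpleGroup_five
    rcases IsSimpleGroup.eq_bot_or_eq_top_of_normal K inferInstance with e | e
    · rw [e] at ha; exact absurd (Subgroup.mem_bot.1 ha) h1'
    · exact e

theorem cover (L : Subgroup P) (e : L ≃* alternatingGroup (Fin 5)) :
    ∃ g : P, MulAut.conj g • L = C1.H ∨ MulAut.conj g • L = C2.H := by
  obtain ⟨a, b, h1, h1', h2, h2', h3, h3'⟩ := a5_gens
  have hcl := closure_gens h1 h1' h2 h2' h3 h3'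
  let j : alternatingGroup (Fin 5) →* P := L.subtype.comp e.symm.toMonoidHom
  have hj : Function.Injective j := Subtype.val_injective.comp e.symm.injective
  obtain ⟨A, hA⟩ := π_surj (j a)
  obtain ⟨B, hB⟩ := π_surj (j b)
  have hA1 : π A ≠ 1 := by rw [hA]; exact fun e' => h1' (hj (e'.trans (map_one j).symm))
  have hAne : A ≠ 1 ∧ A ≠ -1 :=
    ⟨fun e' => hA1 (by rw [e', map_one]), fun e' => hA1 (by rw [e', π_neg, map_one])⟩
  have hAA : A * A = -1 := by
    have : π (A * A) = π 1 := by rw [map_mul, hA, ← map_mul, h1, map_one, map_one]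
    rcases π_eq this with e' | e'
    · exact absurd (TorusNormalizer.involution (by decide) e') (not_or.2 hAne)
    · exact e'
  have hw : w * w = -1 := by decide
  obtain ⟨k, hk⟩ := SLTwoSylowTwo.conj_of_sq (by decide) hAA hw
  have hB3 : π (k * B * k⁻¹) * π (k * B * k⁻¹) * π (k * B * k⁻¹) = 1 := by
    have : π B * π B * π B = 1 := by rw [hB, ← map_mul, ← map_mul, h2, map_one]
    rw [← map_mul, ← map_mul, show k * B * k⁻¹ * (k * B * k⁻¹) * (k * B * k⁻¹) = k * (B * B * B) * k⁻¹ by group,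
      map_mul, map_mul, map_mul, map_mul, this, mul_one, map_inv, mul_inv_cancel]
  obtain ⟨M, hMπ, hM3⟩ : ∃ M, π M = π (k * B * k⁻¹) ∧ M * M * M = -1 := by
    rw [← map_mul, ← map_mul, ← map_one π] at hB3
    rcases π_eq hB3 with e' | e'
    · refine ⟨-(k * B * k⁻¹), π_neg _, Subtype.ext ?_⟩
      have e2 := congrArg Subtype.val e'
      simp at e2 ⊢
      exact e2
    · exact ⟨_, rfl, e'⟩
  have hMne : M ≠ -1 := fun e' => by
    rw [e', π_neg, map_one] at hMπ
    have hb1 : π B = 1 := by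
      rw [map_mul, map_mul, map_inv] at hMπ
      exact conj_eq_one_iff.1 hMπ.symm
    rw [hB] at hb1
    exact h2' (hj (hb1.trans (map_one j).symm))
  have hwM : π (w * M) = π k * j (a * b) * (π k)⁻¹ := by
    rw [map_mul, hMπ, ← hk, map_mul, map_mul, map_mul, map_mul, map_inv, hA, hB, map_mul]
    group
  have h5 : pow5 (tup (w * M)) = oneT ∨ pow5 (tup (w * M)) = negT := by
    have : π (w * M * (w * M) * (w * M) * (w * M) * (w * M)) = π 1 := by
      rw [map_mul π (w * M * (w * M) * (w * M) * (w * M)), map_mul π (w * M * (w * M) * (w * M)),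
        map_mul π (w * M * (w * M)), map_mul π (w * M) (w * M), hwM, map_one]
      calc _ = π k * (j (a * b) * j (a * b) * j (a * b) * j (a * b) * j (a * b)) * (π k)⁻¹ := by group
        _ = 1 := by rw [← map_mul, ← map_mul, ← map_mul, ← map_mul, h3, map_one]; group
    rcases π_eq this with e' | e' <;>
      have e2 := congrArg tup e' <;>
      simp only [tup_mul, tup_one, tup_neg] at e2
    · exact Or.inl (by rw [tup_mul]; exact e2)
    · exact Or.inr (by rw [tup_mul]; exact e2)
  have hwM1 : π (w * M) ≠ 1 := by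
    rw [hwM]
    exact fun e' => h3' (hj ((conj_eq_one_iff.1 e').trans (map_one j).symm))
  have hchk := allT_apply gen_check M
  have e1 : eqT (mulT (mulT (tup M) (tup M)) (tup M)) negT = true :=
    (eqT_iff _ _).2 (by rw [← tup_mul, ← tup_mul, hM3, tup_neg])
  have e2 : eqT (tup M) negT = false := by
    rw [Bool.eq_false_iff, Ne, eqT_iff]
    exact fun e' => hMne (tup_inj (e'.trans tup_neg.symm))
  have e3 : (eqT (pow5 (mulT wT (tup M))) oneT || eqT (pow5 (mulT wT (tup M))) negT) = true := by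
    rw [Bool.or_eq_true, eqT_iff, eqT_iff, ← tup_w, ← tup_mul]; exact h5
  have e4 : eqT (mulT wT (tup M)) oneT = false := by
    rw [Bool.eq_false_iff, Ne, eqT_iff, ← tup_w, ← tup_mul, ← tup_one]
    exact fun e' => hwM1 (by rw [tup_inj e', map_one])
  have e5 : eqT (mulT wT (tup M)) negT = false := by
    rw [Bool.eq_false_iff, Ne, eqT_iff, ← tup_w, ← tup_mul, ← tup_neg]
    exact fun e' => hwM1 (by rw [tup_inj e', π_neg, map_one])
  simp only [tup_det, e1, e2, e3, e4, e5, Bool.not_true, Bool.false_or, Bool.or_false, List.any_eq_true] at hchk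
  obtain ⟨g, hg, hgH⟩ := hchk
  have hgok := List.all_eq_true.1 CW_ok g hg
  simp only [Bool.and_eq_true, decide_eq_true_eq] at hgok
  obtain ⟨⟨⟨⟨⟨hdet, ha'⟩, hb'⟩, hc'⟩, hd'⟩, hgw⟩ := hgok
  obtain ⟨g', htg⟩ := lift_tup hdet ha' hb' hc' hd'
  refine ⟨π (g' * k), ?_⟩
  rw [Bool.or_eq_true] at hgH
  have hgw' : π (g' * w * g'⁻¹) = π w := by
    rw [Bool.or_eq_true, eqT_iff, eqT_iff, ← htg, ← tup_w, ← tup_negw, ← tup_inv, ← tup_mul, ← tup_mul] at hgw
    rcases hgw with e' | e' <;> rw [tup_inj e']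
    exact π_neg w
  have key : ∀ C : Cert, Nat.testBit C.mask (code (mulT (mulT g (tup M)) (invT g))) = true →
      MulAut.conj (π (g' * k)) • L = C.H := by
    intro C hC
    have hy : π (g' * M * g'⁻¹) ∈ C.H := C.mem_H.2 (by
      show Nat.testBit C.mask (code (tup (g' * M * g'⁻¹))) = true
      rw [tup_mul, tup_mul, tup_inv, htg]; exact hC)
    have hx : π (g' * w * g'⁻¹) ∈ C.H := by rw [hgw']; exact C.w_mem
    have hL : L = (⊤ : Subgroup (alternatingGroup (Fin 5))).map j := by
      ext z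
      refine ⟨fun hz => ⟨e ⟨z, hz⟩, trivial, by simp [j]⟩, ?_⟩
      rintro ⟨y, -, rfl⟩
      exact (e.symm y).2
    have hle : MulAut.conj (π (g' * k)) • L ≤ C.H := by
      show Subgroup.map (MulAut.conj (π (g' * k))).toMonoidHom L ≤ C.H
      rw [hL, ← hcl, MonoidHom.map_closure, MonoidHom.map_closure,
        Subgroup.closure_le]
      rintro _ ⟨_, ⟨z, (rfl | rfl), rfl⟩, rfl⟩
      · show π (g' * k) * j z * (π (g' * k))⁻¹ ∈ _
        rw [← hA, ← map_inv, ← map_mul, ← map_mul,
          show g' * k * A * (g' * k)⁻¹ = g' * (k * A * k⁻¹) * g'⁻¹ by group, hk]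
        exact hx
      · show π (g' * k) * j z * (π (g' * k))⁻¹ ∈ _
        rw [← hB, ← map_inv, ← map_mul, ← map_mul,
          show g' * k * B * (g' * k)⁻¹ = g' * (k * B * k⁻¹) * g'⁻¹ by group, map_mul, map_mul, ← hMπ,
          ← map_mul, ← map_mul]
        exact hy
    refine Subgroup.eq_of_le_of_card_ge hle (C.card_le.trans ?_)
    rw [← Nat.card_congr (Subgroup.equivSMul (MulAut.conj (π (g' * k))) L).toEquiv,
      Nat.card_congr e.toEquiv, a5_card]
  rcases hgH with h | h
  · exact Or.inl (key C1 h)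
  · exact Or.inr (key C2 h)

theorem both : Nonempty (C1.H ≃* alternatingGroup (Fin 5)) ∧ Nonempty (C2.H ≃* alternatingGroup (Fin 5)) := by
  obtain ⟨L, ⟨e⟩⟩ := (Cfsg.Agent.S0804.result (F := ZMod 11) (ZMod.card 11)).2 (by norm_num)
  obtain ⟨g, hg⟩ := cover L e
  have step : ∀ C D : Cert, (∀ x ∈ C.H, φbar x ∈ D.H) → MulAut.conj g • L = C.H →
      Nonempty (C.H ≃* alternatingGroup (Fin 5)) ∧ Nonempty (D.H ≃* alternatingGroup (Fin 5)) := by
    intro C D hCD h
    have eC : C.H ≃* alternatingGroup (Fin 5) :=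
      ((MulEquiv.subgroupCongr h.symm).trans (Subgroup.equivSMul (MulAut.conj g) L).symm).trans e
    have hmap : C.H.map φbar.toMonoidHom = D.H := by
      refine Subgroup.eq_of_le_of_card_ge ?_ (D.card_le.trans ?_)
      · rintro _ ⟨x, hx, rfl⟩; exact hCD x hx
      · rw [Subgroup.card_map_of_injective (MulEquiv.injective _), Nat.card_congr eC.toEquiv, a5_card]
    exact ⟨⟨eC⟩, ⟨((MulEquiv.subgroupCongr hmap.symm).trans (φbar.subgroupMap C.H).symm).trans eC⟩⟩
  rcases hg with h | h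
  · exact step C1 C2 (fun x => φ_one) h
  · exact (step C2 C1 (fun x => φ_two) h).symm

theorem not_conj (g : P) : MulAut.conj g • C2.H ≠ C1.H := by
  intro h
  have hmem : ∀ x ∈ C2.H, g * x * g⁻¹ ∈ C1.H := fun x hx => h ▸ ⟨x, hx, rfl⟩
  obtain ⟨A, rfl⟩ := π_surj g
  have hx : π (A * w * A⁻¹) ∈ C1.H := by
    rw [map_mul, map_mul, map_inv]; exact hmem _ C2.w_mem
  have hxS := C1.mem_H.1 hx
  have hsq : mulT (tup (A * w * A⁻¹)) (tup (A * w * A⁻¹)) = negT := by
    rw [← tup_mul, show A * w * A⁻¹ * (A * w * A⁻¹) = A * (w * w) * A⁻¹ by group,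
      show w * w = -1 by decide, ← tup_neg]
    congr 1
    rw [(Subgroup.mem_center_iff.1 neg_central A), mul_inv_cancel_right]
  have hh := List.all_eq_true.1 invol_one _ (C1.mem_L hxS)
  simp only [(eqT_iff _ _).2 hsq, Bool.not_true, Bool.false_or, List.any_eq_true, Bool.or_eq_true, eqT_iff] at hh
  obtain ⟨t, ht, hconj⟩ := hh
  have ht' := List.all_eq_true.1 ok1 t ht
  simp only [Bool.and_eq_true, decide_eq_true_eq] at ht'
  obtain ⟨⟨⟨⟨⟨htb, htd⟩, t1⟩, t2⟩, t3⟩, t4⟩ := ht'
  obtain ⟨B, rfl⟩ := lift_tup htd t1 t2 t3 t4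
  rw [← tup_inv, ← tup_mul, ← tup_mul, ← tup_w, ← tup_negw] at hconj
  have hconj' : tup (B * A * w * (B * A)⁻¹) = tup w ∨ tup (B * A * w * (B * A)⁻¹) = tup (-w) := by
    rw [show B * A * w * (B * A)⁻¹ = B * (A * w * A⁻¹) * B⁻¹ by group]; exact hconj
  have hall := allT_apply apart (B * A)
  have e1 : (eqT (mulT (mulT (tup (B * A)) wT) (invT (tup (B * A)))) wT ||
      eqT (mulT (mulT (tup (B * A)) wT) (invT (tup (B * A)))) negwT) = true := by
    rw [Bool.or_eq_true, eqT_iff, eqT_iff, ← tup_w, ← tup_negw, ← tup_inv, ← tup_mul, ← tup_mul]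
    exact hconj'
  simp only [tup_det, e1, Bool.not_true, Bool.false_or, List.any_eq_true, Bool.not_eq_true'] at hall
  obtain ⟨y, hy, hyf⟩ := hall
  have hy' : ∃ M : G, tup M = y ∧ Nat.testBit mask2 (code y) = true := by
    have := List.all_eq_true.1 ok2 y hy
    simp only [Bool.and_eq_true, decide_eq_true_eq] at this
    obtain ⟨⟨⟨⟨⟨yb, yd⟩, y1⟩, y2⟩, y3⟩, y4⟩ := this
    obtain ⟨M, hM⟩ := lift_tup yd y1 y2 y3 y4
    exact ⟨M, hM, yb⟩
  obtain ⟨M, rfl, hMb⟩ := hy'
  have hM1 : π (A * M * A⁻¹) ∈ C1.H := by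
    rw [map_mul, map_mul, map_inv]; exact hmem _ (C2.mem_H.2 hMb)
  have hB : B ∈ C1.S := htb
  have hfin := C1.S.mul_mem (C1.S.mul_mem hB (C1.mem_H.1 hM1)) (C1.S.inv_mem hB)
  have : Nat.testBit mask1 (code (tup (B * A * M * (B * A)⁻¹))) = true := by
    rw [show B * A * M * (B * A)⁻¹ = B * (A * M * A⁻¹) * B⁻¹ by group]; exact hfin
  rw [tup_mul, tup_mul, tup_inv] at this
  simp [this] at hyf

theorem simple : IsSimpleGroup P := CfsgLib.Lie.SLn.isSimpleGroup_PSL (Or.inr ⟨2, by decide, by decide⟩)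

theorem card_P : Nat.card P = 660 := by
  have h := CfsgLib.Lie.ProjLine.card_PSL_two (F := ZMod 11) (ZMod.card 11)
  rw [show Nat.gcd 2 (11 - 1) = 2 from rfl, show 11 * (11 ^ 2 - 1) = 2 * 660 from rfl] at h
  omega

open Classical in
theorem orbit_card (H : Subgroup P) (e : Nonempty (H ≃* alternatingGroup (Fin 5))) :
    Nat.card {K : Subgroup P // ∃ g : P, MulAut.conj g • H = K} = 11 := by
  obtain ⟨e⟩ := e
  letI act : MulAction P (Subgroup P) := MulAction.compHom _ (MulAut.conj : P →* MulAut P)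
  have hH : Nat.card H = 60 := by rw [Nat.card_congr e.toEquiv, a5_card]
  have hidx : H.index = 11 := by
    have h := H.card_mul_index
    rw [hH, card_P] at h
    omega
  have hstab : MulAction.stabilizer P H = H := by
    haveI := simple
    have hle : H ≤ MulAction.stabilizer P H := fun g hg => Subgroup.conj_smul_eq_self_of_mem hg
    have hd := Subgroup.index_dvd_of_le hle
    rw [hidx] at hd
    rcases (Nat.dvd_prime (by norm_num : Nat.Prime 11)).1 hd with h | h
    · exfalso
      have htop := Subgroup.index_eq_one.1 h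
      have hn : H.Normal := ⟨fun x hx g => by
        have hg : MulAut.conj g • H = H := (htop.symm ▸ Subgroup.mem_top g : g ∈ MulAction.stabilizer P H)
        exact hg ▸ ⟨x, hx, rfl⟩⟩
      rcases IsSimpleGroup.eq_bot_or_eq_top_of_normal H hn with e' | e'
      · rw [e', Subgroup.card_bot] at hH; omega
      · rw [e', Subgroup.index_top] at hidx; omega
    · refine (Subgroup.eq_of_le_of_card_ge hle ?_).symm
      have h1 := (MulAction.stabilizer P H).card_mul_index
      rw [h, card_P] at h1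
      omega
  have h := MulAction.index_stabilizer P H
  rw [hstab, hidx] at h
  refine Eq.trans ?_ h.symm
  exact Nat.card_congr (Equiv.subtypeEquivRight fun K => Iff.rfl)

theorem main : Nat.card {H : Subgroup P // Nonempty (H ≃* alternatingGroup (Fin 5))} = 22 ∧
    ∃ H K : Subgroup P, Nonempty (H ≃* alternatingGroup (Fin 5)) ∧ Nonempty (K ≃* alternatingGroup (Fin 5)) ∧
      (∀ g : P, MulAut.conj g • H ≠ K) ∧
      ∀ L : Subgroup P, Nonempty (L ≃* alternatingGroup (Fin 5)) →
        ∃ g : P, MulAut.conj g • L = H ∨ MulAut.conj g • L = K := by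
  classical
  refine ⟨?_, C2.H, C1.H, both.2, both.1, not_conj, fun L ⟨e⟩ => ?_⟩
  · have hiff : ∀ K : Subgroup P, Nonempty (K ≃* alternatingGroup (Fin 5)) ↔
        (∃ g : P, MulAut.conj g • C1.H = K) ∨ (∃ g : P, MulAut.conj g • C2.H = K) := by
      intro K
      constructor
      · rintro ⟨e⟩
        obtain ⟨g, h | h⟩ := cover K e
        · exact Or.inl ⟨g⁻¹, by rw [← h, ← mul_smul, ← map_mul, inv_mul_cancel, map_one, one_smul]⟩
        · exact Or.inr ⟨g⁻¹, by rw [← h, ← mul_smul, ← map_mul, inv_mul_cancel, map_one, one_smul]⟩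
      · rintro (⟨g, rfl⟩ | ⟨g, rfl⟩)
        · exact ⟨(Subgroup.equivSMul (MulAut.conj g) C1.H).symm.trans both.1.some⟩
        · exact ⟨(Subgroup.equivSMul (MulAut.conj g) C2.H).symm.trans both.2.some⟩
    rw [Nat.card_congr (Equiv.subtypeEquivRight hiff), Nat.card_congr (subtypeOrEquiv _ _ ?_), Nat.card_sum,
      orbit_card _ both.1, orbit_card _ both.2]
    rw [Pi.disjoint_iff]
    intro K
    rw [Prop.disjoint_iff]
    rintro ⟨⟨g, hg⟩, ⟨g', hg'⟩⟩
    exact not_conj (g⁻¹ * g') (by rw [map_mul, mul_smul, hg', ← hg, ← mul_smul, ← map_mul, inv_mul_cancel, map_one, one_smul])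
  · obtain ⟨g, h | h⟩ := cover L e
    · exact ⟨g, Or.inr h⟩
    · exact ⟨g, Or.inl h⟩

theorem transfer {F : Type*} [Field F] [Fintype F] (hF : Fintype.card F = 11) :
    Nat.card {H : Subgroup (Matrix.ProjectiveSpecialLinearGroup (Fin 2) F) // Nonempty (H ≃* alternatingGroup (Fin 5))} = 22 ∧
    ∃ H K : Subgroup (Matrix.ProjectiveSpecialLinearGroup (Fin 2) F),
      Nonempty (H ≃* alternatingGroup (Fin 5)) ∧ Nonempty (K ≃* alternatingGroup (Fin 5)) ∧
      (∀ g : Matrix.ProjectiveSpecialLinearGroup (Fin 2) F, MulAut.conj g • H ≠ K) ∧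
      ∀ L : Subgroup (Matrix.ProjectiveSpecialLinearGroup (Fin 2) F), Nonempty (L ≃* alternatingGroup (Fin 5)) →
        ∃ g : Matrix.ProjectiveSpecialLinearGroup (Fin 2) F, MulAut.conj g • L = H ∨ MulAut.conj g • L = K := by
  obtain ⟨f⟩ := CfsgLib.Perm.PrimePSL.psl_congr (FiniteField.ringEquivOfCardEq (K := ZMod 11) (K' := F)
    (by rw [ZMod.card, hF]))
  obtain ⟨h22, H, K, hH, hK, hne, hall⟩ := main
  let m := f.mapSubgroup
  have hA5 : ∀ S : Subgroup P, Nonempty (S ≃* alternatingGroup (Fin 5)) ↔ Nonempty (m S ≃* alternatingGroup (Fin 5)) :=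
    fun S => ⟨fun ⟨e⟩ => ⟨(f.subgroupMap S).symm.trans e⟩, fun ⟨e⟩ => ⟨(f.subgroupMap S).trans e⟩⟩
  have hsmul : ∀ (g : P) (S : Subgroup P), m (MulAut.conj g • S) = MulAut.conj (f g) • m S := by
    intro g S
    show Subgroup.map f.toMonoidHom (Subgroup.map (MulAut.conj g).toMonoidHom S) =
      Subgroup.map (MulAut.conj (f g)).toMonoidHom (Subgroup.map f.toMonoidHom S)
    rw [Subgroup.map_map, Subgroup.map_map]
    congr 1
    refine MonoidHom.ext fun x => ?_
    show f (g * x * g⁻¹) = f g * f x * (f g)⁻¹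
    rw [map_mul, map_mul, map_inv]
  refine ⟨(Nat.card_congr (m.toEquiv.subtypeEquiv hA5)).symm.trans h22, m H, m K, (hA5 H).1 hH, (hA5 K).1 hK,
    fun g => ?_, fun L hL => ?_⟩
  · obtain ⟨g, rfl⟩ := f.surjective g
    rw [← hsmul]
    exact fun e => hne g (m.injective e)
  · obtain ⟨L, rfl⟩ := m.surjective L
    obtain ⟨g, h | h⟩ := hall L ((hA5 L).2 hL)
    · exact ⟨f g, Or.inl (by rw [← hsmul, h])⟩
    · exact ⟨f g, Or.inr (by rw [← hsmul, h])⟩

end CfsgLib.Misc.IcosaEleven
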