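import Cfsg.Agent.Misc.IcosaElevenData
import Mathlib.Data.Fintype.Basic

/-! Kernel checks on the two lists. -/

set_option autoImplicit false
set_option maxRecDepth 100000
set_option maxHeartbeats 2000000

namespace CfsgLib.Misc.IcosaEleven

def mulT (x y : T) : T :=
  ((x.1 * y.1 + x.2.1 * y.2.2.1) % 11, (x.1 * y.2.1 + x.2.1 * y.2.2.2) % 11,
   (x.2.2.1 * y.1 + x.2.2.2 * y.2.2.1) % 11, (x.2.2.1 * y.2.1 + x.2.2.2 * y.2.2.2) % 11)

def invT (x : T) : T := (x.2.2.2, (11 - x.2.1) % 11, (11 - x.2.2.1) % 11, x.1)

def code (x : T) : Nat := ((x.1 * 11 + x.2.1) * 11 + x.2.2.1) * 11 + x.2.2.2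

def eqT (x y : T) : Bool := x.1 == y.1 && x.2.1 == y.2.1 && x.2.2.1 == y.2.2.1 && x.2.2.2 == y.2.2.2

theorem eqT_iff (x y : T) : eqT x y = true ↔ x = y := by
  obtain ⟨a, b, c, d⟩ := x
  obtain ⟨a', b', c', d'⟩ := y
  simp [eqT, and_assoc]

def wT : T := (0, 10, 1, 0)
def oneT : T := (1, 0, 0, 1)
def negT : T := (10, 0, 0, 10)
def negwT : T := (0, 1, 10, 0)

/-- conjugation by the matrix with rows (1,-1), (1,1) -/
def phiT (x : T) : T := mulT (mulT (1, 10, 1, 1) x) (6, 6, 5, 6)

def detOk (x : T) : Bool := (x.1 * x.2.2.2 + (11 - x.2.1) * x.2.2.1) % 11 == 1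

/-- all tuples -/
def allT (p : T → Bool) : Bool :=
  (List.range 11).all fun a => (List.range 11).all fun b => (List.range 11).all fun c =>
    (List.range 11).all fun d => p (a, b, c, d)

theorem allT_spec {p : T → Bool} (h : allT p = true) (a b c d : Nat) (ha : a < 11) (hb : b < 11) (hc : c < 11)
    (hd : d < 11) : p (a, b, c, d) = true := by
  simp only [allT, List.all_eq_true, List.mem_range] at h
  exact h a ha b hb c hc d hd

theorem mul1 : (L1.all fun x => L1.all fun y => Nat.testBit mask1 (code (mulT x y))) = true := by decide +kernel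
theorem mul2 : (L2.all fun x => L2.all fun y => Nat.testBit mask2 (code (mulT x y))) = true := by decide +kernel
theorem bit1 : allT (fun x => ! Nat.testBit mask1 (code x) || L1.any (eqT x)) = true := by decide +kernel
theorem bit2 : allT (fun x => ! Nat.testBit mask2 (code x) || L2.any (eqT x)) = true := by decide +kernel
theorem ok1 : (L1.all fun x => Nat.testBit mask1 (code x) && detOk x && decide (x.1 < 11) && decide (x.2.1 < 11) &&
    decide (x.2.2.1 < 11) && decide (x.2.2.2 < 11)) = true := by decide +kernel
theorem ok2 : (L2.all fun x => Nat.testBit mask2 (code x) && detOk x && decide (x.1 < 11) && decide (x.2.1 < 11) &&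
    decide (x.2.2.1 < 11) && decide (x.2.2.2 < 11)) = true := by decide +kernel
theorem inv1 : (L1.all fun x => Nat.testBit mask1 (code (invT x))) = true := by decide +kernel
theorem inv2 : (L2.all fun x => Nat.testBit mask2 (code (invT x))) = true := by decide +kernel
theorem len1 : L1.length = 120 := by decide +kernel
theorem len2 : L2.length = 120 := by decide +kernel
theorem base1 : (Nat.testBit mask1 (code oneT) && Nat.testBit mask1 (code negT) &&
    Nat.testBit mask1 (code wT) && Nat.testBit mask1 (code negwT)) = true := by decide +kernel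
theorem base2 : (Nat.testBit mask2 (code oneT) && Nat.testBit mask2 (code negT) &&
    Nat.testBit mask2 (code wT) && Nat.testBit mask2 (code negwT)) = true := by decide +kernel
theorem phi1 : (L1.all fun x => Nat.testBit mask2 (code (phiT x))) = true := by decide +kernel
theorem phi2 : (L2.all fun x => Nat.testBit mask1 (code (phiT x))) = true := by decide +kernel
theorem CW_ok : (CW.all fun g => detOk g && decide (g.1 < 11) && decide (g.2.1 < 11) && decide (g.2.2.1 < 11) &&
    decide (g.2.2.2 < 11) && (eqT (mulT (mulT g wT) (invT g)) wT || eqT (mulT (mulT g wT) (invT g)) negwT)) = true := by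
  decide +kernel

theorem center_check : allT (fun x => ! detOk x ||
    ! eqT (mulT x (1, 1, 0, 1)) (mulT (1, 1, 0, 1) x) ||
    ! eqT (mulT x (1, 0, 1, 1)) (mulT (1, 0, 1, 1) x) || eqT x oneT || eqT x negT) = true := by decide +kernel

def pow5 (x : T) : T := mulT (mulT (mulT (mulT x x) x) x) x

/-- the second generator lands in one of the two lists after conjugation by an element fixing w -/
theorem gen_check : allT (fun x => ! detOk x || ! eqT (mulT (mulT x x) x) negT || eqT x negT ||
    ! (eqT (pow5 (mulT wT x)) oneT || eqT (pow5 (mulT wT x)) negT) ||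
    eqT (mulT wT x) oneT || eqT (mulT wT x) negT ||
    CW.any (fun g => Nat.testBit mask1 (code (mulT (mulT g x) (invT g))) ||
      Nat.testBit mask2 (code (mulT (mulT g x) (invT g))))) = true := by decide +kernel

/-- elements fixing w do not move the second list into the first -/
theorem apart : allT (fun g => ! detOk g ||
    ! (eqT (mulT (mulT g wT) (invT g)) wT || eqT (mulT (mulT g wT) (invT g)) negwT) ||
    L2.any (fun x => ! Nat.testBit mask1 (code (mulT (mulT g x) (invT g))))) = true := by decide +kernel

/-- non-central square roots of -1 in the first list are conjugate in it to ±w -/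
theorem invol_one : (L1.all fun x => ! eqT (mulT x x) negT || L1.any (fun h =>
    eqT (mulT (mulT h x) (invT h)) wT || eqT (mulT (mulT h x) (invT h)) negwT)) = true := by decide +kernel

end CfsgLib.Misc.IcosaEleven
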