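import Mathlib
import Cfsg.Agent.Lie.NilType

/-!
Nilpotent maps are direct sums of shifts; unipotent classes of GL_n correspond to partitions.
-/

set_option autoImplicit false
set_option linter.unusedSectionVars false

namespace CfsgLib.MiscJordan

open Polynomial Module CfsgLib.Lie.NilType

universe u

variable {F : Type u} [Field F]

set_option maxHeartbeats 1000000 in
theorem exists_shift {V : Type*} [AddCommGroup V] [Module F V] [FiniteDimensional F V] {N : V →ₗ[F] V}
    (hN : IsNilpotent N) : ∃ (m : ℕ) (L : Fin m → ℕ) (e : ((Σ i, Fin (L i)) → F) ≃ₗ[F] V),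
      ∀ v, e (shift F L v) = N (e v) := by
  classical
  obtain ⟨d, hd⟩ := hN
  let φ := Module.AEval'.of N
  have hann : ∀ x : Module.AEval' N, (X : F[X]) ^ d • x = 0 := fun x => by
    apply φ.symm.injective
    rw [map_zero]
    show (Module.AEval.of F V N).symm _ = 0
    rw [Module.AEval.of_symm_smul, map_pow, aeval_X, hd]
    rfl
  have htor : Module.IsTorsion F[X] (Module.AEval' N) := fun x =>
    ⟨⟨X ^ d, mem_nonZeroDivisors_of_ne_zero (pow_ne_zero _ X_ne_zero)⟩, hann x⟩
  obtain ⟨κ, _, p, hp, ε, ⟨E⟩⟩ := Module.equiv_directSum_of_isTorsion htor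
  let EC : (i : κ) → Module.AEval' N →ₗ[F[X]] F[X] ⧸ F[X] ∙ p i ^ ε i := fun i =>
    (DirectSum.component F[X] κ (fun j => F[X] ⧸ F[X] ∙ p j ^ ε j) i).comp E.toLinearMap
  have hsurj : ∀ f : (i : κ) → F[X] ⧸ F[X] ∙ p i ^ ε i, ∃ x, ∀ i, EC i x = f i := fun f =>
    ⟨E.symm (∑ i, DirectSum.lof F[X] κ _ i (f i)), fun i => by
      show DirectSum.component F[X] κ _ i (E (E.symm _)) = f i
      rw [E.apply_symm_apply, map_sum, Finset.sum_eq_single i (fun j _ hj => ?_) (by simp)]
      · exact DirectSum.component.lof_self _ _ _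
      · exact DirectSum.of_eq_of_ne j i _ hj.symm⟩
  have hspan : ∀ i, (F[X] ∙ p i ^ ε i) = F[X] ∙ (X : F[X]) ^ ε i := fun i => by
    obtain ⟨x, hx⟩ := hsurj (Pi.single i (Submodule.Quotient.mk 1))
    have h := congrArg (EC i) (hann x)
    rw [map_smul, map_zero, hx, Pi.single_eq_same, ← Submodule.Quotient.mk_smul, Submodule.Quotient.mk_eq_zero,
      Submodule.mem_span_singleton] at h
    obtain ⟨a, ha⟩ := h
    rw [smul_eq_mul, smul_eq_mul, mul_one] at ha
    rcases Nat.eq_zero_or_pos (ε i) with h0 | h0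
    · rw [h0, pow_zero, pow_zero]
    · have hdvd : p i ∣ (X : F[X]) ^ d := by
        rw [← ha]; exact dvd_mul_of_dvd_right (dvd_pow_self _ h0.ne') _
      have hass : Associated (p i) X := (hp i).associated_of_dvd irreducible_X ((hp i).prime.dvd_of_dvd_pow hdvd)
      exact Ideal.span_singleton_eq_span_singleton.2 hass.pow_pow
  let rep : (i : κ) → V → F[X] := fun i v => (EC i (φ v)).out
  have hrep : ∀ i v, (Submodule.Quotient.mk (rep i v) : F[X] ⧸ F[X] ∙ p i ^ ε i) = EC i (φ v) := fun i v =>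
    Quotient.out_eq _
  have hmem : ∀ i (r : F[X]), r ∈ (F[X] ∙ p i ^ ε i) ↔ ∀ j < ε i, r.coeff j = 0 := fun i r => by
    rw [hspan]
    show r ∈ Ideal.span {(X : F[X]) ^ ε i} ↔ _
    rw [Ideal.mem_span_singleton, X_pow_dvd_iff]
  have hco : ∀ i (r r' : F[X]), (Submodule.Quotient.mk r : F[X] ⧸ F[X] ∙ p i ^ ε i) = Submodule.Quotient.mk r' →
      ∀ j < ε i, r.coeff j = r'.coeff j := fun i r r' h j hj => by
    have := (hmem i _).1 ((Submodule.Quotient.eq _).1 h) j hj
    rwa [coeff_sub, sub_eq_zero] at this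
  let σ := (Fintype.equivFin κ).symm
  let L : Fin (Fintype.card κ) → ℕ := fun i => ε (σ i)
  let Φ : V →ₗ[F] ((Σ i, Fin (L i)) → F) :=
    { toFun := fun v x => (rep (σ x.1) v).coeff x.2.val
      map_add' := fun v w => funext fun x => by
        show _ = (rep (σ x.1) v).coeff x.2.val + (rep (σ x.1) w).coeff x.2.val
        rw [← coeff_add]
        exact hco _ _ _ (by rw [Submodule.Quotient.mk_add, hrep, hrep, hrep, map_add, map_add]) _ x.2.2
      map_smul' := fun c v => funext fun x => by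
        show _ = c * (rep (σ x.1) v).coeff x.2.val
        rw [← coeff_C_mul]
        refine hco _ _ _ ?_ _ x.2.2
        rw [hrep, map_smul, ← smul_eq_mul, Submodule.Quotient.mk_smul, hrep, ← map_smul, ← Polynomial.algebraMap_eq,
          algebraMap_smul, map_smul, LinearMap.map_smul_of_tower] }
  have hΦN : ∀ v, Φ (N v) = shift F L (Φ v) := fun v => funext fun x => by
    show (rep (σ x.1) (N v)).coeff x.2.val =
      if 0 < x.2.val then (rep (σ x.1) v).coeff (x.2.val - 1) else 0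
    rw [hco _ (rep (σ x.1) (N v)) (X * rep (σ x.1) v) ?_ _ x.2.2]
    · rcases hx : x.2.val with _ | j
      · simp
      · simp [coeff_X_mul]
    · rw [hrep, ← smul_eq_mul, Submodule.Quotient.mk_smul, hrep, ← map_smul]
      congr 1
      exact (Module.AEval'.X_smul_of N v).symm
  have hbij : Function.Bijective Φ := by
    constructor
    · refine (injective_iff_map_eq_zero _).2 fun v hv => φ.injective (E.injective ?_)
      rw [map_zero, map_zero]
      refine DirectSum.ext_component F[X] fun i => ?_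
      rw [map_zero]
      show EC i (φ v) = 0
      rw [← hrep, Submodule.Quotient.mk_eq_zero, hmem]
      intro j hj
      obtain ⟨i', rfl⟩ := σ.surjective i
      exact congrFun hv ⟨i', ⟨j, hj⟩⟩
    · intro w
      let f : (i : κ) → F[X] ⧸ F[X] ∙ p i ^ ε i := fun i => Submodule.Quotient.mk
        (∑ j : Fin (ε i), C (w ⟨σ.symm i, ⟨j, by rw [show L (σ.symm i) = ε i by simp [L]]; exact j.2⟩⟩) * X ^ (j : ℕ))
      obtain ⟨x, hx⟩ := hsurj f
      obtain ⟨v, rfl⟩ := φ.surjective x
      refine ⟨v, funext fun y => ?_⟩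
      show (rep (σ y.1) v).coeff y.2.val = w y
      rw [hco _ _ _ ((hrep _ v).trans (hx _)) _ y.2.2]
      rw [Polynomial.finset_sum_coeff, Finset.sum_eq_single ⟨y.2.val, y.2.2⟩
        (fun j _ hj => by
          rw [coeff_C_mul_X_pow, if_neg fun e => hj (Fin.ext e.symm)])
        (by simp), coeff_C_mul_X_pow, if_pos rfl]
      obtain ⟨a, b⟩ := y
      congr 1
      exact Sigma.ext (σ.symm_apply_apply a) ((Fin.heq_ext_iff (by simp [L])).2 rfl)
  refine ⟨_, L, (LinearEquiv.ofBijective Φ hbij).symm, fun v => ?_⟩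
  obtain ⟨w, rfl⟩ := hbij.2 v
  rw [← hΦN]
  exact ((LinearEquiv.ofBijective Φ hbij).symm_apply_apply (N w)).trans
    (congrArg N ((LinearEquiv.ofBijective Φ hbij).symm_apply_apply w).symm)

theorem rk_conj {V W : Type*} [AddCommGroup V] [Module F V] [AddCommGroup W] [Module F W] {A : V →ₗ[F] V}
    {B : W →ₗ[F] W} (e : V ≃ₗ[F] W) (he : ∀ v, e (A v) = B (e v)) (k : ℕ) : rk A ⊤ k = rk B ⊤ k := by
  have hk : ∀ v, e ((A ^ k) v) = (B ^ k) (e v) := by
    induction k with
    | zero => simp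
    | succ k ih => intro v; rw [pow_succ', pow_succ', Module.End.mul_apply, Module.End.mul_apply, he, ih]
  rw [rk, rk, ← e.finrank_map_eq, ← Submodule.map_comp]
  have h1 : e.toLinearMap.comp (A ^ k) = (B ^ k).comp e.toLinearMap := LinearMap.ext hk
  rw [h1, Submodule.map_comp, Submodule.map_top, LinearEquiv.range]

/-- the positive parts -/
def parts {m : ℕ} (L : Fin m → ℕ) : Multiset ℕ := (Finset.univ.val.map L).filter (fun a => a ≠ 0)

theorem count_parts {m : ℕ} (L : Fin m → ℕ) (k : ℕ) :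
    (parts L).count (k + 1) = (Finset.univ.filter fun i => L i = k + 1).card := by
  rw [parts, Multiset.count_filter_of_pos (by omega), Multiset.count_map]
  simp only [eq_comm (a := k + 1)]
  rfl

theorem parts_eq {m m' : ℕ} {L : Fin m → ℕ} {L' : Fin m' → ℕ}
    (h : ∀ k, rk (shift F L) ⊤ k = rk (shift F L') ⊤ k) : parts L = parts L' := by
  refine Multiset.ext.2 fun a => ?_
  rcases a with _ | k
  · rw [parts, parts, Multiset.count_filter_of_neg (by simp), Multiset.count_filter_of_neg (by simp)]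
  have hdd : ∀ k, dd (shift F L) ⊤ k = dd (shift F L') ⊤ k := fun k => by
    have h1 := rk_succ (N := shift F L) (S := ⊤) k
    have h2 := rk_succ (N := shift F L') (S := ⊤) k
    rw [h, h] at h1
    omega
  rw [count_parts, count_parts, ← cc_shift (F := F), ← cc_shift (F := F), cc, cc, hdd, hdd]

theorem sum_parts {m : ℕ} (L : Fin m → ℕ) : (parts L).sum = ∑ i, L i := by
  have h := congrArg Multiset.sum (Multiset.filter_add_not (fun a => a ≠ 0) (Finset.univ.val.map L))
  rw [Multiset.sum_add] at h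
  have h0 : (Multiset.filter (fun a => ¬a ≠ 0) (Finset.univ.val.map L)).sum = 0 :=
    Multiset.sum_eq_zero fun a ha => not_not.1 (Multiset.of_mem_filter (p := fun a => ¬a ≠ 0) ha)
  rw [h0, add_zero] at h
  exact h

theorem model_iso {m m' : ℕ} {L : Fin m → ℕ} {L' : Fin m' → ℕ} (h : parts L = parts L') :
    ∃ e : ((Σ i, Fin (L i)) → F) ≃ₗ[F] ((Σ i, Fin (L' i)) → F), ∀ v, e (shift F L v) = shift F L' (e v) := by
  classical
  have hcard : ∀ a : ℕ, Nonempty ({i : {i // L i ≠ 0} // L i.1 = a} ≃ {j : {j // L' j ≠ 0} // L' j.1 = a}) := by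
    intro a
    refine Fintype.card_eq.1 ?_
    rcases a with _ | k
    · rw [Fintype.card_eq_zero_iff.2 ⟨fun i => i.1.2 i.2⟩, Fintype.card_eq_zero_iff.2 ⟨fun i => i.1.2 i.2⟩]
    · rw [Fintype.card_congr (Equiv.subtypeSubtypeEquivSubtype (p := fun i => L i ≠ 0) (q := fun i => L i = k + 1)
        (by intro i hi; omega)),
        Fintype.card_congr (Equiv.subtypeSubtypeEquivSubtype (p := fun i => L' i ≠ 0) (q := fun i => L' i = k + 1)
        (by intro i hi; omega)), Fintype.card_subtype, Fintype.card_subtype, ← count_parts, ← count_parts, h]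
  let π : {i // L i ≠ 0} ≃ {j // L' j ≠ 0} := Equiv.ofFiberEquiv fun a => (hcard a).some
  have hπ : ∀ i, L' (π i).1 = L i.1 := fun i => Equiv.ofFiberEquiv_map (fun a => (hcard a).some) i
  let fwd : (Σ i, Fin (L i)) → (Σ j, Fin (L' j)) := fun x =>
    ⟨(π ⟨x.1, by have := x.2.2; omega⟩).1, ⟨x.2.val, by rw [hπ]; exact x.2.2⟩⟩
  have hfwd : Function.Bijective fwd := by
    constructor
    · rintro ⟨i, a⟩ ⟨j, b⟩ e
      have e1 := congrArg Sigma.fst e
      have e2 := congrArg (fun y : Σ j, Fin (L' j) => y.2.val) e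
      have e3 := congrArg Subtype.val (π.injective (Subtype.ext e1))
      simp only at e3
      subst e3
      exact Sigma.ext rfl (heq_of_eq (Fin.ext e2))
    · rintro ⟨j, b⟩
      have hj : L' j ≠ 0 := by have := b.2; omega
      have hb : b.val < L (π.symm ⟨j, hj⟩).1 := by
        rw [← hπ, π.apply_symm_apply]; exact b.2
      refine ⟨⟨(π.symm ⟨j, hj⟩).1, ⟨b.val, hb⟩⟩, ?_⟩
      have e1 : π ⟨(π.symm ⟨j, hj⟩).1, by omega⟩ = ⟨j, hj⟩ := π.apply_symm_apply _
      refine Sigma.ext (congrArg Subtype.val e1) ?_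
      exact (Fin.heq_ext_iff (show L' (π ⟨(π.symm ⟨j, hj⟩).1, _⟩).1 = L' j by rw [e1])).2 rfl
  refine ⟨LinearEquiv.funCongrLeft F F (Equiv.ofBijective fwd hfwd).symm, fun v => funext fun y => ?_⟩
  obtain ⟨x, rfl⟩ := hfwd.2 y
  have hx : (Equiv.ofBijective fwd hfwd).symm (fwd x) = x := (Equiv.ofBijective fwd hfwd).symm_apply_apply x
  show shift F L v ((Equiv.ofBijective fwd hfwd).symm (fwd x)) =
    shift F L' (fun z => v ((Equiv.ofBijective fwd hfwd).symm z)) (fwd x)
  rw [hx]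
  show (if 0 < x.2.val then v ⟨x.1, ⟨x.2.val - 1, _⟩⟩ else 0) =
    if 0 < x.2.val then v ((Equiv.ofBijective fwd hfwd).symm ⟨(fwd x).1, ⟨x.2.val - 1, _⟩⟩) else 0
  split_ifs with h0
  · congr 1
    rw [eq_comm, Equiv.symm_apply_eq]
    rfl
  · rfl

theorem shift_pow_eq_zero {m : ℕ} (L : Fin m → ℕ) (k : ℕ) : shift F L ^ k = 0 ↔ ∀ i, L i ≤ k := by
  constructor
  · intro h i
    by_contra hlt
    have h1 := dd_shift (F := F) L k
    have h0 : dd (shift F L) ⊤ k = 0 := by
      rw [dd, h, Submodule.map_zero, inf_bot_eq, finrank_bot]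
    rw [h0] at h1
    have : i ∈ (Finset.univ.filter fun i => k < L i) := Finset.mem_filter.2 ⟨Finset.mem_univ _, by omega⟩
    rw [Finset.card_eq_zero.1 h1.symm] at this
    simp at this
  · intro h
    refine LinearMap.ext fun v => funext fun x => ?_
    rw [shift_pow, if_neg (by have := x.2.2; have := h x.1; omega)]
    rfl

/-! ### Classes -/

variable [Fintype F] {p : ℕ} [Fact p.Prime] [CharP F p] {n : ℕ}

noncomputable abbrev nilOf (g : GL (Fin n) F) : (Fin n → F) →ₗ[F] (Fin n → F) :=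
  Matrix.toLinAlgEquiv' ((g : Matrix (Fin n) (Fin n) F) - 1)

theorem pow_p_iff (g : GL (Fin n) F) (k : ℕ) : g ^ (p ^ k) = 1 ↔ nilOf g ^ (p ^ k) = 0 := by
  rcases Nat.eq_zero_or_pos n with rfl | hn
  · exact ⟨fun _ => Subsingleton.elim _ _, fun _ => Subsingleton.elim _ _⟩
  haveI : Nonempty (Fin n) := ⟨⟨0, hn⟩⟩
  rw [nilOf, ← map_pow, map_eq_zero_iff _ Matrix.toLinAlgEquiv'.injective,
    sub_pow_char_pow_of_commute p k (Commute.one_right _), one_pow, sub_eq_zero, Units.ext_iff,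
    Units.val_pow_eq_pow_val, Units.val_one]

/-- the type of a unipotent element -/
theorem exists_type {g : GL (Fin n) F} {k : ℕ} (hg : g ^ (p ^ k) = 1) :
    ∃ (m : ℕ) (L : Fin m → ℕ) (e : ((Σ i, Fin (L i)) → F) ≃ₗ[F] (Fin n → F)),
      (∀ v, e (shift F L v) = nilOf g (e v)) ∧ ∑ i, L i = n := by
  obtain ⟨m, L, e, he⟩ := exists_shift (N := nilOf g) ⟨_, (pow_p_iff g k).1 hg⟩
  refine ⟨m, L, e, he, ?_⟩
  have := e.finrank_eq
  rw [Module.finrank_fin_fun, Module.finrank_pi, Fintype.card_sigma] at this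
  simpa using this

theorem exists_unipotent {m : ℕ} (L : Fin m → ℕ) (hL : ∑ i, L i = n) :
    ∃ (g : GL (Fin n) F) (e : ((Σ i, Fin (L i)) → F) ≃ₗ[F] (Fin n → F)), ∀ v, e (shift F L v) = nilOf g (e v) := by
  let σ : (Σ i, Fin (L i)) ≃ Fin n := Fintype.equivFinOfCardEq (by simp [hL])
  let e : ((Σ i, Fin (L i)) → F) ≃ₗ[F] (Fin n → F) := LinearEquiv.funCongrLeft F F σ.symm
  set T : (Fin n → F) →ₗ[F] (Fin n → F) := e.conj (shift F L)
  have hnil : IsNilpotent T := by
    refine ⟨∑ i, L i, ?_⟩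
    show (e.conjAlgEquiv F (shift F L)) ^ _ = 0
    rw [← map_pow, (shift_pow_eq_zero L _).2 fun i => Finset.single_le_sum (fun j _ => Nat.zero_le _) (Finset.mem_univ i),
      map_zero]
  have hu : IsUnit ((1 : Matrix (Fin n) (Fin n) F) + Matrix.toLinAlgEquiv'.symm T) :=
    (hnil.map (Matrix.toLinAlgEquiv'.symm : _ ≃ₐ[F] Matrix (Fin n) (Fin n) F)).isUnit_one_add
  refine ⟨hu.unit, e, fun v => ?_⟩
  rw [nilOf, IsUnit.unit_spec, add_sub_cancel_left, AlgEquiv.apply_symm_apply, LinearEquiv.conj_apply_apply,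
    LinearEquiv.symm_apply_apply]

theorem conj_of_parts {g h : GL (Fin n) F} {m m' : ℕ} {L : Fin m → ℕ} {L' : Fin m' → ℕ}
    (e : ((Σ i, Fin (L i)) → F) ≃ₗ[F] (Fin n → F)) (he : ∀ v, e (shift F L v) = nilOf g (e v))
    (e' : ((Σ i, Fin (L' i)) → F) ≃ₗ[F] (Fin n → F)) (he' : ∀ v, e' (shift F L' v) = nilOf h (e' v))
    (hp : parts L = parts L') : IsConj g h := by
  obtain ⟨f, hf⟩ := model_iso (F := F) hp
  let E : (Fin n → F) ≃ₗ[F] (Fin n → F) := (e.symm.trans f).trans e'
  have hE : ∀ x, E (nilOf g x) = nilOf h (E x) := fun x => by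
    obtain ⟨v, rfl⟩ := e.surjective x
    simp only [E, LinearEquiv.trans_apply, ← he, LinearEquiv.symm_apply_apply, hf, he']
  let c : GL (Fin n) F := Matrix.GeneralLinearGroup.toLin.symm
    ((LinearMap.GeneralLinearGroup.generalLinearEquiv F (Fin n → F)).symm E)
  have hc : ∀ x, Matrix.mulVec (c : Matrix (Fin n) (Fin n) F) x = E x := fun x => by
    have : Matrix.toLin' (c : Matrix (Fin n) (Fin n) F) = (E : (Fin n → F) →ₗ[F] (Fin n → F)) := by
      show Matrix.toLin' (LinearMap.toMatrix' (E : (Fin n → F) →ₗ[F] (Fin n → F))) = _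
      rw [Matrix.toLin'_toMatrix']
    exact LinearMap.congr_fun this x
  refine isConj_iff.2 ⟨c, mul_inv_eq_of_eq_mul (Units.ext (Matrix.ext_of_mulVec_single fun i => ?_))⟩
  have := hE (Pi.single i 1)
  change E (Matrix.mulVec ((g : Matrix (Fin n) (Fin n) F) - 1) (Pi.single i 1)) =
    Matrix.mulVec ((h : Matrix (Fin n) (Fin n) F) - 1) (E (Pi.single i 1)) at this
  rw [Matrix.sub_mulVec, Matrix.sub_mulVec, Matrix.one_mulVec, Matrix.one_mulVec, map_sub, sub_left_inj] at this
  rw [Units.val_mul, Units.val_mul, ← Matrix.mulVec_mulVec, ← Matrix.mulVec_mulVec, hc, hc, this]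

theorem parts_of_conj {g h : GL (Fin n) F} {m m' : ℕ} {L : Fin m → ℕ} {L' : Fin m' → ℕ}
    (e : ((Σ i, Fin (L i)) → F) ≃ₗ[F] (Fin n → F)) (he : ∀ v, e (shift F L v) = nilOf g (e v))
    (e' : ((Σ i, Fin (L' i)) → F) ≃ₗ[F] (Fin n → F)) (he' : ∀ v, e' (shift F L' v) = nilOf h (e' v))
    (hc : IsConj g h) : parts L = parts L' := by
  refine parts_eq (F := F) fun k => ?_
  rw [rk_conj e he, rk_conj e' he']
  obtain ⟨c, hc⟩ := isConj_iff.1 hc
  refine rk_conj ((LinearMap.GeneralLinearGroup.generalLinearEquiv F (Fin n → F)) (Matrix.GeneralLinearGroup.toLin c))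
    (fun v => ?_) k
  show Matrix.mulVec (c : Matrix (Fin n) (Fin n) F) (nilOf g v) = nilOf h (Matrix.mulVec (c : Matrix (Fin n) (Fin n) F) v)
  simp only [nilOf, Matrix.toLinAlgEquiv'_apply, Matrix.mulVec_mulVec, mul_sub, sub_mul, mul_one, one_mul,
    ← Units.val_mul]
  rw [← hc]
  group

theorem count_classes (n : ℕ) (P : ℕ → Prop) [DecidablePred P] (Q : GL (Fin n) F → Prop)
    (hQ : ∀ g, Q g → ∃ k, g ^ (p ^ k) = 1) (hQconj : ∀ g h, IsConj g h → Q g → Q h)
    (hQiff : ∀ (g : GL (Fin n) F) (m : ℕ) (L : Fin m → ℕ) (e : ((Σ i, Fin (L i)) → F) ≃ₗ[F] (Fin n → F)),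
      (∀ v, e (shift F L v) = nilOf g (e v)) → ∑ i, L i = n → (Q g ↔ ∀ a ∈ parts L, P a)) :
    Nat.card {C : ConjClasses (GL (Fin n) F) // ∃ g, Q g ∧ ConjClasses.mk g = C} =
      (Finset.univ.filter fun μ : Nat.Partition n => ∀ a ∈ μ.parts, P a).card := by
  classical
  have key : ∀ μ : {μ : Nat.Partition n // ∀ a ∈ μ.parts, P a}, ∃ (g : GL (Fin n) F) (m : ℕ) (L : Fin m → ℕ)
      (e : ((Σ i, Fin (L i)) → F) ≃ₗ[F] (Fin n → F)),
      Q g ∧ (∀ v, e (shift F L v) = nilOf g (e v)) ∧ parts L = μ.1.parts := by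
    intro μ
    obtain ⟨l, hl⟩ : ∃ l : List ℕ, (l : Multiset ℕ) = μ.1.parts := ⟨μ.1.parts.toList, Multiset.coe_toList _⟩
    let L : Fin l.length → ℕ := fun i => l.get i
    have hmap : Finset.univ.val.map L = μ.1.parts := by
      rw [← hl, Fin.univ_val_map]
      exact congrArg _ (List.ofFn_get l)
    have hparts : parts L = μ.1.parts := by
      rw [parts, hmap, Multiset.filter_eq_self.2 fun a ha => (μ.1.parts_pos ha).ne']
    have hsum : ∑ i, L i = n := by rw [← sum_parts, hparts, μ.1.parts_sum]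
    obtain ⟨g, e, he⟩ := exists_unipotent (F := F) L hsum
    exact ⟨g, _, L, e, (hQiff g _ L e he hsum).2 (by rw [hparts]; exact μ.2), he, hparts⟩
  choose g m L e hQg he hparts using key
  rw [← Fintype.card_subtype, ← Nat.card_eq_fintype_card]
  refine (Nat.card_eq_of_bijective (fun μ => ⟨ConjClasses.mk (g μ), g μ, hQg μ, rfl⟩) ⟨?_, ?_⟩).symm
  · intro μ ν h
    have hc : IsConj (g μ) (g ν) := ConjClasses.mk_eq_mk_iff_isConj.1 (congrArg Subtype.val h)
    refine Subtype.ext (Nat.Partition.ext ?_)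
    rw [← hparts μ, ← hparts ν]
    exact parts_of_conj (e μ) (he μ) (e ν) (he ν) hc
  · rintro ⟨-, x, hx, rfl⟩
    obtain ⟨k, hk⟩ := hQ x hx
    obtain ⟨m', L', e', he', hsum⟩ := exists_type (p := p) hk
    have hP := (hQiff x m' L' e' he' hsum).1 hx
    let μ : Nat.Partition n := ⟨parts L', fun {a} ha => Nat.pos_of_ne_zero (Multiset.of_mem_filter (p := fun a => a ≠ 0) ha),
      by rw [sum_parts, hsum]⟩
    refine ⟨⟨μ, hP⟩, Subtype.ext (ConjClasses.mk_eq_mk_iff_isConj.2 ?_)⟩
    exact conj_of_parts (e _) (he _) e' he' (hparts ⟨μ, hP⟩)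

theorem card_unipotent_classes (n : ℕ) :
    Nat.card {C : ConjClasses (GL (Fin n) F) // ∃ g : GL (Fin n) F, (∃ k : ℕ, orderOf g = p ^ k) ∧ ConjClasses.mk g = C} =
      Fintype.card (Nat.Partition n) := by
  classical
  rw [count_classes n (fun _ => True) _ (fun g ⟨k, hk⟩ => ⟨k, by rw [← hk, pow_orderOf_eq_one]⟩)
    (fun g h hc ⟨k, hk⟩ => ⟨k, by obtain ⟨c, rfl⟩ := isConj_iff.1 hc; rw [← hk]; exact (MulAut.conj c).orderOf_eq g⟩)]
  · simp
  · intro g m L e he hsum
    simp only [implies_true, iff_true]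
    have hs : shift F L ^ (p ^ n) = 0 := (shift_pow_eq_zero L _).2 fun i => by
      calc L i ≤ ∑ j, L j := Finset.single_le_sum (fun j _ => Nat.zero_le _) (Finset.mem_univ i)
        _ = n := hsum
        _ ≤ p ^ n := (Nat.lt_pow_self (Fact.out : p.Prime).one_lt).le
    have hg : g ^ (p ^ n) = 1 := by
      rw [pow_p_iff]
      refine LinearMap.ext fun x => ?_
      obtain ⟨v, rfl⟩ := e.surjective x
      have hk : ∀ k, (nilOf g ^ k) (e v) = e ((shift F L ^ k) v) := fun k => by
        induction k with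
        | zero => simp
        | succ k ih => rw [pow_succ', pow_succ', Module.End.mul_apply, Module.End.mul_apply, ih, he]
      rw [hk, hs]
      simp
    obtain ⟨i, -, hi⟩ := (Nat.dvd_prime_pow Fact.out).1 (orderOf_dvd_of_pow_eq_one hg)
    exact ⟨i, hi⟩

theorem card_order_p_classes (n : ℕ) :
    Nat.card {C : ConjClasses (GL (Fin n) F) // ∃ g : GL (Fin n) F, ConjClasses.mk g = C ∧ orderOf g = p} =
      (Finset.univ.filter (fun μ : Nat.Partition n => ∀ a ∈ μ.parts, a ≤ p)).card - 1 := by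
  classical
  rw [← count_classes (F := F) (p := p) n (fun a => a ≤ p) (fun g => g ^ p = 1) (fun g hg => ⟨1, by rwa [pow_one]⟩)
    (fun g h hc hg => by obtain ⟨c, rfl⟩ := isConj_iff.1 hc; rw [conj_pow, hg, mul_one, mul_inv_cancel])]
  · have e : {C : ConjClasses (GL (Fin n) F) // ∃ g, g ^ p = 1 ∧ ConjClasses.mk g = C} ≃
        {C : ConjClasses (GL (Fin n) F) // ∃ g, ConjClasses.mk g = C ∧ orderOf g = p} ⊕ Unit := by
      refine ((Equiv.sumCompl fun C : {C : ConjClasses (GL (Fin n) F) // ∃ g, g ^ p = 1 ∧ ConjClasses.mk g = C} =>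
        C.1 ≠ ConjClasses.mk 1).symm).trans (Equiv.sumCongr ?_ ?_)
      · refine (Equiv.subtypeSubtypeEquivSubtypeInter
          (fun C : ConjClasses (GL (Fin n) F) => ∃ g, g ^ p = 1 ∧ ConjClasses.mk g = C)
          (fun C => C ≠ ConjClasses.mk 1)).trans (Equiv.subtypeEquivRight fun C => ?_)
        constructor
        · rintro ⟨⟨g, hg, rfl⟩, hne⟩
          exact ⟨g, rfl, orderOf_eq_prime hg fun e => hne (by rw [e])⟩
        · rintro ⟨g, rfl, hg⟩
          refine ⟨⟨g, by rw [← hg, pow_orderOf_eq_one], rfl⟩, fun e => ?_⟩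
          rw [ConjClasses.mk_eq_mk_iff_isConj] at e
          replace e : g = 1 := by simpa using e
          · rw [e, orderOf_one] at hg
            exact (Fact.out : p.Prime).ne_one hg.symm
      · exact Equiv.ofBijective (fun _ => ()) ⟨fun a b _ =>
          Subtype.ext (Subtype.ext ((not_not.1 a.2).trans (not_not.1 b.2).symm)),
          fun _ => ⟨⟨⟨ConjClasses.mk 1, 1, one_pow _, rfl⟩, by simp⟩, rfl⟩⟩
    rw [Nat.card_congr e, Nat.card_sum, Nat.card_eq_fintype_card (α := Unit), Fintype.card_unit, Nat.add_sub_cancel]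
  · intro g m L e he hsum
    have h1 := pow_p_iff (p := p) g 1
    rw [pow_one] at h1
    rw [h1]
    have hk : ∀ v k, (nilOf g ^ k) (e v) = e ((shift F L ^ k) v) := fun v k => by
      induction k with
      | zero => simp
      | succ k ih => rw [pow_succ', pow_succ', Module.End.mul_apply, Module.End.mul_apply, ih, he]
    have h2 : nilOf g ^ p = 0 ↔ shift F L ^ p = 0 := by
      constructor
      · intro h
        refine LinearMap.ext fun v => e.injective ?_
        rw [← hk, h]; simp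
      · intro h
        refine LinearMap.ext fun x => ?_
        obtain ⟨v, rfl⟩ := e.surjective x
        rw [hk, h]; simp
    rw [h2, shift_pow_eq_zero]
    constructor
    · intro h a ha
      obtain ⟨i, -, rfl⟩ := Multiset.mem_map.1 (Multiset.mem_of_mem_filter ha)
      exact h i
    · intro h i
      by_cases h0 : L i = 0
      · rw [h0]; exact Nat.zero_le _
      · exact h _ (Multiset.mem_filter.2 ⟨Multiset.mem_map.2 ⟨i, Finset.mem_univ_val _, rfl⟩, h0⟩)

end CfsgLib.MiscJordan
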