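import Mathlib
import Cfsg.Agent.Misc.JordanClasses

/-!
Classes of involutions of SL_n in characteristic two.
-/

set_option autoImplicit false
set_option linter.unusedSectionVars false

namespace CfsgLib.MiscInvClassesSL

open Matrix Module CfsgLib.MiscJordan CfsgLib.Lie.NilType

universe u

variable {F : Type u} [Field F] [Fintype F] [CharP F 2] {n : ℕ}

theorem sq_zero {g : GL (Fin n) F} (hg : g * g = 1) : nilOf g ^ 2 = 0 := by
  haveI : Fact (Nat.Prime 2) := ⟨Nat.prime_two⟩
  have := (pow_p_iff (p := 2) g 1).1 (by rw [pow_one, sq, hg])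
  rwa [pow_one] at this

theorem rk_eq {g h : GL (Fin n) F} (hg : g * g = 1) (hh : h * h = 1)
    (hr : ((g : Matrix (Fin n) (Fin n) F) - 1).rank = ((h : Matrix (Fin n) (Fin n) F) - 1).rank) (k : ℕ) :
    rk (nilOf g) ⊤ k = rk (nilOf h) ⊤ k := by
  rcases k with _ | _ | k
  · rw [rk, rk, pow_zero, pow_zero]
  · rw [rk, rk, zero_add, pow_one, pow_one, Submodule.map_top, Submodule.map_top]
    exact hr
  · rw [rk, rk, show k + 1 + 1 = k + 2 by omega, pow_add, pow_add, sq_zero hg, sq_zero hh, mul_zero, mul_zero]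

/-- in a centraliser every square occurs as a determinant -/
theorem exists_det_sq {g : GL (Fin n) F} (hg : g * g = 1) (hne : g ≠ 1) (s : Fˣ) :
    ∃ z : GL (Fin n) F, z * g = g * z ∧ GeneralLinearGroup.det z = s ^ 2 := by
  classical
  haveI : Fact (Nat.Prime 2) := ⟨Nat.prime_two⟩
  obtain ⟨m, L, e, he, -⟩ := exists_type (p := 2) (g := g) (k := 1) (by rw [pow_one, sq, hg])
  have hs2 : shift F L ^ 2 = 0 := by
    refine LinearMap.ext fun v => e.injective ?_
    have h1 : e ((shift F L ^ 2) v) = (nilOf g ^ 2) (e v) := by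
      rw [sq, sq, Module.End.mul_apply, Module.End.mul_apply, he, he]
    rw [h1, sq_zero hg]; simp
  have hL2 := (shift_pow_eq_zero L 2).1 hs2
  obtain ⟨i₀, hi₀⟩ : ∃ i, L i = 2 := by
    by_contra hno
    push Not at hno
    have h1 : shift F L ^ 1 = 0 := (shift_pow_eq_zero L 1).2 fun i => by have := hL2 i; have := hno i; omega
    refine hne (Units.ext (sub_eq_zero.1 (Matrix.toLinAlgEquiv'.injective ?_)))
    rw [map_zero]
    refine LinearMap.ext fun x => ?_
    obtain ⟨v, rfl⟩ := e.surjective x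
    show nilOf g (e v) = 0
    rw [← he, ← pow_one (shift F L), h1]; simp
  let w : (Σ i, Fin (L i)) → F := fun x => if x.1 = i₀ then (s : F) else 1
  let D : ((Σ i, Fin (L i)) → F) →ₗ[F] ((Σ i, Fin (L i)) → F) := Matrix.toLin' (Matrix.diagonal w)
  have hD : ∀ v, D (shift F L v) = shift F L (D v) := fun v => funext fun x => by
    simp only [D, Matrix.toLin'_apply, Matrix.mulVec_diagonal]
    show w x * (if 0 < x.2.val then v ⟨x.1, ⟨x.2.val - 1, _⟩⟩ else 0) =
      if 0 < x.2.val then (Matrix.diagonal w).mulVec v ⟨x.1, ⟨x.2.val - 1, _⟩⟩ else 0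
    split_ifs
    · rw [Matrix.mulVec_diagonal]
    · rw [mul_zero]
  have hdet : LinearMap.det D = (s : F) ^ 2 := by
    rw [LinearMap.det_toLin', Matrix.det_diagonal, Fintype.prod_sigma,
      Finset.prod_eq_single i₀ (fun i _ hi => by simp [w, hi]) (by simp)]
    simp [w, hi₀]
  let Z : (Fin n → F) →ₗ[F] (Fin n → F) := (e : _ →ₗ[F] _).comp (D.comp (e.symm : _ →ₗ[F] _))
  have hZdet : (LinearMap.toMatrix' Z).det = (s : F) ^ 2 := by
    rw [LinearMap.det_toMatrix', LinearMap.det_conj, hdet]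
  refine ⟨GeneralLinearGroup.mkOfDetNeZero (LinearMap.toMatrix' Z) (by rw [hZdet]; simp), Units.ext ?_,
    Units.ext (by show (LinearMap.toMatrix' Z).det = _; rw [hZdet]; rfl)⟩
  show LinearMap.toMatrix' Z * (g : Matrix (Fin n) (Fin n) F) = (g : Matrix (Fin n) (Fin n) F) * LinearMap.toMatrix' Z
  have hc : LinearMap.toMatrix' Z * ((g : Matrix (Fin n) (Fin n) F) - 1) =
      ((g : Matrix (Fin n) (Fin n) F) - 1) * LinearMap.toMatrix' Z := by
    refine Matrix.toLin'.injective (LinearMap.ext fun x => ?_)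
    obtain ⟨v, rfl⟩ := e.surjective x
    rw [Matrix.toLin'_mul, Matrix.toLin'_mul, LinearMap.comp_apply, LinearMap.comp_apply, Matrix.toLin'_toMatrix']
    have he' : ∀ u, Matrix.toLin' ((g : Matrix (Fin n) (Fin n) F) - 1) u = nilOf g u := fun u => rfl
    rw [he', he', ← he]
    simp only [Z, LinearMap.comp_apply, LinearEquiv.coe_coe, LinearEquiv.symm_apply_apply, hD]
    exact he _
  rwa [mul_sub, sub_mul, mul_one, one_mul, sub_left_inj] at hc

theorem conj_iff (a b : SpecialLinearGroup (Fin n) F) (ha : orderOf a = 2) (hb : orderOf b = 2) :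
    IsConj a b ↔ ((a : Matrix (Fin n) (Fin n) F) - 1).rank = ((b : Matrix (Fin n) (Fin n) F) - 1).rank := by
  classical
  haveI : Fact (Nat.Prime 2) := ⟨Nat.prime_two⟩
  set A := SpecialLinearGroup.toGL a with hAdef
  set B := SpecialLinearGroup.toGL b with hBdef
  have hA : A * A = 1 := by rw [hAdef, ← map_mul, ← sq, ← ha, pow_orderOf_eq_one, map_one]
  have hB : B * B = 1 := by rw [hBdef, ← map_mul, ← sq, ← hb, pow_orderOf_eq_one, map_one]
  have hAne : A ≠ 1 := fun h => by
    rw [hAdef, ← map_one (SpecialLinearGroup.toGL (n := Fin n) (R := F))] at h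
    rw [SpecialLinearGroup.toGL_injective h, orderOf_one] at ha
    omega
  constructor
  · intro h
    obtain ⟨c, hc⟩ := isConj_iff.1 h
    set C := SpecialLinearGroup.toGL c with hCdef
    have hBA : B = C * A * C⁻¹ := by rw [hBdef, hCdef, hAdef, ← hc, map_mul, map_mul, map_inv]
    have hv : (b : Matrix (Fin n) (Fin n) F) - 1 =
        (C : Matrix (Fin n) (Fin n) F) * ((a : Matrix (Fin n) (Fin n) F) - 1) * (↑C⁻¹ : Matrix (Fin n) (Fin n) F) := by
      rw [show (b : Matrix (Fin n) (Fin n) F) = (B : Matrix (Fin n) (Fin n) F) from rfl, hBA, Units.val_mul, Units.val_mul,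
        mul_sub, sub_mul, mul_one, Units.mul_inv]
      rfl
    rw [hv, Matrix.rank_mul_eq_left_of_isUnit_det _ _ ((Matrix.isUnit_iff_isUnit_det _).1 (Units.isUnit _)),
      Matrix.rank_mul_eq_right_of_isUnit_det _ _ ((Matrix.isUnit_iff_isUnit_det _).1 (Units.isUnit _))]
  · intro h
    obtain ⟨m, L, e, he, -⟩ := exists_type (p := 2) (g := A) (k := 1) (by rw [pow_one, sq, hA])
    obtain ⟨m', L', e', he', -⟩ := exists_type (p := 2) (g := B) (k := 1) (by rw [pow_one, sq, hB])
    have hconj : IsConj A B := conj_of_parts e he e' he' (parts_eq (F := F) fun k => by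
      rw [rk_conj e he, rk_conj e' he', rk_eq hA hB h])
    obtain ⟨c, hc⟩ := isConj_iff.1 hconj
    obtain ⟨r, hr⟩ := (frobeniusEquiv F 2).surjective (((GeneralLinearGroup.det c)⁻¹ : Fˣ) : F)
    rw [frobeniusEquiv_apply, frobenius_def] at hr
    have hr0 : r ≠ 0 := fun h0 => ((GeneralLinearGroup.det c)⁻¹).ne_zero (by rw [← hr, h0]; simp)
    obtain ⟨z, hz, hzdet⟩ := exists_det_sq hA hAne (Units.mk0 r hr0)
    have hcz : GeneralLinearGroup.det (c * z) = 1 := by
      rw [map_mul, hzdet, show (Units.mk0 r hr0) ^ 2 = (GeneralLinearGroup.det c)⁻¹ from Units.ext hr, mul_inv_cancel]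
    obtain ⟨u, hu⟩ : ∃ u : SpecialLinearGroup (Fin n) F, SpecialLinearGroup.toGL u = c * z :=
      ⟨⟨_, congrArg Units.val hcz⟩, Units.ext rfl⟩
    refine isConj_iff.2 ⟨u, SpecialLinearGroup.toGL_injective ?_⟩
    rw [map_mul, map_mul, map_inv, hu, ← hBdef, ← hc]
    show c * z * A * (c * z)⁻¹ = _
    rw [mul_assoc c z A, hz]
    group

end CfsgLib.MiscInvClassesSL
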