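import Mathlib
import Cfsg.Prelude.Def_Classical
import Cfsg.Prelude.Def_ClassicalGeometry
import Cfsg.Agent.Lie.OrthBasis

/-! Explicit involutions in classical groups of characteristic two, and the parity of alternating forms. -/

set_option autoImplicit false

open Matrix

namespace CfsgLib.Misc.InvolExamples

variable {F : Type*} [Field F]

theorem rank_of_factor {n : ℕ} {ℓ : ℕ} (E : Matrix (Fin n) (Fin n) F) (A : Matrix (Fin n) (Fin ℓ) F)
    (B : Matrix (Fin ℓ) (Fin n) F) (r c : Fin ℓ → Fin n) (hE : E = A * B)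
    (h1 : E.submatrix r c = 1) : E.rank = ℓ := by
  refine le_antisymm ?_ ?_
  · rw [hE]
    exact (rank_mul_le_left A B).trans (by simpa using rank_le_card_width A)
  · have h := rank_submatrix_le E r c
    rw [h1, rank_one] at h
    simpa using h

def lo {n ℓ : ℕ} (h2 : 2 * ℓ ≤ n) (k : Fin ℓ) : Fin n := ⟨k.1, by omega⟩
def hi {n ℓ : ℕ} (h2 : 2 * ℓ ≤ n) (k : Fin ℓ) : Fin n := ⟨k.1 + (n - ℓ), by omega⟩

theorem orderOf_involution {G : Type*} [Group G] (a : G) (h1 : a ≠ 1) (h2 : a * a = 1) : orderOf a = 2 := by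
  haveI : Fact (Nat.Prime 2) := ⟨Nat.prime_two⟩
  exact orderOf_eq_prime (by rw [pow_two, h2]) h1

theorem sl_invol [CharP F 2] {n : ℕ} (ℓ : ℕ) (h1 : 1 ≤ ℓ) (h2 : 2 * ℓ ≤ n) :
    ∃ a : SpecialLinearGroup (Fin n) F,
      (a : Matrix (Fin n) (Fin n) F) = 1 + Matrix.of (fun i j : Fin n =>
        if j.val < ℓ ∧ i.val = j.val + (n - ℓ) then (1 : F) else 0) ∧
      orderOf a = 2 ∧ ((a : Matrix (Fin n) (Fin n) F) - 1).rank = ℓ := by
  classical
  set E : Matrix (Fin n) (Fin n) F := Matrix.of (fun i j : Fin n =>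
        if j.val < ℓ ∧ i.val = j.val + (n - ℓ) then (1 : F) else 0) with hEdef
  have hdet : (1 + E).det = 1 := by
    rw [det_of_lowerTriangular]
    · refine Finset.prod_eq_one fun i _ => ?_
      have : E i i = 0 := by
        simp only [hEdef, of_apply]; exact if_neg (by omega)
      simp [this]
    · intro i j hij
      have hij' : i.val < j.val := hij
      have : E i j = 0 := by
        simp only [hEdef, of_apply]; exact if_neg (by omega)
      simp [this, (Fin.ne_of_lt hij')]
  refine ⟨⟨1 + E, hdet⟩, rfl, ?_, ?_⟩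
  · refine orderOf_involution _ ?_ ?_
    · intro h
      have := congrFun (congrFun (congrArg Subtype.val h) (hi h2 ⟨0, h1⟩)) (lo h2 ⟨0, h1⟩)
      simp [hEdef, hi, lo, show 0 < ℓ by omega, Fin.ext_iff, show n - ℓ ≠ 0 by omega] at this
    · apply Subtype.ext
      show (1 + E) * (1 + E) = 1
      have hsq : E * E = 0 := by
        ext i j
        rw [mul_apply]
        refine Finset.sum_eq_zero fun k _ => ?_
        simp only [hEdef, of_apply]
        by_cases h : k.val < ℓ ∧ i.val = k.val + (n - ℓ)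
        · rw [if_neg (show ¬ (j.val < ℓ ∧ k.val = j.val + (n - ℓ)) by omega), mul_zero]
        · rw [if_neg h, zero_mul]
      have h2E : E + E = 0 := by ext i j; exact CharTwo.add_self_eq_zero _
      rw [add_mul, mul_add, mul_add, one_mul, mul_one, one_mul, hsq, add_zero, add_assoc, h2E, add_zero]
  · show ((1 + E) - 1).rank = ℓ
    rw [add_sub_cancel_left]
    refine rank_of_factor E (Matrix.of fun i k => if i = hi h2 k then 1 else 0)
      (Matrix.of fun k j => if j = lo h2 k then 1 else 0) (hi h2) (lo h2) ?_ ?_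
    · ext i j
      rw [mul_apply]
      simp only [hEdef, of_apply]
      by_cases h : j.val < ℓ ∧ i.val = j.val + (n - ℓ)
      · rw [if_pos h, Finset.sum_eq_single ⟨j.val, h.1⟩]
        · simp [hi, lo, Fin.ext_iff, h.2]
        · intro k _ hk
          have : j ≠ lo h2 k := by
            intro hj; exact hk (Fin.ext (by simp [hj, lo]))
          simp [this]
        · simp
      · rw [if_neg h]
        refine (Finset.sum_eq_zero fun k _ => ?_).symm
        have hk := k.isLt
        simp only [hi, lo, Fin.ext_iff]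
        split_ifs with a b <;> first | (exfalso; omega) | simp
    · ext i j
      have hi' := i.isLt
      have hj' := j.isLt
      simp only [hEdef, submatrix_apply, of_apply, hi, lo, one_apply, Fin.ext_iff]
      split_ifs <;> first | rfl | omega

theorem su_invol [CharP F 2] {n q : ℕ} (ℓ : ℕ) (h1 : 1 ≤ ℓ) (h2 : 2 * ℓ ≤ n) :
    ∃ a : ↥(Cfsg.SU n F q), (((a : SpecialLinearGroup (Fin n) F) : Matrix (Fin n) (Fin n) F) =
        Matrix.of (fun i j : Fin n => if (j.val < ℓ ∧ i.val = j.val + (n - ℓ)) ∨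
          (i.val < ℓ ∧ j.val = i.val + (n - ℓ)) ∨ (i = j ∧ ℓ ≤ i.val ∧ i.val < n - ℓ) then (1 : F) else 0)) ∧
      orderOf a = 2 ∧ ((((a : SpecialLinearGroup (Fin n) F) : Matrix (Fin n) (Fin n) F)) - 1).rank = ℓ := by
  classical
  let f : Fin n → Fin n := fun i =>
    if h : i.val < ℓ then ⟨i.val + (n - ℓ), by omega⟩
    else if h' : n - ℓ ≤ i.val then ⟨i.val - (n - ℓ), by omega⟩ else i
  have hf : ∀ i, f (f i) = i := by
    intro i
    have := i.isLt
    apply Fin.ext
    simp only [f]
    by_cases c1 : i.val < ℓ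
    · simp only [dif_pos c1]
      rw [dif_neg (by simp; omega), dif_pos (by simp)]
      simp
    · by_cases c2 : n - ℓ ≤ i.val
      · simp only [dif_neg c1, dif_pos c2]
        rw [dif_pos (by omega)]
        simp only [Fin.val_mk]
        omega
      · simp only [dif_neg c1, dif_neg c2]
  let σ : Equiv.Perm (Fin n) := ⟨f, f, hf, hf⟩
  set M : Matrix (Fin n) (Fin n) F := Matrix.of (fun i j : Fin n =>
    if (j.val < ℓ ∧ i.val = j.val + (n - ℓ)) ∨
      (i.val < ℓ ∧ j.val = i.val + (n - ℓ)) ∨ (i = j ∧ ℓ ≤ i.val ∧ i.val < n - ℓ) then (1 : F) else 0) with hMdef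
  have hM : M = σ.permMatrix F := by
    ext i j
    have := i.isLt
    have := j.isLt
    rw [hMdef, of_apply, Equiv.Perm.permMatrix, PEquiv.toMatrix_apply]
    refine if_congr ?_ rfl rfl
    simp only [Equiv.toPEquiv_apply, Option.mem_def, Option.some.injEq]
    show _ ↔ f i = j
    simp only [f]
    split_ifs <;> simp [Fin.ext_iff] <;> omega
  have hmul : ∀ v : Fin n → F, M *ᵥ v = v ∘ σ := fun v => by rw [hM, permMatrix_mulVec]
  have hdet : M.det = 1 := by
    rw [hM, det_permutation]
    rcases Int.units_eq_one_or (Equiv.Perm.sign σ) with h | h <;> rw [h] <;> simp [CharTwo.neg_eq]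
  have hsq : M * M = 1 := by
    refine ext_of_mulVec_single fun i => ?_
    rw [← mulVec_mulVec, hmul, hmul, one_mulVec]
    funext j
    simp only [Function.comp_apply, show σ (σ j) = j from hf j]
  have hmem : (⟨M, hdet⟩ : SpecialLinearGroup (Fin n) F) ∈ Cfsg.SU n F q := by
    intro u v
    show Cfsg.hermForm n F q (M *ᵥ u) (M *ᵥ v) = Cfsg.hermForm n F q u v
    simp only [Cfsg.hermForm, hmul, Function.comp_apply]
    exact Equiv.sum_comp σ (fun i => u i * v i ^ q)
  refine ⟨⟨_, hmem⟩, rfl, ?_, ?_⟩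
  · refine orderOf_involution _ ?_ ?_
    · intro h
      have := congrFun (congrFun (congrArg (fun a : ↥(Cfsg.SU n F q) =>
        ((a : SpecialLinearGroup (Fin n) F) : Matrix (Fin n) (Fin n) F)) h) (lo h2 ⟨0, h1⟩)) (lo h2 ⟨0, h1⟩)
      simp [hMdef, lo, show 0 < ℓ by omega, show 0 ≠ 0 + (n - ℓ) by omega, show n - ℓ ≠ 0 by omega] at this
      omega
    · exact Subtype.ext (Subtype.ext hsq)
  · show (M - 1).rank = ℓ
    refine rank_of_factor (M - 1) (Matrix.of fun i k => if i = hi h2 k ∨ i = lo h2 k then 1 else 0)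
      (Matrix.of fun k j => if j = lo h2 k ∨ j = hi h2 k then 1 else 0) (hi h2) (lo h2) ?_ ?_
    · ext i j
      have := i.isLt
      have := j.isLt
      rw [mul_apply, Matrix.sub_apply, CharTwo.sub_eq_add]
      simp only [hMdef, of_apply, one_apply, lo, hi, Fin.ext_iff]
      by_cases h : i.val < ℓ ∨ n - ℓ ≤ i.val
      · have hkk : ∃ k : Fin ℓ, i.val = k.val ∨ i.val = k.val + (n - ℓ) := by
          rcases h with h | h
          · exact ⟨⟨i.val, h⟩, Or.inl rfl⟩
          · exact ⟨⟨i.val - (n - ℓ), by omega⟩, Or.inr (by simp; omega)⟩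
        obtain ⟨k, hk⟩ := hkk
        have := k.isLt
        rw [Finset.sum_eq_single k]
        · split_ifs <;> first | (exfalso; omega) | simp [CharTwo.add_self_eq_zero]
        · intro l _ hl
          have := l.isLt
          rw [ne_eq, Fin.ext_iff] at hl
          split_ifs <;> first | (exfalso; omega) | simp
        · simp
      · rw [Finset.sum_eq_zero fun k _ => ?_]
        · split_ifs <;> first | (exfalso; omega) | simp [CharTwo.add_self_eq_zero]
        · have := k.isLt
          split_ifs <;> first | (exfalso; omega) | simp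
    · ext i j
      have := i.isLt
      have := j.isLt
      simp only [hMdef, submatrix_apply, Matrix.sub_apply, of_apply, hi, lo, one_apply, Fin.ext_iff]
      split_ifs <;> first | (exfalso; omega) | simp

theorem even_rank_alt {V : Type*} [AddCommGroup V] [Module F V] [FiniteDimensional F V]
    (A : V →ₗ[F] V →ₗ[F] F) (hA : ∀ v, A v v = 0) :
    Even (Module.finrank F (LinearMap.range A)) := by
  classical
  obtain ⟨m, k, b, h1, h2, h3, h4⟩ := CfsgLib.Lie.OrthBasis.exists_symplectic A hA
  have hS : ∀ a c, A c a = - A a c := fun a c => by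
    have h := hA (a + c)
    simp only [map_add, LinearMap.add_apply, hA] at h
    linear_combination h
  have hker : LinearMap.ker A = Submodule.span F (Set.range fun j : Fin k => b (Sum.inr j)) := by
    refine le_antisymm ?_ ?_
    · intro v hv
      rw [LinearMap.mem_ker] at hv
      have hv' : v = ∑ x, b.repr v x • b x := (b.sum_repr v).symm
      have c1 : ∀ i : Fin m, b.repr v (Sum.inl (Sum.inr i)) = 0 := fun i => by
        have h := LinearMap.congr_fun hv (b (Sum.inl (Sum.inl i)))
        rw [LinearMap.zero_apply, hv'] at h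
        simp only [map_sum, LinearMap.sum_apply, map_smul, LinearMap.smul_apply,
          Fintype.sum_sum_type, smul_eq_mul] at h
        have e : ∀ i' : Fin m, A (b (Sum.inl (Sum.inr i'))) (b (Sum.inl (Sum.inl i))) =
            if i = i' then -1 else 0 := fun i' => by
          rw [hS, h1]; split_ifs <;> simp
        simpa [e, h2, h4] using h
      have c2 : ∀ i : Fin m, b.repr v (Sum.inl (Sum.inl i)) = 0 := fun i => by
        have h := LinearMap.congr_fun hv (b (Sum.inl (Sum.inr i)))
        rw [LinearMap.zero_apply, hv'] at h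
        simp only [map_sum, LinearMap.sum_apply, map_smul, LinearMap.smul_apply,
          Fintype.sum_sum_type, smul_eq_mul] at h
        simpa [h1, h3, h4] using h
      rw [hv']
      refine sum_mem fun x _ => ?_
      rcases x with (i | i) | j
      · rw [c2 i, zero_smul]; exact zero_mem _
      · rw [c1 i, zero_smul]; exact zero_mem _
      · exact Submodule.smul_mem _ _ (Submodule.subset_span ⟨j, rfl⟩)
    · rw [Submodule.span_le]
      rintro _ ⟨j, rfl⟩
      exact LinearMap.mem_ker.2 (LinearMap.ext fun v => h4 j v)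
  have hk : Module.finrank F (LinearMap.ker A) = k := by
    rw [hker]
    exact (finrank_span_eq_card (b.linearIndependent.comp _ Sum.inr_injective)).trans (Fintype.card_fin k)
  have hV : Module.finrank F V = m + m + k := by
    rw [Module.finrank_eq_card_basis b]; simp
  have := LinearMap.finrank_range_add_finrank_ker A
  exact ⟨m, by omega⟩

theorem symp_invol [Fintype F] [CharP F 2] {m : ℕ} (a : ↥(Matrix.symplecticGroup (Fin m) F))
    (ha : orderOf a = 2) :
    (Nat.card {v : Fin m ⊕ Fin m → F // Cfsg.sympForm m F v ((a : Matrix (Fin m ⊕ Fin m) (Fin m ⊕ Fin m) F) *ᵥ v) = 0} =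
        Fintype.card F ^ (2 * m) ∨
      Nat.card {v : Fin m ⊕ Fin m → F // Cfsg.sympForm m F v ((a : Matrix (Fin m ⊕ Fin m) (Fin m ⊕ Fin m) F) *ᵥ v) = 0} * Fintype.card F =
        Fintype.card F ^ (2 * m)) ∧
    ((∀ v, Cfsg.sympForm m F v ((a : Matrix (Fin m ⊕ Fin m) (Fin m ⊕ Fin m) F) *ᵥ v) = 0) → Even ((a : Matrix (Fin m ⊕ Fin m) (Fin m ⊕ Fin m) F) - 1).rank) := by
  classical
  set M : Matrix (Fin m ⊕ Fin m) (Fin m ⊕ Fin m) F := (a : Matrix (Fin m ⊕ Fin m) (Fin m ⊕ Fin m) F) with hM
  set J := Matrix.J (Fin m) F with hJ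
  have hsq : M * M = 1 := by
    have h : a * a = 1 := by rw [← pow_two, ← ha, pow_orderOf_eq_one]
    exact congrArg Subtype.val h
  have hJT : Jᵀ = -J := Matrix.J_transpose (Fin m) F
  have hB : ∀ u v, Cfsg.sympForm m F v u = - Cfsg.sympForm m F u v := fun u v => by
    show v ⬝ᵥ (J *ᵥ u) = - (u ⬝ᵥ (J *ᵥ v))
    rw [dotProduct_mulVec, ← mulVec_transpose, hJT, neg_mulVec, neg_dotProduct, dotProduct_comm]
  have hdiag : ∀ v, Cfsg.sympForm m F v v = 0 := fun v => by
    show v ⬝ᵥ (J *ᵥ v) = 0
    rw [hJ, Matrix.J]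
    simp [Matrix.fromBlocks_mulVec, dotProduct, Fintype.sum_sum_type, Matrix.neg_mulVec,
      CharTwo.add_self_eq_zero, CharTwo.neg_eq, mul_comm]
  have hpres : ∀ u v, Cfsg.sympForm m F (M *ᵥ u) (M *ᵥ v) = Cfsg.sympForm m F u v := fun u v => by
    show (M *ᵥ u) ⬝ᵥ (J *ᵥ (M *ᵥ v)) = u ⬝ᵥ (J *ᵥ v)
    have hmem : Mᵀ * J * M = J := SymplecticGroup.mem_iff'.1 a.2
    rw [show u ⬝ᵥ (J *ᵥ v) = u ⬝ᵥ ((Mᵀ * J * M) *ᵥ v) by rw [hmem], ← mulVec_mulVec, ← mulVec_mulVec,
      dotProduct_mulVec u Mᵀ, vecMul_transpose]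
  let f : (Fin m ⊕ Fin m → F) → F := fun v => Cfsg.sympForm m F v (M *ᵥ v)
  have hlin1 : ∀ u v w, Cfsg.sympForm m F (u + v) w = Cfsg.sympForm m F u w + Cfsg.sympForm m F v w :=
    fun u v w => add_dotProduct u v _
  have hlin2 : ∀ u v w, Cfsg.sympForm m F u (v + w) = Cfsg.sympForm m F u v + Cfsg.sympForm m F u w :=
    fun u v w => by show u ⬝ᵥ (J *ᵥ (v + w)) = _; rw [mulVec_add, dotProduct_add]; rfl
  have hadd : ∀ u v, f (u + v) = f u + f v := fun u v => by
    simp only [f, mulVec_add, hlin1, hlin2]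
    have : Cfsg.sympForm m F v (M *ᵥ u) = Cfsg.sympForm m F u (M *ᵥ v) := by
      rw [← hpres v (M *ᵥ u), mulVec_mulVec, hsq, one_mulVec, hB, CharTwo.neg_eq]
    rw [this]
    have := CharTwo.add_self_eq_zero (Cfsg.sympForm m F u (M *ᵥ v))
    linear_combination this
  have hsmul : ∀ (c : F) v, f (c • v) = c * c * f v := fun c v => by
    show (c • v) ⬝ᵥ (J *ᵥ (M *ᵥ (c • v))) = _
    rw [mulVec_smul, mulVec_smul, smul_dotProduct, dotProduct_smul, smul_eq_mul, smul_eq_mul, mul_assoc]
    rfl
  let φ : (Fin m ⊕ Fin m → F) →+ F := AddMonoidHom.mk' f hadd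
  have hcard : Nat.card (Fin m ⊕ Fin m → F) = Fintype.card F ^ (2 * m) := by
    rw [Nat.card_eq_fintype_card, Fintype.card_fun, Fintype.card_sum, Fintype.card_fin, two_mul]
  refine ⟨?_, fun h0 => ?_⟩
  · by_cases h0 : ∀ v, f v = 0
    · left
      rw [← hcard]
      exact Nat.card_congr (Equiv.subtypeUnivEquiv h0)
    · right
      push Not at h0
      obtain ⟨v, hv⟩ := h0
      have hsurj : Function.Surjective φ := fun y => by
        obtain ⟨c, hc⟩ := (frobeniusEquiv F 2).surjective (y / f v)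
        refine ⟨c • v, ?_⟩
        show f (c • v) = y
        rw [hsmul, ← pow_two, show c ^ 2 = y / f v from hc, div_mul_cancel₀ _ hv]
      rw [← hcard, AddSubgroup.card_eq_card_quotient_mul_card_addSubgroup φ.ker, mul_comm,
        Nat.card_congr (QuotientAddGroup.quotientKerEquivOfSurjective φ hsurj).toEquiv,
        Nat.card_eq_fintype_card (α := F)]
      rfl
  · let A : (Fin m ⊕ Fin m → F) →ₗ[F] (Fin m ⊕ Fin m → F) →ₗ[F] F :=
      Matrix.toLinearMap₂' F (J * (M - 1))
    have hA : ∀ v, A v v = 0 := fun v => by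
      simp only [A, Matrix.toLinearMap₂'_apply']
      rw [← mulVec_mulVec, sub_mulVec, one_mulVec, mulVec_sub, dotProduct_sub]
      rw [show v ⬝ᵥ (J *ᵥ v) = 0 from hdiag v, sub_zero]
      exact h0 v
    have h := even_rank_alt A hA
    have hr : Module.finrank F (LinearMap.range A) = (M - 1).rank := by
      have hu : IsUnit J.det := Matrix.isUnit_det_J (Fin m) F
      rw [← rank_mul_eq_right_of_isUnit_det J (M - 1) hu, ← rank_transpose (J * (M - 1)), rank]
      let e : (Fin m ⊕ Fin m → F) ≃ₗ[F] ((Fin m ⊕ Fin m → F) →ₗ[F] F) :=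
        dotProductEquiv F (Fin m ⊕ Fin m)
      have : A = e.toLinearMap ∘ₗ (J * (M - 1))ᵀ.mulVecLin := by
        refine LinearMap.ext fun u => LinearMap.ext fun w => ?_
        simp only [A, Matrix.toLinearMap₂'_apply', LinearMap.comp_apply]
        show _ = ((J * (M - 1))ᵀ *ᵥ u) ⬝ᵥ w
        rw [mulVec_transpose, ← dotProduct_mulVec]
      rw [this, LinearMap.range_comp]
      exact LinearEquiv.finrank_map_eq e _
    rwa [← hr]

end CfsgLib.Misc.InvolExamples
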