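import Mathlib

/-!
The Lang–Steinberg theorem for GL_n: q-semilinear bijections have a basis of fixed vectors.
-/

set_option autoImplicit false

namespace CfsgLib.Misc.LangGL

open Polynomial Module

variable {K : Type*} [Field K] [IsAlgClosed K] {q : ℕ}

theorem exists_root_twist (hq : 2 ≤ q) (hq0 : (q : K) = 0) (a : ℕ → K) (ha : a 0 ≠ 0) (d : ℕ) :
    ∃ c : ℕ → K, c d ≠ 0 ∧ c 0 = c d ^ q * a 0 ∧ ∀ i, c (i + 1) = c i ^ q + c d ^ q * a (i + 1) := by
  let P : ℕ → K[X] := fun i => Nat.rec (C (a 0) * X ^ q) (fun j r => r ^ q + C (a (j + 1)) * X ^ q) i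
  have hdeg : ∀ i, (P i).natDegree = q ^ (i + 1) := by
    intro i
    induction i with
    | zero => simp [P, natDegree_C_mul_X_pow q (a 0) ha]
    | succ i ih =>
      show (P i ^ q + C (a (i + 1)) * X ^ q).natDegree = _
      have h1 : (P i ^ q).natDegree = q ^ (i + 1 + 1) := by rw [natDegree_pow, ih]; ring
      rw [natDegree_add_eq_left_of_natDegree_lt, h1]
      refine lt_of_le_of_lt (natDegree_C_mul_X_pow_le _ _) ?_
      rw [h1]
      calc q = q ^ 1 := (pow_one q).symm
        _ < q ^ (i + 1 + 1) := Nat.pow_lt_pow_right (by omega) (by omega)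
  have hder : ∀ i, derivative (P i) = 0 := by
    intro i
    cases i with
    | zero => simp [P, derivative_X_pow, hq0]
    | succ i =>
      show derivative (P i ^ q + C (a (i + 1)) * X ^ q) = 0
      simp [derivative_pow, derivative_X_pow, hq0]
  have h1 : (P d).coeff 1 = 0 := by
    have := congrArg (fun r : K[X] => r.coeff 0) (hder d)
    simpa [coeff_derivative] using this
  have h0 : (P d).coeff 0 = 0 := by
    rw [coeff_zero_eq_eval_zero]
    induction d with
    | zero => simp [P, zero_pow (show q ≠ 0 by omega)]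
    | succ d ih =>
      show (P d ^ q + C (a (d + 1)) * X ^ q).eval 0 = 0
      have hd : (P d).eval 0 = 0 := by
        have hP : ∀ i, (P i).eval 0 = 0 := by
          intro i
          induction i with
          | zero => simp [P, zero_pow (show q ≠ 0 by omega)]
          | succ i ih2 =>
            show (P i ^ q + C (a (i + 1)) * X ^ q).eval 0 = 0
            simp [ih2, zero_pow (show q ≠ 0 by omega)]
        exact hP d
      simp [hd, zero_pow (show q ≠ 0 by omega)]
  set f := P d - X with hf
  have hq1 : 2 ≤ q ^ (d + 1) := le_trans hq (Nat.le_self_pow (Nat.succ_ne_zero d) q)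
  have hfd : f.natDegree = q ^ (d + 1) := by
    rw [hf, natDegree_sub_eq_left_of_natDegree_lt (by rw [natDegree_X, hdeg]; omega), hdeg]
  obtain ⟨c₀, hc₀⟩ := IsAlgClosed.exists_root f.divX (by
    intro h
    have := natDegree_eq_zero_iff_degree_le_zero.2 h.le
    rw [natDegree_divX_eq_natDegree_tsub_one, hfd] at this
    omega)
  have hc0 : c₀ ≠ 0 := by
    rintro rfl
    rw [IsRoot, ← coeff_zero_eq_eval_zero, coeff_divX] at hc₀
    simp [hf, h1] at hc₀
  have hroot : (P d).eval c₀ = c₀ := by
    have := congrArg (eval c₀) (X_mul_divX_add f)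
    rw [eval_add, eval_mul, hc₀, mul_zero, zero_add, eval_C] at this
    rw [hf, coeff_sub, h0, coeff_X_zero, sub_zero, eval_sub, eval_X] at this
    exact sub_eq_zero.1 this.symm
  refine ⟨fun i => (P i).eval c₀, by simpa only [hroot] using hc0, ?_, fun i => ?_⟩
  · simp only [hroot]; simp [P]; ring
  · simp only [hroot]
    show (P i ^ q + C (a (i + 1)) * X ^ q).eval c₀ = _
    simp; ring

theorem exists_artinSchreier (hq : 2 ≤ q) (c : K) : ∃ t : K, t ^ q + c = t := by
  obtain ⟨t, ht⟩ := IsAlgClosed.exists_root (X ^ q - X + C c : K[X]) (by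
    have h : (X ^ q - X + C c : K[X]).natDegree = q := by
      rw [natDegree_add_C, natDegree_sub_eq_left_of_natDegree_lt (by simp; omega), natDegree_X_pow]
    intro h0
    rw [natDegree_eq_zero_iff_degree_le_zero.2 h0.le] at h
    omega)
  exact ⟨t, by simp at ht; linear_combination ht⟩

variable {V : Type*} [AddCommGroup V] [Module K V] [FiniteDimensional K V]

theorem span_fixed (hq : 2 ≤ q) (hq0 : (q : K) = 0) (φ : V →+ V) (hsl : ∀ (c : K) v, φ (c • v) = c ^ q • φ v)
    (hinj : Function.Injective φ) : Submodule.span K {v | φ v = v} = ⊤ := by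
  classical
  set W := Submodule.span K {v | φ v = v} with hW
  have hWmap : ∀ w ∈ W, φ w ∈ W ∧ ∃ w' ∈ W, φ w' = w := by
    intro w hw
    induction hw using Submodule.span_induction with
    | mem x hx => exact ⟨(hx.symm ▸ Submodule.subset_span hx), x, Submodule.subset_span hx, hx⟩
    | zero => exact ⟨by simp, 0, W.zero_mem, by simp⟩
    | add x y _ _ hx hy =>
      obtain ⟨h1, x', hx1, hx2⟩ := hx
      obtain ⟨h2, y', hy1, hy2⟩ := hy
      exact ⟨by rw [map_add]; exact W.add_mem h1 h2, x' + y', W.add_mem hx1 hy1, by rw [map_add, hx2, hy2]⟩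
    | smul c x _ hx =>
      obtain ⟨h1, x', hx1, hx2⟩ := hx
      obtain ⟨r, hr⟩ := IsAlgClosed.exists_pow_nat_eq c (show 0 < q by omega)
      exact ⟨by rw [hsl]; exact W.smul_mem _ h1, r • x', W.smul_mem _ hx1, by rw [hsl, hr, hx2]⟩
  have hsolve : ∀ w ∈ W, ∀ c : K, ∃ t ∈ W, φ t + c • w = t := by
    intro w hw
    induction hw using Submodule.span_induction with
    | mem x hx =>
      intro c
      obtain ⟨t, ht⟩ := exists_artinSchreier hq c
      exact ⟨t • x, W.smul_mem _ (Submodule.subset_span hx),
        by rw [hsl, show φ x = x from hx, ← add_smul, ht]⟩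
    | zero => exact fun c => ⟨0, W.zero_mem, by simp⟩
    | add x y _ _ hx hy =>
      intro c
      obtain ⟨t, ht, ht'⟩ := hx c
      obtain ⟨s, hs, hs'⟩ := hy c
      refine ⟨t + s, W.add_mem ht hs, ?_⟩
      rw [map_add, smul_add]
      conv_rhs => rw [← ht', ← hs']
      abel
    | smul r x _ hx => exact fun c => by simpa [smul_smul] using hx (c * r)
  by_contra hne
  obtain ⟨v, hv⟩ : ∃ v, v ∉ W := by
    by_contra h
    push_neg at h
    exact hne (eq_top_iff.2 fun x _ => h x)
  let it : ℕ → V := fun i => φ^[i] v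
  let S : ℕ → Submodule K V := fun d => W ⊔ Submodule.span K (it '' Set.Iio d)
  have hmono : Monotone S := fun a b h =>
    sup_le_sup_left (Submodule.span_mono (Set.image_mono (Set.Iio_subset_Iio h))) W
  have hstop : ∃ d, it d ∈ S d := by
    by_contra h
    push_neg at h
    have hlt : ∀ d, d ≤ finrank K (S d) := by
      intro d
      induction d with
      | zero => exact Nat.zero_le _
      | succ d ih =>
        have : S d < S (d + 1) := lt_of_le_of_ne (hmono (Nat.le_succ d)) fun e =>
          h d (e ▸ Submodule.mem_sup_right (Submodule.subset_span ⟨d, Nat.lt_succ_self d, rfl⟩))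
        have := Submodule.finrank_lt_finrank_of_lt this
        omega
    have := (hlt (finrank K V + 1)).trans (Submodule.finrank_le _)
    omega
  obtain ⟨d, hd, hmin⟩ : ∃ d, it d ∈ S d ∧ ∀ j < d, it j ∉ S j :=
    ⟨Nat.find hstop, Nat.find_spec hstop, fun j hj => Nat.find_min hstop hj⟩
  obtain ⟨e, rfl⟩ : ∃ e, d = e + 1 := Nat.exists_eq_succ_of_ne_zero (by
    rintro rfl
    refine hv ?_
    have : S 0 = W := by simp [S]
    rw [this] at hd
    exact hd)
  obtain ⟨w0, hw0, z, hz, hwz⟩ := Submodule.mem_sup.1 hd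
  obtain ⟨l, hl, rfl⟩ := (Finsupp.mem_span_image_iff_linearCombination K).1 hz
  have hsum : ∀ (b : ℕ → K) (m : ℕ), m ≤ e + 1 → ∑ i ∈ Finset.range m, b i • it i ∈
      Submodule.span K (it '' Set.Iio m) := fun b m _ => Submodule.sum_mem _ fun i hi =>
    Submodule.smul_mem _ _ (Submodule.subset_span ⟨i, Finset.mem_range.1 hi, rfl⟩)
  have hz' : Finsupp.linearCombination K it l = ∑ i ∈ Finset.range (e + 1), l i • it i := by
    rw [Finsupp.linearCombination_apply, Finsupp.sum_of_support_subset l (s := Finset.range (e + 1)) ?_ _ (by simp)]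
    intro i hi
    exact Finset.mem_range.2 ((Finsupp.mem_supported K l).1 hl hi)
  rw [hz'] at hwz
  have hit : ∀ i, φ (it i) = it (i + 1) := fun i => (Function.iterate_succ_apply' φ i v).symm
  have ha0 : l 0 ≠ 0 := by
    intro h0
    obtain ⟨w0', hw0', hw0e⟩ := (hWmap w0 hw0).2
    choose r hr using fun i => IsAlgClosed.exists_pow_nat_eq (l (i + 1)) (show 0 < q by omega)
    refine hmin e (Nat.lt_succ_self e) ?_
    have : it e = w0' + ∑ i ∈ Finset.range e, r i • it i := hinj (by
      rw [hit, map_add, map_sum, hw0e, ← hwz, Finset.sum_range_succ' (n := e), h0, zero_smul, add_zero]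
      simp only [hsl, hr, hit])
    rw [this]
    exact add_mem (Submodule.mem_sup_left hw0') (Submodule.mem_sup_right (hsum r e (Nat.le_succ e)))
  obtain ⟨c, hce, hc0, hcs⟩ := exists_root_twist hq hq0 (fun i => l i) ha0 e
  set w := ∑ i ∈ Finset.range (e + 1), c i • it i with hw
  have hφw : φ w = w + c e ^ q • w0 := by
    rw [hw, map_sum]
    simp only [hsl, hit]
    rw [Finset.sum_range_succ, ← hwz, Finset.sum_range_succ' (n := e), Finset.sum_range_succ' (n := e) (fun i => c i • it i)]
    simp only [smul_add, Finset.smul_sum, smul_smul, hcs, add_smul, Finset.sum_add_distrib, hc0]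
    abel
  have hwW : w ∉ W := by
    intro h
    refine hmin e (Nat.lt_succ_self e) ?_
    have : it e = (c e)⁻¹ • (w - ∑ i ∈ Finset.range e, c i • it i) := by
      rw [hw, Finset.sum_range_succ, add_sub_cancel_left, smul_smul, inv_mul_cancel₀ hce, one_smul]
    rw [this]
    exact Submodule.smul_mem _ _ (sub_mem (Submodule.mem_sup_left h)
      (Submodule.mem_sup_right (hsum c e (Nat.le_succ e))))
  obtain ⟨t, htW, ht⟩ := hsolve w0 hw0 (c e ^ q)
  have hfix : φ (w + t) = w + t := by
    rw [map_add, hφw]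
    conv_rhs => rw [← ht]
    abel
  exact hwW (by simpa using sub_mem (show w + t ∈ W from Submodule.subset_span hfix) htW)

theorem lang (p : ℕ) [Fact p.Prime] [CharP K p] (f : ℕ) (hf : 1 ≤ f) (n : ℕ) (g : GL (Fin n) K) :
    ∃ x : GL (Fin n) K, g = x * (Matrix.GeneralLinearGroup.map (iterateFrobenius K p f) x)⁻¹ := by
  classical
  set F := iterateFrobenius K p f
  let φ : (Fin n → K) →+ (Fin n → K) :=
    { toFun := fun v => (g : Matrix (Fin n) (Fin n) K).mulVec (fun i => F (v i))
      map_zero' := by
        rw [show (fun i => F ((0 : Fin n → K) i)) = 0 from funext fun i => map_zero F, Matrix.mulVec_zero]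
      map_add' := fun u v => by
        rw [← Matrix.mulVec_add]; congr 1; funext i; simp }
  have hsl : ∀ (c : K) (v : Fin n → K), φ (c • v) = c ^ p ^ f • φ v := fun c v => by
    show Matrix.mulVec _ (fun i => F (c * v i)) = c ^ p ^ f • Matrix.mulVec _ (fun i => F (v i))
    rw [← Matrix.mulVec_smul]
    congr 1
    funext i
    rw [map_mul, Pi.smul_apply, smul_eq_mul, ← iterateFrobenius_def p f c]
  have hinj : Function.Injective φ := fun u v h => funext fun i => F.injective
    (congrFun (Matrix.mulVec_injective_iff_isUnit.2 g.isUnit h) i)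
  have hp := (Fact.out : p.Prime)
  have hspan := span_fixed (q := p ^ f) (le_trans hp.two_le (Nat.le_self_pow (by omega) p))
    (by push_cast; rw [CharP.cast_eq_zero K p, zero_pow (by omega)]) φ hsl hinj
  let b := Basis.ofSpan hspan.ge
  have hfix : ∀ i, φ (b i) = b i := fun i => Basis.ofSpan_subset hspan.ge ⟨i, rfl⟩
  haveI := FiniteDimensional.fintypeBasisIndex b
  let e := (Fintype.equivFinOfCardEq (n := n) (by
    rw [← Module.finrank_eq_card_basis b, Module.finrank_fin_fun]))
  let b' := b.reindex e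
  let X := (Pi.basisFun K (Fin n)).toMatrix b'
  haveI := (Pi.basisFun K (Fin n)).invertibleToMatrix b'
  let x : GL (Fin n) K := unitOfInvertible X
  refine ⟨x, ?_⟩
  rw [eq_mul_inv_iff_mul_eq]
  refine Units.ext (Matrix.ext fun i j => ?_)
  have h := congrFun (hfix (e.symm j)) i
  have hX : ∀ a c, X a c = b (e.symm c) a := fun a c => by
    simp [X, b', Basis.toMatrix_apply]
  rw [Units.val_mul, Matrix.mul_apply]
  show _ = X i j
  rw [hX, ← h]
  show _ = ∑ k, (g : Matrix (Fin n) (Fin n) K) i k * F (b (e.symm j) k)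
  refine Finset.sum_congr rfl fun k _ => ?_
  congr 1
  show F (X k j) = _
  rw [hX]

end CfsgLib.Misc.LangGL
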