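import Mathlib
import Cfsg.Agent.Lie.Orders
import Cfsg.Agent.Perm.ClassSize

/-!
Elementary linear algebra: unipotent orders, subspace transitivity, quadratic forms, small classes.
-/

set_option autoImplicit false
set_option linter.unusedSectionVars false

namespace CfsgLib.MiscLin

open Matrix

section Unip

variable {F : Type*} [Field F] {p : ℕ} [Fact p.Prime] [CharP F p]

theorem pow_card_eq_zero {d : ℕ} {N : Matrix (Fin d) (Fin d) F} (hN : IsNilpotent N) : N ^ d = 0 := by
  obtain ⟨i, hi⟩ := hN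
  have h1 : minpoly F N ∣ Polynomial.X ^ i := minpoly.dvd F N (by simp [hi])
  obtain ⟨j, -, hj⟩ := (dvd_prime_pow Polynomial.prime_X i).1 h1
  have he : minpoly F N = Polynomial.X ^ j :=
    Polynomial.eq_of_monic_of_associated (minpoly.monic (Matrix.isIntegral N)) (Polynomial.monic_X_pow j) hj
  have hle : j ≤ d := by
    have := Polynomial.natDegree_le_of_dvd (Matrix.minpoly_dvd_charpoly N) N.charpoly_monic.ne_zero
    simpa [he, Matrix.charpoly_natDegree_eq_dim] using this
  have := minpoly.aeval F N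
  rw [he] at this
  simp only [map_pow, Polynomial.aeval_X] at this
  exact pow_eq_zero_of_le hle this

theorem sub_one_pow {d : ℕ} [NeZero d] (M : Matrix (Fin d) (Fin d) F) (k : ℕ) :
    (M - 1) ^ p ^ k = M ^ p ^ k - 1 := by
  haveI : ExpChar (Matrix (Fin d) (Fin d) F) p :=
    expChar_of_injective_algebraMap (FaithfulSMul.algebraMap_injective F (Matrix (Fin d) (Fin d) F)) p
  rw [sub_pow_expChar_pow_of_commute p k (Commute.one_right M), one_pow]

theorem unipotent_order {d : ℕ} [Finite F] (u : GL (Fin d) F)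
    (hu : IsNilpotent ((u : Matrix (Fin d) (Fin d) F) - 1)) :
    (∃ j, orderOf u = p ^ j ∧ j ≤ Nat.clog p d) ∧
    (((u : Matrix (Fin d) (Fin d) F) - 1) ^ (d - 1) ≠ 0 → orderOf u = p ^ Nat.clog p d) := by
  have hp := (Fact.out : p.Prime)
  rcases Nat.eq_zero_or_pos d with rfl | hd
  · have : u = 1 := Subsingleton.elim _ _
    subst this
    exact ⟨⟨0, by simp, Nat.zero_le _⟩, fun _ => by simp⟩
  haveI : NeZero d := ⟨hd.ne'⟩
  have hk : d ≤ p ^ Nat.clog p d := Nat.le_pow_clog hp.one_lt d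
  have h1 : u ^ p ^ Nat.clog p d = 1 := by
    refine Units.ext ?_
    have h0 : ((u : Matrix (Fin d) (Fin d) F) - 1) ^ p ^ Nat.clog p d = 0 := by
      exact pow_eq_zero_of_le hk (pow_card_eq_zero hu)
    rw [sub_one_pow, sub_eq_zero] at h0
    simpa using h0
  obtain ⟨j, hj, e⟩ := (Nat.dvd_prime_pow hp).1 (orderOf_dvd_of_pow_eq_one h1)
  refine ⟨⟨j, e, hj⟩, fun hne => ?_⟩
  rw [e]
  congr 1
  by_contra hlt
  have hlt' : p ^ j < d := (Nat.lt_clog_iff_pow_lt hp.one_lt).1 (lt_of_le_of_ne hj hlt)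
  apply hne
  have h0 : ((u : Matrix (Fin d) (Fin d) F) - 1) ^ p ^ j = 0 := by
    rw [sub_one_pow, sub_eq_zero, ← Units.val_pow_eq_pow_val, ← e, pow_orderOf_eq_one, Units.val_one]
  exact pow_eq_zero_of_le (show p ^ j ≤ d - 1 by omega) h0

theorem clog_lt {m : ℕ} (hm : 1 ≤ m) : p ^ Nat.clog p m < p * m := by
  have hp := (Fact.out : p.Prime)
  rcases eq_or_lt_of_le hm with rfl | h
  · simp [hp.one_lt]
  · have := Nat.pow_pred_clog_lt_self hp.one_lt h
    obtain ⟨j, hj⟩ := Nat.exists_eq_succ_of_ne_zero (Nat.clog_pos hp.one_lt h).ne'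
    rw [hj, pow_succ, mul_comm]
    rw [hj, Nat.succ_eq_add_one, Nat.pred_succ] at this
    exact Nat.mul_lt_mul_of_pos_left this hp.pos

theorem max_p_order [Fintype F] {m : ℕ} (hm : 1 ≤ m) :
    (∀ g : Matrix.GeneralLinearGroup (Fin m) F, (∃ j : ℕ, orderOf g = p ^ j) → orderOf g < p * m) ∧
      ∃ g : Matrix.GeneralLinearGroup (Fin m) F, (∃ j : ℕ, orderOf g = p ^ j) ∧ m ≤ orderOf g := by
  have hp := (Fact.out : p.Prime)
  haveI : NeZero m := ⟨by omega⟩
  refine ⟨?_, ?_⟩
  · rintro g ⟨j, hj⟩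
    have hnil : IsNilpotent ((g : Matrix (Fin m) (Fin m) F) - 1) := ⟨p ^ j, by
      rw [sub_one_pow, sub_eq_zero, ← Units.val_pow_eq_pow_val, ← hj, pow_orderOf_eq_one, Units.val_one]⟩
    obtain ⟨⟨i, hi, hile⟩, -⟩ := unipotent_order (p := p) g hnil
    rw [hi]
    exact lt_of_le_of_lt (Nat.pow_le_pow_right hp.pos hile) (clog_lt hm)
  · let N : Matrix (Fin m) (Fin m) F := Matrix.of fun i j => if (j : ℕ) = i + 1 then 1 else 0
    have hN : ∀ k i j, (N ^ k) i j = if (j : ℕ) = i + k then 1 else 0 := by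
      intro k
      induction k with
      | zero => intro i j; simp [Matrix.one_apply, Fin.ext_iff, eq_comm]
      | succ k ih =>
        intro i j
        rw [pow_succ, Matrix.mul_apply]
        simp only [ih, N, Matrix.of_apply]
        by_cases h : (i : ℕ) + k < m
        · rw [Finset.sum_eq_single ⟨i + k, h⟩]
          · simp [Nat.add_assoc]
          · intro b _ hb
            rw [if_neg (fun e => hb (Fin.ext e)), zero_mul]
          · simp
        · rw [if_neg (by omega), Finset.sum_eq_zero]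
          intro b _
          rw [if_neg (by omega), zero_mul]
    have hnil : IsNilpotent N := ⟨m, Matrix.ext fun i j => by rw [hN, if_neg (by omega)]; rfl⟩
    have hne : N ^ (m - 1) ≠ 0 := fun e => by
      have := congrFun (congrFun e ⟨0, by omega⟩) ⟨m - 1, by omega⟩
      rw [hN, if_pos (by simp)] at this
      exact one_ne_zero this
    have hu : IsUnit (1 + N) := hnil.isUnit_one_add
    have e : ((hu.unit : GL (Fin m) F) : Matrix (Fin m) (Fin m) F) - 1 = N := by
      rw [IsUnit.unit_spec, add_sub_cancel_left]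
    obtain ⟨-, h2⟩ := unipotent_order (p := p) hu.unit (by rw [e]; exact hnil)
    refine ⟨hu.unit, ⟨_, h2 (by rw [e]; exact hne)⟩, ?_⟩
    rw [h2 (by rw [e]; exact hne)]
    exact Nat.le_pow_clog hp.one_lt m

end Unip

theorem sl_transitive {F : Type*} [Field F] (n : ℕ) (hn : 1 ≤ n) (U₁ U₂ : Submodule F (Fin n → F))
    (h : Module.finrank F U₁ = Module.finrank F U₂) :
    ∃ g : Matrix.SpecialLinearGroup (Fin n) F,
      U₁.map ((Matrix.SpecialLinearGroup.toLin' g : (Fin n → F) ≃ₗ[F] (Fin n → F)) : (Fin n → F) →ₗ[F] (Fin n → F)) = U₂ := by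
  classical
  obtain ⟨W₁, hW₁⟩ := U₁.exists_isCompl
  obtain ⟨W₂, hW₂⟩ := U₂.exists_isCompl
  have hW : Module.finrank F W₁ = Module.finrank F W₂ := by
    have h1 := Submodule.finrank_add_eq_of_isCompl hW₁
    have h2 := Submodule.finrank_add_eq_of_isCompl hW₂
    omega
  let e : (Fin n → F) ≃ₗ[F] (Fin n → F) :=
    (Submodule.prodEquivOfIsCompl U₁ W₁ hW₁).symm ≪≫ₗ
      ((LinearEquiv.ofFinrankEq _ _ h).prodCongr (LinearEquiv.ofFinrankEq _ _ hW)) ≪≫ₗ
      Submodule.prodEquivOfIsCompl U₂ W₂ hW₂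
  have he : ∀ v ∈ U₁, e v ∈ U₂ := fun v hv => by
    have h0 : (Submodule.prodEquivOfIsCompl U₁ W₁ hW₁).symm v = (⟨v, hv⟩, 0) :=
      (Submodule.prodEquivOfIsCompl U₁ W₁ hW₁).injective (by
        rw [LinearEquiv.apply_symm_apply]; simp)
    simp only [e, LinearEquiv.trans_apply, h0, LinearEquiv.prodCongr_apply, map_zero,
      Submodule.coe_prodEquivOfIsCompl', ZeroMemClass.coe_zero, add_zero]
    exact Subtype.coe_prop _
  -- correct the determinant inside the target
  let b := ((Module.finBasis F U₂).prod (Module.finBasis F W₂)).map (Submodule.prodEquivOfIsCompl U₂ W₂ hW₂)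
  obtain ⟨i0⟩ : Nonempty (Fin (Module.finrank F U₂) ⊕ Fin (Module.finrank F W₂)) := by
    refine Fintype.card_pos_iff.1 ?_
    rw [← Module.finrank_eq_card_basis b, Module.finrank_fin_fun]
    exact hn
  let c : F := (LinearMap.det (e : (Fin n → F) →ₗ[F] (Fin n → F)))⁻¹
  let d := Matrix.toLin b b (Matrix.diagonal (Function.update (fun _ => (1 : F)) i0 c))
  have hdet : LinearMap.det d = c := by
    simp [d, LinearMap.det_toLin, Matrix.det_diagonal, Finset.prod_update_of_mem]
  have hd : ∀ v ∈ U₂, d v ∈ U₂ := by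
    intro v hv
    let L := (Submodule.prodEquivOfIsCompl U₂ W₂ hW₂)
    have key : ∀ i, d (b i) = (Function.update (fun _ => (1 : F)) i0 c i) • b i := fun i => by
      simp [d, Matrix.toLin_self, Matrix.diagonal, Finset.sum_ite_eq', ite_smul]
    have hv' : v = ∑ i, (Module.finBasis F U₂).repr ⟨v, hv⟩ i • b (Sum.inl i) := by
      have hbi : ∀ i, b (Sum.inl i) = ((Module.finBasis F U₂ i : U₂) : Fin n → F) := fun i => by simp [b]
      simp only [hbi, ← Submodule.coe_smul, ← Submodule.coe_sum, Module.Basis.sum_repr]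
    rw [hv', map_sum]
    refine Submodule.sum_mem _ fun i _ => ?_
    rw [map_smul, key]
    refine Submodule.smul_mem _ _ (Submodule.smul_mem _ _ ?_)
    simp [b]
  let T := d ∘ₗ (e : (Fin n → F) →ₗ[F] (Fin n → F))
  have hT : LinearMap.det T = 1 := by
    rw [LinearMap.det_comp, hdet]
    exact inv_mul_cancel₀ (LinearEquiv.isUnit_det' e).ne_zero
  refine ⟨⟨LinearMap.toMatrix' T, by rw [LinearMap.det_toMatrix', hT]⟩, ?_⟩
  set g : Matrix.SpecialLinearGroup (Fin n) F := ⟨LinearMap.toMatrix' T, by rw [LinearMap.det_toMatrix', hT]⟩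
  refine Submodule.eq_of_le_of_finrank_eq ?_ ?_
  · rintro _ ⟨v, hv, rfl⟩
    have e0 : (Matrix.SpecialLinearGroup.toLin' g) v = T v := by
      show Matrix.toLin' (LinearMap.toMatrix' T) v = T v
      rw [Matrix.toLin'_toMatrix']
    show (Matrix.SpecialLinearGroup.toLin' g) v ∈ U₂
    rw [e0]
    exact hd _ (he v hv)
  · rw [← h]
    exact LinearEquiv.finrank_map_eq _ U₁

theorem multiplier_square {F : Type*} [Field F] {n : ℕ} (hn : Odd n) (Q : QuadraticForm F (Fin n → F))
    (hQ : (QuadraticMap.polarBilin Q).Nondegenerate) (g : (Fin n → F) ≃ₗ[F] (Fin n → F)) (c : F)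
    (hg : ∀ v, Q (g v) = c * Q v) : IsSquare c := by
  classical
  rcases eq_or_ne c 0 with rfl | hc
  · exact ⟨0, by simp⟩
  set B := QuadraticMap.polarBilin Q with hB
  have h1 : LinearMap.compl₁₂ B (g : (Fin n → F) →ₗ[F] (Fin n → F)) (g : (Fin n → F) →ₗ[F] (Fin n → F)) = c • B := by
    refine LinearMap.ext₂ fun v w => ?_
    simp only [B, LinearMap.compl₁₂_apply, QuadraticMap.polarBilin_apply_apply, LinearMap.smul_apply,
      QuadraticMap.polar, LinearEquiv.coe_coe, ← map_add, hg, smul_eq_mul]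
    ring
  let b := Pi.basisFun F (Fin n)
  have h2 := congrArg (fun C => (LinearMap.toMatrix₂ b b C).det) h1
  simp only [map_smul, Matrix.det_smul, Fintype.card_fin] at h2
  rw [LinearMap.toMatrix₂_compl₁₂ b b, Matrix.det_mul, Matrix.det_mul, Matrix.det_transpose] at h2
  have hne : (LinearMap.toMatrix₂ b b B).det ≠ 0 := (LinearMap.separatingLeft_iff_det_ne_zero b).1 hQ.1
  set D := (LinearMap.toMatrix b b (g : (Fin n → F) →ₗ[F] (Fin n → F))).det
  have h3 : D * D = c ^ n := mul_right_cancel₀ hne (by linear_combination h2)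
  obtain ⟨k, rfl⟩ := hn
  refine ⟨D / c ^ k, ?_⟩
  field_simp
  linear_combination -h3

theorem quad_exists_unique {F V ι : Type*} [Field F] [CharP F 2] [AddCommGroup V] [Module F V] [Fintype ι]
    (b : Module.Basis ι F V) (B : LinearMap.BilinForm F V) (hB : B.IsAlt) (c : ι → F) :
    ∃! Q : QuadraticForm F V, QuadraticMap.polarBilin Q = B ∧ ∀ i, Q (b i) = c i := by
  classical
  let s := Fintype.equivFin ι
  let B' : LinearMap.BilinForm F V := (LinearMap.toMatrix₂ b b).symm (Matrix.of fun i j =>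
    if s i < s j then B (b i) (b j) else if i = j then c i else 0)
  have hB' : ∀ i j, B' (b i) (b j) = if s i < s j then B (b i) (b j) else if i = j then c i else 0 := fun i j => by
    rw [← LinearMap.toMatrix₂_apply b b, LinearEquiv.apply_symm_apply]
    rfl
  refine ⟨B'.toQuadraticMap, ⟨?_, fun i => ?_⟩, ?_⟩
  · refine LinearMap.ext_basis b b fun i j => ?_
    rw [QuadraticMap.polarBilin_apply_apply, LinearMap.BilinMap.polar_toQuadraticMap, hB', hB']
    rcases lt_trichotomy (s i) (s j) with h | h | h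
    · rw [if_pos h, if_neg (lt_asymm h), if_neg (fun e => h.ne (by rw [e])), add_zero]
    · obtain rfl : i = j := s.injective h
      rw [if_neg (lt_irrefl _), if_pos rfl, CharTwo.add_self_eq_zero]
      exact (hB _).symm
    · rw [if_neg (lt_asymm h), if_neg (fun e => h.ne (by rw [e])), if_pos h, zero_add]
      have := LinearMap.IsAlt.neg hB (b j) (b i)
      rw [CharTwo.neg_eq] at this
      exact this
  · rw [LinearMap.BilinMap.toQuadraticMap_apply, hB', if_neg (lt_irrefl _), if_pos rfl]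
  · rintro Q ⟨h1, h2⟩
    have hpol : ∀ v w, QuadraticMap.polar B'.toQuadraticMap v w = B v w := by
      have : QuadraticMap.polarBilin B'.toQuadraticMap = B := by
        refine LinearMap.ext_basis b b fun i j => ?_
        rw [QuadraticMap.polarBilin_apply_apply, LinearMap.BilinMap.polar_toQuadraticMap, hB', hB']
        rcases lt_trichotomy (s i) (s j) with h | h | h
        · rw [if_pos h, if_neg (lt_asymm h), if_neg (fun e => h.ne (by rw [e])), add_zero]
        · obtain rfl : i = j := s.injective h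
          rw [if_neg (lt_irrefl _), if_pos rfl, CharTwo.add_self_eq_zero]
          exact (hB _).symm
        · rw [if_neg (lt_asymm h), if_neg (fun e => h.ne (by rw [e])), if_pos h, zero_add]
          have := LinearMap.IsAlt.neg hB (b j) (b i)
          rw [CharTwo.neg_eq] at this
          exact this
      intro v w
      rw [← this]; rfl
    have hpolQ : ∀ v w, QuadraticMap.polar Q v w = B v w := fun v w => by rw [← h1]; rfl
    refine QuadraticMap.ext fun v => ?_
    have hb : ∀ i, B'.toQuadraticMap (b i) = c i := fun i => by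
      rw [LinearMap.BilinMap.toQuadraticMap_apply, hB', if_neg (lt_irrefl _), if_pos rfl]
    rw [← b.sum_repr v]
    induction (Finset.univ : Finset ι) using Finset.induction_on with
    | empty => simp
    | insert i t hi ih =>
      rw [Finset.sum_insert hi, QuadraticMap.map_add (⇑Q), QuadraticMap.map_add (⇑B'.toQuadraticMap), ih, hpol, hpolQ, QuadraticMap.map_smul,
        QuadraticMap.map_smul, h2, hb]

theorem compl_conj {B : Type*} [Group B] [Finite B] (U T : Subgroup B) [U.Normal]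
    (hcompl : Subgroup.IsComplement' U T) (t : B) (hreg : Subgroup.centralizer ({t} : Set B) = T) (u : B) (hu : u ∈ U) :
    ∃ b : B, b * t * b⁻¹ = t * u := by
  let f : U → U := fun b => ⟨t⁻¹ * (b : B) * t * (b : B)⁻¹,
    U.mul_mem (by simpa [mul_assoc] using (inferInstance : U.Normal).conj_mem _ b.2 t⁻¹) (U.inv_mem b.2)⟩
  have hf : Function.Injective f := by
    intro b b' h
    have e : t⁻¹ * (b : B) * t * (b : B)⁻¹ = t⁻¹ * (b' : B) * t * (b' : B)⁻¹ := congrArg Subtype.val h
    have hc : (b' : B)⁻¹ * b ∈ T := by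
      rw [← hreg, Subgroup.mem_centralizer_singleton_iff]
      calc (b' : B)⁻¹ * b * t = (b' : B)⁻¹ * (t * (t⁻¹ * b * t * (b : B)⁻¹)) * b := by group
        _ = (b' : B)⁻¹ * (t * (t⁻¹ * b' * t * (b' : B)⁻¹)) * b := by rw [e]
        _ = t * ((b' : B)⁻¹ * b) := by group
    have hU : (b' : B)⁻¹ * b ∈ U := U.mul_mem (U.inv_mem b'.2) b.2
    have := hcompl.disjoint.le_bot ⟨hU, hc⟩
    rw [Subgroup.mem_bot, inv_mul_eq_one] at this
    exact Subtype.ext this.symm
  obtain ⟨b, hb⟩ := Finite.injective_iff_surjective.1 hf ⟨u, hu⟩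
  refine ⟨b, ?_⟩
  have e : t⁻¹ * (b : B) * t * (b : B)⁻¹ = u := congrArg Subtype.val hb
  rw [← e]
  group

section Two

variable {F : Type*} [Field F]

theorem exists_jordan {M : Matrix (Fin 2) (Fin 2) F} (h2 : (M - 1) ^ 2 = 0) (h1 : M ≠ 1) :
    ∃ P : Matrix (Fin 2) (Fin 2) F, P.det ≠ 0 ∧ M * P = P * !![1, 1; 0, 1] := by
  have hN : M - 1 ≠ 0 := sub_ne_zero.2 h1
  obtain ⟨v, hv⟩ : ∃ v : Fin 2 → F, (M - 1) *ᵥ v ≠ 0 := by
    by_contra h
    push_neg at h
    exact hN (Matrix.ext_of_mulVec_single fun i => by rw [h, Matrix.zero_mulVec])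
  set w := (M - 1) *ᵥ v with hw
  have hw0 : (M - 1) *ᵥ w = 0 := by rw [hw, Matrix.mulVec_mulVec, ← sq, h2, Matrix.zero_mulVec]
  refine ⟨!![w 0, v 0; w 1, v 1], ?_, ?_⟩
  · intro hd
    rw [Matrix.det_fin_two_of] at hd
    have hk : ∀ i, w i • v = v i • w := fun i => by
      funext j
      fin_cases i <;> fin_cases j <;> simp <;> first | linear_combination hd | linear_combination -hd | ring
    obtain ⟨i, hi⟩ : ∃ i, w i ≠ 0 := by
      by_contra h
      push_neg at h
      exact hv (funext h)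
    have := congrArg ((M - 1) *ᵥ ·) (hk i)
    simp only [Matrix.mulVec_smul, hw0, ← hw, smul_zero] at this
    exact hv ((smul_eq_zero.1 this).resolve_left hi)
  · have eM : ∀ x, M *ᵥ x = (M - 1) *ᵥ x + x := fun x => by rw [Matrix.sub_mulVec, Matrix.one_mulVec, sub_add_cancel]
    have e1 := eM w
    rw [hw0, zero_add] at e1
    have e2 := eM v
    rw [← hw] at e2
    have a0 := congrFun e1 0
    have a1 := congrFun e1 1
    have b0 := congrFun e2 0
    have b1 := congrFun e2 1
    simp [Matrix.mulVec, dotProduct, Fin.sum_univ_two] at a0 a1 b0 b1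
    ext i j
    fin_cases i <;> fin_cases j <;> simp [Matrix.mul_apply, Fin.sum_univ_two, a0, a1, b0, b1]

theorem gl_conj {p : ℕ} [Fact p.Prime] [CharP F p] (g h : GL (Fin 2) F) (hg : orderOf g = p) (hh : orderOf h = p) :
    IsConj g h := by
  have hp := (Fact.out : p.Prime)
  have key : ∀ g : GL (Fin 2) F, orderOf g = p → ∃ P : GL (Fin 2) F,
      (g : Matrix (Fin 2) (Fin 2) F) * (P : Matrix (Fin 2) (Fin 2) F) = (P : Matrix (Fin 2) (Fin 2) F) * !![1, 1; 0, 1] := by
    intro g hg
    have hnil : IsNilpotent ((g : Matrix (Fin 2) (Fin 2) F) - 1) := ⟨p ^ 1, by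
      rw [sub_one_pow, sub_eq_zero, pow_one, ← Units.val_pow_eq_pow_val, ← hg, pow_orderOf_eq_one, Units.val_one]⟩
    have hne : (g : Matrix (Fin 2) (Fin 2) F) ≠ 1 := fun e => by
      rw [Units.val_eq_one.1 e, orderOf_one] at hg
      exact hp.ne_one hg.symm
    obtain ⟨P, hP, e⟩ := exists_jordan (pow_card_eq_zero hnil) hne
    exact ⟨Matrix.GeneralLinearGroup.mkOfDetNeZero P hP, e⟩
  obtain ⟨P, hP⟩ := key g hg
  obtain ⟨R, hR⟩ := key h hh
  refine isConj_iff.2 ⟨R * P⁻¹, ?_⟩
  rw [mul_inv_eq_iff_eq_mul]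
  refine Units.ext ?_
  have e1 : ((P⁻¹ : GL (Fin 2) F) : Matrix (Fin 2) (Fin 2) F) * (g : Matrix (Fin 2) (Fin 2) F) =
      !![1, 1; 0, 1] * ((P⁻¹ : GL (Fin 2) F) : Matrix (Fin 2) (Fin 2) F) := by
    have := congrArg (fun X => ((P⁻¹ : GL (Fin 2) F) : Matrix (Fin 2) (Fin 2) F) * X *
      ((P⁻¹ : GL (Fin 2) F) : Matrix (Fin 2) (Fin 2) F)) hP
    simpa [mul_assoc] using this
  simp only [Units.val_mul, mul_assoc, e1]
  rw [← mul_assoc, ← mul_assoc, hR]

theorem sl_involutions [Fintype F] [CharP F 2] (g h : Matrix.SpecialLinearGroup (Fin 2) F)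
    (hg : orderOf g = 2) (hh : orderOf h = 2) :
    IsConj g h ∧ Nat.card (ConjClasses.mk g).carrier = Fintype.card F ^ 2 - 1 := by
  haveI : Fact (Nat.Prime 2) := ⟨Nat.prime_two⟩
  have key : ∀ g : Matrix.SpecialLinearGroup (Fin 2) F, orderOf g = 2 → ∃ P : Matrix.SpecialLinearGroup (Fin 2) F,
      (g : Matrix (Fin 2) (Fin 2) F) * (P : Matrix (Fin 2) (Fin 2) F) = (P : Matrix (Fin 2) (Fin 2) F) * !![1, 1; 0, 1] := by
    intro g hg
    have hsq : (g : Matrix (Fin 2) (Fin 2) F) ^ 2 = 1 := by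
      have h0 : g ^ 2 = 1 := orderOf_dvd_iff_pow_eq_one.1 (dvd_of_eq hg)
      rw [← Matrix.SpecialLinearGroup.coe_pow, h0, Matrix.SpecialLinearGroup.coe_one]
    have h2 : ((g : Matrix (Fin 2) (Fin 2) F) - 1) ^ 2 = 0 := by
      have := sub_one_pow (p := 2) (g : Matrix (Fin 2) (Fin 2) F) 1
      rw [pow_one, hsq, sub_self] at this
      exact this
    have hne : (g : Matrix (Fin 2) (Fin 2) F) ≠ 1 := fun e => by
      rw [show g = 1 from Subtype.ext e, orderOf_one] at hg
      omega
    obtain ⟨P, hP, e⟩ := exists_jordan h2 hne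
    obtain ⟨s, hs⟩ := FiniteField.isSquare_of_char_two (ringChar.eq F 2) P.det⁻¹
    refine ⟨⟨s • P, by rw [Matrix.det_smul, Fintype.card_fin, sq, ← hs, inv_mul_cancel₀ hP]⟩, ?_⟩
    show (g : Matrix (Fin 2) (Fin 2) F) * (s • P) = s • P * _
    rw [Matrix.mul_smul, Matrix.smul_mul, e]
  have hconj : ∀ g h : Matrix.SpecialLinearGroup (Fin 2) F, orderOf g = 2 → orderOf h = 2 → IsConj g h := by
    intro g h hg hh
    obtain ⟨P, hP⟩ := key g hg
    obtain ⟨R, hR⟩ := key h hh
    refine isConj_iff.2 ⟨R * P⁻¹, ?_⟩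
    rw [mul_inv_eq_iff_eq_mul]
    refine Subtype.ext ?_
    have e1 : ((P⁻¹ : Matrix.SpecialLinearGroup (Fin 2) F) : Matrix (Fin 2) (Fin 2) F) * (g : Matrix (Fin 2) (Fin 2) F) =
        !![1, 1; 0, 1] * ((P⁻¹ : Matrix.SpecialLinearGroup (Fin 2) F) : Matrix (Fin 2) (Fin 2) F) := by
      have := congrArg (fun X => ((P⁻¹ : Matrix.SpecialLinearGroup (Fin 2) F) : Matrix (Fin 2) (Fin 2) F) * X *
        ((P⁻¹ : Matrix.SpecialLinearGroup (Fin 2) F) : Matrix (Fin 2) (Fin 2) F)) hP
      simpa only [← mul_assoc, ← Matrix.SpecialLinearGroup.coe_mul, mul_inv_cancel_right, inv_mul_cancel,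
        Matrix.SpecialLinearGroup.coe_one, one_mul] using this
    simp only [Matrix.SpecialLinearGroup.coe_mul, mul_assoc, e1]
    rw [← mul_assoc, ← mul_assoc, hR]
  refine ⟨hconj g h hg hh, ?_⟩
  let J : Matrix.SpecialLinearGroup (Fin 2) F := ⟨!![1, 1; 0, 1], by simp [Matrix.det_fin_two]⟩
  have hJ : orderOf J = 2 := orderOf_eq_prime (Subtype.ext (by
      rw [Matrix.SpecialLinearGroup.coe_pow, sq]
      ext i j
      fin_cases i <;> fin_cases j <;> simp [J, Matrix.mul_apply, Fin.sum_univ_two, CharTwo.add_self_eq_zero]))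
    (fun e => by simpa [J] using congrArg (fun X : Matrix.SpecialLinearGroup (Fin 2) F => (X : Matrix (Fin 2) (Fin 2) F) 0 1) e)
  rw [ConjClasses.mk_eq_mk_iff_isConj.2 (hconj g J hg hJ), Nat.card_coe_set_eq,
    CfsgLib.Perm.ncard_carrier_eq_index]
  let f : F → Subgroup.centralizer ({J} : Set (Matrix.SpecialLinearGroup (Fin 2) F)) := fun b =>
    ⟨(⟨!![1, b; 0, 1], by simp [Matrix.det_fin_two]⟩ : Matrix.SpecialLinearGroup (Fin 2) F), Subgroup.mem_centralizer_singleton_iff.2 (Subtype.ext (by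
      show !![1, b; 0, 1] * (!![1, 1; 0, 1] : Matrix (Fin 2) (Fin 2) F) = !![1, 1; 0, 1] * !![1, b; 0, 1]
      ext i j
      fin_cases i <;> fin_cases j <;> simp [Matrix.mul_apply, Fin.sum_univ_two, add_comm]))⟩
  have hf : Function.Bijective f := by
    refine ⟨fun a b e => by simpa [f] using congrArg (fun X => (X.1 : Matrix (Fin 2) (Fin 2) F) 0 1) e, ?_⟩
    rintro ⟨X, hX⟩
    have e : (X : Matrix (Fin 2) (Fin 2) F) * !![1, 1; 0, 1] = !![1, 1; 0, 1] * (X : Matrix (Fin 2) (Fin 2) F) :=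
      congrArg (fun Y : Matrix.SpecialLinearGroup (Fin 2) F => (Y : Matrix (Fin 2) (Fin 2) F))
        (Subgroup.mem_centralizer_singleton_iff.1 hX)
    have e00 := congrFun (congrFun e 0) 0
    have e01 := congrFun (congrFun e 0) 1
    simp [Matrix.mul_apply, Fin.sum_univ_two] at e00 e01
    have hd := X.prop
    rw [Matrix.det_fin_two] at hd
    have h10 : (X : Matrix (Fin 2) (Fin 2) F) 1 0 = 0 := e00
    have h11 : (X : Matrix (Fin 2) (Fin 2) F) 1 1 = (X : Matrix (Fin 2) (Fin 2) F) 0 0 := by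
      linear_combination -e01
    rw [h10, h11, mul_zero, sub_zero] at hd
    have h00 : (X : Matrix (Fin 2) (Fin 2) F) 0 0 = 1 := CharTwo.sq_injective (by
      show (X : Matrix (Fin 2) (Fin 2) F) 0 0 ^ 2 = (1 : F) ^ 2
      linear_combination hd)
    refine ⟨(X : Matrix (Fin 2) (Fin 2) F) 0 1, Subtype.ext (Subtype.ext ?_)⟩
    ext i j
    fin_cases i <;> fin_cases j <;> simp [f, h00, h10, h11]
  have hC : Nat.card (Subgroup.centralizer ({J} : Set (Matrix.SpecialLinearGroup (Fin 2) F))) = Fintype.card F := by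
    rw [← Nat.card_eq_of_bijective f hf, Nat.card_eq_fintype_card]
  have := (Subgroup.centralizer ({J} : Set (Matrix.SpecialLinearGroup (Fin 2) F))).card_mul_index
  rw [hC, CfsgLib.Lie.Orders.card_SL_two rfl] at this
  exact Nat.eq_of_mul_eq_mul_left Fintype.card_pos this

end Two

theorem alt_order_rs (n r s : ℕ) (hr : r.Prime) (hs : s.Prime) (hr2 : r ≠ 2) (hs2 : s ≠ 2) (hrs : r ≠ s) :
    (r * s ∈ Set.range (orderOf : alternatingGroup (Fin n) → ℕ)) ↔ r + s ≤ n := by
  have h3 := hr.two_le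
  have h4 := hs.two_le
  constructor
  · rintro ⟨g, hg⟩
    rw [← Subgroup.orderOf_coe, ← Equiv.Perm.lcm_cycleType] at hg
    set t := (g : Equiv.Perm (Fin n)).cycleType
    have hsum : t.sum ≤ n := by
      have := Finset.card_le_univ (g : Equiv.Perm (Fin n)).support
      rw [← Equiv.Perm.sum_cycleType, Fintype.card_fin] at this
      exact this
    have hp : ∀ l : ℕ, l.Prime → l ∣ t.lcm → ∃ a ∈ t, l ∣ a := by
      intro l hl
      clear_value t
      clear hg hsum
      intro hd
      induction t using Multiset.induction_on with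
      | empty => simp [hl.ne_one] at hd
      | cons a t ih =>
        rw [Multiset.lcm_cons] at hd
        rcases (Nat.Prime.dvd_mul hl).1 (hd.trans (Nat.lcm_dvd_mul a t.lcm)) with h | h
        · exact ⟨a, Multiset.mem_cons_self _ _, h⟩
        · obtain ⟨b, hb, hb'⟩ := ih h
          exact ⟨b, Multiset.mem_cons_of_mem hb, hb'⟩
    obtain ⟨a, ha, hra⟩ := hp r hr (by rw [hg]; exact dvd_mul_right r s)
    obtain ⟨b, hb, hsb⟩ := hp s hs (by rw [hg]; exact dvd_mul_left s r)
    have hapos : 0 < a := by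
      have := Equiv.Perm.two_le_of_mem_cycleType ha
      omega
    by_cases hab : a = b
    · subst hab
      have h1 : r * s ≤ a := Nat.le_of_dvd hapos
        (((Nat.coprime_primes hr hs).2 hrs).mul_dvd_of_dvd_of_dvd hra hsb)
      have h2 := Multiset.le_sum_of_mem ha
      have h5 : r + s ≤ r * s := Nat.add_le_mul h3 h4
      omega
    · obtain ⟨t', hta⟩ : ∃ t', t = a ::ₘ t' := Multiset.exists_cons_of_mem ha
      have hb0 := hb
      rw [hta] at hb hsum
      have hb' : b ∈ t' := (Multiset.mem_cons.1 hb).resolve_left (Ne.symm hab)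
      have h2 := Multiset.le_sum_of_mem hb'
      have hra' := Nat.le_of_dvd hapos hra
      have hsb' := Nat.le_of_dvd (by have := Equiv.Perm.two_le_of_mem_cycleType hb0; omega) hsb
      rw [Multiset.sum_cons] at hsum
      omega
  · intro h
    obtain ⟨g, hg⟩ := (Equiv.Perm.exists_with_cycleType_iff (α := Fin n) (m := ({r, s} : Multiset ℕ))).2
      ⟨by simpa using h, by simp; omega⟩
    refine ⟨⟨g, ?_⟩, ?_⟩
    · rw [Equiv.Perm.mem_alternatingGroup, Equiv.Perm.sign_of_cycleType, hg]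
      obtain ⟨i, hi⟩ := hr.odd_of_ne_two hr2
      obtain ⟨j, hj⟩ := hs.odd_of_ne_two hs2
      exact Even.neg_one_pow ⟨i + j + 2, by simp; omega⟩
    · rw [← Subgroup.orderOf_coe, ← Equiv.Perm.lcm_cycleType, hg]
      simp [Multiset.lcm_cons]
      exact ((Nat.coprime_primes hr hs).2 hrs).lcm_eq_mul

theorem alt_order_two_r (n r : ℕ) (hr : r.Prime) (hr2 : r ≠ 2) :
    (2 * r ∈ Set.range (orderOf : alternatingGroup (Fin n) → ℕ)) ↔ r + 4 ≤ n := by
  have h3 : 3 ≤ r := by have := hr.two_le; omega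
  constructor
  · rintro ⟨g, hg⟩
    rw [← Subgroup.orderOf_coe, ← Equiv.Perm.lcm_cycleType] at hg
    have hsgn := g.2
    rw [Equiv.Perm.mem_alternatingGroup, Equiv.Perm.sign_of_cycleType] at hsgn
    set t := (g : Equiv.Perm (Fin n)).cycleType with ht
    have hsum : t.sum ≤ n := by
      have := Finset.card_le_univ (g : Equiv.Perm (Fin n)).support
      rw [← Equiv.Perm.sum_cycleType, Fintype.card_fin] at this
      exact this
    have hp : ∀ l : ℕ, l.Prime → l ∣ t.lcm → ∃ a ∈ t, l ∣ a := by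
      intro l hl
      clear_value t
      clear hg hsum hsgn ht
      intro hd
      induction t using Multiset.induction_on with
      | empty => simp [hl.ne_one] at hd
      | cons a t ih =>
        rw [Multiset.lcm_cons] at hd
        rcases (Nat.Prime.dvd_mul hl).1 (hd.trans (Nat.lcm_dvd_mul a t.lcm)) with h | h
        · exact ⟨a, Multiset.mem_cons_self _ _, h⟩
        · obtain ⟨b, hb, hb'⟩ := ih h
          exact ⟨b, Multiset.mem_cons_of_mem hb, hb'⟩
    obtain ⟨a, ha, h2a⟩ := hp 2 Nat.prime_two (by rw [hg]; exact dvd_mul_right 2 r)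
    -- a second even cycle
    have h2le : ∀ x ∈ t, 2 ≤ x := fun x hx => Equiv.Perm.two_le_of_mem_cycleType hx
    obtain ⟨t', hta⟩ : ∃ t', t = a ::ₘ t' := Multiset.exists_cons_of_mem ha
    have hev : Even (t.sum + Multiset.card t) := by
      rcases Nat.even_or_odd (t.sum + Multiset.card t) with h | h
      · exact h
      · rw [h.neg_one_pow] at hsgn
        exact absurd hsgn (by decide)
    obtain ⟨b, hb, h2b⟩ : ∃ b ∈ t', Even b := by
      by_contra hno
      push_neg at hno
      have key : ∀ m : Multiset ℕ, (∀ x ∈ m, ¬Even x) → Even (m.sum + Multiset.card m) := by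
        intro m
        induction m using Multiset.induction_on with
        | empty => simp
        | cons x m ih =>
          intro h
          have h1 := ih fun y hy => h y (Multiset.mem_cons_of_mem hy)
          rw [Multiset.sum_cons, Multiset.card_cons]
          obtain ⟨i, hi⟩ := Nat.not_even_iff_odd.1 (h x (Multiset.mem_cons_self x m))
          obtain ⟨j, hj⟩ := h1
          exact ⟨i + j + 1, by omega⟩
      obtain ⟨j, hj⟩ := key t' hno
      rw [hta, Multiset.sum_cons, Multiset.card_cons] at hev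
      obtain ⟨i, hi⟩ := hev
      obtain ⟨a', rfl⟩ := h2a
      omega
    obtain ⟨x, hx, hrx⟩ := hp r hr (by rw [hg]; exact dvd_mul_left r 2)
    obtain ⟨t'', htb⟩ : ∃ t'', t' = b ::ₘ t'' := Multiset.exists_cons_of_mem hb
    have ha2 := h2le a ha
    have hb2 := h2le b (hta ▸ Multiset.mem_cons_of_mem hb)
    have hxr := Nat.le_of_dvd (by have := h2le x hx; omega) hrx
    have hodd := hr.odd_of_ne_two hr2
    rw [hta, htb, Multiset.sum_cons, Multiset.sum_cons] at hsum
    rw [hta, htb, Multiset.mem_cons, Multiset.mem_cons] at hx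
    rcases hx with rfl | rfl | hx
    · have : 2 * r ≤ x := Nat.le_of_dvd (by omega)
        (((Nat.coprime_primes Nat.prime_two hr).2 (Ne.symm hr2)).mul_dvd_of_dvd_of_dvd h2a hrx)
      omega
    · have : 2 * r ≤ x := Nat.le_of_dvd (by omega)
        (((Nat.coprime_primes Nat.prime_two hr).2 (Ne.symm hr2)).mul_dvd_of_dvd_of_dvd h2b.two_dvd hrx)
      omega
    · have := Multiset.le_sum_of_mem hx
      omega
  · intro h
    obtain ⟨g, hg⟩ := (Equiv.Perm.exists_with_cycleType_iff (α := Fin n) (m := ({r, 2, 2} : Multiset ℕ))).2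
      ⟨by simpa using h, by simp; omega⟩
    refine ⟨⟨g, ?_⟩, ?_⟩
    · rw [Equiv.Perm.mem_alternatingGroup, Equiv.Perm.sign_of_cycleType, hg]
      obtain ⟨i, hi⟩ := hr.odd_of_ne_two hr2
      exact Even.neg_one_pow ⟨i + 4, by simp; omega⟩
    · rw [← Subgroup.orderOf_coe, ← Equiv.Perm.lcm_cycleType, hg]
      simp [Multiset.lcm_cons]
      exact ((Nat.coprime_primes hr Nat.prime_two).2 hr2).lcm_eq_mul.trans (mul_comm _ _)

end CfsgLib.MiscLin
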