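import Mathlib
import Cfsg.Prelude.Def_Classical
import Cfsg.Agent.Lie.Orders

/-!
Power residues, discriminants, lifting of prime order elements, spectra of products.
-/

set_option autoImplicit false
set_option linter.unusedSectionVars false

namespace CfsgLib.MiscLin2

open Matrix

theorem isPow_iff {G : Type*} [CommGroup G] [Finite G] [IsCyclic G] (n : ℕ) (x : G) :
    (∃ c : G, c ^ n = x) ↔ x ^ (Nat.card G / (Nat.card G).gcd n) = 1 := by
  set N := Nat.card G
  set d := N.gcd n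
  have hN : 0 < N := Nat.card_pos
  have hd : d ∣ N := Nat.gcd_dvd_left _ _
  have hle : (powMonoidHom n : G →* G).range ≤ (powMonoidHom (N / d) : G →* G).ker := by
    rintro _ ⟨c, rfl⟩
    rw [MonoidHom.mem_ker, powMonoidHom_apply, powMonoidHom_apply, ← pow_mul]
    obtain ⟨k, hk⟩ : d ∣ n := Nat.gcd_dvd_right _ _
    rw [hk, mul_comm d k, mul_assoc, Nat.mul_div_cancel' hd, mul_comm, pow_mul, pow_card_eq_one', one_pow]
  have heq : (powMonoidHom n : G →* G).range = (powMonoidHom (N / d) : G →* G).ker := by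
    refine Subgroup.eq_of_le_of_card_ge hle ?_
    rw [IsCyclic.card_powMonoidHom_ker]
    have h1 := Subgroup.card_eq_card_quotient_mul_card_subgroup (powMonoidHom n : G →* G).ker
    rw [Nat.card_congr (QuotientGroup.quotientKerEquivRange (powMonoidHom n : G →* G)).toEquiv,
      IsCyclic.card_powMonoidHom_ker] at h1
    rw [Nat.gcd_eq_right (Nat.div_dvd_of_dvd hd)]
    exact le_of_eq (Nat.div_eq_of_eq_mul_left (Nat.gcd_pos_of_pos_left _ hN) h1)
  constructor
  · rintro ⟨c, rfl⟩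
    exact MonoidHom.mem_ker.1 (hle ⟨c, rfl⟩)
  · intro h
    obtain ⟨c, hc⟩ := heq.ge (MonoidHom.mem_ker.2 h)
    exact ⟨c, hc⟩

section Field

variable {F : Type*} [Field F] [Fintype F]

theorem two_ne (hq : Odd (Fintype.card F)) : (2 : F) ≠ 0 := by
  intro h
  have hr : ringChar F = 2 := by
    have h2 : ((2 : ℕ) : F) = 0 := by exact_mod_cast h
    rcases (Nat.dvd_prime Nat.prime_two).1 ((ringChar.spec F 2).1 h2) with h1 | h1
    · exact absurd h1 (CharP.ringChar_ne_one)
    · exact h1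
  have h4 := FiniteField.even_card_of_char_two hr
  exact (Nat.not_even_iff_odd.2 hq) (Nat.even_iff.2 h4)

theorem inv_exists_iff (u : Fˣ) (n : ℕ) :
    (∃ c : F, c ≠ 0 ∧ c ^ n * (u : F) = 1) ↔ ∃ c : Fˣ, c ^ n = u⁻¹ := by
  constructor
  · rintro ⟨c, hc, h⟩
    refine ⟨Units.mk0 c hc, eq_inv_of_mul_eq_one_left (Units.ext ?_)⟩
    simpa using h
  · rintro ⟨c, hc⟩
    refine ⟨c, c.ne_zero, ?_⟩
    rw [← Units.val_pow_eq_pow_val, hc, ← Units.val_mul, inv_mul_cancel, Units.val_one]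

theorem diag_scalar {q : ℕ} (hF : Fintype.card F = q) (hq : Odd q) {n : ℕ} (hn : 1 ≤ n) (i : ℕ) (hi : i ≤ n) :
    (∃ c : F, c ≠ 0 ∧ (c • Matrix.diagonal (fun j : Fin n => if (j : ℕ) < i then (-1 : F) else 1)).det = 1) ↔
      (Even i ∨ padicValNat 2 n < padicValNat 2 (q - 1)) := by
  classical
  have h2 : (2 : F) ≠ 0 := two_ne (hF ▸ hq)
  have hdet : ∀ c : F, (c • Matrix.diagonal (fun j : Fin n => if (j : ℕ) < i then (-1 : F) else 1)).det =
      c ^ n * (((-1 : Fˣ) ^ i : Fˣ) : F) := fun c => by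
    rw [Matrix.det_smul, Fintype.card_fin, Matrix.det_diagonal, Finset.prod_ite, Finset.prod_const,
      Finset.prod_const_one, mul_one]
    have : (Finset.univ.filter fun x : Fin n => (x : ℕ) < i).card = i := by
      rw [← Fintype.card_subtype, ← Nat.card_eq_fintype_card]
      rw [Nat.card_eq_of_bijective (fun x : Fin i => (⟨⟨x, by omega⟩, x.2⟩ : {x : Fin n // (x : ℕ) < i}))
        ⟨fun a b h => by simpa [Fin.ext_iff] using h, fun x => ⟨⟨x.1, x.2⟩, rfl⟩⟩ |>.symm, Nat.card_fin]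
    rw [this]
    simp
  simp only [hdet]
  rw [inv_exists_iff, isPow_iff, inv_pow, inv_eq_one, ← pow_mul, Nat.card_units, Nat.card_eq_fintype_card, hF]
  have hm1 : (-1 : Fˣ) ≠ 1 := fun e => h2 (by
    have := congrArg (fun u : Fˣ => (u : F)) e
    simp at this
    linear_combination -this)
  rw [neg_one_pow_eq_one_iff_even hm1, Nat.even_mul]
  refine or_congr_right ?_
  have hq1 : q - 1 ≠ 0 := by have := Fintype.one_lt_card (α := F); omega
  rw [even_iff_two_dvd]
  set d := (q - 1).gcd n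
  obtain ⟨e, he⟩ : d ∣ q - 1 := Nat.gcd_dvd_left _ _
  have hd0 : d ≠ 0 := Nat.gcd_ne_zero_left hq1
  have he0 : e ≠ 0 := fun h => hq1 (by rw [he, h, mul_zero])
  rw [he, Nat.mul_div_cancel_left _ (Nat.pos_of_ne_zero hd0), ← he,
    ← Nat.factorization_def _ Nat.prime_two, ← Nat.factorization_def _ Nat.prime_two,
    Nat.Prime.dvd_iff_one_le_factorization Nat.prime_two he0]
  have h1 : (q - 1).factorization 2 = d.factorization 2 + e.factorization 2 := by
    rw [he, Nat.factorization_mul hd0 he0]; simp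
  have h3 : d.factorization 2 = min ((q - 1).factorization 2) (n.factorization 2) := by
    rw [Nat.factorization_gcd hq1 (by omega)]; simp
  omega

theorem block_scalar {q : ℕ} (hF : Fintype.card F = q) (hq : Odd q) {m : ℕ} (hm : 1 ≤ m) (μ : F)
    (hμ : orderOf μ = 2 ^ padicValNat 2 (q - 1)) :
    (∃ c : F, c ≠ 0 ∧ (c • Matrix.blockDiagonal (fun _ : Fin m => !![(0 : F), 1; μ, 0])).det = 1) ↔
      (q % 4 = 3 ∨ padicValNat 2 (q - 1) < padicValNat 2 (2 * m)) := by
  classical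
  have h2 : (2 : F) ≠ 0 := two_ne (hF ▸ hq)
  have hμ0 : μ ≠ 0 := fun e => by
    rw [e, orderOf_zero] at hμ
    exact absurd hμ.symm (by positivity)
  set s := padicValNat 2 (q - 1) with hs
  have hq1 : q - 1 ≠ 0 := by have := Fintype.one_lt_card (α := F); omega
  have hs1 : 1 ≤ s := by
    refine one_le_padicValNat_of_dvd hq1 ?_
    obtain ⟨k, hk⟩ := hq
    exact ⟨k, by omega⟩
  have hdet : ∀ c : F, (c • Matrix.blockDiagonal (fun _ : Fin m => !![(0 : F), 1; μ, 0])).det =
      c ^ (2 * m) * (((Units.mk0 (-μ) (neg_ne_zero.2 hμ0)) ^ m : Fˣ) : F) := fun c => by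
    rw [Matrix.det_smul, Matrix.det_blockDiagonal, Fintype.card_prod, Fintype.card_fin, Fintype.card_fin,
      Finset.prod_const, Finset.card_univ, Fintype.card_fin, Matrix.det_fin_two_of, Units.val_pow_eq_pow_val,
      Units.val_mk0, zero_mul, one_mul, zero_sub]
  simp only [hdet]
  rw [inv_exists_iff, isPow_iff, inv_pow, inv_eq_one, ← pow_mul, Nat.card_units, Nat.card_eq_fintype_card, hF,
    ← orderOf_dvd_iff_pow_eq_one, ← orderOf_units, Units.val_mk0]
  rcases eq_or_lt_of_le hs1 with h1 | h1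
  · -- `μ = -1`
    have h3 : q % 4 = 3 := by
      have h4 : ¬4 ∣ q - 1 := fun h => by
        have := (padicValNat_dvd_iff_le (p := 2) hq1).1 (show 2 ^ 2 ∣ q - 1 from h)
        omega
      obtain ⟨k, hk⟩ := hq
      omega
    have hneg : -μ = 1 := by
      rw [← h1, pow_one] at hμ
      have h5 : μ * μ = 1 := by rw [← sq, ← hμ, pow_orderOf_eq_one]
      rcases mul_self_eq_one_iff.1 h5 with h6 | h6
      · rw [h6, orderOf_one] at hμ; omega
      · rw [h6, neg_neg]
    simp [h3, hneg]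
  have h3 : q % 4 ≠ 3 := by
    have h4 : 2 ^ 2 ∣ q - 1 := (padicValNat_dvd_iff_le (p := 2) hq1).2 (by omega)
    have h4' : 4 ∣ q - 1 := h4
    omega
  have hord : orderOf (-μ) = 2 ^ s := by
    obtain ⟨j, hj⟩ := Nat.exists_eq_add_of_le h1
    rw [hj] at hμ ⊢
    rw [show Nat.succ 1 + j = j + 1 + 1 by omega] at hμ ⊢
    refine orderOf_eq_prime_pow ?_ ?_
    · rw [neg_pow, pow_succ' 2 j, pow_mul, neg_one_sq, one_pow, one_mul, ← pow_succ']
      intro h
      have := orderOf_dvd_of_pow_eq_one h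
      rw [hμ] at this
      exact absurd (Nat.le_of_dvd (by positivity) this)
        (not_le.2 (Nat.pow_lt_pow_right (by norm_num) (by omega)))
    · rw [neg_pow, pow_succ' 2 (j + 1), pow_mul, neg_one_sq, one_pow, one_mul, ← pow_succ', ← hμ,
        pow_orderOf_eq_one]
  rw [hord]
  simp only [h3, false_or]
  set d := (q - 1).gcd (2 * m)
  obtain ⟨e, he⟩ : d ∣ q - 1 := Nat.gcd_dvd_left _ _
  have hd0 : d ≠ 0 := Nat.gcd_ne_zero_left hq1
  have he0 : e ≠ 0 := fun h => hq1 (by rw [he, h, mul_zero])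
  have hs' : s = (q - 1).factorization 2 := by rw [hs, Nat.factorization_def _ Nat.prime_two]
  rw [he, Nat.mul_div_cancel_left _ (Nat.pos_of_ne_zero hd0),
    Nat.prime_two.pow_dvd_iff_le_factorization (by positivity), Nat.factorization_mul (by omega) he0,
    ← Nat.factorization_def _ Nat.prime_two]
  have e1 : (q - 1).factorization 2 = d.factorization 2 + e.factorization 2 := by
    rw [he, Nat.factorization_mul hd0 he0]; simp
  have e2 : d.factorization 2 = min ((q - 1).factorization 2) ((2 * m).factorization 2) := by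
    rw [Nat.factorization_gcd hq1 (by omega)]; simp
  have e3 : (2 * m).factorization 2 = 1 + m.factorization 2 := by
    rw [Nat.factorization_mul two_ne_zero (by omega)]
    simp [Nat.prime_two.factorization]
  simp only [Finsupp.coe_add, Pi.add_apply]
  omega

theorem gram_square_iff {V ι κ : Type*} [AddCommGroup V] [Module F V] [Fintype ι] [DecidableEq ι] [Fintype κ]
    [DecidableEq κ] (B : V →ₗ[F] V →ₗ[F] F) (b : Module.Basis ι F V) (b₀ : Module.Basis κ F V) :
    IsSquare (LinearMap.toMatrix₂ b b B).det ↔ IsSquare (LinearMap.toMatrix₂ b₀ b₀ B).det := by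
  classical
  let e := b.indexEquiv b₀
  have h1 : LinearMap.toMatrix₂ b b B = (LinearMap.toMatrix b b₀ LinearMap.id)ᵀ *
      LinearMap.toMatrix₂ b₀ b₀ B * LinearMap.toMatrix b b₀ LinearMap.id := by
    rw [← LinearMap.toMatrix₂_compl₁₂ b₀ b₀ b b]
    rfl
  set P := LinearMap.toMatrix b b₀ (LinearMap.id : V →ₗ[F] V)
  set R := LinearMap.toMatrix b₀ b (LinearMap.id : V →ₗ[F] V)
  have hPR : R * P = 1 := by
    rw [← LinearMap.toMatrix_comp, LinearMap.id_comp, LinearMap.toMatrix_id]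
  let P' : Matrix ι ι F := P.submatrix e id
  have hP' : P'.det ≠ 0 := by
    refine (Matrix.isUnit_iff_isUnit_det P').1 ?_ |>.ne_zero
    refine IsUnit.of_mul_eq_one_right (R.submatrix id e) ?_
    rw [← hPR]
    ext i j
    simp only [Matrix.mul_apply, P', Matrix.submatrix_apply, id_eq]
    exact Fintype.sum_equiv e _ _ fun _ => rfl
  have h2 : LinearMap.toMatrix₂ b b B = P'ᵀ * (LinearMap.toMatrix₂ b₀ b₀ B).submatrix e e * P' := by
    rw [h1]
    ext i j
    simp only [Matrix.mul_apply, P', Matrix.submatrix_apply, Matrix.transpose_apply, id_eq]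
    refine (Fintype.sum_equiv e _ _ fun x => ?_).symm
    congr 1
    exact Fintype.sum_equiv e _ _ fun _ => rfl
  rw [h2, Matrix.det_mul, Matrix.det_mul, Matrix.det_transpose, Matrix.det_submatrix_equiv_self]
  constructor
  · rintro ⟨r, hr⟩
    refine ⟨r / P'.det, ?_⟩
    field_simp
    linear_combination hr
  · rintro ⟨r, hr⟩
    exact ⟨r * P'.det, by rw [hr]; ring⟩

theorem neg_one_pow_square {q : ℕ} (hF : Fintype.card F = q) (hq : Odd q) (m : ℕ) :
    IsSquare ((-1 : F) ^ m) ↔ Even (m * (q - 1) / 2) := by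
  obtain ⟨k, hk⟩ := hq
  rw [show m * (q - 1) / 2 = m * k by
    rw [hk, Nat.add_sub_cancel, show m * (2 * k) = 2 * (m * k) by ring, Nat.mul_div_cancel_left _ two_pos],
    Nat.even_mul]
  rcases Nat.even_or_odd m with hm | hm
  · rw [hm.neg_one_pow]
    simp [hm, IsSquare.one]
  · rw [hm.neg_one_pow, FiniteField.isSquare_neg_one_iff, hF]
    simp only [Nat.not_even_iff_odd.2 hm, false_or, Nat.even_iff]
    omega

theorem polar_sum_split {m : ℕ} (v w : Fin m ⊕ Fin m → F) :
    QuadraticMap.polar (Cfsg.quadFormPlus m F) v w = ∑ i, (v (.inl i) * w (.inr i) + w (.inl i) * v (.inr i)) := by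
  simp only [QuadraticMap.polar, Cfsg.quadFormPlus, ← Finset.sum_sub_distrib, Pi.add_apply]
  exact Finset.sum_congr rfl fun i _ => by ring

theorem disc_plus {q : ℕ} (hF : Fintype.card F = q) (hq : Odd q) {m : ℕ} {ι : Type*} [Fintype ι] [DecidableEq ι]
    (b : Module.Basis ι F (Fin m ⊕ Fin m → F)) :
    IsSquare (Matrix.of (fun i j : ι => QuadraticMap.polar (Cfsg.quadFormPlus m F) (b i) (b j))).det ↔
      Even (m * (q - 1) / 2) := by
  classical
  let J : Matrix (Fin m ⊕ Fin m) (Fin m ⊕ Fin m) F := Matrix.fromBlocks 0 1 1 0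
  have hpol : ∀ v w, Matrix.toLinearMap₂' F J v w = QuadraticMap.polar (Cfsg.quadFormPlus m F) v w := fun v w => by
    rw [Matrix.toLinearMap₂'_apply', polar_sum_split]
    simp [J, Matrix.fromBlocks_mulVec, dotProduct, Fintype.sum_sum_type, Finset.sum_add_distrib, mul_comm]
  have h1 : Matrix.of (fun i j : ι => QuadraticMap.polar (Cfsg.quadFormPlus m F) (b i) (b j)) =
      LinearMap.toMatrix₂ b b (Matrix.toLinearMap₂' F J) := by
    ext i j
    rw [LinearMap.toMatrix₂_apply, hpol]; rfl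
  rw [h1, gram_square_iff _ b (Pi.basisFun F (Fin m ⊕ Fin m)), ← neg_one_pow_square hF hq m]
  have h2 : LinearMap.toMatrix₂ (Pi.basisFun F (Fin m ⊕ Fin m)) (Pi.basisFun F (Fin m ⊕ Fin m))
      (Matrix.toLinearMap₂' F J) = J := by
    ext i j
    rw [LinearMap.toMatrix₂_apply, Pi.basisFun_apply, Pi.basisFun_apply, Matrix.toLinearMap₂'_apply']
    simp
  have h3 : J.det = (-1 : F) ^ m := by
    have e : J * Matrix.fromBlocks (0 : Matrix (Fin m) (Fin m) F) 1 1 0 = 1 := by
      simp [J, Matrix.fromBlocks_multiply]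
    have e2 : J = Matrix.fromBlocks 1 0 1 1 * Matrix.fromBlocks 1 (-1) 0 1 * Matrix.fromBlocks 1 0 1 1 *
        Matrix.fromBlocks (1 : Matrix (Fin m) (Fin m) F) 0 0 (-1) := by
      simp [J, Matrix.fromBlocks_multiply]
    rw [e2]
    simp [Matrix.det_neg]
  rw [h2, h3]

theorem disc_minus {q : ℕ} (hF : Fintype.card F = q) (hq : Odd q) {m : ℕ} (hm : 1 ≤ m) (a c : F)
    (hac : ∀ z₁ z₂ : F, z₁ ^ 2 + a * z₁ * z₂ + c * z₂ ^ 2 = 0 → z₁ = 0 ∧ z₂ = 0) {ι : Type*} [Fintype ι]
    [DecidableEq ι] (b : Module.Basis ι F ((Fin (m - 1) ⊕ Fin (m - 1)) ⊕ Fin 2 → F)) :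
    IsSquare (Matrix.of (fun i j : ι => QuadraticMap.polar (Cfsg.quadFormMinus (m - 1) F a c) (b i) (b j))).det ↔
      ¬ Even (m * (q - 1) / 2) := by
  classical
  have h2 : (2 : F) ≠ 0 := two_ne (hF ▸ hq)
  let J : Matrix ((Fin (m - 1) ⊕ Fin (m - 1)) ⊕ Fin 2) ((Fin (m - 1) ⊕ Fin (m - 1)) ⊕ Fin 2) F :=
    Matrix.fromBlocks (Matrix.fromBlocks 0 1 1 0) 0 0 !![2, a; a, 2 * c]
  have hpol : ∀ v w, Matrix.toLinearMap₂' F J v w =
      QuadraticMap.polar (Cfsg.quadFormMinus (m - 1) F a c) v w := fun v w => by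
    have h := polar_sum_split (fun i => v (.inl i)) (fun i => w (.inl i))
    simp only [QuadraticMap.polar, Cfsg.quadFormPlus, Pi.add_apply] at h
    rw [Matrix.toLinearMap₂'_apply']
    simp [J, QuadraticMap.polar, Cfsg.quadFormMinus, Matrix.fromBlocks_mulVec, dotProduct, Fintype.sum_sum_type,
      Fin.sum_univ_two, Matrix.mulVec, Finset.sum_add_distrib, Matrix.one_apply] at h ⊢
    have e1 : ∀ (f g : Fin (m - 1) → F), ∑ i, f i * g i = ∑ i, g i * f i := fun f g =>
      Finset.sum_congr rfl fun i _ => mul_comm _ _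
    linear_combination -h + e1 (fun i => v (.inl (.inr i))) (fun i => w (.inl (.inl i)))
  have h1 : Matrix.of (fun i j : ι => QuadraticMap.polar (Cfsg.quadFormMinus (m - 1) F a c) (b i) (b j)) =
      LinearMap.toMatrix₂ b b (Matrix.toLinearMap₂' F J) := by
    ext i j
    rw [LinearMap.toMatrix₂_apply, hpol]; rfl
  rw [h1, gram_square_iff _ b (Pi.basisFun F ((Fin (m - 1) ⊕ Fin (m - 1)) ⊕ Fin 2)), ← neg_one_pow_square hF hq m]
  have h2' : LinearMap.toMatrix₂ (Pi.basisFun F ((Fin (m - 1) ⊕ Fin (m - 1)) ⊕ Fin 2))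
      (Pi.basisFun F ((Fin (m - 1) ⊕ Fin (m - 1)) ⊕ Fin 2)) (Matrix.toLinearMap₂' F J) = J := by
    ext i j
    rw [LinearMap.toMatrix₂_apply, Pi.basisFun_apply, Pi.basisFun_apply, Matrix.toLinearMap₂'_apply']
    simp
  have e2 : (Matrix.fromBlocks 0 1 1 0 : Matrix (Fin (m - 1) ⊕ Fin (m - 1)) (Fin (m - 1) ⊕ Fin (m - 1)) F) =
      Matrix.fromBlocks 1 0 1 1 * Matrix.fromBlocks 1 (-1) 0 1 * Matrix.fromBlocks 1 0 1 1 *
        Matrix.fromBlocks 1 0 0 (-1) := by
    simp [Matrix.fromBlocks_multiply]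
  have h3 : J.det = (-1 : F) ^ m * (a ^ 2 - 4 * c) := by
    obtain ⟨k, rfl⟩ : ∃ k, m = k + 1 := ⟨m - 1, by omega⟩
    simp only [J, Matrix.det_fromBlocks_zero₂₁, e2, Matrix.det_mul, Matrix.det_fin_two_of]
    simp [Matrix.det_neg, pow_succ]
    ring
  have hns : ¬IsSquare (a ^ 2 - 4 * c) := by
    rintro ⟨r, hr⟩
    have h := (hac ((-a + r) / 2) 1 (by field_simp; linear_combination -hr)).2
    exact one_ne_zero h
  rw [h2', h3]
  have h0 : (-1 : F) ^ m ≠ 0 := pow_ne_zero _ (neg_ne_zero.2 one_ne_zero)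
  have h0' : a ^ 2 - 4 * c ≠ 0 := fun e => hns ⟨0, by rw [e, mul_zero]⟩
  rw [← quadraticChar_one_iff_isSquare (mul_ne_zero h0 h0'), ← quadraticChar_one_iff_isSquare h0, map_mul,
    quadraticChar_neg_one_iff_not_isSquare.2 hns]
  rcases quadraticChar_dichotomy h0 with e | e <;> simp [e]

theorem lift_prime_order {q n r : ℕ} (hF : Fintype.card F = q) (hr : r.Prime) (hdiv : ¬ r ∣ q - 1)
    (x : GL (Fin n) F ⧸ Subgroup.center (GL (Fin n) F)) (hx : orderOf x = r) :
    ∃! g : GL (Fin n) F, (QuotientGroup.mk g : GL (Fin n) F ⧸ Subgroup.center (GL (Fin n) F)) = x ∧ orderOf g = r := by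
  classical
  rcases Nat.eq_zero_or_pos n with rfl | hn
  · exfalso
    have : x = 1 := by
      induction x using QuotientGroup.induction_on with
      | H g => rw [Subsingleton.elim g 1]; rfl
    rw [this, orderOf_one] at hx
    exact hr.ne_one hx.symm
  haveI : Nonempty (Fin n) := ⟨⟨0, hn⟩⟩
  have hZ : Nat.card (Subgroup.center (GL (Fin n) F)) = q - 1 := by
    rw [CfsgLib.Lie.Orders.card_GL_center]
    simp [CfsgLib.Lie.Orders.card_units_eq, hF]
  have hcop : (Nat.card (Subgroup.center (GL (Fin n) F))).Coprime r := by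
    rw [hZ, Nat.coprime_comm]
    exact hr.coprime_iff_not_dvd.2 hdiv
  obtain ⟨g₀, hx0⟩ : ∃ g : GL (Fin n) F, (QuotientGroup.mk g : GL (Fin n) F ⧸ Subgroup.center (GL (Fin n) F)) = x :=
    QuotientGroup.mk_surjective x
  have hx' : orderOf (QuotientGroup.mk g₀ : GL (Fin n) F ⧸ Subgroup.center (GL (Fin n) F)) = r := by rw [hx0]; exact hx
  have hg₀ : g₀ ^ r ∈ (Subgroup.center (GL (Fin n) F)) := by
    rw [← QuotientGroup.eq_one_iff, QuotientGroup.mk_pow, ← hx', pow_orderOf_eq_one]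
  obtain ⟨d, hd⟩ := (powCoprime hcop).surjective ⟨g₀ ^ r, hg₀⟩
  have hd' : (d : GL (Fin n) F) ^ r = g₀ ^ r := congrArg Subtype.val hd
  have hcomm : ∀ (z : (Subgroup.center (GL (Fin n) F))) (g : GL (Fin n) F), Commute g (z : GL (Fin n) F) := fun z g => Subgroup.mem_center_iff.1 z.2 g
  have hord : ∀ g : GL (Fin n) F, (QuotientGroup.mk g : GL (Fin n) F ⧸ Subgroup.center (GL (Fin n) F)) = QuotientGroup.mk g₀ →
      (orderOf g = r ↔ g ^ r = 1) := fun g hg => by
    refine ⟨fun h => by rw [← h, pow_orderOf_eq_one], fun h => ?_⟩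
    haveI : Fact r.Prime := ⟨hr⟩
    refine orderOf_eq_prime h fun e => hr.ne_one ?_
    rw [e, QuotientGroup.mk_one] at hg
    rw [← hx', ← hg, orderOf_one]
  have hg : (QuotientGroup.mk (g₀ * (d : GL (Fin n) F)⁻¹) : GL (Fin n) F ⧸ Subgroup.center (GL (Fin n) F)) = QuotientGroup.mk g₀ := by
    rw [QuotientGroup.eq]
    simp
  refine ⟨g₀ * (d : GL (Fin n) F)⁻¹, ⟨hg.trans hx0, (hord _ hg).2 ?_⟩, ?_⟩
  · rw [(hcomm d g₀).inv_right.mul_pow, inv_pow, hd', mul_inv_cancel]
  · rintro g ⟨hge', hgo⟩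
    have hge := hge'.trans hx0.symm
    rw [hord g hge] at hgo
    obtain ⟨z, hz⟩ : ∃ z : (Subgroup.center (GL (Fin n) F)), g = g₀ * (d : GL (Fin n) F)⁻¹ * (z : GL (Fin n) F) := by
      have : (g₀ * (d : GL (Fin n) F)⁻¹)⁻¹ * g ∈ (Subgroup.center (GL (Fin n) F)) := QuotientGroup.eq.1 (hg.trans hge.symm)
      exact ⟨⟨_, this⟩, by simp [mul_assoc]⟩
    have e1 : (g₀ * (d : GL (Fin n) F)⁻¹) ^ r = 1 := by
      rw [(hcomm d g₀).inv_right.mul_pow, inv_pow, hd', mul_inv_cancel]
    have h1 : (z : GL (Fin n) F) ^ r = 1 := by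
      rw [hz, (hcomm z _).mul_pow, e1, one_mul] at hgo
      exact hgo
    have h2 : z = 1 := (powCoprime hcop).injective (Subtype.ext (by simpa using h1))
    rw [hz, h2]
    simp

theorem not_iso_pgl (hF : Fintype.card F = 9) :
    ¬ Nonempty (Equiv.Perm (Fin 6) ≃* Matrix.ProjGenLinGroup (Fin 2) F) := by
  classical
  rintro ⟨f⟩
  have h8 : ∀ x : Equiv.Perm (Fin 6), orderOf x ≠ 8 := by
    intro x hx
    have h60 : x.cycleType.lcm ∣ 60 := by
      refine Multiset.lcm_dvd.2 fun a ha => ?_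
      have h1 := Equiv.Perm.two_le_of_mem_cycleType ha
      have h2 : x.cycleType.sum ≤ 6 := by
        rw [Equiv.Perm.sum_cycleType]
        exact (Finset.card_le_univ _).trans_eq (Fintype.card_fin 6)
      have h3 := Multiset.le_sum_of_mem ha
      have h4 : a ≤ 6 := h3.trans h2
      interval_cases a <;> norm_num
    rw [Equiv.Perm.lcm_cycleType, hx] at h60
    norm_num at h60
  obtain ⟨z, hz⟩ := IsCyclic.exists_generator (α := Fˣ)
  have hzo : orderOf z = 8 := by
    rw [orderOf_eq_card_of_forall_mem_zpowers hz, Nat.card_units, Nat.card_eq_fintype_card, hF]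
  let D : GL (Fin 2) F := Matrix.GeneralLinearGroup.mkOfDetNeZero (Matrix.diagonal ![(z : F), 1]) (by simp)
  let x : GL (Fin 2) F ⧸ Subgroup.center (GL (Fin 2) F) := QuotientGroup.mk D
  refine h8 (f.symm x) ((MulEquiv.orderOf_eq f.symm x).trans ?_)
  show orderOf x = 8
  have hpow : ∀ k, ((D ^ k : GL (Fin 2) F) : Matrix (Fin 2) (Fin 2) F) = Matrix.diagonal ![((z ^ k : Fˣ) : F), 1] := fun k => by
    rw [Units.val_pow_eq_pow_val]
    show (Matrix.diagonal ![(z : F), 1]) ^ k = _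
    rw [Matrix.diagonal_pow]
    congr 1
    funext i
    fin_cases i <;> simp
  have h1 : x ^ 8 = 1 := by
    show (QuotientGroup.mk D : GL (Fin 2) F ⧸ Subgroup.center (GL (Fin 2) F)) ^ 8 = 1
    rw [← QuotientGroup.mk_pow]
    refine (QuotientGroup.eq_one_iff _).2 ?_
    have : D ^ 8 = 1 := Units.ext (by
      rw [hpow, show z ^ 8 = 1 from hzo ▸ pow_orderOf_eq_one z]
      simp [Matrix.one_fin_two]
      ext i j
      fin_cases i <;> fin_cases j <;> simp)
    rw [this]
    exact one_mem _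
  have h2 : x ^ 4 ≠ 1 := by
    show (QuotientGroup.mk D : GL (Fin 2) F ⧸ Subgroup.center (GL (Fin 2) F)) ^ 4 ≠ 1
    rw [← QuotientGroup.mk_pow]
    intro e
    have hc := Subgroup.mem_center_iff.1 ((QuotientGroup.eq_one_iff _).1 e)
      (Matrix.GeneralLinearGroup.mkOfDetNeZero !![(1 : F), 1; 0, 1] (by simp))
    have h01 : (!![(1 : F), 1; 0, 1] * Matrix.diagonal ![((z ^ 4 : Fˣ) : F), 1]) 0 1 =
        (Matrix.diagonal ![((z ^ 4 : Fˣ) : F), 1] * !![(1 : F), 1; 0, 1]) 0 1 := by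
      have := congrArg (fun g : GL (Fin 2) F => (g : Matrix (Fin 2) (Fin 2) F) 0 1) hc
      simp only [Units.val_mul, hpow] at this
      exact this
    simp [Matrix.mul_apply, Fin.sum_univ_two] at h01
    have : z ^ 4 = 1 := Units.ext (by simp only [Units.val_pow_eq_pow_val, Units.val_one]; exact h01.symm)
    have h5 := orderOf_dvd_of_pow_eq_one this
    rw [hzo] at h5
    norm_num at h5
  haveI : Fact (Nat.Prime 2) := ⟨Nat.prime_two⟩
  exact orderOf_eq_prime_pow (p := 2) (n := 2) h2 h1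

end Field

theorem exists_max_order {K : Type*} [Group K] [Finite K] (y : K) : ∃ z : K, orderOf y ∣ orderOf z ∧
    ∀ m ∈ Set.range (orderOf : K → ℕ), orderOf z ∣ m → m = orderOf z := by
  classical
  haveI := Fintype.ofFinite K
  obtain ⟨z, hz, hzmax⟩ := Finset.exists_max_image (Finset.univ.filter fun z : K => orderOf y ∣ orderOf z) orderOf
    ⟨y, by simp⟩
  rw [Finset.mem_filter] at hz
  refine ⟨z, hz.2, ?_⟩
  rintro _ ⟨w, rfl⟩ hw
  exact le_antisymm (hzmax w (Finset.mem_filter.2 ⟨Finset.mem_univ w, hz.2.trans hw⟩))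
    (Nat.le_of_dvd (orderOf_pos w) hw)

theorem exists_pow_order {K : Type*} [Group K] [Finite K] (z : K) (d : ℕ) (hd : d ∣ orderOf z) :
    ∃ w : K, ∀ n, w ^ n = 1 ↔ d ∣ n := by
  refine ⟨z ^ (orderOf z / d), fun n => ?_⟩
  have h0 : orderOf z / d ≠ 0 :=
    Nat.div_ne_zero_iff.2 ⟨fun e => (orderOf_pos z).ne' (Nat.eq_zero_of_zero_dvd (e ▸ hd)), Nat.le_of_dvd (orderOf_pos z) hd⟩
  rw [← orderOf_dvd_iff_pow_eq_one, orderOf_pow_of_dvd h0 (Nat.div_dvd_of_dvd hd), Nat.div_div_self hd (orderOf_pos z).ne']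

theorem orderOf_congr {A B : Type*} [Monoid A] [Monoid B] (u : A) (v : B) (h : ∀ n : ℕ, u ^ n = 1 ↔ v ^ n = 1) :
    orderOf u = orderOf v :=
  Nat.dvd_antisymm (orderOf_dvd_of_pow_eq_one ((h _).2 (pow_orderOf_eq_one v)))
    (orderOf_dvd_of_pow_eq_one ((h _).1 (pow_orderOf_eq_one u)))

theorem spectra {G H : Type*} [Group G] [Finite G] [Group H] [Finite H] (k : ℕ) (hk : 1 ≤ k)
    (hsub : {n : ℕ | n ∈ Set.range (orderOf : H → ℕ) ∧ ∀ m ∈ Set.range (orderOf : H → ℕ), n ∣ m → m = n} ⊆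
      {n : ℕ | n ∈ Set.range (orderOf : G → ℕ) ∧ ∀ m ∈ Set.range (orderOf : G → ℕ), n ∣ m → m = n})
    (hfew : ({n : ℕ | n ∈ Set.range (orderOf : G → ℕ) ∧ ∀ m ∈ Set.range (orderOf : G → ℕ), n ∣ m → m = n} \
      {n : ℕ | n ∈ Set.range (orderOf : H → ℕ) ∧ ∀ m ∈ Set.range (orderOf : H → ℕ), n ∣ m → m = n}).ncard < k) :
    Set.range (orderOf : (Fin k → G) → ℕ) = Set.range (orderOf : (Fin (k - 1) → G) × H → ℕ) := by
  classical
  obtain ⟨k, rfl⟩ : ∃ j, k = j + 1 := ⟨k - 1, by omega⟩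
  set MG := {n : ℕ | n ∈ Set.range (orderOf : G → ℕ) ∧ ∀ m ∈ Set.range (orderOf : G → ℕ), n ∣ m → m = n}
  set MH := {n : ℕ | n ∈ Set.range (orderOf : H → ℕ) ∧ ∀ m ∈ Set.range (orderOf : H → ℕ), n ∣ m → m = n}
  refine subset_antisymm ?_ ?_
  · rintro _ ⟨f, rfl⟩
    choose z hz hzmax using fun i => exists_max_order (f i)
    -- split off a coordinate into `H`
    suffices ∃ (f' : Fin (k + 1 - 1) → G) (h : H), ∀ n : ℕ, f ^ n = 1 ↔ ((∀ j, f' j ^ n = 1) ∧ h ^ n = 1) by
      obtain ⟨f', h, e⟩ := this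
      refine ⟨(f', h), (orderOf_congr f _ fun n => ?_).symm⟩
      rw [e, Prod.ext_iff]
      simp [funext_iff]
    have hp : ∀ (i : Fin (k + 1)) (n : ℕ), f ^ n = 1 ↔ f i ^ n = 1 ∧ ∀ j : Fin k, f (i.succAbove j) ^ n = 1 := fun i n => by
      rw [funext_iff, Fin.forall_iff_succAbove i]; rfl
    by_cases hH : ∃ i, orderOf (z i) ∈ MH
    · obtain ⟨i, hi⟩ := hH
      obtain ⟨hh, e1⟩ := hi.1
      obtain ⟨w, hw⟩ := exists_pow_order hh (orderOf (f i)) (e1 ▸ hz i)
      refine ⟨fun j => f (i.succAbove j), w, fun n => ?_⟩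
      rw [hp i n, hw, orderOf_dvd_iff_pow_eq_one, and_comm]
      rfl
    · push_neg at hH
      have hfew' : (MG \ MH).ncard < Fintype.card (Fin (k + 1)) := by rwa [Fintype.card_fin]
      have hfin : (MG \ MH).Finite := ((Set.finite_range (orderOf : G → ℕ)).subset fun n hn => hn.1).subset Set.sdiff_subset
      obtain ⟨i, -, j, -, hij, e⟩ := Finset.exists_ne_map_eq_of_card_lt_of_maps_to
        (s := (Finset.univ : Finset (Fin (k + 1)))) (t := hfin.toFinset) (f := fun i => orderOf (z i))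
        (by rwa [Finset.card_univ, ← Set.ncard_eq_toFinset_card _ hfin])
        (fun i _ => hfin.mem_toFinset.2 ⟨⟨⟨z i, rfl⟩, hzmax i⟩, hH i⟩)
      obtain ⟨j', hj'⟩ := Fin.exists_succAbove_eq hij.symm
      obtain ⟨w, hw⟩ := exists_pow_order (z i) (Nat.lcm (orderOf (f i)) (orderOf (f j)))
        (Nat.lcm_dvd (hz i) (by have := hz j; rw [← e] at this; exact this))
      refine ⟨fun l => if l = j' then w else f (i.succAbove l), 1, fun n => ?_⟩
      rw [hp i n, one_pow]
      simp only [and_true]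
      constructor
      · rintro ⟨h1, h2⟩ l
        by_cases hl : l = j'
        · rw [if_pos hl, hw, Nat.lcm_dvd_iff, orderOf_dvd_iff_pow_eq_one, orderOf_dvd_iff_pow_eq_one]
          exact ⟨h1, hj' ▸ h2 j'⟩
        · rw [if_neg hl]; exact h2 l
      · intro h
        have hw1 := h j'
        rw [if_pos rfl, hw, Nat.lcm_dvd_iff, orderOf_dvd_iff_pow_eq_one, orderOf_dvd_iff_pow_eq_one] at hw1
        refine ⟨hw1.1, fun l => ?_⟩
        have hl := h l
        by_cases hlj : l = j'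
        · rw [hlj, hj']; exact hw1.2
        · rwa [if_neg hlj] at hl
  · rintro _ ⟨⟨f, h⟩, rfl⟩
    obtain ⟨z, hz, hzmax⟩ := exists_max_order h
    obtain ⟨⟨g, hg⟩, -⟩ := hsub ⟨⟨z, rfl⟩, hzmax⟩
    obtain ⟨w, hw⟩ := exists_pow_order g (orderOf h) (hg ▸ hz)
    refine ⟨Fin.snoc (α := fun _ => G) f w, orderOf_congr _ _ fun n => ?_⟩
    rw [funext_iff, Fin.forall_fin_succ', Prod.ext_iff]
    simp [funext_iff, hw, orderOf_dvd_iff_pow_eq_one]

theorem frattini_abelian {G : Type*} [Group G] [Finite G] {p : ℕ} [Fact p.Prime] (P : Sylow p G)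
    (hP : IsMulCommutative (P : Subgroup G)) (Q : Subgroup G) (hQ : Q ≤ (P : Subgroup G)) :
    Subgroup.normalizer (Q : Set G) =
      (Subgroup.normalizer (Q : Set G) ⊓ Subgroup.normalizer ((P : Subgroup G) : Set G)) ⊔ Subgroup.centralizer (Q : Set G) ∧
    ((Subgroup.centralizer (Q : Set G)).subgroupOf (Subgroup.normalizer (Q : Set G))).index ∣
      ((Subgroup.centralizer ((P : Subgroup G) : Set G)).subgroupOf (Subgroup.normalizer ((P : Subgroup G) : Set G))).index := by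
  set NQ := Subgroup.normalizer (Q : Set G)
  set NP := Subgroup.normalizer ((P : Subgroup G) : Set G)
  set CQ := Subgroup.centralizer (Q : Set G)
  set CP := Subgroup.centralizer ((P : Subgroup G) : Set G)
  have hCQ : CQ ≤ NQ := Subgroup.centralizer_le_normalizer _
  have hPC : (P : Subgroup G) ≤ CQ := fun x hx => Subgroup.mem_centralizer_iff.2 fun y hy =>
    congrArg Subtype.val (isMulCommutative_iff.1 hP ⟨y, hQ hy⟩ ⟨x, hx⟩)
  have heq : NQ = (NQ ⊓ NP) ⊔ CQ := by
    refine le_antisymm (fun x hx => ?_) (sup_le inf_le_left hCQ)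
    have hPx : ((P : Subgroup G).map (MulAut.conj x).toMonoidHom) ≤ CQ := by
      rintro _ ⟨y, hy, rfl⟩
      refine Subgroup.mem_centralizer_iff.2 fun z hz => ?_
      have hz' := (Subgroup.mem_normalizer_iff''.1 hx z).1 hz
      have := Subgroup.mem_centralizer_iff.1 (hPC hy) _ hz'
      simp only [MulEquiv.coe_toMonoidHom, MulAut.conj_apply]
      calc z * (x * y * x⁻¹) = x * ((x⁻¹ * z * x) * y) * x⁻¹ := by group
        _ = x * (y * (x⁻¹ * z * x)) * x⁻¹ := by rw [this]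
        _ = x * y * x⁻¹ * z := by group
    have hPx' : ((x • P : Sylow p G) : Subgroup G) ≤ CQ := hPx
    obtain ⟨c, hc⟩ := MulAction.exists_smul_eq CQ ((x • P).subtype hPx') (P.subtype hPC)
    rw [Sylow.smul_subtype] at hc
    have hc' : (c : G) • (x • P) = P := Sylow.subtype_injective hc
    rw [← mul_smul, Sylow.smul_eq_iff_mem_normalizer] at hc'
    have e : x = (c : G)⁻¹ * ((c : G) * x) := by group
    rw [e]
    exact mul_mem (Subgroup.mem_sup_right (inv_mem c.2))
      (Subgroup.mem_sup_left ⟨mul_mem (hCQ c.2) hx, hc'⟩)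
  refine ⟨heq, ?_⟩
  set B := NQ ⊓ NP
  show CQ.relIndex NQ ∣ CP.relIndex NP
  have h1 : CQ.relIndex NQ = CQ.relIndex B := by
    haveI : (CQ.subgroupOf NQ).Normal := Subgroup.normal_subgroupOf_centralizer_normalizer _
    have e : B.subgroupOf NQ ⊔ CQ.subgroupOf NQ = ⊤ := by
      rw [← Subgroup.subgroupOf_sup inf_le_left hCQ, ← heq, Subgroup.subgroupOf_self]
    calc CQ.relIndex NQ = (CQ.subgroupOf NQ).relIndex ⊤ := by rw [Subgroup.relIndex_top_right]; rfl
      _ = (CQ.subgroupOf NQ).relIndex (B.subgroupOf NQ) := by rw [← e, Subgroup.relIndex_sup_right]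
      _ = CQ.relIndex B := Subgroup.relIndex_subgroupOf inf_le_left
  have hCP : CP ≤ B := fun x hx => ⟨hCQ (Subgroup.centralizer_le hQ hx), Subgroup.centralizer_le_normalizer _ hx⟩
  rw [h1]
  exact (Subgroup.relIndex_dvd_of_le_left B (Subgroup.centralizer_le hQ)).trans
    ⟨B.relIndex NP, (Subgroup.relIndex_mul_relIndex CP B NP hCP inf_le_right).symm⟩

theorem semidirect_order {F : Type*} [Field F] (p : ℕ) [Fact p.Prime] [CharP F p] {V : Type*} [AddCommGroup V]
    [Module F V] {G : Type*} [Group G] [Finite G] (ρ : Representation F G V)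
    (φ : G →* MulAut (Multiplicative V)) (hφ : ∀ g v, φ g v = Multiplicative.ofAdd (ρ g (Multiplicative.toAdd v))) (g : G) :
    (∃ x : Multiplicative V ⋊[φ] G, x.right = g ∧ orderOf x = p * orderOf g) ↔
      ¬ (minpoly F (ρ g) ∣ ∑ i ∈ Finset.range (orderOf g), (Polynomial.X : Polynomial F) ^ i) := by
  classical
  set o := orderOf g
  set S := ∑ i ∈ Finset.range o, (ρ g) ^ i
  have hev : Polynomial.aeval (ρ g) (∑ i ∈ Finset.range o, (Polynomial.X : Polynomial F) ^ i) = S := by simp [S]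
  have hpow : ∀ (x : Multiplicative V ⋊[φ] G), x.right = g → ∀ n : ℕ,
      (x ^ n).right = g ^ n ∧ Multiplicative.toAdd (x ^ n).left = (∑ i ∈ Finset.range n, (ρ g) ^ i) (Multiplicative.toAdd x.left) := by
    intro x hx n
    induction n with
    | zero => simp
    | succ n ih =>
      rw [pow_succ, SemidirectProduct.mul_right, SemidirectProduct.mul_left, ih.1, hx, hφ, toAdd_mul, toAdd_ofAdd, ih.2,
        Finset.sum_range_succ, LinearMap.add_apply, map_pow]
      exact ⟨(pow_succ g n).symm, rfl⟩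
  have hp := (Fact.out : p.Prime)
  have ho : 0 < o := orderOf_pos g
  have horder : ∀ x : Multiplicative V ⋊[φ] G, x.right = g →
      orderOf x = if S (Multiplicative.toAdd x.left) = 0 then o else p * o := by
    intro x hx
    have hdvd : ∀ n, x ^ n = 1 → o ∣ n := fun n h => by
      apply orderOf_dvd_of_pow_eq_one
      have := (hpow x hx n).1
      rw [h] at this
      exact this.symm
    have hxo : x ^ o = SemidirectProduct.inl (Multiplicative.ofAdd (S (Multiplicative.toAdd x.left))) := by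
      refine SemidirectProduct.ext ?_ ?_
      · rw [SemidirectProduct.left_inl]
        exact (hpow x hx o).2 ▸ (ofAdd_toAdd _).symm
      · rw [SemidirectProduct.right_inl, (hpow x hx o).1]
        exact pow_orderOf_eq_one g
    have hxpo : x ^ (o * p) = 1 := by
      rw [pow_mul, hxo, ← map_pow, ← ofAdd_nsmul, ← Nat.cast_smul_eq_nsmul F, CharP.cast_eq_zero, zero_smul,
        ofAdd_zero, map_one]
    split_ifs with h
    · refine Nat.dvd_antisymm (orderOf_dvd_of_pow_eq_one ?_) (hdvd _ (pow_orderOf_eq_one x))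
      rw [hxo, h, ofAdd_zero, map_one]
    · obtain ⟨k, hk⟩ := hdvd _ (pow_orderOf_eq_one x)
      have h1 : k ∣ p := by
        have := orderOf_dvd_of_pow_eq_one hxpo
        rw [hk] at this
        exact Nat.dvd_of_mul_dvd_mul_left ho this
      rcases (Nat.dvd_prime hp).1 h1 with rfl | rfl
      · exfalso
        apply h
        have e := pow_orderOf_eq_one x
        rw [hk, mul_one, hxo] at e
        simpa using congrArg (fun z => Multiplicative.toAdd z.left) e
      · rw [hk, mul_comm]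
  have hdvdiff : (minpoly F (ρ g) ∣ ∑ i ∈ Finset.range o, (Polynomial.X : Polynomial F) ^ i) ↔ ∀ v, S v = 0 := by
    rw [minpoly.dvd_iff, hev, LinearMap.ext_iff]
    simp
  rw [hdvdiff, not_forall]
  constructor
  · rintro ⟨x, hx, e⟩
    refine ⟨Multiplicative.toAdd x.left, fun h => ?_⟩
    rw [horder x hx, if_pos h] at e
    have := hp.two_le
    have : 2 * o ≤ p * o := Nat.mul_le_mul_right _ this
    omega
  · rintro ⟨v, hv⟩
    refine ⟨⟨Multiplicative.ofAdd v, g⟩, rfl, ?_⟩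
    rw [horder _ rfl, if_neg (by simpa using hv)]

theorem minus_ne_plus {F : Type*} [Field F] {m : ℕ} (hm : 1 ≤ m) (ζ : F) (hζ : ∀ t : F, t ^ 2 + t + ζ ≠ 0)
    (g : (Fin m ⊕ Fin m → F) ≃ₗ[F] ((Fin (m - 1) ⊕ Fin (m - 1)) ⊕ Fin 2 → F)) :
    ¬ (∀ v : Fin m ⊕ Fin m → F, Cfsg.quadFormMinus (m - 1) F 1 ζ (g v) = Cfsg.quadFormPlus m F v) := by
  classical
  intro h
  -- a totally singular subspace of dimension m
  let X : (Fin m → F) →ₗ[F] ((Fin (m - 1) ⊕ Fin (m - 1)) ⊕ Fin 2 → F) :=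
    { toFun := fun x => g (Sum.elim x 0)
      map_add' := fun x y => by rw [← map_add]; congr 1; funext i; cases i <;> simp
      map_smul' := fun c x => by rw [RingHom.id_apply, ← map_smul]; congr 1; funext i; cases i <;> simp }
  have hXi : Function.Injective X := fun x y e => by
    funext i
    simpa using congrFun (g.injective e) (Sum.inl i)
  let W := LinearMap.range X
  have hW : ∀ w ∈ W, Cfsg.quadFormMinus (m - 1) F 1 ζ w = 0 := by
    rintro _ ⟨x, rfl⟩
    show Cfsg.quadFormMinus (m - 1) F 1 ζ (g (Sum.elim x 0)) = 0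
    rw [h]
    simp [Cfsg.quadFormPlus]
  have hdimW : Module.finrank F W = m := by
    rw [LinearMap.finrank_range_of_inj hXi, Module.finrank_fin_fun]
  let πy : W →ₗ[F] (Fin (m - 1) → F) :=
    (LinearMap.funLeft F F (fun i : Fin (m - 1) => (Sum.inl (Sum.inr i) : (Fin (m - 1) ⊕ Fin (m - 1)) ⊕ Fin 2))).comp W.subtype
  let πx : W →ₗ[F] (Fin (m - 1) → F) :=
    (LinearMap.funLeft F F (fun i : Fin (m - 1) => (Sum.inl (Sum.inl i) : (Fin (m - 1) ⊕ Fin (m - 1)) ⊕ Fin 2))).comp W.subtype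
  have hker : ∀ w : W, w ∈ LinearMap.ker πy → (w : (Fin (m - 1) ⊕ Fin (m - 1)) ⊕ Fin 2 → F) (.inr 0) = 0 ∧ (w : (Fin (m - 1) ⊕ Fin (m - 1)) ⊕ Fin 2 → F) (.inr 1) = 0 := by
    intro w hw
    have h0 : ∀ i, (w : (Fin (m - 1) ⊕ Fin (m - 1)) ⊕ Fin 2 → F) (.inl (.inr i)) = 0 := fun i => congrFun (LinearMap.mem_ker.1 hw) i
    have := hW _ w.2
    simp only [Cfsg.quadFormMinus, h0, mul_zero, Finset.sum_const_zero, zero_add, one_mul] at this
    by_cases h1 : (w : (Fin (m - 1) ⊕ Fin (m - 1)) ⊕ Fin 2 → F) (.inr 1) = 0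
    · rw [h1] at this
      simp at this
      exact ⟨this, h1⟩
    · exfalso
      refine hζ ((w : (Fin (m - 1) ⊕ Fin (m - 1)) ⊕ Fin 2 → F) (.inr 0) / (w : (Fin (m - 1) ⊕ Fin (m - 1)) ⊕ Fin 2 → F) (.inr 1)) ?_
      field_simp
      linear_combination this
  let A := (LinearMap.ker πy).map πx
  have hA : Module.finrank F A = Module.finrank F (LinearMap.ker πy) := by
    refine LinearMap.finrank_range_of_inj (f := πx.comp (LinearMap.ker πy).subtype) ?_ ▸ ?_
    · rintro ⟨w, hw⟩ ⟨w', hw'⟩ e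
      refine Subtype.ext (Subtype.ext (funext fun i => ?_))
      rcases i with (i | i) | i
      · exact congrFun e i
      · exact (congrFun (LinearMap.mem_ker.1 hw) i).trans (congrFun (LinearMap.mem_ker.1 hw') i).symm
      · fin_cases i
        · exact (hker w hw).1.trans (hker w' hw').1.symm
        · exact (hker w hw).2.trans (hker w' hw').2.symm
    · rw [LinearMap.range_comp, Submodule.range_subtype]
  have hperp : (LinearMap.range πy).map (dotProductEquiv F (Fin (m - 1))).toLinearMap ≤ A.dualAnnihilator := by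
    rintro _ ⟨_, ⟨w, rfl⟩, rfl⟩
    rw [Submodule.mem_dualAnnihilator]
    rintro _ ⟨u, hu, rfl⟩
    have hu0 : ∀ i, (u : (Fin (m - 1) ⊕ Fin (m - 1)) ⊕ Fin 2 → F) (.inl (.inr i)) = 0 := fun i => congrFun (LinearMap.mem_ker.1 hu) i
    obtain ⟨hz0, hz1⟩ := hker u hu
    have e1 := hW _ (W.add_mem w.2 u.2)
    have e2 := hW _ w.2
    have e3 := hW _ u.2
    simp [Cfsg.quadFormMinus, hu0, hz0, hz1, Pi.add_apply, add_mul, Finset.sum_add_distrib] at e1 e2
    show ∑ i, (w : (Fin (m - 1) ⊕ Fin (m - 1)) ⊕ Fin 2 → F) (.inl (.inr i)) * (u : (Fin (m - 1) ⊕ Fin (m - 1)) ⊕ Fin 2 → F) (.inl (.inl i)) = 0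
    rw [Finset.sum_congr rfl fun i _ => mul_comm _ _]
    linear_combination e1 - e2
  have h1 := Submodule.finrank_mono hperp
  rw [LinearEquiv.finrank_map_eq] at h1
  have h2 := Subspace.finrank_add_finrank_dualAnnihilator_eq A
  have h3 := LinearMap.finrank_range_add_finrank_ker πy
  rw [hdimW] at h3
  rw [Module.finrank_fin_fun, hA] at h2
  omega

end CfsgLib.MiscLin2
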