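import Mathlib

/-!
Normal forms of nondegenerate quadratic forms over finite fields: hyperbolic families.
-/

set_option autoImplicit false
set_option linter.unusedSectionVars false

namespace CfsgLib.MiscWittNormal

open Module QuadraticMap

variable {F V : Type*} [Field F] [Finite F] [AddCommGroup V] [Module F V] [FiniteDimensional F V]
  (Q : QuadraticForm F V)

/-- The polar form is nondegenerate on `U`. -/
def NondegOn (U : Submodule F V) : Prop := ∀ a ∈ U, (∀ b ∈ U, polar ⇑Q a b = 0) → a = 0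

theorem padd_right (a b c : V) : polar ⇑Q a (b + c) = polar ⇑Q a b + polar ⇑Q a c := by
  simp [QuadraticMap.polar_add_right]

theorem psmul_right (a b : V) (t : F) : polar ⇑Q a (t • b) = t * polar ⇑Q a b := by
  simp [QuadraticMap.polar_smul_right]

theorem qsmul (a : V) (t : F) : Q (t • a) = t * t * Q a := by simp [QuadraticMap.map_smul]

theorem qadd (a b : V) : Q (a + b) = Q a + Q b + polar ⇑Q a b := QuadraticMap.map_add ⇑Q a b

theorem exists_sqrt [CharP F 2] (a : F) : ∃ s : F, s * s = a := by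
  haveI : Fact (Nat.Prime 2) := ⟨Nat.prime_two⟩
  obtain ⟨s, hs⟩ := (frobeniusEquiv F 2).surjective a
  exact ⟨s, by rw [← hs, frobeniusEquiv_apply, frobenius_def, _root_.sq]⟩

theorem charTwo (h : (2 : F) = 0) : CharP F 2 := by
  have h1 : ((2 : ℕ) : F) = 0 := by exact_mod_cast h
  haveI := CharP.ringChar_of_prime_eq_zero Nat.prime_two h1 ▸ ringChar.charP F
  assumption

theorem finrank_inf_ker (U : Submodule F V) (v : V) :
    finrank F U ≤ finrank F ↥(U ⊓ LinearMap.ker (polarBilin Q v)) + 1 := by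
  let φ := (polarBilin Q v).domRestrict U
  have h := LinearMap.finrank_range_add_finrank_ker φ
  have h1 := Submodule.finrank_le (LinearMap.range φ)
  rw [finrank_self] at h1
  have h2 : finrank F (LinearMap.ker φ) = finrank F ↥(U ⊓ LinearMap.ker (polarBilin Q v)) := by
    rw [← Submodule.finrank_map_subtype_eq, LinearMap.ker_domRestrict, Submodule.map_comap_subtype]
  omega

/-- a three-dimensional space has a singular vector -/
theorem exists_singular {U : Submodule F V} (hd : 3 ≤ finrank F U) : ∃ x ∈ U, x ≠ 0 ∧ Q x = 0 := by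
  by_contra hno
  push Not at hno
  obtain ⟨v, hvU, hv0⟩ : ∃ v ∈ U, v ≠ 0 := Submodule.exists_mem_ne_zero_of_ne_bot (fun h => by
    rw [h, finrank_bot] at hd; omega)
  have hv := hno v hvU hv0
  have hU1 := finrank_inf_ker Q U v
  by_cases h2 : (2 : F) = 0
  · haveI := charTwo h2
    obtain ⟨w, hw, hwv⟩ : ∃ w ∈ U ⊓ LinearMap.ker (polarBilin Q v), w ∉ (F ∙ v) := by
      by_contra h
      push Not at h
      have := Submodule.finrank_mono (show U ⊓ LinearMap.ker (polarBilin Q v) ≤ F ∙ v from h)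
      rw [finrank_span_singleton hv0] at this
      omega
    obtain ⟨hwU, hwP⟩ := hw
    have hwP' : polar ⇑Q v w = 0 := hwP
    obtain ⟨s, hs⟩ := exists_sqrt (Q w / Q v)
    have hne : s • v + w ≠ 0 := fun h => hwv (Submodule.mem_span_singleton.2 ⟨-s, by
      rw [neg_smul, ← eq_neg_of_add_eq_zero_right h]⟩)
    refine hno _ (U.add_mem (U.smul_mem s hvU) hwU) hne ?_
    rw [qadd, qsmul, hs, QuadraticMap.polar_smul_left, hwP', smul_zero, add_zero, div_mul_cancel₀ _ hv,
      ← two_mul, h2, zero_mul]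
  · haveI := Fintype.ofFinite F
    obtain ⟨u, ⟨huU, huP⟩, hu0⟩ := Submodule.exists_mem_ne_zero_of_ne_bot
      (p := U ⊓ LinearMap.ker (polarBilin Q v)) (fun h => by rw [h, finrank_bot] at hU1; omega)
    have huP' : polar ⇑Q v u = 0 := huP
    have hU2 := finrank_inf_ker Q (U ⊓ LinearMap.ker (polarBilin Q v)) u
    obtain ⟨w, ⟨⟨hwU, hwv⟩, hwu⟩, hw0⟩ := Submodule.exists_mem_ne_zero_of_ne_bot
      (p := U ⊓ LinearMap.ker (polarBilin Q v) ⊓ LinearMap.ker (polarBilin Q u)) (fun h => by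
        rw [h, finrank_bot] at hU2; omega)
    have hwv' : polar ⇑Q v w = 0 := hwv
    have hwu' : polar ⇑Q u w = 0 := hwu
    have hu := hno u huU hu0
    have hw := hno w hwU hw0
    have hodd : Fintype.card F % 2 = 1 := by
      refine FiniteField.odd_card_of_char_ne_two fun h => h2 ?_
      have := ringChar.spec F 2
      rw [h] at this
      exact_mod_cast this.2 dvd_rfl
    obtain ⟨s, t, hst⟩ := FiniteField.exists_root_sum_quadratic
      (f := Polynomial.C (Q v) * Polynomial.X ^ 2)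
      (g := Polynomial.C (Q u) * Polynomial.X ^ 2 + Polynomial.C (Q w))
      (by rw [Polynomial.degree_C_mul_X_pow 2 hv]; rfl)
      (by rw [Polynomial.degree_add_C, Polynomial.degree_C_mul_X_pow 2 hu]
          · rfl
          · rw [Polynomial.degree_C_mul_X_pow 2 hu]; exact WithBot.coe_lt_coe.2 two_pos) hodd
    simp at hst
    have hP : polar ⇑Q w (s • v + t • u + w) = 2 * Q w := by
      rw [padd_right, padd_right, psmul_right, psmul_right, polar_comm (⇑Q) w v, polar_comm (⇑Q) w u, hwv', hwu',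
        QuadraticMap.polar_self, mul_zero, mul_zero, zero_add, zero_add, nsmul_eq_mul, Nat.cast_ofNat]
    refine hno _ (U.add_mem (U.add_mem (U.smul_mem s hvU) (U.smul_mem t huU)) hwU) (fun h => ?_) ?_
    · rw [h, QuadraticMap.polar_zero_right] at hP
      exact mul_ne_zero h2 hw hP.symm
    · rw [qadd, qadd, qsmul, qsmul]
      simp only [QuadraticMap.polar_add_left, QuadraticMap.polar_smul_left, QuadraticMap.polar_smul_right, smul_eq_mul,
        huP', hwv', hwu', mul_zero, add_zero]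
      linear_combination hst

/-- a hyperbolic pair in `U` and its complement -/
theorem pair {U : Submodule F V} (hU : NondegOn Q U) {u : V} (hu : u ∈ U) (hu0 : u ≠ 0) (hQu : Q u = 0) :
    ∃ (f : V) (W : Submodule F V), f ∈ U ∧ Q f = 0 ∧ polar ⇑Q u f = 1 ∧ W ≤ U ∧ NondegOn Q W ∧
      finrank F W + 2 = finrank F U ∧ (∀ w ∈ W, polar ⇑Q u w = 0 ∧ polar ⇑Q f w = 0) := by
  obtain ⟨y, hy, hy0⟩ : ∃ y ∈ U, polar ⇑Q u y ≠ 0 := by
    by_contra h
    push Not at h
    exact hu0 (hU u hu h)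
  set f := (polar ⇑Q u y)⁻¹ • y + (-(Q ((polar ⇑Q u y)⁻¹ • y))) • u with hfdef
  have huu : polar ⇑Q u u = 0 := by rw [QuadraticMap.polar_self, hQu, smul_zero]
  have h1 : polar ⇑Q u f = 1 := by
    rw [hfdef, padd_right, psmul_right, psmul_right, huu, mul_zero, add_zero, inv_mul_cancel₀ hy0]
  have hfQ : Q f = 0 := by
    rw [hfdef, qadd, qsmul Q u, hQu, mul_zero, add_zero, psmul_right, QuadraticMap.polar_smul_left, smul_eq_mul,
      polar_comm (⇑Q) y u, inv_mul_cancel₀ hy0, mul_one, add_neg_cancel]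
  have hfU : f ∈ U := U.add_mem (U.smul_mem _ hy) (U.smul_mem _ hu)
  have hff : polar ⇑Q f f = 0 := by rw [QuadraticMap.polar_self, hfQ, smul_zero]
  have hfu : polar ⇑Q f u = 1 := by rw [polar_comm, h1]
  let φ : U →ₗ[F] F × F := ((polarBilin Q u).prod (polarBilin Q f)).domRestrict U
  have hφ : ∀ x : U, φ x = (polar ⇑Q u x.1, polar ⇑Q f x.1) := fun _ => rfl
  have hsur : Function.Surjective φ := fun c => ⟨⟨c.1 • f + c.2 • u, U.add_mem (U.smul_mem _ hfU) (U.smul_mem _ hu)⟩, by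
    rw [hφ]
    refine Prod.ext ?_ ?_ <;> simp only [padd_right, psmul_right, h1, huu, hff, hfu] <;> ring⟩
  let W : Submodule F V := (LinearMap.ker φ).map U.subtype
  have hW : ∀ w, w ∈ W ↔ w ∈ U ∧ polar ⇑Q u w = 0 ∧ polar ⇑Q f w = 0 := fun w => by
    constructor
    · rintro ⟨x, hx, rfl⟩
      exact ⟨x.2, congrArg Prod.fst (LinearMap.mem_ker.1 hx), congrArg Prod.snd (LinearMap.mem_ker.1 hx)⟩
    · rintro ⟨hw, hw1, hw2⟩
      exact ⟨⟨w, hw⟩, LinearMap.mem_ker.2 (Prod.ext hw1 hw2), rfl⟩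
  refine ⟨f, W, hfU, hfQ, h1, fun w hw => ((hW w).1 hw).1, ?_, ?_, fun w hw => ((hW w).1 hw).2⟩
  · intro a ha hab
    obtain ⟨haU, hau, haf⟩ := (hW a).1 ha
    refine hU a haU fun b hb => ?_
    have hmem : b + (-(polar ⇑Q u b)) • f + (-(polar ⇑Q f b)) • u ∈ W := (hW _).2
      ⟨U.add_mem (U.add_mem hb (U.smul_mem _ hfU)) (U.smul_mem _ hu),
        by simp only [padd_right, psmul_right, h1, huu]; ring, by simp only [padd_right, psmul_right, hff, hfu]; ring⟩
    have := hab _ hmem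
    rwa [padd_right, padd_right, psmul_right, psmul_right, polar_comm (⇑Q) a f, polar_comm (⇑Q) a u, hau, haf,
      mul_zero, mul_zero, add_zero, add_zero] at this
  · have := LinearMap.finrank_range_add_finrank_ker φ
    rw [LinearMap.range_eq_top.2 hsur, finrank_top, Module.finrank_prod, finrank_self] at this
    rw [Submodule.finrank_map_subtype_eq]
    omega

/-- hyperbolic family, orthogonal to `W` -/
def Hyp {m : ℕ} (e f : Fin m → V) (W : Submodule F V) : Prop :=
  (∀ i, Q (e i) = 0 ∧ Q (f i) = 0) ∧ (∀ i j, polar ⇑Q (e i) (f j) = if i = j then 1 else 0) ∧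
    (∀ i j, polar ⇑Q (e i) (e j) = 0 ∧ polar ⇑Q (f i) (f j) = 0) ∧
    (∀ i, ∀ w ∈ W, polar ⇑Q (e i) w = 0 ∧ polar ⇑Q (f i) w = 0)

theorem hyp_cons {m : ℕ} {e f : Fin m → V} {W U : Submodule F V} (h : Hyp Q e f W) (heU : ∀ i, e i ∈ U ∧ f i ∈ U)
    (hWU : W ≤ U) {a b : V} (ha : Q a = 0) (hb : Q b = 0) (hab : polar ⇑Q a b = 1)
    (ho : ∀ w ∈ U, polar ⇑Q a w = 0 ∧ polar ⇑Q b w = 0) :
    Hyp Q (Fin.cons a e : Fin (m + 1) → V) (Fin.cons b f) W := by
  obtain ⟨h1, h2, h3, h4⟩ := h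
  have haa : polar ⇑Q a a = 0 := by rw [QuadraticMap.polar_self, ha, smul_zero]
  have hbb : polar ⇑Q b b = 0 := by rw [QuadraticMap.polar_self, hb, smul_zero]
  refine ⟨fun i => ?_, fun i j => ?_, fun i j => ?_, fun i w hw => ?_⟩
  · induction i using Fin.cases with
    | zero => simpa using ⟨ha, hb⟩
    | succ i => simpa using h1 i
  · induction i using Fin.cases with
    | zero =>
      induction j using Fin.cases with
      | zero => simpa using hab
      | succ j => simpa [(Fin.succ_ne_zero j).symm] using (ho _ (heU j).2).1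
    | succ i =>
      induction j using Fin.cases with
      | zero => simpa [Fin.succ_ne_zero i, polar_comm (⇑Q) (e i) b] using (ho _ (heU i).1).2
      | succ j => simpa using h2 i j
  · induction i using Fin.cases with
    | zero =>
      induction j using Fin.cases with
      | zero => simp only [Fin.cons_zero]; exact ⟨haa, hbb⟩
      | succ j => simpa using ⟨(ho _ (heU j).1).1, (ho _ (heU j).2).2⟩
    | succ i =>
      induction j using Fin.cases with
      | zero => simpa [polar_comm (⇑Q) (e i) a, polar_comm (⇑Q) (f i) b] using ⟨(ho _ (heU i).1).1, (ho _ (heU i).2).2⟩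
      | succ j => simpa using h3 i j
  · induction i using Fin.cases with
    | zero => simpa using ho w (hWU hw)
    | succ i => simpa using h4 i w hw

theorem decomp (r : ℕ) (hr : 1 ≤ r) : ∀ (m : ℕ) (U : Submodule F V), NondegOn Q U → finrank F U = 2 * m + r →
    ∃ (e f : Fin m → V) (W : Submodule F V), (∀ i, e i ∈ U ∧ f i ∈ U) ∧ W ≤ U ∧ NondegOn Q W ∧ finrank F W = r ∧
      Hyp Q e f W
  | 0, U, hU, hd => ⟨Fin.elim0, Fin.elim0, U, fun i => i.elim0, le_rfl, hU, by omega,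
      fun i => i.elim0, fun i => i.elim0, fun i => i.elim0, fun i => i.elim0⟩
  | m + 1, U, hU, hd => by
    obtain ⟨u, hu, hu0, hQu⟩ := exists_singular Q (U := U) (by omega)
    obtain ⟨v, W₀, hv, hQv, huv, hW0U, hW0, hd0, ho⟩ := pair Q hU hu hu0 hQu
    obtain ⟨e, f, W, hef, hWW, hW, hdW, hyp⟩ := decomp r hr m W₀ hW0 (by omega)
    refine ⟨Fin.cons u e, Fin.cons v f, W, fun i => ?_, hWW.trans hW0U, hW, hdW,
      hyp_cons Q hyp hef hWW hQu hQv huv ho⟩
    induction i using Fin.cases with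
    | zero => simpa using ⟨hu, hv⟩
    | succ i => simpa using ⟨hW0U (hef i).1, hW0U (hef i).2⟩

theorem indep {m : ℕ} {ι : Type*} [Fintype ι] {e f : Fin m → V} {g : ι → V} {W : Submodule F V} (h : Hyp Q e f W)
    (hg : ∀ k, g k ∈ W) (hgi : LinearIndependent F g) :
    LinearIndependent F (Sum.elim (Sum.elim e f) g) := by
  classical
  obtain ⟨h1, h2, h3, h4⟩ := h
  rw [Fintype.linearIndependent_iff]
  intro c hc
  simp only [Fintype.sum_sum_type, Sum.elim_inl, Sum.elim_inr] at hc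
  have hci : ∀ i, c (Sum.inl (Sum.inl i)) = 0 ∧ c (Sum.inl (Sum.inr i)) = 0 := by
    intro i
    constructor
    · have := congrArg (polarBilin Q (f i)) hc
      rw [map_add, map_add, map_sum, map_sum, map_sum, map_zero] at this
      simpa [polar_comm (⇑Q) (f i) (e _), h2, (h3 i _).2, (h4 i _ (hg _)).2] using this
    · have := congrArg (polarBilin Q (e i)) hc
      rw [map_add, map_add, map_sum, map_sum, map_sum, map_zero] at this
      simpa [ h2, (h3 i _).1, (h4 i _ (hg _)).1] using this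
  simp only [(hci _).1, (hci _).2, zero_smul, Finset.sum_const_zero, zero_add] at hc
  intro x
  rcases x with (i | i) | k
  · exact (hci i).1
  · exact (hci i).2
  · exact Fintype.linearIndependent_iff.1 hgi _ hc k

theorem top_nondeg (hQ : (polarBilin Q).Nondegenerate) : NondegOn Q (⊤ : Submodule F V) :=
  fun a _ h => hQ.1 a fun b => h b trivial

theorem odd_basis {m : ℕ} (hV : finrank F V = 2 * m + 1) (hQ : (polarBilin Q).Nondegenerate) :
    ∃ b : Basis (Unit ⊕ (Fin m ⊕ Fin m)) F V, Q (b (Sum.inl ())) ≠ 0 ∧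
      (∀ i, polar ⇑Q (b (Sum.inl ())) (b (Sum.inr (Sum.inl i))) = 0 ∧ polar ⇑Q (b (Sum.inl ())) (b (Sum.inr (Sum.inr i))) = 0) ∧
      (∀ i, Q (b (Sum.inr (Sum.inl i))) = 0 ∧ Q (b (Sum.inr (Sum.inr i))) = 0) ∧
      (∀ i j, polar ⇑Q (b (Sum.inr (Sum.inl i))) (b (Sum.inr (Sum.inr j))) = if i = j then 1 else 0) ∧
      (∀ i j, polar ⇑Q (b (Sum.inr (Sum.inl i))) (b (Sum.inr (Sum.inl j))) = 0 ∧
        polar ⇑Q (b (Sum.inr (Sum.inr i))) (b (Sum.inr (Sum.inr j))) = 0) := by
  obtain ⟨e, f, W, -, -, hW, hdW, hh⟩ := decomp Q 1 le_rfl m ⊤ (top_nondeg Q hQ) (by rw [finrank_top, hV])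
  obtain ⟨g, hgW, hg0⟩ := Submodule.exists_mem_ne_zero_of_ne_bot (p := W) (fun h => by rw [h, finrank_bot] at hdW; omega)
  have hgQ : Q g ≠ 0 := fun h => by
    refine hg0 (hW g hgW fun b hb => ?_)
    obtain ⟨c, hc⟩ := exists_smul_eq_of_finrank_eq_one hdW (show (⟨g, hgW⟩ : W) ≠ 0 from fun e => hg0 (congrArg Subtype.val e)) ⟨b, hb⟩
    have hb' : c • g = b := congrArg Subtype.val hc
    rw [← hb', psmul_right, QuadraticMap.polar_self, h, smul_zero, mul_zero]
  have hi := indep Q (ι := Unit) (g := fun _ => g) hh (fun _ => hgW) (linearIndependent_unique_iff.2 hg0)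
  let b := (basisOfLinearIndependentOfCardEqFinrank hi (by simp [hV]; omega)).reindex (Equiv.sumComm _ _)
  have b1 : b (Sum.inl ()) = g := by simp [b]
  have b2 : ∀ i, b (Sum.inr (Sum.inl i)) = e i := fun i => by simp [b]
  have b3 : ∀ i, b (Sum.inr (Sum.inr i)) = f i := fun i => by simp [b]
  obtain ⟨h1, h2, h3, h4⟩ := hh
  refine ⟨b, by rw [b1]; exact hgQ, fun i => ?_, fun i => ?_, fun i j => ?_, fun i j => ?_⟩
  · rw [b1, b2, b3, polar_comm (⇑Q) g, polar_comm (⇑Q) g]; exact h4 i g hgW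
  · rw [b2, b3]; exact h1 i
  · rw [b2, b3]; exact h2 i j
  · rw [b2, b2, b3, b3]; exact h3 i j

theorem plane_one {W : Submodule F V} (hW : NondegOn Q W) (hd : finrank F W = 2)
    (han : ∀ x ∈ W, Q x = 0 → x = 0) : ∃ x ∈ W, Q x = 1 := by
  obtain ⟨v, hv, hv0⟩ := Submodule.exists_mem_ne_zero_of_ne_bot (p := W) (fun h => by rw [h, finrank_bot] at hd; omega)
  have hQv : Q v ≠ 0 := fun h => hv0 (han v hv h)
  by_cases h2 : (2 : F) = 0
  · haveI := charTwo h2
    obtain ⟨s, hs⟩ := exists_sqrt (Q v)⁻¹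
    exact ⟨s • v, W.smul_mem s hv, by rw [qsmul, hs, inv_mul_cancel₀ hQv]⟩
  · haveI := Fintype.ofFinite F
    have h1 := finrank_inf_ker Q W v
    obtain ⟨u, ⟨huW, huP⟩, hu0⟩ := Submodule.exists_mem_ne_zero_of_ne_bot
      (p := W ⊓ LinearMap.ker (polarBilin Q v)) (fun h => by rw [h, finrank_bot] at h1; omega)
    have huP' : polar ⇑Q v u = 0 := huP
    have hQu : Q u ≠ 0 := fun h => hu0 (han u huW h)
    have hodd : Fintype.card F % 2 = 1 := by
      refine FiniteField.odd_card_of_char_ne_two fun h => h2 ?_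
      have := ringChar.spec F 2
      rw [h] at this
      exact_mod_cast this.2 dvd_rfl
    obtain ⟨s, t, hst⟩ := FiniteField.exists_root_sum_quadratic
      (f := Polynomial.C (Q v) * Polynomial.X ^ 2)
      (g := Polynomial.C (Q u) * Polynomial.X ^ 2 + Polynomial.C (-1))
      (by rw [Polynomial.degree_C_mul_X_pow 2 hQv]; rfl)
      (by rw [Polynomial.degree_add_C, Polynomial.degree_C_mul_X_pow 2 hQu]
          · rfl
          · rw [Polynomial.degree_C_mul_X_pow 2 hQu]; exact WithBot.coe_lt_coe.2 two_pos) hodd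
    simp at hst
    refine ⟨s • v + t • u, W.add_mem (W.smul_mem s hv) (W.smul_mem t huW), ?_⟩
    rw [qadd, qsmul, qsmul, QuadraticMap.polar_smul_left, psmul_right, huP', mul_zero, smul_zero, add_zero]
    linear_combination hst

theorem even_basis {m : ℕ} (hm : 1 ≤ m) (hV : finrank F V = 2 * m) (hQ : (polarBilin Q).Nondegenerate) :
    (∃ b : Basis (Fin m ⊕ Fin m) F V, (∀ i, Q (b (Sum.inl i)) = 0 ∧ Q (b (Sum.inr i)) = 0) ∧
      (∀ i j, polar ⇑Q (b (Sum.inl i)) (b (Sum.inr j)) = if i = j then 1 else 0) ∧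
      (∀ i j, polar ⇑Q (b (Sum.inl i)) (b (Sum.inl j)) = 0 ∧ polar ⇑Q (b (Sum.inr i)) (b (Sum.inr j)) = 0)) ∨
    (∃ (b : Basis ((Fin (m - 1) ⊕ Fin (m - 1)) ⊕ Fin 2) F V) (ζ : F), (∀ t : F, t ^ 2 + t + ζ ≠ 0) ∧
      (∀ i, Q (b (Sum.inl (Sum.inl i))) = 0 ∧ Q (b (Sum.inl (Sum.inr i))) = 0) ∧
      (∀ i j, polar ⇑Q (b (Sum.inl (Sum.inl i))) (b (Sum.inl (Sum.inr j))) = if i = j then 1 else 0) ∧
      (∀ i j, polar ⇑Q (b (Sum.inl (Sum.inl i))) (b (Sum.inl (Sum.inl j))) = 0 ∧
        polar ⇑Q (b (Sum.inl (Sum.inr i))) (b (Sum.inl (Sum.inr j))) = 0) ∧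
      (∀ i (k : Fin 2), polar ⇑Q (b (Sum.inl (Sum.inl i))) (b (Sum.inr k)) = 0 ∧
        polar ⇑Q (b (Sum.inl (Sum.inr i))) (b (Sum.inr k)) = 0) ∧
      Q (b (Sum.inr 0)) = 1 ∧ polar ⇑Q (b (Sum.inr 0)) (b (Sum.inr 1)) = 1 ∧ Q (b (Sum.inr 1)) = ζ) := by
  obtain ⟨k, rfl⟩ : ∃ k, m = k + 1 := ⟨m - 1, by omega⟩
  obtain ⟨e, f, W, -, -, hW, hdW, hh⟩ := decomp Q 2 (by norm_num) k ⊤ (top_nondeg Q hQ) (by rw [finrank_top, hV]; ring)
  by_cases han : ∀ x ∈ W, Q x = 0 → x = 0
  · right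
    obtain ⟨x, hx, hx1⟩ := plane_one Q hW hdW han
    have hx0 : x ≠ 0 := fun h => by rw [h, QuadraticMap.map_zero] at hx1; exact zero_ne_one hx1
    obtain ⟨y₀, hy₀, hy0⟩ : ∃ y ∈ W, polar ⇑Q x y ≠ 0 := by
      by_contra h
      push Not at h
      exact hx0 (hW x hx h)
    obtain ⟨y, hy, hxy, hnx⟩ : ∃ y ∈ W, polar ⇑Q x y = 1 ∧ y ∉ (F ∙ x) := by
      set y₁ := (polar ⇑Q x y₀)⁻¹ • y₀
      have hy₁ : y₁ ∈ W := W.smul_mem _ hy₀
      have hxy₁ : polar ⇑Q x y₁ = 1 := by rw [psmul_right, inv_mul_cancel₀ hy0]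
      by_cases hmem : y₁ ∈ (F ∙ x)
      · have h1 := finrank_inf_ker Q W x
        obtain ⟨z, ⟨hzW, hzP⟩, hz0⟩ := Submodule.exists_mem_ne_zero_of_ne_bot
          (p := W ⊓ LinearMap.ker (polarBilin Q x)) (fun h => by rw [h, finrank_bot] at h1; omega)
        have hzP' : polar ⇑Q x z = 0 := hzP
        refine ⟨y₁ + z, W.add_mem hy₁ hzW, by rw [padd_right, hxy₁, hzP', add_zero], fun hmem' => hz0 ?_⟩
        obtain ⟨c, hc⟩ := Submodule.mem_span_singleton.1 ((Submodule.add_mem_iff_right _ hmem).1 hmem')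
        obtain ⟨d, hd⟩ := Submodule.mem_span_singleton.1 hmem
        rw [← hd, psmul_right] at hxy₁
        rw [← hc, psmul_right] at hzP'
        have hc0 : c = 0 := by linear_combination d * hzP' - c * hxy₁
        rw [← hc, hc0, zero_smul]
      · exact ⟨y₁, hy₁, hxy₁, hmem⟩
    have hz : ∀ t : F, t ^ 2 + t + Q y ≠ 0 := fun t ht => by
      have hQ0 : Q (t • x + y) = 0 := by
        rw [qadd, qsmul, hx1, QuadraticMap.polar_smul_left, hxy, smul_eq_mul]
        linear_combination ht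
      refine hnx (Submodule.mem_span_singleton.2 ⟨-t, ?_⟩)
      rw [neg_smul]
      exact (eq_neg_of_add_eq_zero_right (han _ (W.add_mem (W.smul_mem t hx) hy) hQ0)).symm
    have hgi : LinearIndependent F (![x, y] : Fin 2 → V) := by
      rw [LinearIndependent.pair_iff]
      intro s t hst
      by_cases ht : t = 0
      · subst ht
        rw [zero_smul, add_zero] at hst
        exact ⟨(smul_eq_zero.1 hst).resolve_right hx0, rfl⟩
      · exfalso
        refine hnx (Submodule.mem_span_singleton.2 ⟨-(t⁻¹ * s), ?_⟩)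
        rw [neg_smul, ← smul_smul, neg_eq_iff_add_eq_zero, ← smul_right_inj ht, smul_add, smul_inv_smul₀ ht, smul_zero, hst]
    have hg : ∀ j, (![x, y] : Fin 2 → V) j ∈ W := fun j => by fin_cases j <;> assumption
    have hi := indep Q hh hg hgi
    let b := basisOfLinearIndependentOfCardEqFinrank hi (by simp [hV]; ring)
    have b1 : ∀ i, b (Sum.inl (Sum.inl i)) = e i := fun i => by simp [b]
    have b2 : ∀ i, b (Sum.inl (Sum.inr i)) = f i := fun i => by simp [b]
    have b3 : ∀ j, b (Sum.inr j) = (![x, y] : Fin 2 → V) j := fun j => by simp [b]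
    obtain ⟨h1, h2, h3, h4⟩ := hh
    refine ⟨b, Q y, hz, fun i => ?_, fun i j => ?_, fun i j => ?_, fun i j => ?_, ?_, ?_, ?_⟩
    · rw [b1, b2]; exact h1 i
    · rw [b1, b2]; exact h2 i j
    · rw [b1, b1, b2, b2]; exact h3 i j
    · rw [b1, b2, b3]; exact h4 i _ (hg j)
    · rw [b3]; exact hx1
    · rw [b3, b3]; exact hxy
    · rw [b3]; rfl
  · left
    push Not at han
    obtain ⟨u, hu, hQu, hu0⟩ := han
    obtain ⟨v, W', hv, hQv, huv, hW'W, -, hd', ho⟩ := pair Q hW hu hu0 hQu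
    obtain ⟨h1, h2, h3, h4⟩ := hh
    have hh' : Hyp Q e f (⊥ : Submodule F V) :=
      ⟨h1, h2, h3, fun i w hw => by rw [(Submodule.mem_bot F).1 hw]; exact ⟨polar_zero_right Q _, polar_zero_right Q _⟩⟩
    let U : Submodule F V := LinearMap.ker (polarBilin Q u) ⊓ LinearMap.ker (polarBilin Q v)
    have hef : ∀ i, e i ∈ U ∧ f i ∈ U := fun i => by
      refine ⟨⟨?_, ?_⟩, ⟨?_, ?_⟩⟩
      · show polar ⇑Q u (e i) = 0; rw [polar_comm]; exact (h4 i u hu).1
      · show polar ⇑Q v (e i) = 0; rw [polar_comm]; exact (h4 i v hv).1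
      · show polar ⇑Q u (f i) = 0; rw [polar_comm]; exact (h4 i u hu).2
      · show polar ⇑Q v (f i) = 0; rw [polar_comm]; exact (h4 i v hv).2
    have hy := hyp_cons Q (U := U) hh' hef bot_le hQu hQv huv (fun w hw => hw)
    have hi := indep Q (ι := Fin 0) (g := Fin.elim0) hy (fun i => i.elim0) (linearIndependent_empty_type)
    let b := (basisOfLinearIndependentOfCardEqFinrank hi (by simp [hV]; ring)).reindex (Equiv.sumEmpty _ _)
    have b1 : ∀ i, b (Sum.inl i) = (Fin.cons u e : Fin (k + 1) → V) i := fun i => by simp [b]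
    have b2 : ∀ i, b (Sum.inr i) = (Fin.cons v f : Fin (k + 1) → V) i := fun i => by simp [b]
    obtain ⟨g1, g2, g3, -⟩ := hy
    refine ⟨b, fun i => ?_, fun i j => ?_, fun i j => ?_⟩
    · rw [b1, b2]; exact g1 i
    · rw [b1, b2]; exact g2 i j
    · rw [b1, b1, b2, b2]; exact g3 i j

end CfsgLib.MiscWittNormal
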