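import Mathlib
import Cfsg.Agent.Lie.Herm
import Cfsg.Agent.Lie.Sp
import Cfsg.Agent.Misc.WittNormal

/-!
Field-reduction embeddings: Sp_a(q²) ≤ Sp_2a(q), GU_m(q) ≤ Sp_m(q), GU_m(q) ≤ O^±_2m(q).
-/

set_option autoImplicit false
set_option linter.unusedSectionVars false

namespace CfsgLib.MiscTraceEmbeds

open Module Matrix

/-! ### fields -/

theorem exists_embedding {K F : Type*} [Field K] [Fintype K] [Field F] [Fintype F] {q : ℕ}
    (hK : Fintype.card K = q ^ 2) (hF : Fintype.card F = q) : Nonempty (F →+* K) := by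
  obtain ⟨f, hp, hf⟩ := FiniteField.card F (ringChar F)
  haveI := Fact.mk hp
  haveI : CharP K (ringChar F) := charP_of_card_eq_prime_pow (f := f * 2) (by
    simp [hK, ← hF, hf, ← pow_mul])
  letI : Algebra (ZMod (ringChar F)) F := ZMod.algebra _ _
  letI : Algebra (ZMod (ringChar F)) K := ZMod.algebra _ _
  have h1 : Module.finrank (ZMod (ringChar F)) F = f :=
    Nat.pow_right_injective hp.two_le ((FiniteField.pow_finrank_eq_card _ F).trans hf)
  have h2 : Module.finrank (ZMod (ringChar F)) K = f * 2 :=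
    Nat.pow_right_injective hp.two_le ((FiniteField.pow_finrank_eq_card _ K).trans (by rw [hK, ← hF, hf, ← pow_mul]))
  obtain ⟨φ⟩ := FiniteField.nonempty_algHom_of_finrank_dvd (F := ZMod (ringChar F)) (K := F) (L := K)
    (by rw [h1, h2]; exact dvd_mul_right _ _)
  exact ⟨φ.toRingHom⟩

variable {K F : Type*} [Field K] [Fintype K] [Field F] [Fintype F] [Algebra F K] {q : ℕ}

theorem finrank_two (hK : Fintype.card K = q ^ 2) (hF : Fintype.card F = q) : finrank F K = 2 := by
  have h := Module.card_eq_pow_finrank (K := F) (V := K)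
  rw [hK, hF] at h
  exact (Nat.pow_right_injective (hF ▸ Fintype.one_lt_card) h).symm

theorem algebraMap_pow (hF : Fintype.card F = q) (c : F) : (algebraMap F K c) ^ q = algebraMap F K c := by
  rw [← map_pow, ← hF, FiniteField.pow_card]

theorem fixed_mem (hF : Fintype.card F = q) {x : K} (hx : x ^ q = x) : ∃ c : F, algebraMap F K c = x := by
  classical
  by_contra hno
  push Not at hno
  have hq : 1 < q := hF ▸ Fintype.one_lt_card
  have hsub : insert x (Finset.univ.image (algebraMap F K)) ⊆ (Polynomial.X ^ q - Polynomial.X : Polynomial K).roots.toFinset := by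
    intro y hy
    rw [Multiset.mem_toFinset, Polynomial.mem_roots (FiniteField.X_pow_card_sub_X_ne_zero K hq)]
    rcases Finset.mem_insert.1 hy with rfl | hy
    · simp [hx]
    · obtain ⟨c, -, rfl⟩ := Finset.mem_image.1 hy
      simp [algebraMap_pow hF]
  have h2 := (Finset.card_le_card hsub).trans ((Multiset.toFinset_card_le _).trans (Polynomial.card_roots' _))
  rw [Finset.card_insert_of_notMem (fun h => by obtain ⟨c, -, hc⟩ := Finset.mem_image.1 h; exact hno c hc),
    Finset.card_image_of_injective _ (algebraMap F K).injective, Finset.card_univ, hF,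
    FiniteField.X_pow_card_sub_X_natDegree_eq K hq] at h2
  omega

/-! ### transport -/

/-- A matrix group over `K` acting `F`-linearly. -/
def resAct {ι : Type*} [Fintype ι] [DecidableEq ι] : GL ι K →* ((ι → K) ≃ₗ[F] (ι → K)) where
  toFun g :=
    { toFun := fun x => (g : Matrix ι ι K).mulVec x
      map_add' := fun x y => Matrix.mulVec_add _ x y
      map_smul' := fun c x => Matrix.mulVec_smul _ c x
      invFun := fun x => (↑g⁻¹ : Matrix ι ι K).mulVec x
      left_inv := fun x => by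
        show (↑g⁻¹ : Matrix ι ι K).mulVec ((g : Matrix ι ι K).mulVec x) = x
        rw [Matrix.mulVec_mulVec, Units.inv_mul, Matrix.one_mulVec]
      right_inv := fun x => by
        show (g : Matrix ι ι K).mulVec ((↑g⁻¹ : Matrix ι ι K).mulVec x) = x
        rw [Matrix.mulVec_mulVec, Units.mul_inv, Matrix.one_mulVec] }
  map_one' := LinearEquiv.ext fun x => Matrix.one_mulVec x
  map_mul' g h := LinearEquiv.ext fun x => (Matrix.mulVec_mulVec x _ _).symm

theorem resAct_apply {ι : Type*} [Fintype ι] [DecidableEq ι] (g : GL ι K) (x : ι → K) :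
    resAct (F := F) g x = (g : Matrix ι ι K).mulVec x := rfl

theorem resAct_injective {ι : Type*} [Fintype ι] [DecidableEq ι] : Function.Injective (resAct (K := K) (F := F) (ι := ι)) :=
  fun g h e => Units.ext (Matrix.ext_of_mulVec_single fun i => LinearEquiv.congr_fun e _)

variable {W : Type*} [AddCommGroup W] [Module F W] {ι : Type} [Fintype ι] [DecidableEq ι]

/-- transport of linear equivalences to matrices along coordinates -/
noncomputable def coordHom (ψ : W ≃ₗ[F] (ι → F)) : (W ≃ₗ[F] W) →* GL ι F where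
  toFun g := GeneralLinearGroup.toLin.symm
    ((LinearMap.GeneralLinearGroup.generalLinearEquiv F (ι → F)).symm ((ψ.symm.trans g).trans ψ))
  map_one' := by
    rw [← map_one (GeneralLinearGroup.toLin (n := ι) (R := F)).symm,
      ← map_one (LinearMap.GeneralLinearGroup.generalLinearEquiv F (ι → F)).symm]
    congr 2
    ext x
    simp
  map_mul' g h := by
    rw [← map_mul, ← map_mul]
    congr 2
    ext x
    simp

theorem coordHom_mulVec (ψ : W ≃ₗ[F] (ι → F)) (g : W ≃ₗ[F] W) (x : W) :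
    (coordHom ψ g : Matrix ι ι F).mulVec (ψ x) = ψ (g x) := by
  have : Matrix.toLin' (coordHom ψ g : Matrix ι ι F) = (((ψ.symm.trans g).trans ψ : _ ≃ₗ[F] _) : (ι → F) →ₗ[F] (ι → F)) := by
    show Matrix.toLin' (LinearMap.toMatrix' _) = _
    rw [Matrix.toLin'_toMatrix']
    rfl
  have h := LinearMap.congr_fun this (ψ x)
  rw [Matrix.toLin'_apply] at h
  simpa using h

theorem coordHom_injective (ψ : W ≃ₗ[F] (ι → F)) : Function.Injective (coordHom ψ) := fun g h e =>
  LinearEquiv.ext fun x => ψ.injective (by rw [← coordHom_mulVec, e, coordHom_mulVec])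

theorem to_isometry {G : Type*} [Group G] (ρ : G →* (W ≃ₗ[F] W)) (hρ : Function.Injective ρ)
    (ψ : W ≃ₗ[F] (ι → F)) (Q₀ : (ι → F) → F) (h : ∀ g x, Q₀ (ψ (ρ g x)) = Q₀ (ψ x)) :
    ∃ φ : G →* ↥(Cfsg.isometryGroup F Q₀), Function.Injective φ := by
  refine ⟨((coordHom ψ).comp ρ).codRestrict _ fun g u v => ?_, fun a b e => hρ (coordHom_injective ψ (congrArg Subtype.val e))⟩
  obtain ⟨x, rfl⟩ := ψ.surjective u
  show Q₀ ((coordHom ψ (ρ g) : Matrix ι ι F).mulVec (ψ x)) = Q₀ (ψ x)
  rw [coordHom_mulVec, h]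

theorem to_symplectic [FiniteDimensional F W] {d : ℕ} (hd : finrank F W = 2 * d) (A : W →ₗ[F] W →ₗ[F] F)
    (halt : ∀ v, A v v = 0) (hnd : ∀ v, (∀ w, A v w = 0) → v = 0)
    {G : Type*} [Group G] (ρ : G →* (W ≃ₗ[F] W)) (hρ : Function.Injective ρ)
    (h : ∀ g x y, A (ρ g x) (ρ g y) = A x y) :
    ∃ φ : G →* ↥(Matrix.symplecticGroup (Fin d) F), Function.Injective φ := by
  obtain ⟨m, k, b, b1, b2, b3, b4⟩ := CfsgLib.Lie.OrthBasis.exists_symplectic A halt
  have hk : k = 0 := by
    by_contra h0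
    exact b.ne_zero (Sum.inr ⟨0, Nat.pos_of_ne_zero h0⟩) (hnd _ (b4 _))
  subst hk
  have hmd : m = d := by
    have := Module.finrank_eq_card_basis b
    simp [hd] at this
    omega
  subst hmd
  let b' := b.reindex ((Equiv.sumEmpty _ _).trans (Equiv.sumComm (Fin m) (Fin m)))
  let ψ : W ≃ₗ[F] (Fin m ⊕ Fin m → F) := b'.equivFun
  have hψ : ∀ i, ψ (b' i) = Pi.single i 1 := fun i => by
    funext j; simp [ψ, Finsupp.single_apply, Pi.single_apply, eq_comm]
  have hswap : ∀ a c, A a c = - A c a := fun a c => by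
    have h := halt (a + c)
    simp only [map_add, LinearMap.add_apply, halt] at h
    linear_combination h
  have hA : (CfsgLib.Lie.Sp.bf m F).compl₁₂ (ψ : W →ₗ[F] _) (ψ : W →ₗ[F] _) = A := by
    refine LinearMap.ext_basis b' b' fun i j => ?_
    show CfsgLib.Lie.Sp.bf m F (ψ (b' i)) (ψ (b' j)) = A (b' i) (b' j)
    rw [hψ, hψ]
    have eA : ∀ i : Fin m, b' (Sum.inr i) = b (Sum.inl (Sum.inl i)) := fun i => by simp [b']
    have eB : ∀ i : Fin m, b' (Sum.inl i) = b (Sum.inl (Sum.inr i)) := fun i => by simp [b']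
    rcases i with i | i <;> rcases j with j | j
    · rw [eB, eB, b3]; simpa [CfsgLib.Lie.Sp.e] using CfsgLib.Lie.Sp.bf_e_left i (CfsgLib.Lie.Sp.e (F := F) j)
    · rw [eB, eA, hswap, b1]
      have := CfsgLib.Lie.Sp.bf_e_left i (CfsgLib.Lie.Sp.f (F := F) j)
      simp only [CfsgLib.Lie.Sp.e, CfsgLib.Lie.Sp.f] at this
      rw [this, Pi.single_apply]
      simp [eq_comm]
    · rw [eA, eB, b1]
      have := CfsgLib.Lie.Sp.bf_f_left i (CfsgLib.Lie.Sp.e (F := F) j)
      simp only [CfsgLib.Lie.Sp.e, CfsgLib.Lie.Sp.f] at this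
      rw [this, Pi.single_apply]
      simp [eq_comm]
    · rw [eA, eA, b2]; simpa [CfsgLib.Lie.Sp.f] using CfsgLib.Lie.Sp.bf_f_left i (CfsgLib.Lie.Sp.f (F := F) j)
  have hA' : ∀ x y, CfsgLib.Lie.Sp.bf m F (ψ x) (ψ y) = A x y := fun x y =>
    LinearMap.congr_fun (LinearMap.congr_fun hA x) y
  let M : G →* Matrix (Fin m ⊕ Fin m) (Fin m ⊕ Fin m) F := (Units.coeHom _).comp ((coordHom ψ).comp ρ)
  have hmem : ∀ g, M g ∈ Matrix.symplecticGroup (Fin m) F := fun g => CfsgLib.Lie.Sp.mem_iff_bf.2 fun u v => by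
    obtain ⟨x, rfl⟩ := ψ.surjective u
    obtain ⟨y, rfl⟩ := ψ.surjective v
    show CfsgLib.Lie.Sp.bf m F ((coordHom ψ (ρ g) : Matrix _ _ F).mulVec (ψ x)) ((coordHom ψ (ρ g) : Matrix _ _ F).mulVec (ψ y)) = _
    rw [coordHom_mulVec, coordHom_mulVec, hA', hA', h]
  exact ⟨{ toFun := fun g => ⟨M g, hmem g⟩, map_one' := Subtype.ext (map_one M), map_mul' := fun a b => Subtype.ext (map_mul M a b) },
    fun a b e => hρ (coordHom_injective ψ (Units.ext (congrArg Subtype.val e)))⟩

/-! ### embeddings -/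

theorem finrank_fun (hK : Fintype.card K = q ^ 2) (hF : Fintype.card F = q) (ι : Type) [Fintype ι] :
    finrank F (ι → K) = Fintype.card ι * 2 := by
  rw [Module.finrank_pi_fintype]; simp [finrank_two hK hF]

theorem sp_embed_aux (hK : Fintype.card K = q ^ 2) (hF : Fintype.card F = q) (a : ℕ) :
    ∃ φ : ↥(Matrix.symplecticGroup (Fin a) K) →* ↥(Matrix.symplecticGroup (Fin (2 * a)) F), Function.Injective φ := by
  obtain ⟨τ, hτ⟩ := LinearMap.exists_leftInverse_of_injective (Algebra.linearMap F K)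
    (LinearMap.ker_eq_bot.2 (algebraMap F K).injective)
  let B := CfsgLib.Lie.Sp.bf a K
  let A : (Fin a ⊕ Fin a → K) →ₗ[F] (Fin a ⊕ Fin a → K) →ₗ[F] F :=
    LinearMap.mk₂ F (fun x y => τ (B x y)) (fun x x' y => by simp) (fun c x y => by simp)
      (fun x y y' => by simp) (fun c x y => by simp)
  let toG : ↥(Matrix.symplecticGroup (Fin a) K) →* GL (Fin a ⊕ Fin a) K :=
    ({ toFun := fun g => (g : Matrix _ _ K), map_one' := rfl, map_mul' := fun _ _ => rfl } :
      ↥(Matrix.symplecticGroup (Fin a) K) →* Matrix (Fin a ⊕ Fin a) (Fin a ⊕ Fin a) K).toHomUnits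
  refine to_symplectic (W := Fin a ⊕ Fin a → K) ?_ A ?_ ?_ (resAct.comp toG)
    (resAct_injective.comp fun x y e => Subtype.ext (congrArg Units.val e)) fun g x y => ?_
  · rw [finrank_fun hK hF]; simp; ring
  · intro v
    show τ (B v v) = 0
    rw [CfsgLib.Lie.Sp.bf_self, map_zero]
  · intro v hv
    by_contra h0
    obtain ⟨w, hw⟩ := CfsgLib.Lie.Sp.exists_bf_eq_one h0
    have h1 : τ (B v w) = 0 := hv w
    rw [show B v w = algebraMap F K 1 by rw [map_one]; exact hw, show algebraMap F K 1 = Algebra.linearMap F K 1 from rfl,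
      ← LinearMap.comp_apply, hτ, LinearMap.id_apply] at h1
    exact one_ne_zero h1
  · show τ (B ((g : Matrix _ _ K).mulVec x) ((g : Matrix _ _ K).mulVec y)) = τ (B x y)
    rw [CfsgLib.Lie.Sp.mem_iff_bf.1 g.2 x y]

section GU

variable {m : ℕ}

theorem smul_form_left (c : F) (u v : Fin m → K) :
    Cfsg.hermForm m K q (c • u) v = algebraMap F K c * Cfsg.hermForm m K q u v := by
  rw [← algebraMap_smul K c u, CfsgLib.Lie.Herm.form_smul_left]

theorem smul_form_right (hF : Fintype.card F = q) (c : F) (u v : Fin m → K) :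
    Cfsg.hermForm m K q u (c • v) = algebraMap F K c * Cfsg.hermForm m K q u v := by
  rw [← algebraMap_smul K c v, CfsgLib.Lie.Herm.form_smul_right, algebraMap_pow hF]

variable (hK : Fintype.card K = q ^ 2) (hF : Fintype.card F = q)

include hK hF

/-- `(x, y) ↦ π (h(x,y))` -/
noncomputable def pairing (π : K →ₗ[F] F) : (Fin m → K) →ₗ[F] (Fin m → K) →ₗ[F] F :=
  LinearMap.mk₂ F (fun x y => π (Cfsg.hermForm m K q x y))
    (fun x x' y => by rw [CfsgLib.Lie.Herm.form_add_left, map_add])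
    (fun c x y => by rw [smul_form_left, ← Algebra.smul_def, map_smul])
    (fun x y y' => by rw [CfsgLib.Lie.Herm.form_add_right hK, map_add])
    (fun c x y => by rw [smul_form_right hF, ← Algebra.smul_def, map_smul])

theorem pairing_apply (π : K →ₗ[F] F) (x y : Fin m → K) : pairing hK hF π x y = π (Cfsg.hermForm m K q x y) := rfl

theorem gu_sp_aux : ∃ φ : ↥(Cfsg.GU m K q) →* ↥(Matrix.symplecticGroup (Fin m) F), Function.Injective φ := by
  obtain ⟨a₀, ha₀⟩ : ∃ a : K, a - a ^ q ≠ 0 := by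
    by_contra h
    push Not at h
    exact CfsgLib.Lie.Herm.conj_ne_id hK (RingHom.ext fun a => (sub_eq_zero.1 (h a)).symm)
  obtain ⟨i₀, hi₀⟩ := Finsupp.ne_iff.1 (show (Module.finBasis F K).repr (a₀ - a₀ ^ q) ≠ 0 from fun h0 => ha₀ ((Module.finBasis F K).repr.map_eq_zero_iff.1 h0))
  obtain ⟨π, hπ⟩ : ∃ π : K →ₗ[F] F, π (a₀ - a₀ ^ q) ≠ 0 := ⟨(Module.finBasis F K).coord i₀, by simpa using hi₀⟩
  let P := pairing (m := m) hK hF π
  refine to_symplectic (W := Fin m → K) (by rw [finrank_fun hK hF]; simp; ring) (P - P.flip) ?_ ?_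
    (resAct.comp (Cfsg.GU m K q).subtype) (resAct_injective.comp Subtype.val_injective) fun g x y => ?_
  · intro v; simp
  · intro v hv
    by_contra h0
    obtain ⟨i, hi⟩ := Function.ne_iff.1 h0
    obtain ⟨t, ht⟩ := (CfsgLib.Lie.Herm.conj_surjective hK).is_surjective (a₀ / v i)
    have h1 := hv (t • Pi.single i 1)
    have e1 : Cfsg.hermForm m K q v (t • Pi.single i 1) = a₀ := by
      rw [CfsgLib.Lie.Herm.form_smul_right, CfsgLib.Lie.Herm.form_single hK]
      rw [CfsgLib.Lie.Herm.conj_apply] at ht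
      rw [ht, div_mul_cancel₀ _ hi]
    simp only [LinearMap.sub_apply, LinearMap.flip_apply, P, pairing_apply] at h1
    rw [e1, ← CfsgLib.Lie.Herm.form_comm hK, e1, ← map_sub] at h1
    exact hπ h1
  · simp only [LinearMap.sub_apply, LinearMap.flip_apply, P, pairing_apply, MonoidHom.comp_apply, Subgroup.coe_subtype, resAct_apply]
    have hg : ∀ u v, Cfsg.hermForm m K q (((g : GL (Fin m) K) : Matrix _ _ K).mulVec u)
        (((g : GL (Fin m) K) : Matrix _ _ K).mulVec v) = Cfsg.hermForm m K q u v := g.2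
    rw [hg, hg]

omit hK hF in
open CfsgLib.MiscWittNormal in
theorem plus_of_singular {W : Type*} [AddCommGroup W] [Module F W] [FiniteDimensional F W] (Q : QuadraticForm F W) :
    ∀ (d : ℕ) (U S : Submodule F W), NondegOn Q U → finrank F U = 2 * d → S ≤ U → d ≤ finrank F S →
      (∀ s ∈ S, Q s = 0) → ∃ e f : Fin d → W, (∀ i, e i ∈ U ∧ f i ∈ U) ∧ Hyp Q e f ⊥
  | 0, _, _, _, _, _, _, _ => ⟨Fin.elim0, Fin.elim0, fun i => i.elim0, fun i => i.elim0, fun i => i.elim0, fun i => i.elim0,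
      fun i => i.elim0⟩
  | d + 1, U, S, hU, hdim, hSU, hS, hQS => by
    obtain ⟨u, hu, hu0⟩ := Submodule.exists_mem_ne_zero_of_ne_bot (p := S) (fun h => by rw [h, finrank_bot] at hS; omega)
    have hQu := hQS u hu
    obtain ⟨v, W₀, hv, hQv, huv, hWU, hW, hdW, ho⟩ := pair Q hU (hSU hu) hu0 hQu
    -- the orthogonal complement is cut out inside U
    let U' : Submodule F W := U ⊓ LinearMap.ker (QuadraticMap.polarBilin Q u) ⊓ LinearMap.ker (QuadraticMap.polarBilin Q v)
    have hW0 : W₀ = U' := by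
      refine Submodule.eq_of_le_of_finrank_le (fun w hw => ⟨⟨hWU hw, (ho w hw).1⟩, (ho w hw).2⟩) ?_
      have hsum : finrank F ↥(U' ⊔ Submodule.span F {u, v}) ≤ finrank F U :=
        Submodule.finrank_mono (sup_le (fun w hw => hw.1.1) (Submodule.span_le.2 (by
          intro w hw
          rcases hw with rfl | rfl
          · exact hSU hu
          · exact hv)))
      have hdis : U' ⊓ Submodule.span F {u, v} = ⊥ := by
        rw [Submodule.eq_bot_iff]
        rintro w ⟨⟨⟨-, h1⟩, h2⟩, h3⟩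
        obtain ⟨a, c, rfl⟩ := Submodule.mem_span_pair.1 h3
        have huu : QuadraticMap.polar ⇑Q u u = 0 := by rw [QuadraticMap.polar_self, hQu, smul_zero]
        have hvv : QuadraticMap.polar ⇑Q v v = 0 := by rw [QuadraticMap.polar_self, hQv, smul_zero]
        have h1' : QuadraticMap.polar ⇑Q u (a • u + c • v) = 0 := h1
        have h2' : QuadraticMap.polar ⇑Q v (a • u + c • v) = 0 := h2
        rw [padd_right, psmul_right, psmul_right, huu, huv, mul_zero, zero_add, mul_one] at h1'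
        rw [padd_right, psmul_right, psmul_right, QuadraticMap.polar_comm _ v u, huv, hvv, mul_one, mul_zero, add_zero] at h2'
        rw [h1', h2', zero_smul, zero_smul, add_zero]
      have h2 : finrank F (Submodule.span F ({u, v} : Set W)) = 2 := by
        have hli : LinearIndependent F ![u, v] := by
          rw [LinearIndependent.pair_iff]
          intro a c h
          have huu : QuadraticMap.polar ⇑Q u u = 0 := by rw [QuadraticMap.polar_self, hQu, smul_zero]
          have := congrArg (fun w => QuadraticMap.polar ⇑Q u w) h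
          simp only [padd_right, psmul_right, huu, huv, mul_zero, zero_add, mul_one, QuadraticMap.polar_zero_right] at this
          rw [this, zero_smul, add_zero] at h
          exact ⟨(smul_eq_zero.1 h).resolve_right hu0, this⟩
        have := finrank_span_eq_card hli
        rw [show ({u, v} : Set W) = Set.range ![u, v] by ext; simp [or_comm, eq_comm]]
        simpa using this
      have := Submodule.finrank_sup_add_finrank_inf_eq U' (Submodule.span F {u, v})
      rw [hdis, finrank_bot, h2] at this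
      omega
    let S' := S ⊓ LinearMap.ker (QuadraticMap.polarBilin Q v)
    have hS' : S' ≤ W₀ := by
      rw [hW0]
      rintro w ⟨hw1, hw2⟩
      refine ⟨⟨hSU hw1, ?_⟩, hw2⟩
      show QuadraticMap.polar ⇑Q u w = 0
      have := hQS _ (S.add_mem hu hw1)
      rwa [qadd, hQu, hQS w hw1, zero_add, zero_add] at this
    have hdS := finrank_inf_ker Q S v
    obtain ⟨e, f, hef, hyp⟩ := plus_of_singular Q d W₀ S' hW (by omega) hS' (by
      show d ≤ finrank F ↥(S ⊓ LinearMap.ker (QuadraticMap.polarBilin Q v))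
      omega) fun s hs => hQS s hs.1
    refine ⟨Fin.cons u e, Fin.cons v f, fun i => ?_, hyp_cons Q hyp hef bot_le hQu hQv huv ho⟩
    induction i using Fin.cases with
    | zero => simpa using ⟨hSU hu, hv⟩
    | succ i => simpa using ⟨hWU (hef i).1, hWU (hef i).2⟩

omit hK hF in
theorem hyp_value {W : Type*} [AddCommGroup W] [Module F W] (Q : QuadraticForm F W) {d : ℕ} {e f : Fin d → W}
    {U : Submodule F W} (h : CfsgLib.MiscWittNormal.Hyp Q e f U) (a c : Fin d → F) {w : W} (hw : w ∈ U) :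
    Q (∑ i, a i • e i + ∑ i, c i • f i + w) = ∑ i, a i * c i + Q w := by
  classical
  obtain ⟨h1, h2, h3, h4⟩ := h
  have hiso : ∀ (g : Fin d → W), (∀ i, Q (g i) = 0) → (∀ i j, QuadraticMap.polar ⇑Q (g i) (g j) = 0) →
      ∀ (r : Fin d → F) (s : Finset (Fin d)), Q (∑ i ∈ s, r i • g i) = 0 := by
    intro g g1 g2 r s
    induction s using Finset.induction_on with
    | empty => simp
    | insert i s hi ih =>
      rw [Finset.sum_insert hi, QuadraticMap.map_add ⇑Q, ih, QuadraticMap.map_smul, g1, smul_zero, zero_add, zero_add,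
        QuadraticMap.polar_smul_left]
      show r i • QuadraticMap.polarBilin Q (g i) (∑ j ∈ s, r j • g j) = 0
      simp [map_sum, g2]
  rw [QuadraticMap.map_add ⇑Q, QuadraticMap.map_add ⇑Q, hiso e (fun i => (h1 i).1) (fun i j => (h3 i j).1),
    hiso f (fun i => (h1 i).2) (fun i j => (h3 i j).2), zero_add, zero_add]
  have e1 : QuadraticMap.polar ⇑Q (∑ i, a i • e i) (∑ i, c i • f i) = ∑ i, a i * c i := by
    show QuadraticMap.polarBilin Q (∑ i, a i • e i) (∑ i, c i • f i) = _
    simp [map_sum, LinearMap.sum_apply, h2, mul_comm]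
  have e2 : QuadraticMap.polar ⇑Q (∑ i, a i • e i + ∑ i, c i • f i) w = 0 := by
    show QuadraticMap.polarBilin Q (∑ i, a i • e i + ∑ i, c i • f i) w = 0
    simp [map_sum, LinearMap.sum_apply, (h4 _ w hw).1, (h4 _ w hw).2]
  rw [e1, e2, add_zero]

omit hK hF in
theorem exists_retraction : ∃ π : K →ₗ[F] F, ∀ c, π (algebraMap F K c) = c := by
  obtain ⟨τ, hτ⟩ := LinearMap.exists_leftInverse_of_injective (Algebra.linearMap F K)
    (LinearMap.ker_eq_bot.2 (algebraMap F K).injective)
  exact ⟨τ, fun c => LinearMap.congr_fun hτ c⟩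

theorem gu_orth_setup : ∃ Q : QuadraticForm F (Fin m → K), (∀ x, algebraMap F K (Q x) = Cfsg.hermForm m K q x x) ∧
    (QuadraticMap.polarBilin Q).Nondegenerate ∧
    ∀ (g : ↥(Cfsg.GU m K q)) (x : Fin m → K), Q (resAct (F := F) (g : GL (Fin m) K) x) = Q x := by
  obtain ⟨π, hπ⟩ := exists_retraction (K := K) (F := F)
  let Q := LinearMap.BilinMap.toQuadraticMap (pairing (m := m) hK hF π)
  have hQ : ∀ x, Q x = π (Cfsg.hermForm m K q x x) := fun x => rfl
  have hfix : ∀ s : K, s ^ q = s → algebraMap F K (π s) = s := fun s hs => by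
    obtain ⟨c, rfl⟩ := fixed_mem hF hs
    rw [hπ]
  refine ⟨Q, fun x => by rw [hQ]; exact hfix _ (CfsgLib.Lie.Herm.form_comm hK x x), ?_, fun g x => ?_⟩
  · have hpol : ∀ x y, QuadraticMap.polar ⇑Q x y = π (Cfsg.hermForm m K q x y + Cfsg.hermForm m K q y x) := by
      intro x y
      show QuadraticMap.polar ⇑(LinearMap.BilinMap.toQuadraticMap (pairing (m := m) hK hF π)) x y = _
      rw [LinearMap.BilinMap.polar_toQuadraticMap, map_add, pairing_apply, pairing_apply]
    obtain ⟨a₀, ha₀⟩ : ∃ a : K, a + a ^ q ≠ 0 := by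
      by_contra h
      push Not at h
      have h1 := h 1
      rw [one_pow] at h1
      exact CfsgLib.Lie.Herm.conj_ne_id hK (RingHom.ext fun a => show a ^ q = a by
        linear_combination h a - a * h1)
    have key : ∀ v, (∀ w, QuadraticMap.polar ⇑Q v w = 0) → v = 0 := by
      intro v hv
      by_contra h0
      obtain ⟨i, hi⟩ := Function.ne_iff.1 h0
      obtain ⟨t, ht⟩ := (CfsgLib.Lie.Herm.conj_surjective hK).is_surjective (a₀ / v i)
      have e1 : Cfsg.hermForm m K q v (t • Pi.single i 1) = a₀ := by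
        rw [CfsgLib.Lie.Herm.form_smul_right, CfsgLib.Lie.Herm.form_single hK]
        rw [CfsgLib.Lie.Herm.conj_apply] at ht
        rw [ht, div_mul_cancel₀ _ hi]
      have h1 := hv (t • Pi.single i 1)
      rw [hpol, ← CfsgLib.Lie.Herm.form_comm hK v, e1] at h1
      have h2 := hfix (a₀ + a₀ ^ q) (by rw [CfsgLib.Lie.Herm.add_pow_q hK, CfsgLib.Lie.Herm.pow_pow_q hK]; ring)
      rw [h1, map_zero] at h2
      exact ha₀ h2.symm
    exact ⟨key, fun v hv => key v fun w => by rw [QuadraticMap.polar_comm]; exact hv w⟩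
  · show π _ = π _
    exact congrArg π (g.2 x x)

omit hK hF in
open CfsgLib.MiscWittNormal in
theorem gu_orth (Q : QuadraticForm F (Fin m → K)) {d : ℕ} {ι : Type} [Fintype ι] [DecidableEq ι] {e f : Fin d → (Fin m → K)}
    {U : Submodule F (Fin m → K)} (hh : Hyp Q e f U) {g : ι → (Fin m → K)} (hg : ∀ k, g k ∈ U)
    (hgi : LinearIndependent F g) (hcard : d + d + Fintype.card ι = m * 2)
    (hdim : finrank F (Fin m → K) = m * 2) (Q₀ : ((Fin d ⊕ Fin d) ⊕ ι → F) → F)
    (hQ₀ : ∀ x, Q₀ x = ∑ i, x (Sum.inl (Sum.inl i)) * x (Sum.inl (Sum.inr i)) + Q (∑ k, x (Sum.inr k) • g k))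
    (hinv : ∀ (g : ↥(Cfsg.GU m K q)) (x : Fin m → K), Q (resAct (F := F) (g : GL (Fin m) K) x) = Q x) :
    ∃ φ : ↥(Cfsg.GU m K q) →* ↥(Cfsg.isometryGroup F Q₀), Function.Injective φ := by
  let b : Basis ((Fin d ⊕ Fin d) ⊕ ι) F (Fin m → K) :=
    Basis.mk (indep Q hh hg hgi) ((indep Q hh hg hgi).span_eq_top_of_card_eq_finrank' (by simp [hdim, hcard])).ge
  have hb : ∀ i, b i = Sum.elim (Sum.elim e f) g i := fun i => by simp [b]
  have hψ : ∀ x, Q x = Q₀ (b.equivFun x) := fun x => by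
    conv_lhs => rw [← b.sum_equivFun x]
    rw [hQ₀, Fintype.sum_sum_type, Fintype.sum_sum_type]
    simp only [hb, Sum.elim_inl, Sum.elim_inr]
    exact hyp_value Q hh _ _ (Submodule.sum_mem _ fun k _ => U.smul_mem _ (hg k))
  exact to_isometry (resAct.comp (Cfsg.GU m K q).subtype) (resAct_injective.comp Subtype.val_injective) b.equivFun Q₀
    fun g x => by rw [← hψ, ← hψ]; exact hinv g x

omit hK hF in
theorem reindex_isometry {ι κ : Type} [Fintype ι] [DecidableEq ι] [Fintype κ] [DecidableEq κ] (σ : κ ≃ ι)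
    (Q₀ : (ι → F) → F) (Q₁ : (κ → F) → F) (h : ∀ x, Q₁ (x ∘ σ) = Q₀ x) :
    ∃ φ : ↥(Cfsg.isometryGroup F Q₀) →* ↥(Cfsg.isometryGroup F Q₁), Function.Injective φ := by
  refine to_isometry (W := ι → F) (resAct.comp (Cfsg.isometryGroup F Q₀).subtype)
    (resAct_injective.comp Subtype.val_injective) (LinearEquiv.funCongrLeft F F σ) Q₁ fun g x => ?_
  show Q₁ ((resAct (F := F) (g : GL ι F) x) ∘ σ) = Q₁ (x ∘ σ)
  rw [h, h, resAct_apply]
  exact g.2 x x

theorem exists_c : ∃ c : K, c * c ^ q = -1 := by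
  haveI := CfsgLib.Lie.Herm.conj_surjective hK
  obtain ⟨c, hc⟩ := CfsgLib.Lie.OrthBasis.exists_norm (CfsgLib.Lie.Herm.conj hK) (CfsgLib.Lie.Herm.conj_ne_id hK)
    (CfsgLib.Lie.Herm.conj_conj hK) (-1) (neg_ne_zero.2 one_ne_zero) (by rw [map_neg, map_one])
  exact ⟨c, hc⟩

/-- the standard singular subspace on 2k coordinates -/
theorem singular_sub {κ : Type} [Fintype κ] {k : ℕ} (σ : (Fin k ⊕ Fin k) ⊕ κ ≃ Fin m) (Q : QuadraticForm F (Fin m → K))
    (hQ : ∀ x, algebraMap F K (Q x) = Cfsg.hermForm m K q x x) :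
    ∃ S : Submodule F (Fin m → K), finrank F S = k * 2 ∧ (∀ s ∈ S, Q s = 0) ∧ ∀ s ∈ S, ∀ j, s (σ (Sum.inr j)) = 0 := by
  obtain ⟨c, hc⟩ := exists_c hK hF
  let j : (Fin k → K) →ₗ[F] (Fin m → K) :=
    { toFun := fun z i => Sum.elim (Sum.elim z (fun l => c * z l)) (fun _ => 0) (σ.symm i)
      map_add' := fun z z' => funext fun i => by
        simp only [Pi.add_apply]
        rcases σ.symm i with (l | l) | l <;> simp [mul_add]
      map_smul' := fun r z => funext fun i => by
        simp only [Pi.smul_apply, RingHom.id_apply]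
        rcases σ.symm i with (l | l) | l <;> simp }
  have hj : Function.Injective j := fun z z' e => funext fun l => by
    have := congrFun e (σ (Sum.inl (Sum.inl l)))
    simpa [j] using this
  refine ⟨LinearMap.range j, ?_, ?_, ?_⟩
  · rw [LinearMap.finrank_range_of_inj hj, finrank_fun hK hF]; simp
  · rintro _ ⟨z, rfl⟩
    refine (algebraMap F K).injective ?_
    rw [hQ, map_zero, Cfsg.hermForm, ← σ.sum_comp, Fintype.sum_sum_type, Fintype.sum_sum_type, ← Finset.sum_add_distrib]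
    rw [Finset.sum_eq_zero, Finset.sum_eq_zero, add_zero]
    · intro l _; simp [j]
    · intro l _
      simp only [j, LinearMap.coe_mk, AddHom.coe_mk, Equiv.symm_apply_apply, Sum.elim_inl, Sum.elim_inr, mul_pow]
      linear_combination (z l * z l ^ q) * hc
  · rintro _ ⟨z, rfl⟩ l; simp [j]

open CfsgLib.MiscWittNormal in
theorem gu_plus (hm : Even m) :
    ∃ φ : ↥(Cfsg.GU m K q) →* ↥(Cfsg.isometryGroup F (Cfsg.quadFormPlus m F)), Function.Injective φ := by
  obtain ⟨k, rfl⟩ := hm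
  obtain ⟨Q, hQ, hnd, hinv⟩ := gu_orth_setup (m := k + k) hK hF
  obtain ⟨S, hdS, hQS, -⟩ := singular_sub hK hF ((Equiv.sumEmpty (Fin k ⊕ Fin k) (Fin 0)).trans finSumFinEquiv) Q hQ
  have hdim : finrank F (Fin (k + k) → K) = (k + k) * 2 := by rw [finrank_fun hK hF, Fintype.card_fin]
  obtain ⟨e, f, -, hyp⟩ := plus_of_singular Q (k + k) ⊤ S (top_nondeg Q hnd) (by rw [finrank_top, hdim]; ring) le_top
    (by omega) hQS
  obtain ⟨φ, hφ⟩ := gu_orth (ι := Fin 0) Q hyp (g := Fin.elim0) (fun i => i.elim0) linearIndependent_empty_type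
    (by simp; omega) hdim (fun x => ∑ i, x (Sum.inl (Sum.inl i)) * x (Sum.inl (Sum.inr i)))
    (fun x => by simp) hinv
  obtain ⟨ψ, hψ⟩ := reindex_isometry (F := F) (Equiv.sumEmpty (Fin (k + k) ⊕ Fin (k + k)) (Fin 0)).symm
    (fun x : (Fin (k + k) ⊕ Fin (k + k)) ⊕ Fin 0 → F => ∑ i, x (Sum.inl (Sum.inl i)) * x (Sum.inl (Sum.inr i)))
    (Cfsg.quadFormPlus (k + k) F) (fun x => rfl)
  exact ⟨ψ.comp φ, hψ.comp hφ⟩

theorem exists_omega (a b : F) (hab : ∀ z₁ z₂ : F, z₁ ^ 2 + a * z₁ * z₂ + b * z₂ ^ 2 = 0 → z₁ = 0 ∧ z₂ = 0) :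
    ∃ ω : K, ω + ω ^ q = algebraMap F K a ∧ ω * ω ^ q = algebraMap F K b ∧ ω ^ q ≠ ω := by
  classical
  have hroot : ∀ t : F, t ^ 2 - a * t + b ≠ 0 := fun t ht =>
    one_ne_zero (hab (-t) 1 (by linear_combination ht)).2
  let g : Polynomial F := Polynomial.X ^ 2 - Polynomial.C a * Polynomial.X + Polynomial.C b
  have hdeg : g.natDegree = 2 := by simp only [g]; compute_degree!
  have hirr : Irreducible g := by
    refine (Polynomial.irreducible_iff_roots_eq_zero_of_degree_le_three (by omega) (by omega)).2 ?_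
    refine Multiset.eq_zero_of_forall_notMem fun t ht => hroot t ?_
    have := (Polynomial.mem_roots'.1 ht).2
    simpa [g] using this
  haveI := Fact.mk hirr
  have hg0 : g ≠ 0 := hirr.ne_zero
  obtain ⟨φ⟩ := FiniteField.nonempty_algHom_of_finrank_dvd (F := F) (K := AdjoinRoot g) (L := K) (by
    rw [finrank_two hK hF, (AdjoinRoot.powerBasis hg0).finrank, AdjoinRoot.powerBasis_dim, hdeg])
  set ω := φ (AdjoinRoot.root g)
  have hω : ω ^ 2 - algebraMap F K a * ω + algebraMap F K b = 0 := by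
    have h := congrArg φ (AdjoinRoot.eval₂_root g)
    rw [map_zero] at h
    simpa [g, ω, ← AdjoinRoot.algebraMap_eq] using h
  have hne : ω ^ q ≠ ω := fun h => by
    obtain ⟨c, hc⟩ := fixed_mem hF h
    refine hroot c ((algebraMap F K).injective ?_)
    rw [map_zero, map_add, map_sub, map_pow, map_mul, hc, hω]
  have hω' : (ω ^ q) ^ 2 - algebraMap F K a * ω ^ q + algebraMap F K b = 0 := by
    have := congrArg (CfsgLib.Lie.Herm.conj hK) hω
    simpa [map_add, map_sub, map_mul, map_pow, algebraMap_pow hF, mul_pow, ← pow_mul, mul_comm, zero_pow (show q ≠ 0 by have := CfsgLib.Lie.Herm.two_le hK; omega)] using this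
  have hsum : ω + ω ^ q = algebraMap F K a := by
    have : (ω ^ q - ω) * (ω + ω ^ q - algebraMap F K a) = 0 := by linear_combination hω' - hω
    exact sub_eq_zero.1 ((mul_eq_zero.1 this).resolve_left (sub_ne_zero.2 hne))
  exact ⟨ω, hsum, by linear_combination ω * hsum - hω, hne⟩

open CfsgLib.MiscWittNormal in
theorem gu_minus (hm : Odd m) (a b : F) (hab : ∀ z₁ z₂ : F, z₁ ^ 2 + a * z₁ * z₂ + b * z₂ ^ 2 = 0 → z₁ = 0 ∧ z₂ = 0) :
    ∃ φ : ↥(Cfsg.GU m K q) →* ↥(Cfsg.isometryGroup F (Cfsg.quadFormMinus (m - 1) F a b)), Function.Injective φ := by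
  classical
  obtain ⟨k, rfl⟩ := hm
  obtain ⟨Q, hQ, hnd, hinv⟩ := gu_orth_setup (m := 2 * k + 1) hK hF
  obtain ⟨ω, hω1, hω2, hω3⟩ := exists_omega hK hF a b hab
  have hdim : finrank F (Fin (2 * k + 1) → K) = (2 * k + 1) * 2 := by rw [finrank_fun hK hF, Fintype.card_fin]
  let σ : (Fin k ⊕ Fin k) ⊕ Fin 1 ≃ Fin (2 * k + 1) :=
    ((finSumFinEquiv.sumCongr (Equiv.refl _)).trans finSumFinEquiv).trans (finCongr (by omega))
  obtain ⟨S, hdS, hQS, hS0⟩ := singular_sub hK hF σ Q hQ
  let l := σ (Sum.inr 0)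
  let U : Submodule F (Fin (2 * k + 1) → K) := LinearMap.ker (LinearMap.proj (R := F) (φ := fun _ => K) l)
  have hU : ∀ x, x ∈ U ↔ x l = 0 := fun x => Iff.rfl
  have hh0 : ∀ (z : K) (x : Fin (2 * k + 1) → K), x l = 0 →
      Cfsg.hermForm (2 * k + 1) K q (z • Pi.single l 1) x = 0 ∧ Cfsg.hermForm (2 * k + 1) K q x (z • Pi.single l 1) = 0 := by
    intro z x hx
    have h1 : Cfsg.hermForm (2 * k + 1) K q x (Pi.single l 1) = 0 := by rw [CfsgLib.Lie.Herm.form_single hK, hx]
    refine ⟨?_, by rw [CfsgLib.Lie.Herm.form_smul_right, h1, mul_zero]⟩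
    rw [CfsgLib.Lie.Herm.form_smul_left, ← CfsgLib.Lie.Herm.form_comm hK x, h1,
      zero_pow (by have := CfsgLib.Lie.Herm.two_le hK; omega), mul_zero]
  have horth : ∀ (z : K) (x : Fin (2 * k + 1) → K), x l = 0 → QuadraticMap.polar ⇑Q (z • Pi.single l 1) x = 0 := by
    intro z x hx
    refine (algebraMap F K).injective ?_
    rw [QuadraticMap.polar, map_zero, map_sub, map_sub, hQ, hQ, hQ, CfsgLib.Lie.Herm.form_add_left,
      CfsgLib.Lie.Herm.form_add_right hK, CfsgLib.Lie.Herm.form_add_right hK, (hh0 z x hx).1, (hh0 z x hx).2]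
    ring
  have hsplit : ∀ x : Fin (2 * k + 1) → K, x - x l • Pi.single l 1 ∈ U := fun x => by rw [hU]; simp
  have hUnd : NondegOn Q U := fun x hx hb => hnd.1 x fun y => by
    rw [QuadraticMap.polarBilin_apply_apply, ← sub_add_cancel y (y l • Pi.single l 1), padd_right, hb _ (hsplit y),
      QuadraticMap.polar_comm, horth (y l) x hx, add_zero]
  have hUdim : finrank F U = 2 * (2 * k) := by
    have h := LinearMap.finrank_range_add_finrank_ker (LinearMap.proj (R := F) (φ := fun _ : Fin (2 * k + 1) => K) l)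
    rw [LinearMap.range_eq_top.2 (fun c => ⟨Pi.single l c, by simp⟩), finrank_top, finrank_two hK hF, hdim] at h
    change 2 + finrank F U = _ at h
    omega
  have hSU : S ≤ U := fun s hs => (hU s).2 (hS0 s hs 0)
  obtain ⟨e, f, hef, hyp⟩ := plus_of_singular Q (2 * k) U S hUnd hUdim hSU (by omega) hQS
  let x₀ : Fin (2 * k + 1) → K := Pi.single l 1
  let g : Fin 2 → (Fin (2 * k + 1) → K) := ![(1 : K) • x₀, ω • x₀]
  let P : Submodule F (Fin (2 * k + 1) → K) := Submodule.span F (Set.range g)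
  have hyp' : Hyp Q e f P := by
    obtain ⟨h1, h2, h3, -⟩ := hyp
    refine ⟨h1, h2, h3, fun i w hw => ?_⟩
    have : ∀ z : Fin (2 * k + 1) → K, z l = 0 → P ≤ LinearMap.ker (QuadraticMap.polarBilin Q z) := fun z hz => by
      rw [Submodule.span_le]
      rintro _ ⟨j, rfl⟩
      show QuadraticMap.polar ⇑Q z (g j) = 0
      rw [QuadraticMap.polar_comm]
      fin_cases j <;> exact horth _ z hz
    exact ⟨this _ (hef i).1 hw, this _ (hef i).2 hw⟩
  have hgi : LinearIndependent F g := by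
    rw [LinearIndependent.pair_iff]
    intro r s h
    have h' := congrFun h l
    simp [x₀, Algebra.smul_def] at h'
    by_cases hs : s = 0
    · subst hs
      exact ⟨(algebraMap F K).injective (by simpa using h'), rfl⟩
    · exfalso
      apply hω3
      have : ω = algebraMap F K (-r / s) := by
        rw [map_div₀, map_neg, eq_div_iff ((map_ne_zero_iff _ (algebraMap F K).injective).2 hs)]
        linear_combination h'
      rw [this]
      exact algebraMap_pow hF _
  have hval : ∀ x, Cfsg.quadFormMinus (2 * k) F a b x =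
      ∑ i, x (Sum.inl (Sum.inl i)) * x (Sum.inl (Sum.inr i)) + Q (∑ j, x (Sum.inr j) • g j) := by
    intro x
    rw [Cfsg.quadFormMinus]
    congr 1
    refine (algebraMap F K).injective ?_
    set z₀ := x (Sum.inr 0)
    set z₁ := x (Sum.inr 1)
    have hv : ∑ j, x (Sum.inr j) • g j = (algebraMap F K z₀ + algebraMap F K z₁ * ω) • x₀ := by
      rw [Fin.sum_univ_two, add_smul, mul_smul]
      simp [g, z₀, z₁, algebraMap_smul]
    rw [hQ, hv, CfsgLib.Lie.Herm.form_smul_left, CfsgLib.Lie.Herm.form_smul_right, CfsgLib.Lie.Herm.add_pow_q hK,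
      mul_pow, algebraMap_pow hF, algebraMap_pow hF, CfsgLib.Lie.Herm.form_single hK]
    simp only [x₀, Pi.single_eq_same, map_add, map_mul, map_pow]
    linear_combination (-(algebraMap F K z₀ * algebraMap F K z₁)) * hω1 - (algebraMap F K z₁ * algebraMap F K z₁) * hω2
  obtain ⟨φ, hφ⟩ := gu_orth (ι := Fin 2) Q hyp' (g := g) (fun j => Submodule.subset_span ⟨j, rfl⟩) hgi
    (by simp; ring) hdim (Cfsg.quadFormMinus (2 * k) F a b) hval hinv
  rw [show 2 * k + 1 - 1 = 2 * k from rfl]
  exact ⟨φ, hφ⟩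

end GU

/-! ### final statements -/

end CfsgLib.MiscTraceEmbeds

namespace CfsgLib.MiscTraceEmbeds

variable {K F : Type*} [Field K] [Fintype K] [Field F] [Fintype F] {q : ℕ}
  (hK : Fintype.card K = q ^ 2) (hF : Fintype.card F = q)

include hK hF

theorem sp_embed (a : ℕ) :
    ∃ φ : ↥(Matrix.symplecticGroup (Fin a) K) →* ↥(Matrix.symplecticGroup (Fin (2 * a)) F), Function.Injective φ := by
  obtain ⟨i⟩ := exists_embedding hK hF
  letI := i.toAlgebra
  exact sp_embed_aux hK hF a

theorem gu_sp (m : ℕ) : ∃ φ : ↥(Cfsg.GU m K q) →* ↥(Matrix.symplecticGroup (Fin m) F), Function.Injective φ := by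
  obtain ⟨i⟩ := exists_embedding hK hF
  letI := i.toAlgebra
  exact gu_sp_aux hK hF

theorem gu_orth_plus (m : ℕ) (hm : Even m) :
    ∃ φ : ↥(Cfsg.GU m K q) →* ↥(Cfsg.isometryGroup F (Cfsg.quadFormPlus m F)), Function.Injective φ := by
  obtain ⟨i⟩ := exists_embedding hK hF
  letI := i.toAlgebra
  exact gu_plus hK hF hm

theorem gu_orth_minus (m : ℕ) (hm : Odd m) (a b : F)
    (hab : ∀ z₁ z₂ : F, z₁ ^ 2 + a * z₁ * z₂ + b * z₂ ^ 2 = 0 → z₁ = 0 ∧ z₂ = 0) :
    ∃ φ : ↥(Cfsg.GU m K q) →* ↥(Cfsg.isometryGroup F (Cfsg.quadFormMinus (m - 1) F a b)), Function.Injective φ := by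
  obtain ⟨i⟩ := exists_embedding hK hF
  letI := i.toAlgebra
  exact gu_minus hK hF hm a b hab

end CfsgLib.MiscTraceEmbeds
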