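import Mathlib
import Cfsg.Agent.Misc.TraceEmbeds

/-!
O^-_2m(q) ≤ O^+_2m(q²).
-/

set_option autoImplicit false
set_option linter.unusedSectionVars false

namespace CfsgLib.MiscMinusToPlus

open Module Matrix

/-- the minus form as a quadratic form -/
def minusQ (n : ℕ) (F : Type*) [Field F] (a b : F) : QuadraticForm F ((Fin n ⊕ Fin n) ⊕ Fin 2 → F) :=
  LinearMap.BilinMap.toQuadraticMap (LinearMap.mk₂ F
    (fun u v => (∑ i : Fin n, u (.inl (.inl i)) * v (.inl (.inr i))) + (u (.inr 0) * v (.inr 0) + a * u (.inr 0) * v (.inr 1) + b * (u (.inr 1) * v (.inr 1))))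
    (fun x x' y => by simp [add_mul, mul_add, Finset.sum_add_distrib]; ring)
    (fun c x y => by simp only [Pi.smul_apply, smul_eq_mul, mul_assoc, ← Finset.mul_sum]; ring)
    (fun x y y' => by simp [mul_add, Finset.sum_add_distrib]; ring)
    (fun c x y => by
      simp only [Pi.smul_apply, smul_eq_mul]
      rw [Finset.sum_congr rfl (fun i _ => mul_left_comm (x (.inl (.inl i))) c (y (.inl (.inr i)))), ← Finset.mul_sum]
      ring))

theorem minusQ_apply (n : ℕ) {F : Type*} [Field F] (a b : F) (v : (Fin n ⊕ Fin n) ⊕ Fin 2 → F) :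
    minusQ n F a b v = Cfsg.quadFormMinus n F a b v := by
  simp [minusQ, Cfsg.quadFormMinus]
  ring

theorem zero_of_basis {R W κ : Type*} [Field R] [AddCommGroup W] [Module R W] [Fintype κ] (D : QuadraticForm R W)
    (e : Basis κ R W) (h1 : ∀ i, D (e i) = 0) (h2 : ∀ i j, QuadraticMap.polar ⇑D (e i) (e j) = 0) (x : W) : D x = 0 := by
  classical
  rw [← e.sum_repr x]
  generalize (e.repr x : κ → R) = c
  induction (Finset.univ : Finset κ) using Finset.induction_on with
  | empty => simp
  | insert i s hi ih =>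
    rw [Finset.sum_insert hi, QuadraticMap.map_add ⇑D, ih, QuadraticMap.map_smul, h1, smul_zero, zero_add, zero_add,
      QuadraticMap.polar_smul_left]
    show c i • QuadraticMap.polarBilin D (e i) (∑ j ∈ s, c j • e j) = 0
    simp [map_sum, h2]

variable {F K : Type*} [Field F] [Fintype F] [Field K] [Fintype K] [Algebra F K] {q : ℕ}

theorem embed_aux (hF : Fintype.card F = q) (hK : Fintype.card K = q ^ 2) {n : ℕ} (a b : F)
    (hab : ∀ z₁ z₂ : F, z₁ ^ 2 + a * z₁ * z₂ + b * z₂ ^ 2 = 0 → z₁ = 0 ∧ z₂ = 0) :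
    ∃ φ : ↥(Cfsg.isometryGroup F (Cfsg.quadFormMinus n F a b)) →* ↥(Cfsg.isometryGroup K (Cfsg.quadFormPlus (n + 1) K)),
      Function.Injective φ := by
  classical
  set ι := (Fin n ⊕ Fin n) ⊕ Fin 2
  let i := algebraMap F K
  have hc : ∀ v : ι → F, Cfsg.quadFormMinus n K (i a) (i b) (i ∘ v) = i (Cfsg.quadFormMinus n F a b v) := fun v => by
    simp [Cfsg.quadFormMinus]
  let up : ↥(Cfsg.isometryGroup F (Cfsg.quadFormMinus n F a b)) →* GL ι K :=
    (GeneralLinearGroup.map (n := ι) i).comp (Subgroup.subtype _)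
  have hup : ∀ g, up g ∈ Cfsg.isometryGroup K (Cfsg.quadFormMinus n K (i a) (i b)) := by
    intro g u w
    set A := ((g : GL ι F) : Matrix ι ι F)
    have hA : ∀ v : ι → F, ((A.map i).mulVec (i ∘ v)) = i ∘ (A.mulVec v) := fun v => funext fun k =>
      (RingHom.map_mulVec i A v k).symm
    show Cfsg.quadFormMinus n K (i a) (i b) ((A.map i).mulVec u) = Cfsg.quadFormMinus n K (i a) (i b) u
    rw [← minusQ_apply, ← minusQ_apply, ← sub_eq_zero]
    let D := (minusQ n K (i a) (i b)).comp (Matrix.toLin' (A.map i)) - minusQ n K (i a) (i b)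
    have hD0 : ∀ v : ι → F, D (i ∘ v) = 0 := fun v => by
      show minusQ n K (i a) (i b) ((A.map i).mulVec (i ∘ v)) - minusQ n K (i a) (i b) (i ∘ v) = 0
      rw [hA, minusQ_apply, minusQ_apply, hc, hc, sub_eq_zero]
      exact congrArg i (g.2 v v)
    have hs : ∀ k, (Pi.basisFun K ι) k = i ∘ (Pi.single k (1 : F)) := fun k => by
      funext l; simp [Pi.single_apply, apply_ite i]
    refine zero_of_basis D (Pi.basisFun K ι) (fun k => by rw [hs]; exact hD0 _) (fun k l => ?_) u
    rw [QuadraticMap.polar, hs, hs,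
      show (i ∘ Pi.single k (1 : F) + i ∘ Pi.single l (1 : F) : ι → K) = i ∘ (Pi.single k (1 : F) + Pi.single l (1 : F)) by
        funext z; simp, hD0, hD0, hD0, sub_zero, sub_zero]
  obtain ⟨ω, h1, h2, h3⟩ := CfsgLib.MiscTraceEmbeds.exists_omega (K := K) hK hF a b hab
  let p : (ι → K) →ₗ[K] (Fin (n + 1) ⊕ Fin (n + 1) → K) :=
    { toFun := fun x => Sum.elim (fun j => if h : j.val < n then x (.inl (.inl ⟨j, h⟩)) else x (.inr 0) + ω * x (.inr 1))
        (fun j => if h : j.val < n then x (.inl (.inr ⟨j, h⟩)) else x (.inr 0) + ω ^ q * x (.inr 1))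
      map_add' := fun x y => funext fun j => by
        rcases j with j | j <;> simp only [Sum.elim_inl, Sum.elim_inr, Pi.add_apply] <;> split_ifs <;> ring
      map_smul' := fun c x => funext fun j => by
        rcases j with j | j <;> simp only [Sum.elim_inl, Sum.elim_inr, Pi.smul_apply, RingHom.id_apply, smul_eq_mul] <;>
          split_ifs <;> ring }
  have hp : Function.Bijective p := by
    have hinj : Function.Injective p := by
      refine (injective_iff_map_eq_zero _).2 fun x hx => funext fun k => ?_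
      have e0 := congrFun hx (Sum.inl (Fin.last n))
      have e1 := congrFun hx (Sum.inr (Fin.last n))
      simp [p] at e0 e1
      have hz : x (.inr 1) = 0 := by
        have : (ω ^ q - ω) * x (.inr 1) = 0 := by linear_combination e1 - e0
        exact (mul_eq_zero.1 this).resolve_left (sub_ne_zero.2 h3)
      rcases k with (j | j) | j
      · simpa [p] using congrFun hx (Sum.inl j.castSucc)
      · simpa [p] using congrFun hx (Sum.inr j.castSucc)
      · fin_cases j
        · simpa [hz] using e0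
        · exact hz
    exact ⟨hinj, (LinearMap.injective_iff_surjective_of_finrank_eq_finrank (by
      simp [ι]; ring)).1 hinj⟩
  have hval : ∀ x, Cfsg.quadFormPlus (n + 1) K (p x) = Cfsg.quadFormMinus n K (i a) (i b) x := by
    intro x
    rw [Cfsg.quadFormPlus, Fin.sum_univ_castSucc, Cfsg.quadFormMinus]
    simp [p]
    linear_combination (x (.inr 0) * x (.inr 1)) * h1 + (x (.inr 1)) ^ 2 * h2
  obtain ⟨φ, hφ⟩ := CfsgLib.MiscTraceEmbeds.to_isometry (F := K)
    ((CfsgLib.MiscTraceEmbeds.resAct (F := K)).comp up)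
    (CfsgLib.MiscTraceEmbeds.resAct_injective.comp fun g h e => Subtype.ext (Units.ext (Matrix.map_injective i.injective
      (congrArg Units.val e))))
    (LinearEquiv.ofBijective p hp) (Cfsg.quadFormPlus (n + 1) K) fun g x => by
      show Cfsg.quadFormPlus (n + 1) K (p _) = Cfsg.quadFormPlus (n + 1) K (p x)
      rw [hval, hval]
      exact hup g x x
  exact ⟨φ, hφ⟩

theorem embed {F K : Type*} [Field F] [Fintype F] [Field K] [Fintype K] {q : ℕ} (hF : Fintype.card F = q)
    (hK : Fintype.card K = q ^ 2) {m : ℕ} (hm : 1 ≤ m) (a c : F)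
    (hac : ∀ z₁ z₂ : F, z₁ ^ 2 + a * z₁ * z₂ + c * z₂ ^ 2 = 0 → z₁ = 0 ∧ z₂ = 0) :
    ∃ φ : ↥(Cfsg.isometryGroup F (Cfsg.quadFormMinus (m - 1) F a c)) →* ↥(Cfsg.isometryGroup K (Cfsg.quadFormPlus m K)),
      Function.Injective φ := by
  obtain ⟨i⟩ := CfsgLib.MiscTraceEmbeds.exists_embedding hK hF
  letI := i.toAlgebra
  obtain ⟨n, rfl⟩ : ∃ n, m = n + 1 := ⟨m - 1, by omega⟩
  exact embed_aux hF hK a c hac

end CfsgLib.MiscMinusToPlus
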