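import Cfsg.Agent.Misc.Linear

/-!
The number of nilpotent endomorphisms and of unipotent elements of GL_n over a finite field.
-/

set_option autoImplicit false
set_option linter.unusedSectionVars false

namespace CfsgLib.Misc.NilpotentCount

open Module Matrix

variable {F : Type*} [Field F] [Fintype F]

/-- The number of nilpotent matrices. -/
noncomputable def nilCard (F : Type*) [Field F] (n : ℕ) : ℕ :=
  Nat.card {M : Matrix (Fin n) (Fin n) F // IsNilpotent M}

theorem card_nil_End {V : Type*} [AddCommGroup V] [Module F V] [Finite V] {n : ℕ} (hn : finrank F V = n) :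
    Nat.card {T : Module.End F V // IsNilpotent T} = nilCard F n := by
  haveI := Module.Finite.of_finite (R := F) (M := V)
  let e := LinearMap.toMatrixAlgEquiv (Module.finBasisOfFinrankEq F V hn)
  exact Nat.card_congr (e.toEquiv.subtypeEquiv fun T => (IsNilpotent.map_iff (f := e) e.injective).symm)

/-- `T` shifts the tuple `w` and kills its last entry. -/
def Shifts {V : Type*} [AddCommGroup V] [Module F V] {d : ℕ} (T : Module.End F V) (w : Fin d → V) : Prop :=
  ∀ i : Fin d, T (w i) = if h : (i : ℕ) + 1 < d then w ⟨i + 1, h⟩ else 0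

/-- The shift matrix. -/
def shiftMat (F : Type*) [Field F] (d : ℕ) : Matrix (Fin d) (Fin d) F :=
  Matrix.of fun k i => if (k : ℕ) = i + 1 then 1 else 0

theorem shiftMat_nil (d : ℕ) : IsNilpotent (shiftMat F d) := by
  refine ⟨d, ?_⟩
  have : ∀ k : ℕ, ∀ i j : Fin d, (i : ℕ) < j + k → (shiftMat F d ^ k) i j = 0 := by
    intro k
    induction k with
    | zero =>
      intro i j h
      rw [pow_zero, Matrix.one_apply_ne]
      rintro rfl
      omega
    | succ k ih =>
      intro i j h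
      rw [pow_succ, Matrix.mul_apply]
      refine Finset.sum_eq_zero fun l _ => ?_
      by_cases hl : (l : ℕ) = j + 1
      · rw [ih i l (by omega), zero_mul]
      · simp [shiftMat, hl]
  exact Matrix.ext fun i j => this d i j (by omega)

theorem blocks_pow {m₁ m₂ : Type*} [Fintype m₁] [Fintype m₂] [DecidableEq m₁] [DecidableEq m₂]
    (A : Matrix m₁ m₁ F) (B : Matrix m₁ m₂ F) (C : Matrix m₂ m₂ F) (k : ℕ) :
    ∃ X, fromBlocks A B 0 C ^ k = fromBlocks (A ^ k) X 0 (C ^ k) := by
  induction k with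
  | zero => exact ⟨0, by rw [pow_zero, pow_zero, pow_zero, fromBlocks_one]⟩
  | succ k ih =>
    obtain ⟨X, hX⟩ := ih
    refine ⟨A ^ k * B + X * C, ?_⟩
    rw [pow_succ, hX, fromBlocks_multiply]
    simp [pow_succ]

theorem blocks_nil {m₁ m₂ : Type*} [Fintype m₁] [Fintype m₂] [DecidableEq m₁] [DecidableEq m₂]
    {A : Matrix m₁ m₁ F} {B : Matrix m₁ m₂ F} {C : Matrix m₂ m₂ F} :
    IsNilpotent (fromBlocks A B 0 C) ↔ IsNilpotent A ∧ IsNilpotent C := by
  constructor
  · rintro ⟨k, hk⟩
    obtain ⟨X, hX⟩ := blocks_pow A B C k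
    rw [hX, ← fromBlocks_zero, fromBlocks_inj] at hk
    exact ⟨⟨k, hk.1⟩, ⟨k, hk.2.2.2⟩⟩
  · rintro ⟨⟨a, ha⟩, ⟨c, hc⟩⟩
    obtain ⟨X, hX⟩ := blocks_pow A B C a
    obtain ⟨Y, hY⟩ := blocks_pow A B C c
    refine ⟨a + c, ?_⟩
    rw [pow_add, hX, hY, ha, hc, fromBlocks_multiply]
    simp

theorem card_fibre {V : Type*} [AddCommGroup V] [Module F V] [Finite V] {n d e : ℕ} (hn : finrank F V = n)
    (hde : d + e = n) {w : Fin d → V} (hw : LinearIndependent F w) :
    Nat.card {T : Module.End F V // IsNilpotent T ∧ Shifts T w} =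
      Fintype.card F ^ (d * e) * nilCard F e := by
  classical
  haveI := Module.Finite.of_finite (R := F) (M := V)
  let b₀ := Basis.sumExtend hw
  haveI : Finite (Fin d ⊕ Basis.sumExtendIndex hw) := Module.Finite.finite_basis b₀
  haveI : Finite (Basis.sumExtendIndex hw) := Finite.sum_right (Fin d)
  haveI := Fintype.ofFinite (Basis.sumExtendIndex hw)
  have hc : Fintype.card (Basis.sumExtendIndex hw) = e := by
    have := Module.finrank_eq_card_basis b₀
    rw [hn, Fintype.card_sum, Fintype.card_fin] at this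
    omega
  let b := b₀.reindex (Equiv.sumCongr (Equiv.refl _) (Fintype.equivFinOfCardEq hc))
  have hb : ∀ i, b (Sum.inl i) = w i := fun i => by
    simp [b, b₀, Basis.sumExtend]
    rfl
  let E := LinearMap.toMatrixAlgEquiv b
  let P : Matrix (Fin d ⊕ Fin e) (Fin d ⊕ Fin e) F → Prop := fun M =>
    IsNilpotent M ∧ M.toBlocks₁₁ = shiftMat F d ∧ M.toBlocks₂₁ = 0
  have h1 : ∀ T, (IsNilpotent T ∧ Shifts T w) ↔ P (E T) := by
    intro T
    refine and_congr (IsNilpotent.map_iff (f := E) E.injective).symm ?_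
    have key : ∀ i : Fin d, (T (w i) = if h : (i : ℕ) + 1 < d then w ⟨i + 1, h⟩ else 0) ↔
        ((∀ k, E T (Sum.inl k) (Sum.inl i) = shiftMat F d k i) ∧ ∀ k, E T (Sum.inr k) (Sum.inl i) = 0) := by
      intro i
      have hET : ∀ r, E T r (Sum.inl i) = b.repr (T (w i)) r := fun r => by
        simp [E, LinearMap.toMatrixAlgEquiv_apply, hb]
      simp only [hET]
      have hrepr : ∀ r, b.repr (if h : (i : ℕ) + 1 < d then w ⟨i + 1, h⟩ else 0) r =
          Sum.elim (fun k => shiftMat F d k i) (fun _ => 0) r := by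
        intro r
        by_cases h : (i : ℕ) + 1 < d
        · rw [dif_pos h, ← hb]
          rcases r with r | r <;> simp [shiftMat, Finsupp.single_apply, Fin.ext_iff, eq_comm]
        · rw [dif_neg h]
          rcases r with r | r
          · have hr : (r : ℕ) ≠ i + 1 := by omega
            simp [shiftMat, hr]
          · simp
      constructor
      · intro h
        exact ⟨fun k => by rw [h, hrepr]; rfl, fun k => by rw [h, hrepr]; rfl⟩
      · rintro ⟨h, h'⟩
        refine b.repr.injective (Finsupp.ext fun r => ?_)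
        rw [hrepr]
        rcases r with r | r
        · exact h r
        · exact h' r
    constructor
    · intro h
      exact ⟨Matrix.ext fun k i => ((key i).1 (h i)).1 k, Matrix.ext fun k i => ((key i).1 (h i)).2 k⟩
    · rintro ⟨h, h'⟩ i
      exact (key i).2 ⟨fun k => congrFun (congrFun h k) i, fun k => congrFun (congrFun h' k) i⟩
  let e2 : {M : Matrix (Fin d ⊕ Fin e) (Fin d ⊕ Fin e) F // P M} ≃
      Matrix (Fin d) (Fin e) F × {C : Matrix (Fin e) (Fin e) F // IsNilpotent C} :=
    { toFun := fun M => (M.1.toBlocks₁₂, ⟨M.1.toBlocks₂₂, by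
        have := M.2.1
        rw [← fromBlocks_toBlocks M.1, M.2.2.2] at this
        exact (blocks_nil.1 this).2⟩)
      invFun := fun q => ⟨fromBlocks (shiftMat F d) q.1 0 q.2.1,
        blocks_nil.2 ⟨shiftMat_nil d, q.2.2⟩, toBlocks_fromBlocks₁₁ _ _ _ _, toBlocks_fromBlocks₂₁ _ _ _ _⟩
      left_inv := fun M => Subtype.ext (by
        dsimp only
        conv_rhs => rw [← fromBlocks_toBlocks M.1, M.2.2.1, M.2.2.2])
      right_inv := fun q => by simp }
  rw [Nat.card_congr ((E.toEquiv.subtypeEquiv h1).trans e2), Nat.card_prod, nilCard]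
  congr 1
  rw [Nat.card_eq_fintype_card]
  show Fintype.card (Fin d → Fin e → F) = _
  rw [Fintype.card_fun, Fintype.card_fun, Fintype.card_fin, Fintype.card_fin, ← pow_mul, mul_comm e d]

theorem indep_iterate {V : Type*} [AddCommGroup V] [Module F V] (T : Module.End F V) (v : V) {d : ℕ}
    (h0 : (T ^ d) v = 0) (h1 : ∀ j < d, (T ^ j) v ≠ 0) :
    LinearIndependent F fun i : Fin d => (T ^ (i : ℕ)) v := by
  rw [Fintype.linearIndependent_iff]
  intro c hc i
  induction i using WellFoundedLT.induction with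
  | _ i ih =>
    have h := congrArg (⇑(T ^ (d - 1 - (i : ℕ)))) hc
    rw [map_sum, map_zero] at h
    simp only [map_smul, ← Module.End.mul_apply, ← pow_add] at h
    rw [Finset.sum_eq_single i] at h
    · exact (smul_eq_zero.1 h).resolve_right (h1 _ (by omega))
    · intro j _ hj
      rcases lt_or_gt_of_ne hj with hlt | hgt
      · rw [ih j hlt, zero_smul]
      · have : (T ^ (d - 1 - (i : ℕ) + j)) v = 0 := by
          have hg : (i : ℕ) < j := hgt
          rw [show d - 1 - (i : ℕ) + j = (d - 1 - (i : ℕ) + j - d) + d by omega, pow_add,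
            Module.End.mul_apply, h0, map_zero]
        rw [this, smul_zero]
    · simp

theorem pair_count {V : Type*} [AddCommGroup V] [Module F V] [Finite V] {n : ℕ} (hn : finrank F V = n) :
    nilCard F n * (Fintype.card F ^ n - 1) = ∑ d : Fin n,
      (∏ i : Fin (d + 1), (Fintype.card F ^ n - Fintype.card F ^ (i : ℕ))) *
        (Fintype.card F ^ ((d + 1) * (n - (d + 1))) * nilCard F (n - (d + 1))) := by
  classical
  haveI := Fintype.ofFinite V
  haveI := Module.Finite.of_finite (R := F) (M := V)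
  have hV : Nat.card {v : V // v ≠ 0} = Fintype.card F ^ n - 1 := by
    rw [Nat.card_eq_fintype_card, Fintype.card_subtype_compl, Fintype.card_subtype_eq,
      Module.card_eq_pow_finrank (K := F), hn]
  rw [← card_nil_End hn, ← hV, ← Nat.card_prod]
  let S := Σ d : Fin n, Σ w : {w : Fin ((d : ℕ) + 1) → V // LinearIndependent F w},
    {T : Module.End F V // IsNilpotent T ∧ Shifts T w.1}
  let Φ : S → {T : Module.End F V // IsNilpotent T} × {v : V // v ≠ 0} := fun s =>
    (⟨s.2.2.1, s.2.2.2.1⟩, ⟨s.2.1.1 0, s.2.1.2.ne_zero 0⟩)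
  have hit : ∀ s : S, ∀ (k : ℕ) (hk : k < (s.1 : ℕ) + 1),
      (s.2.2.1 ^ k) (s.2.1.1 0) = s.2.1.1 ⟨k, hk⟩ := by
    intro s k
    induction k with
    | zero => intro _; rfl
    | succ k ih =>
      intro hk
      rw [pow_succ', Module.End.mul_apply, ih (by omega), s.2.2.2.2 ⟨k, _⟩, dif_pos hk]
  have hend : ∀ s : S, (s.2.2.1 ^ ((s.1 : ℕ) + 1)) (s.2.1.1 0) = 0 := by
    intro s
    rw [pow_succ', Module.End.mul_apply, hit s _ (Nat.lt_succ_self _), s.2.2.2.2 ⟨_, _⟩,
      dif_neg (by simp)]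
  have hΦ : Function.Bijective Φ := by
    constructor
    · intro s t hst
      have hT : s.2.2.1 = t.2.2.1 := congrArg (fun p => (p.1 : Module.End F V)) hst
      have hv : s.2.1.1 0 = t.2.1.1 0 := congrArg (fun p => (p.2 : V)) hst
      have hlt : ∀ a c : S, a.2.2.1 = c.2.2.1 → a.2.1.1 0 = c.2.1.1 0 → ¬ (a.1 : ℕ) < c.1 := by
        intro a c hT hv hlt
        refine c.2.1.2.ne_zero ⟨(a.1 : ℕ) + 1, by omega⟩ ?_
        rw [← hit c ((a.1 : ℕ) + 1) (by omega), ← hT, ← hv, hend a]
      have hd : s.1 = t.1 := Fin.ext (le_antisymm (not_lt.1 (hlt t s hT.symm hv.symm))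
        (not_lt.1 (hlt s t hT hv)))
      obtain ⟨d, w, T⟩ := s
      obtain ⟨d', w', T'⟩ := t
      dsimp only at hd hT hv
      subst hd
      have hw : w = w' := by
        refine Subtype.ext (funext fun i => ?_)
        have e1 : (T.1 ^ (i : ℕ)) (w.1 0) = w.1 i := hit ⟨d, w, T⟩ i i.2
        have e2 : (T'.1 ^ (i : ℕ)) (w'.1 0) = w'.1 i := hit ⟨d, w', T'⟩ i i.2
        rw [← e1, ← e2, hT, hv]
      subst hw
      rw [Subtype.ext hT]
    · rintro ⟨⟨T, hT⟩, ⟨v, hv⟩⟩
      obtain ⟨k, hk⟩ := hT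
      have hex : ∃ d, (T ^ d) v = 0 := ⟨k, by rw [hk]; rfl⟩
      obtain ⟨d, h0, h1⟩ : ∃ d, (T ^ d) v = 0 ∧ ∀ j < d, (T ^ j) v ≠ 0 :=
        ⟨Nat.find hex, Nat.find_spec hex, fun j hj => Nat.find_min hex hj⟩
      obtain ⟨e, rfl⟩ : ∃ e, d = e + 1 := Nat.exists_eq_succ_of_ne_zero (by rintro rfl; exact hv h0)
      have hli := indep_iterate T v h0 h1
      have hen : e < n := by
        have := hli.fintype_card_le_finrank
        simp [hn] at this
        omega
      refine ⟨⟨⟨e, hen⟩, ⟨fun i => (T ^ (i : ℕ)) v, hli⟩, ⟨T, ⟨k, hk⟩, fun i => ?_⟩⟩, ?_⟩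
      · have hi : (i : ℕ) < e + 1 := i.isLt
        dsimp only
        by_cases h : (i : ℕ) + 1 < e + 1
        · rw [dif_pos h, pow_succ', Module.End.mul_apply]
        · rw [dif_neg h, ← Module.End.mul_apply, ← pow_succ', show (i : ℕ) + 1 = e + 1 by omega, h0]
      · exact Prod.ext rfl (Subtype.ext rfl)
  rw [← Nat.card_eq_of_bijective Φ hΦ]
  haveI : Finite (Module.End F V) := Finite.of_injective _ DFunLike.coe_injective
  simp only [S, Nat.card_sigma]
  refine Finset.sum_congr rfl fun d _ => ?_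
  rw [Finset.sum_congr rfl fun w _ => card_fibre hn (d := (d : ℕ) + 1) (e := n - ((d : ℕ) + 1)) (by omega) w.2,
    Finset.sum_const, smul_eq_mul, Finset.card_univ, ← Nat.card_eq_fintype_card]
  congr 1
  subst hn
  exact card_linearIndependent (by omega)

theorem telescope (q : ℤ) (n : ℕ) : ∀ m, m < n →
    ∑ d ∈ Finset.range m, (∏ i ∈ Finset.range (d + 1), (q ^ n - q ^ i)) * q ^ ((n - (d + 1)) * (n - 1)) =
      (q ^ n - 1) * q ^ (n * (n - 1)) -
        (∏ i ∈ Finset.range (m + 1), (q ^ n - q ^ i)) * q ^ ((n - (m + 1)) * n)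
  | 0, h => by
    simp only [Finset.range_zero, Finset.sum_empty, zero_add, Finset.prod_range_one, pow_zero]
    rw [show (n - 1) * n = n * (n - 1) from Nat.mul_comm _ _, sub_self]
  | m + 1, h => by
    obtain ⟨r, rfl⟩ : ∃ r, n = m + 2 + r := ⟨n - (m + 2), by omega⟩
    rw [Finset.sum_range_succ, telescope q (m + 2 + r) m (by omega),
      Finset.prod_range_succ _ (m + 1)]
    generalize ∏ i ∈ Finset.range (m + 1), (q ^ (m + 2 + r) - q ^ i) = P
    rw [show m + 2 + r - (m + 1) = r + 1 by omega, show m + 2 + r - 1 = m + 1 + r by omega,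
      show m + 2 + r - (m + 1 + 1) = r by omega]
    ring

theorem nilCard_eq : ∀ n, nilCard F n = Fintype.card F ^ (n * (n - 1)) := by
  intro n
  induction n using Nat.strong_induction_on with
  | _ n ih =>
    rcases Nat.eq_zero_or_pos n with rfl | hn
    · rw [nilCard, zero_mul, pow_zero, Nat.card_eq_one_iff_exists]
      exact ⟨⟨0, IsNilpotent.zero⟩, fun M => Subsingleton.elim _ _⟩
    have h := pair_count (F := F) (V := Fin n → F) (n := n) (Module.finrank_fin_fun F)
    have hq : 1 < Fintype.card F := Fintype.one_lt_card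
    have hrw : ∀ d : Fin n, Fintype.card F ^ ((d + 1) * (n - (d + 1))) * nilCard F (n - (d + 1)) =
        Fintype.card F ^ ((n - (d + 1)) * (n - 1)) := by
      intro d
      rw [ih _ (by omega), ← pow_add]
      congr 1
      obtain ⟨r, hr⟩ : ∃ r, n = (d : ℕ) + 1 + r := ⟨n - (d + 1), by omega⟩
      rw [show n - ((d : ℕ) + 1) = r by omega, show n - 1 = (d : ℕ) + r by omega]
      rcases r with _ | r
      · simp
      · rw [show r + 1 - 1 = r by omega]; ring
    simp only [hrw] at h
    have hZ := congrArg (Nat.cast : ℕ → ℤ) h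
    push_cast [Nat.cast_sub (Nat.one_le_pow n _ (by omega : 0 < Fintype.card F))] at hZ
    have hp : ∀ d : Fin n, ((∏ i : Fin ((d : ℕ) + 1), (Fintype.card F ^ n - Fintype.card F ^ (i : ℕ)) : ℕ) : ℤ) =
        ∏ i ∈ Finset.range ((d : ℕ) + 1), ((Fintype.card F : ℤ) ^ n - (Fintype.card F : ℤ) ^ i) := by
      intro d
      rw [← Fin.prod_univ_eq_prod_range (fun i => (Fintype.card F : ℤ) ^ n - (Fintype.card F : ℤ) ^ i),
        Nat.cast_prod]
      refine Finset.prod_congr rfl fun i _ => ?_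
      rw [Nat.cast_sub (Nat.pow_le_pow_right (by omega) (by omega))]
      push_cast
      rfl
    simp only [← Nat.cast_prod, hp] at hZ
    rw [Fin.sum_univ_eq_sum_range (fun d => (∏ i ∈ Finset.range (d + 1),
      ((Fintype.card F : ℤ) ^ n - (Fintype.card F : ℤ) ^ i)) *
      (Fintype.card F : ℤ) ^ ((n - (d + 1)) * (n - 1))) n] at hZ
    obtain ⟨m, rfl⟩ : ∃ m, n = m + 1 := ⟨n - 1, by omega⟩
    rw [Finset.sum_range_succ, telescope _ (m + 1) m (by omega), Nat.sub_self, Nat.zero_mul, Nat.zero_mul,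
      sub_add_cancel, mul_comm] at hZ
    have hne : (Fintype.card F : ℤ) ^ (m + 1) - 1 ≠ 0 := by
      have : (1 : ℤ) < (Fintype.card F : ℤ) ^ (m + 1) := one_lt_pow₀ (by exact_mod_cast hq) (by omega)
      omega
    exact_mod_cast mul_left_cancel₀ hne hZ

theorem card_unipotent (p : ℕ) [Fact p.Prime] [CharP F p] (n : ℕ) :
    Nat.card {g : GL (Fin n) F // ∃ k : ℕ, orderOf g = p ^ k} = Fintype.card F ^ (n * (n - 1)) := by
  rcases Nat.eq_zero_or_pos n with rfl | hn
  · rw [zero_mul, pow_zero, Nat.card_eq_one_iff_exists]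
    exact ⟨⟨1, 0, by simp⟩, fun g => Subtype.ext (Subsingleton.elim _ _)⟩
  haveI : NeZero n := ⟨hn.ne'⟩
  rw [← nilCard_eq]
  refine Nat.card_congr
    { toFun := fun g => ⟨((g.1 : GL (Fin n) F) : Matrix (Fin n) (Fin n) F) - 1, ?_⟩
      invFun := fun N => ⟨(IsNilpotent.isUnit_one_add N.2).unit, ?_⟩
      left_inv := fun g => Subtype.ext (Units.ext (by simp))
      right_inv := fun N => Subtype.ext (by simp) }
  · obtain ⟨k, hk⟩ := g.2
    refine ⟨p ^ k, ?_⟩
    rw [MiscLin.sub_one_pow, sub_eq_zero, ← Units.val_pow_eq_pow_val, ← hk, pow_orderOf_eq_one, Units.val_one]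
  · obtain ⟨j, hj⟩ := N.2
    have : (IsNilpotent.isUnit_one_add N.2).unit ^ p ^ j = 1 := by
      refine Units.ext ?_
      rw [Units.val_pow_eq_pow_val, IsUnit.unit_spec, Units.val_one, ← sub_eq_zero, ← MiscLin.sub_one_pow,
        add_sub_cancel_left]
      exact pow_eq_zero_of_le (Nat.lt_pow_self (Fact.out : p.Prime).one_lt).le hj
    obtain ⟨i, -, hi⟩ := (Nat.dvd_prime_pow (Fact.out : p.Prime)).1 (orderOf_dvd_of_pow_eq_one this)
    exact ⟨i, hi⟩

end CfsgLib.Misc.NilpotentCount
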