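import Mathlib
import Cfsg.Agent.Lie.Orders

/-! Sylow 2-subgroups of PGL(2,q), q+1 a power of two, always meet. -/

set_option autoImplicit false

namespace CfsgLib.Misc.PGLMersenne

open scoped Pointwise

variable {q k : ℕ} [Fact q.Prime]

local notation "M2" => Matrix (Fin 2) (Fin 2) (ZMod q)

variable (q) in
def Zm : GL (Fin 2) (ZMod q) where
  val := !![0, -1; 1, 0]
  inv := !![0, 1; -1, 0]
  val_inv := by simp [Matrix.one_fin_two]
  inv_val := by simp [Matrix.one_fin_two]

theorem q_mod (hk : q + 1 = 2 ^ k) (hq : 7 ≤ q) : q % 4 = 3 := by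
  obtain ⟨j, rfl⟩ : ∃ j, k = j + 2 := ⟨k - 2, by
    rcases k with _ | _ | k <;> simp at hk ⊢ <;> omega⟩
  rw [pow_add] at hk
  omega

theorem no_sqrt (hk : q + 1 = 2 ^ k) (hq : 7 ≤ q) (a b : ZMod q) (h : a * a + b * b = 0) : a = 0 ∧ b = 0 := by
  by_cases hb : b = 0
  · subst hb; simpa using h
  · exfalso
    have : (a / b) ^ 2 = (-1 : ZMod q) := by field_simp; linear_combination h
    exact ZMod.mod_four_ne_three_of_sq_eq_neg_one this (q_mod hk hq)

theorem scalar_of_central {g : GL (Fin 2) (ZMod q)} (h : g ∈ Subgroup.center (GL (Fin 2) (ZMod q))) :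
    ∃ c : ZMod q, c ≠ 0 ∧ (g : M2) = c • 1 := by
  rw [Matrix.GeneralLinearGroup.center_eq_range_scalar] at h
  obtain ⟨u, rfl⟩ := h
  exact ⟨u, u.ne_zero, by ext i j; fin_cases i <;> fin_cases j <;> simp⟩

theorem central_of_scalar {g : GL (Fin 2) (ZMod q)} (c : ZMod q) (h : (g : M2) = c • 1) :
    g ∈ Subgroup.center (GL (Fin 2) (ZMod q)) :=
  Subgroup.mem_center_iff.2 fun y => Units.ext (by simp [h])

/-- two lifts commute modulo the centre iff they commute up to a scalar -/
theorem commute_iff (g h : GL (Fin 2) (ZMod q)) :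
    (QuotientGroup.mk g : GL (Fin 2) (ZMod q) ⧸ Subgroup.center (GL (Fin 2) (ZMod q))) * QuotientGroup.mk h =
      QuotientGroup.mk h * QuotientGroup.mk g ↔ ∃ c : ZMod q, c ≠ 0 ∧ (g : M2) * h = c • ((h : M2) * g) := by
  rw [← QuotientGroup.mk_mul, ← QuotientGroup.mk_mul, eq_comm, QuotientGroup.eq]
  constructor
  · intro hm
    obtain ⟨c, hc, e⟩ := scalar_of_central hm
    refine ⟨c, hc, ?_⟩
    have : g * h = (h * g) * ((h * g)⁻¹ * (g * h)) := by group
    rw [← Units.val_mul, this, Units.val_mul, e, Units.val_mul]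
    simp
  · rintro ⟨c, hc, e⟩
    refine central_of_scalar c ?_
    rw [Units.val_mul, Units.val_mul, e, mul_smul_comm, ← Units.val_mul, ← Units.val_mul, inv_mul_cancel]
    rfl

set_option maxHeartbeats 1000000 in
theorem lift_C (hk : q + 1 = 2 ^ k) (hq : 7 ≤ q) :
    Nat.card ((Subgroup.centralizer ({QuotientGroup.mk (Zm q)} : Set (GL (Fin 2) (ZMod q) ⧸ Subgroup.center (GL (Fin 2) (ZMod q))))).comap
      (QuotientGroup.mk' (Subgroup.center (GL (Fin 2) (ZMod q))))) = 2 * (q ^ 2 - 1) := by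
  classical
  have hmem : ∀ g : GL (Fin 2) (ZMod q), g ∈ (Subgroup.centralizer ({QuotientGroup.mk (Zm q)} : Set (GL (Fin 2) (ZMod q) ⧸ Subgroup.center (GL (Fin 2) (ZMod q))))).comap
      (QuotientGroup.mk' (Subgroup.center (GL (Fin 2) (ZMod q)))) ↔ ∃ c : ZMod q, c ≠ 0 ∧ (g : M2) * Zm q = c • ((Zm q : M2) * g) := by
    intro g
    rw [Subgroup.mem_comap, Subgroup.mem_centralizer_singleton_iff, ← commute_iff]
    rfl
  let mat : Bool × {p : ZMod q × ZMod q // p ≠ 0} → M2 := fun x =>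
    cond x.1 !![x.2.1.1, -x.2.1.2; x.2.1.2, x.2.1.1] !![x.2.1.1, x.2.1.2; x.2.1.2, -x.2.1.1]
  have hdet : ∀ x, (mat x).det ≠ 0 := by
    rintro ⟨b, ⟨⟨u, v⟩, huv⟩⟩ h
    refine huv ?_
    have : u * u + v * v = 0 := by
      cases b <;> simp [mat, Matrix.det_fin_two] at h
      · linear_combination -h
      · linear_combination h
    obtain ⟨rfl, rfl⟩ := no_sqrt hk hq u v this
    rfl
  let f : Bool × {p : ZMod q × ZMod q // p ≠ 0} → ((Subgroup.centralizer ({QuotientGroup.mk (Zm q)} : Set (GL (Fin 2) (ZMod q) ⧸ Subgroup.center (GL (Fin 2) (ZMod q))))).comap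
      (QuotientGroup.mk' (Subgroup.center (GL (Fin 2) (ZMod q))))) := fun x =>
    ⟨Matrix.GeneralLinearGroup.mkOfDetNeZero (mat x) (hdet x), (hmem _).2 ⟨cond x.1 1 (-1), by cases x.1 <;> simp, by
      show mat x * !![0, -1; 1, 0] = _ • (!![0, -1; 1, 0] * mat x)
      rcases x with ⟨b, u⟩
      ext i j
      cases b <;> fin_cases i <;> fin_cases j <;> simp [mat]⟩⟩
  have h2 : (2 : ZMod q) ≠ 0 := fun h => by
    have := (ZMod.natCast_eq_zero_iff 2 q).1 (by exact_mod_cast h)
    have := Nat.le_of_dvd two_pos this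
    omega
  have hf : Function.Bijective f := by
    constructor
    · rintro ⟨b, ⟨⟨u, v⟩, huv⟩⟩ ⟨b', ⟨⟨u', v'⟩, huv'⟩⟩ e
      have e' : mat (b, ⟨(u, v), huv⟩) = mat (b', ⟨(u', v'), huv'⟩) := congrArg (fun z => ((Subtype.val z : GL (Fin 2) (ZMod q)) : M2)) e
      have h00 := congrFun (congrFun e' 0) 0
      have h10 := congrFun (congrFun e' 1) 0
      have h01 := congrFun (congrFun e' 0) 1
      have h11 := congrFun (congrFun e' 1) 1
      cases b <;> cases b' <;> simp [mat] at h00 h10 h01 h11 <;> subst h00 h10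
      · rfl
      · refine absurd ?_ huv
        have hu : u = 0 := (mul_eq_zero.1 (show (2 : ZMod q) * u = 0 by linear_combination -h11)).resolve_left h2
        have hv : v = 0 := (mul_eq_zero.1 (show (2 : ZMod q) * v = 0 by linear_combination h01)).resolve_left h2
        rw [hu, hv]; rfl
      · refine absurd ?_ huv
        have hu : u = 0 := (mul_eq_zero.1 (show (2 : ZMod q) * u = 0 by linear_combination h11)).resolve_left h2
        have hv : v = 0 := (mul_eq_zero.1 (show (2 : ZMod q) * v = 0 by linear_combination -h01)).resolve_left h2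
        rw [hu, hv]; rfl
      · rfl
    · rintro ⟨g, hg⟩
      obtain ⟨c, hc, e⟩ := (hmem g).1 hg
      change (g : M2) * !![0, -1; 1, 0] = c • (!![0, -1; 1, 0] * (g : M2)) at e
      have e00 := congrFun (congrFun e 0) 0
      have e01 := congrFun (congrFun e 0) 1
      have e10 := congrFun (congrFun e 1) 0
      have e11 := congrFun (congrFun e 1) 1
      simp [Matrix.mul_apply, Fin.sum_univ_two, Matrix.vecMul, dotProduct] at e00 e01 e10 e11
      have hne : (g : M2) 0 0 ≠ 0 ∨ (g : M2) 1 0 ≠ 0 := by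
        by_contra hcon
        simp only [not_or, not_not] at hcon
        have := g.det.ne_zero
        simp [Matrix.det_fin_two, hcon.1, hcon.2] at this
      have hc2 : c * c = 1 := by
        rcases hne with h | h
        · exact mul_right_cancel₀ h (by linear_combination (exp := 1) (-c) * e10 - e01)
        · exact mul_right_cancel₀ h (by linear_combination (exp := 1) c * e00 + e11)
      have hp : ((g : M2) 0 0, (g : M2) 1 0) ≠ 0 := by
        intro h
        rcases hne with h' | h'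
        · exact h' (congrArg Prod.fst h)
        · exact h' (congrArg Prod.snd h)
      rcases mul_self_eq_one_iff.1 hc2 with rfl | rfl
      · refine ⟨(true, ⟨_, hp⟩), Subtype.ext (Units.ext ?_)⟩
        show mat (true, ⟨_, hp⟩) = (g : M2)
        ext i j
        fin_cases i <;> fin_cases j <;> simp [mat]
        · linear_combination -e00
        · linear_combination -e10
      · refine ⟨(false, ⟨_, hp⟩), Subtype.ext (Units.ext ?_)⟩
        show mat (false, ⟨_, hp⟩) = (g : M2)
        ext i j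
        fin_cases i <;> fin_cases j <;> simp [mat]
        · linear_combination -e00
        · linear_combination -e10
  rw [← Nat.card_eq_of_bijective f hf, Nat.card_prod, Nat.card_eq_fintype_card, Fintype.card_bool,
    Nat.card_eq_fintype_card, Fintype.card_subtype_compl, Fintype.card_prod, ZMod.card]
  simp [pow_two]

theorem meet (hk : q + 1 = 2 ^ k) (hq : 7 ≤ q)
    (H : Sylow 2 (GL (Fin 2) (ZMod q) ⧸ Subgroup.center (GL (Fin 2) (ZMod q))))
    (x : GL (Fin 2) (ZMod q) ⧸ Subgroup.center (GL (Fin 2) (ZMod q))) :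
    (H : Subgroup (GL (Fin 2) (ZMod q) ⧸ Subgroup.center (GL (Fin 2) (ZMod q)))) ⊓ MulAut.conj x • (H : Subgroup _) ≠ ⊥ := by
  classical
  have hq4 := q_mod hk hq
  have hZ : Nat.card (Subgroup.center (GL (Fin 2) (ZMod q))) = q - 1 := by
    rw [CfsgLib.Lie.Orders.card_GL_center, Nat.card_zmod]
  have hcardC : Nat.card (Subgroup.centralizer ({QuotientGroup.mk (Zm q)} : Set (GL (Fin 2) (ZMod q) ⧸ Subgroup.center (GL (Fin 2) (ZMod q))))) = 2 * (q + 1) := by
    set C := Subgroup.centralizer ({QuotientGroup.mk (Zm q)} : Set (GL (Fin 2) (ZMod q) ⧸ Subgroup.center (GL (Fin 2) (ZMod q))))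
    set π := QuotientGroup.mk' (Subgroup.center (GL (Fin 2) (ZMod q)))
    have h := lift_C hk hq
    have h1 := (C.comap π).card_mul_index
    rw [h, Subgroup.index_comap_of_surjective _ (QuotientGroup.mk'_surjective _)] at h1
    have h2 := Subgroup.card_eq_card_quotient_mul_card_subgroup (Subgroup.center (GL (Fin 2) (ZMod q)))
    rw [← C.card_mul_index, hZ, ← h1] at h2
    have hi : C.index ≠ 0 := Subgroup.index_ne_zero_of_finite
    have h3 : 2 * (q ^ 2 - 1) = Nat.card C * (q - 1) :=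
      Nat.eq_of_mul_eq_mul_right (Nat.pos_of_ne_zero hi) (by rw [h2]; ring)
    have h4 : q ^ 2 - 1 = (q + 1) * (q - 1) := by
      rw [pow_two, ← Nat.mul_self_sub_mul_self_eq]
    rw [h4, ← mul_assoc] at h3
    exact (Nat.eq_of_mul_eq_mul_right (by omega) h3).symm
  have hGcard : (Nat.card (GL (Fin 2) (ZMod q) ⧸ Subgroup.center (GL (Fin 2) (ZMod q)))).factorization 2 = k + 1 := by
    have h2 := Subgroup.card_eq_card_quotient_mul_card_subgroup (Subgroup.center (GL (Fin 2) (ZMod q)))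
    rw [hZ, Matrix.card_GL_field, Fin.prod_univ_two, ZMod.card] at h2
    obtain ⟨s, hs⟩ : ∃ s, q = 4 * s + 3 := ⟨q / 4, by omega⟩
    have h3 : Nat.card (GL (Fin 2) (ZMod q) ⧸ Subgroup.center (GL (Fin 2) (ZMod q))) = 2 ^ (k + 1) * (q * (2 * s + 1)) := by
      have e1 : (q ^ 2 - q ^ (0 : ℕ)) = (q + 1) * (q - 1) := by rw [pow_zero, pow_two, ← Nat.mul_self_sub_mul_self_eq, one_mul]
      have e2 : q ^ 2 - q ^ (1 : ℕ) = q * (q - 1) := by rw [Nat.mul_sub, mul_one, pow_one, pow_two]
      simp only [Fin.val_zero, Fin.val_one] at h2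
      rw [e1, e2] at h2
      refine (Nat.eq_of_mul_eq_mul_right (by omega : 0 < q - 1) ?_).symm
      rw [← h2, hk, pow_succ, show q - 1 = 2 * (2 * s + 1) by omega]; ring
    rw [h3, Nat.factorization_mul (by positivity) (by positivity), Finsupp.add_apply, Nat.factorization_pow,
      Finsupp.smul_apply, Nat.Prime.factorization_self Nat.prime_two,
      Nat.factorization_eq_zero_of_not_dvd (fun h => by
        rcases (Nat.Prime.dvd_mul Nat.prime_two).1 h with h | h <;> omega)]
    simp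
  let H0 : Sylow 2 (GL (Fin 2) (ZMod q) ⧸ Subgroup.center (GL (Fin 2) (ZMod q))) :=
    Sylow.ofCard _ (show Nat.card (Subgroup.centralizer ({QuotientGroup.mk (Zm q)} : Set (GL (Fin 2) (ZMod q) ⧸ Subgroup.center (GL (Fin 2) (ZMod q))))) = _ by
      rw [hcardC, hGcard, hk]; ring)
  obtain ⟨g, hg⟩ := MulAction.exists_smul_eq (GL (Fin 2) (ZMod q) ⧸ Subgroup.center (GL (Fin 2) (ZMod q))) H0 H
  obtain ⟨a, rfl⟩ := QuotientGroup.mk_surjective g
  obtain ⟨b, rfl⟩ := QuotientGroup.mk_surjective x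
  -- every conjugate of H0 is a centralizer
  have hconj : ∀ (c u : GL (Fin 2) (ZMod q)) (w : ZMod q), w ≠ 0 →
      (u : M2) * (c * Zm q * c⁻¹ : GL (Fin 2) (ZMod q)) = w • (((c * Zm q * c⁻¹ : GL (Fin 2) (ZMod q)) : M2) * u) →
      (QuotientGroup.mk u : GL (Fin 2) (ZMod q) ⧸ Subgroup.center (GL (Fin 2) (ZMod q))) ∈
        MulAut.conj (QuotientGroup.mk c : GL (Fin 2) (ZMod q) ⧸ Subgroup.center (GL (Fin 2) (ZMod q))) •
          (H0 : Subgroup (GL (Fin 2) (ZMod q) ⧸ Subgroup.center (GL (Fin 2) (ZMod q)))) := by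
    intro c u w hw e
    have h := (commute_iff u (c * Zm q * c⁻¹)).2 ⟨w, hw, e⟩
    rw [QuotientGroup.mk_mul, QuotientGroup.mk_mul, QuotientGroup.mk_inv] at h
    rw [Subgroup.mem_pointwise_smul_iff_inv_smul_mem]
    refine Subgroup.mem_centralizer_singleton_iff.2 ?_
    simp only [MulAut.smul_def, map_inv, MulAut.conj_inv_apply]
    set gc : GL (Fin 2) (ZMod q) ⧸ Subgroup.center (GL (Fin 2) (ZMod q)) := QuotientGroup.mk c
    calc gc⁻¹ * QuotientGroup.mk u * gc * QuotientGroup.mk (Zm q)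
        = gc⁻¹ * (QuotientGroup.mk u * (gc * QuotientGroup.mk (Zm q) * gc⁻¹)) * gc := by group
      _ = gc⁻¹ * ((gc * QuotientGroup.mk (Zm q) * gc⁻¹) * QuotientGroup.mk u) * gc := by rw [h]
      _ = _ := by group
  have hH : (H : Subgroup (GL (Fin 2) (ZMod q) ⧸ Subgroup.center (GL (Fin 2) (ZMod q)))) =
      MulAut.conj (QuotientGroup.mk a : GL (Fin 2) (ZMod q) ⧸ Subgroup.center (GL (Fin 2) (ZMod q))) •
        (H0 : Subgroup (GL (Fin 2) (ZMod q) ⧸ Subgroup.center (GL (Fin 2) (ZMod q)))) := by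
    rw [← hg]; rfl
  set Z₁ : GL (Fin 2) (ZMod q) := a * Zm q * a⁻¹ with hZ1
  set Z₂ : GL (Fin 2) (ZMod q) := (b * a) * Zm q * (b * a)⁻¹ with hZ2
  have hsq : ∀ c : GL (Fin 2) (ZMod q), ((c * Zm q * c⁻¹ : GL (Fin 2) (ZMod q)) : M2) * (c * Zm q * c⁻¹ : GL (Fin 2) (ZMod q)) = (-1 : ZMod q) • 1 := by
    intro c
    have hz : (Zm q : M2) * Zm q = (-1 : ZMod q) • 1 := by
      show (!![0, -1; 1, 0] : M2) * !![0, -1; 1, 0] = _
      ext i j; fin_cases i <;> fin_cases j <;> simp
    rw [← Units.val_mul, show c * Zm q * c⁻¹ * (c * Zm q * c⁻¹) = c * (Zm q * Zm q) * c⁻¹ by group]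
    simp [hz]
  have hnoev : ∀ (v : Fin 2 → ZMod q) (c : GL (Fin 2) (ZMod q)) (l : ZMod q),
      ((c * Zm q * c⁻¹ : GL (Fin 2) (ZMod q)) : M2).mulVec v = l • v → v = 0 := by
    intro v c l h
    have h2 := congrArg (((c * Zm q * c⁻¹ : GL (Fin 2) (ZMod q)) : M2).mulVec) h
    rw [Matrix.mulVec_mulVec, hsq, Matrix.mulVec_smul, h, Matrix.smul_mulVec, Matrix.one_mulVec, smul_smul] at h2
    by_contra hv
    have h3 : l * l + 1 * 1 = 0 := by
      have := smul_left_injective (ZMod q) hv h2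
      linear_combination -this
    exact one_ne_zero (no_sqrt hk hq l 1 h3).2
  have main : ∃ (u : GL (Fin 2) (ZMod q)), (QuotientGroup.mk u : GL (Fin 2) (ZMod q) ⧸ Subgroup.center (GL (Fin 2) (ZMod q))) ≠ 1 ∧
      (∃ w : ZMod q, w ≠ 0 ∧ (u : M2) * Z₁ = w • ((Z₁ : M2) * u)) ∧ (∃ w : ZMod q, w ≠ 0 ∧ (u : M2) * Z₂ = w • ((Z₂ : M2) * u)) := by
    have hne1 : ∀ u : GL (Fin 2) (ZMod q), (∀ l : ZMod q, (u : M2) ≠ l • 1) →
        (QuotientGroup.mk u : GL (Fin 2) (ZMod q) ⧸ Subgroup.center (GL (Fin 2) (ZMod q))) ≠ 1 := by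
      intro u hu h
      obtain ⟨l, -, hl⟩ := scalar_of_central ((QuotientGroup.eq_one_iff _).1 h)
      exact hu l hl
    set W : M2 := (Z₁ : M2) * Z₂ - (Z₂ : M2) * Z₁ with hW
    have a1 : (Z₁ : M2) * W = -(W * Z₁) := by
      have := hsq a
      rw [← hZ1] at this
      rw [hW, mul_sub, sub_mul, ← mul_assoc, this, mul_assoc _ (Z₁ : M2) (Z₁ : M2), this, ← mul_assoc]
      simp [sub_eq_add_neg, add_comm]
    have a2 : (Z₂ : M2) * W = -(W * Z₂) := by
      have := hsq (b * a)
      rw [← hZ2] at this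
      rw [hW, mul_sub, sub_mul, ← mul_assoc, ← mul_assoc, this, mul_assoc _ (Z₂ : M2) (Z₂ : M2), this]
      simp [sub_eq_add_neg, add_comm]
    by_cases hW0 : W = 0
    · refine ⟨Z₁, hne1 _ fun l hl => ?_, ⟨1, one_ne_zero, by rw [one_smul]⟩, ⟨1, one_ne_zero, by rw [one_smul]; exact sub_eq_zero.1 hW0⟩⟩
      have := hnoev (Pi.single 0 1) a l (by rw [← hZ1, hl, Matrix.smul_mulVec, Matrix.one_mulVec])
      simpa using congrFun this 0
    · have hdet : W.det ≠ 0 := by
        intro h0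
        obtain ⟨v, hv, hWv⟩ := Matrix.exists_mulVec_eq_zero_iff.2 h0
        -- kernel of W is invariant
        have hinv : W.mulVec ((Z₁ : M2).mulVec v) = 0 := by
          have h := congrArg (fun A : M2 => A.mulVec v) a1
          simp only [Matrix.neg_mulVec, ← Matrix.mulVec_mulVec] at h
          rw [hWv, Matrix.mulVec_zero] at h
          exact neg_eq_zero.1 h.symm
        have hdim : Module.finrank (ZMod q) (LinearMap.ker W.toLin') ≤ 1 := by
          have h := LinearMap.finrank_range_add_finrank_ker W.toLin'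
          rw [Module.finrank_fintype_fun_eq_card, Fintype.card_fin] at h
          have hr : 1 ≤ Module.finrank (ZMod q) (LinearMap.range W.toLin') := by
            refine Submodule.one_le_finrank_iff.2 fun h => hW0 ?_
            have := LinearMap.range_eq_bot.1 h
            simpa using this
          omega
        obtain ⟨⟨t, ht⟩, hspan⟩ := finrank_le_one_iff.1 hdim
        obtain ⟨c1, h1⟩ := hspan ⟨v, by simpa [LinearMap.mem_ker] using hWv⟩
        obtain ⟨c2, h2⟩ := hspan ⟨(Z₁ : M2).mulVec v, LinearMap.mem_ker.2 ((Matrix.toLin'_apply _ _).trans hinv)⟩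
        have h1' : c1 • t = v := congrArg Subtype.val h1
        have h2' : c2 • t = (Z₁ : M2).mulVec v := congrArg Subtype.val h2
        have hc1 : c1 ≠ 0 := fun h => hv (by rw [← h1', h, zero_smul])
        exact hv (hnoev v a (c2 / c1) (by rw [← hZ1, ← h2', ← h1', smul_smul, div_mul_cancel₀ _ hc1]))
      refine ⟨Matrix.GeneralLinearGroup.mkOfDetNeZero W hdet, hne1 _ fun l hl => hW0 ?_,
        ⟨-1, by simp, ?_⟩, ⟨-1, by simp, ?_⟩⟩
      · have hl' : W = l • 1 := hl
        have htr : W.trace = 0 := by rw [hW, Matrix.trace_sub, Matrix.trace_mul_comm, sub_self]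
        rw [hl', Matrix.trace_smul, Matrix.trace_one, Fintype.card_fin, smul_eq_mul] at htr
        rcases mul_eq_zero.1 htr with h | h
        · rw [hl', h, zero_smul]
        · exfalso
          have := (ZMod.natCast_eq_zero_iff 2 q).1 h
          have := Nat.le_of_dvd two_pos this
          omega
      · show W * _ = _
        simp [a1]
      · show W * _ = _
        simp [a2]
  obtain ⟨u, hu1, ⟨w1, hw1, e1⟩, ⟨w2, hw2, e2⟩⟩ := main
  intro hbot
  refine hu1 (Subgroup.mem_bot.1 (hbot ▸ ⟨?_, ?_⟩))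
  · rw [hH]; exact hconj a u w1 hw1 e1
  · rw [hH, ← mul_smul, ← map_mul, ← QuotientGroup.mk_mul]; exact hconj (b * a) u w2 hw2 e2

end CfsgLib.Misc.PGLMersenne
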