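import Mathlib
import Cfsg.Agent.Lie.Orders
import Cfsg.Agent.Misc.Semisimple

/-!
Elements of order three in PSL_3(4); PSL_4(2) differs from PSL_3(4).
-/

set_option autoImplicit false
set_option linter.unusedSectionVars false

namespace CfsgLib.MiscPSLThreeFour

open Matrix CfsgLib.Lie.Orders
open scoped Pointwise

variable {F : Type*} [Field F] [Fintype F]

theorem cube_eq_one (hF : Fintype.card F = 4) {a : F} (ha : a ≠ 0) : a ^ 3 = 1 := by
  have := FiniteField.pow_card_sub_one_eq_one a ha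
  rwa [hF] at this

theorem relation (X : SpecialLinearGroup (Fin 3) F) :
    ∃ t s : F, (X : Matrix (Fin 3) (Fin 3) F) ^ 3 =
      t • (X : Matrix (Fin 3) (Fin 3) F) ^ 2 + s • (X : Matrix (Fin 3) (Fin 3) F) + 1 ∧
      (X : Matrix (Fin 3) (Fin 3) F).charpoly =
        Polynomial.X ^ 3 - Polynomial.C t * Polynomial.X ^ 2 - Polynomial.C s * Polynomial.X - 1 := by
  set M := (X : Matrix (Fin 3) (Fin 3) F)
  set χ := M.charpoly
  have hd : χ.natDegree = 3 := by rw [Matrix.charpoly_natDegree_eq_dim, Fintype.card_fin]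
  have h0 : χ.coeff 0 = -1 := by
    have h := Matrix.det_eq_sign_charpoly_coeff M
    rw [X.2, Fintype.card_fin] at h
    linear_combination h
  have h3 : χ.coeff 3 = 1 := hd ▸ (Matrix.charpoly_monic M).coeff_natDegree
  refine ⟨-χ.coeff 2, -χ.coeff 1, ?_, ?_⟩
  · have h := Matrix.aeval_self_charpoly M
    rw [Polynomial.aeval_eq_sum_range' (n := 4) (by show χ.natDegree < 4; omega)] at h
    simp [Finset.sum_range_succ, show M.charpoly.coeff 0 = -1 from h0, show M.charpoly.coeff 3 = 1 from h3] at h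
    rw [neg_smul, neg_smul]
    linear_combination (norm := abel) h
  · apply Polynomial.ext
    intro i
    rcases i with _ | _ | _ | _ | i
    · simpa using h0
    · simp [Polynomial.coeff_X_pow, Polynomial.coeff_C_mul, Polynomial.coeff_one]
    · simp [Polynomial.coeff_X_pow, Polynomial.coeff_C_mul, Polynomial.coeff_one, Polynomial.coeff_X]
    · simpa [Polynomial.coeff_X_pow, Polynomial.coeff_C_mul, Polynomial.coeff_one, Polynomial.coeff_X] using h3
    · rw [Polynomial.coeff_eq_zero_of_natDegree_lt (by omega)]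
      simp [Polynomial.coeff_X_pow, Polynomial.coeff_C_mul, Polynomial.coeff_one, Polynomial.coeff_X]

/-- a non-central element of SL_3(4) with central cube has cube one and characteristic polynomial X^3 - 1 -/
theorem cube (hF : Fintype.card F = 4) (X : SpecialLinearGroup (Fin 3) F) (c : F)
    (hc : (X : Matrix (Fin 3) (Fin 3) F) ^ 3 = c • 1) (hns : ¬ ∃ a : F, (X : Matrix (Fin 3) (Fin 3) F) = a • 1) :
    X ^ 3 = 1 ∧ (X : Matrix (Fin 3) (Fin 3) F).charpoly = Polynomial.X ^ 3 - 1 := by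
  obtain ⟨t, s, hrel, hχ⟩ := relation X
  set M := (X : Matrix (Fin 3) (Fin 3) F)
  have lin : ∀ u v : F, u • M = v • (1 : Matrix (Fin 3) (Fin 3) F) → u = 0 ∧ v = 0 := by
    intro u v h
    by_cases hu : u = 0
    · refine ⟨hu, ?_⟩
      have := congrFun (congrFun h 0) 0
      simpa [hu, eq_comm] using this
    · exact absurd ⟨u⁻¹ * v, by rw [← smul_smul, ← h, inv_smul_smul₀ hu]⟩ hns
  by_cases ht : t = 0
  · rw [hc, ht, zero_smul, zero_add] at hrel
    obtain ⟨hs, hc1⟩ := lin s (c - 1) (by rw [sub_smul, one_smul, hrel, add_sub_cancel_right])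
    refine ⟨Subtype.ext ?_, by rw [hχ, ht, hs]; simp⟩
    show M ^ 3 = 1
    rw [hc, sub_eq_zero.1 hc1, one_smul]
  · exfalso
    set a := t⁻¹ * (-s)
    set b := t⁻¹ * (c - 1)
    have hM2 : M ^ 2 = a • M + b • 1 := by
      have h : t • M ^ 2 = (-s) • M + (c - 1) • 1 := by
        rw [sub_smul, one_smul, ← hc, hrel, neg_smul]; abel
      rw [← inv_smul_smul₀ ht (M ^ 2), h, smul_add, smul_smul, smul_smul]
    have hM3 : M ^ 3 = (a * a + b) • M + (a * b) • 1 := by
      rw [pow_succ', hM2, mul_add, Matrix.mul_smul, Matrix.mul_smul, mul_one, ← sq, hM2]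
      module
    obtain ⟨h1, h2⟩ := lin (a * a + b) (c - a * b) (by
      rw [sub_smul, ← hc, hM3, add_sub_cancel_right])
    have hdet : c ^ 3 = 1 := by
      have := congrArg Matrix.det hc
      rw [Matrix.det_pow, X.2, one_pow, Matrix.det_smul, Matrix.det_one, mul_one, Fintype.card_fin] at this
      exact this.symm
    have ha : a ≠ 0 := by
      intro h0
      rw [h0, zero_mul, sub_zero] at h2
      rw [h2] at hdet
      simp at hdet
    have hchar : (2 : F) = 0 := by
      have := FiniteField.cast_card_eq_zero F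
      rw [hF] at this
      push_cast at this
      have h4 : (2 : F) * 2 = 0 := by linear_combination this
      rcases mul_eq_zero.1 h4 with h | h <;> exact h
    have hc1 : c = 1 := by
      rw [← cube_eq_one hF ha]
      linear_combination h2 + a * h1 - a ^ 3 * hchar
    have hb : b = 0 := by
      show t⁻¹ * (c - 1) = 0
      rw [hc1, sub_self, mul_zero]
    rw [hb, add_zero] at h1
    exact ha (mul_self_eq_zero.1 h1)

theorem lift (hF : Fintype.card F = 4) (x : ProjectiveSpecialLinearGroup (Fin 3) F) (h3 : x ^ 3 = 1) (h1 : x ≠ 1) :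
    ∃ X : SpecialLinearGroup (Fin 3) F, QuotientGroup.mk X = x ∧ X ^ 3 = 1 ∧
      (X : Matrix (Fin 3) (Fin 3) F).charpoly = Polynomial.X ^ 3 - 1 := by
  obtain ⟨X, rfl⟩ := QuotientGroup.mk_surjective x
  obtain ⟨c, -, hc⟩ := Matrix.SpecialLinearGroup.mem_center_iff.1 ((QuotientGroup.eq_one_iff (X ^ 3)).1 h3)
  have hns : ¬ ∃ a : F, (X : Matrix (Fin 3) (Fin 3) F) = a • 1 := by
    rintro ⟨a, ha⟩
    refine h1 ((QuotientGroup.eq_one_iff X).2 (Matrix.SpecialLinearGroup.mem_center_iff.2 ⟨a, ?_, ?_⟩))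
    · have := X.2
      rw [ha, Matrix.det_smul, Matrix.det_one, mul_one] at this
      exact this
    · rw [Matrix.scalar_apply, ← Matrix.smul_one_eq_diagonal, ha]
  obtain ⟨h, hχ⟩ := cube hF X c (by
    rw [Matrix.scalar_apply, ← Matrix.smul_one_eq_diagonal] at hc
    exact hc.symm) hns
  exact ⟨X, rfl, h, hχ⟩

theorem conj_three (hF : Fintype.card F = 4) (x y : ProjectiveSpecialLinearGroup (Fin 3) F) (hx : x ^ 3 = 1)
    (hx1 : x ≠ 1) (hy : y ^ 3 = 1) (hy1 : y ≠ 1) : IsConj x y := by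
  obtain ⟨X, rfl, hX, hXc⟩ := lift hF x hx hx1
  obtain ⟨Y, rfl, hY, hYc⟩ := lift hF y hy hy1
  haveI : CharP F 2 := charP_of_card_eq_prime_pow (f := 2) (by rw [hF]; norm_num)
  haveI : Fact (Nat.Prime 2) := ⟨Nat.prime_two⟩
  have hco : ∀ Z : SpecialLinearGroup (Fin 3) F, Z ^ 3 = 1 → (orderOf Z).Coprime 2 := fun Z h =>
    Nat.Coprime.coprime_dvd_left (orderOf_dvd_of_pow_eq_one h) (by norm_num)
  exact (QuotientGroup.mk' _).map_isConj (CfsgLib.MiscSemi.conj_SL X Y (hco X hX) (hco Y hY) (hXc.trans hYc.symm))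

theorem subgroups (hF : Fintype.card F = 4) (X Y : Subgroup (ProjectiveSpecialLinearGroup (Fin 3) F))
    (hX : Nat.card ↥X = 3) (hY : Nat.card ↥Y = 3) :
    ∃ g : ProjectiveSpecialLinearGroup (Fin 3) F, MulAut.conj g • X = Y := by
  haveI : Fact (Nat.Prime 3) := ⟨Nat.prime_three⟩
  have gen : ∀ Z : Subgroup (ProjectiveSpecialLinearGroup (Fin 3) F), Nat.card ↥Z = 3 →
      ∃ z, z ^ 3 = 1 ∧ z ≠ 1 ∧ Subgroup.zpowers z = Z := by
    intro Z hZ
    obtain ⟨z, hz⟩ := exists_prime_orderOf_dvd_card' 3 (by rw [hZ] : 3 ∣ Nat.card ↥Z)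
    refine ⟨z, ?_, ?_, Subgroup.eq_of_le_of_card_ge (Subgroup.zpowers_le.2 z.2) ?_⟩
    · rw [← Subgroup.coe_pow, show z ^ 3 = 1 from orderOf_dvd_iff_pow_eq_one.1 (by rw [hz]), Subgroup.coe_one]
    · intro h
      have : z = 1 := Subtype.ext h
      rw [this, orderOf_one] at hz
      omega
    · rw [hZ, Nat.card_zpowers, Subgroup.orderOf_coe, hz]
  obtain ⟨x, hx, hx1, rfl⟩ := gen X hX
  obtain ⟨y, hy, hy1, rfl⟩ := gen Y hY
  obtain ⟨g, rfl⟩ := isConj_iff.1 (conj_three hF x y hx hx1 hy hy1)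
  exact ⟨g, MonoidHom.map_zpowers _ _⟩

theorem no_six (hF : Fintype.card F = 4) (a x : ProjectiveSpecialLinearGroup (Fin 3) F) (ha : a ^ 2 = 1)
    (hx : x ^ 3 = 1) (hx1 : x ≠ 1) (hax : a * x = x * a) : a = 1 := by
  haveI : CharP F 2 := charP_of_card_eq_prime_pow (f := 2) (by rw [hF]; norm_num)
  haveI : Fact (Nat.Prime 2) := ⟨Nat.prime_two⟩
  obtain ⟨X, rfl, hX, hXc⟩ := lift hF x hx hx1
  obtain ⟨A₀, rfl⟩ := QuotientGroup.mk_surjective a
  have hZ3 : ∀ z ∈ Subgroup.center (SpecialLinearGroup (Fin 3) F), z ^ 3 = 1 := by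
    intro z hz
    have h := pow_card_eq_one' (x := (⟨z, hz⟩ : Subgroup.center (SpecialLinearGroup (Fin 3) F)))
    rw [card_center_SL, Fintype.card_fin, Nat.card_eq_fintype_card, hF] at h
    exact congrArg Subtype.val h
  -- replace the lift by one of square one
  have hA2 : A₀ ^ 2 ∈ Subgroup.center (SpecialLinearGroup (Fin 3) F) := (QuotientGroup.eq_one_iff _).1 ha
  set A := A₀ ^ 3 with hA
  have hAmk : (A : ProjectiveSpecialLinearGroup (Fin 3) F) = A₀ := by
    show (↑(A₀ ^ 3) : ProjectiveSpecialLinearGroup (Fin 3) F) = _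
    rw [QuotientGroup.mk_pow, pow_succ, ha, one_mul]
  have hAA : A ^ 2 = 1 := by rw [hA, ← pow_mul, show 3 * 2 = 2 * 3 from rfl, pow_mul, hZ3 _ hA2]
  rw [← hAmk] at hax ⊢
  set z := A * X * A⁻¹ * X⁻¹ with hz
  have hzc : z ∈ Subgroup.center (SpecialLinearGroup (Fin 3) F) := by
    rw [← QuotientGroup.eq_one_iff, hz]
    show (A : ProjectiveSpecialLinearGroup (Fin 3) F) * X * (A : ProjectiveSpecialLinearGroup (Fin 3) F)⁻¹ *
      (X : ProjectiveSpecialLinearGroup (Fin 3) F)⁻¹ = 1
    rw [hax]; group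
  have hAinv : A⁻¹ = A := by rw [inv_eq_iff_mul_eq_one, ← sq, hAA]
  have hAX : A * X = X * A := by
    have h1 : A * X * A = z * X := by rw [hz, hAinv]; group
    have h2 : X = z * (z * X) := by
      conv_lhs => rw [show X = (A * A) * X * (A * A) by rw [← sq, hAA, one_mul, mul_one]]
      rw [← h1, show A * A * X * (A * A) = A * (A * X * A) * A by group, h1,
        show A * (z * X) * A = z * (A * X * A) by rw [← mul_assoc, Subgroup.mem_center_iff.1 hzc A]; group, h1]
    have h3 : z * z = 1 := by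
      rw [← mul_assoc] at h2
      exact mul_right_cancel (b := X) (by rw [one_mul]; exact h2.symm)
    have h4 := hZ3 z hzc
    rw [pow_succ, sq, h3, one_mul] at h4
    rw [h4, one_mul] at h1
    calc A * X = A * X * (A * A) := by rw [← sq, hAA, mul_one]
      _ = A * X * A * A := by group
      _ = X * A := by rw [h1]
  -- diagonal form
  classical
  obtain ⟨w, -, hw⟩ := Finset.exists_mem_notMem_of_card_lt_card
    (s := ({0, 1} : Finset F)) (t := Finset.univ) (by
      rw [Finset.card_univ, hF]; exact (Finset.card_le_two).trans_lt (by norm_num))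
  simp only [Finset.mem_insert, Finset.mem_singleton, not_or] at hw
  have hw3 := cube_eq_one hF hw.1
  have hw2 : w ^ 2 ≠ 1 := fun h => hw.2 (by rw [pow_succ, h, one_mul] at hw3; exact hw3)
  have hne : w ≠ w ^ 2 := fun h => hw2 (by
    have : w * w = w * 1 := by rw [mul_one, ← sq]; exact h.symm
    rw [mul_left_cancel₀ hw.1 this]
    exact one_pow 2)
  let D : SpecialLinearGroup (Fin 3) F := ⟨Matrix.diagonal ![1, w, w ^ 2], by
    simp [Matrix.det_diagonal, Fin.prod_univ_three, ← pow_succ', hw3]⟩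
  have hD3 : D ^ 3 = 1 := Subtype.ext (by
    show (Matrix.diagonal ![1, w, w ^ 2]) ^ 3 = 1
    rw [Matrix.diagonal_pow, ← Matrix.diagonal_one]
    congr 1
    funext i
    fin_cases i <;> simp [hw3, ← pow_mul]
    rw [show w ^ 6 = (w ^ 3) ^ 2 by ring, hw3, one_pow])
  have hDns : ¬ ∃ a : F, (D : Matrix (Fin 3) (Fin 3) F) = a • 1 := by
    rintro ⟨b, hb⟩
    have h0 := congrFun (congrFun hb 0) 0
    have h1 := congrFun (congrFun hb 1) 1
    simp [D] at h0 h1
    exact hw.2 (h1.trans h0.symm)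
  obtain ⟨-, hDc⟩ := cube hF D 1 (by rw [one_smul]; exact congrArg Subtype.val hD3) hDns
  have hco : ∀ Z : SpecialLinearGroup (Fin 3) F, Z ^ 3 = 1 → (orderOf Z).Coprime 2 := fun Z h =>
    Nat.Coprime.coprime_dvd_left (orderOf_dvd_of_pow_eq_one h) (by norm_num)
  obtain ⟨g, hg⟩ := isConj_iff.1 (CfsgLib.MiscSemi.conj_SL X D (hco X hX) (hco D hD3) (hXc.trans hDc.symm))
  set B := g * A * g⁻¹ with hB
  have hBD : B * D = D * B := by
    rw [hB, ← hg, show g * A * g⁻¹ * (g * X * g⁻¹) = g * (A * X) * g⁻¹ by group, hAX]; group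
  have hB2 : B ^ 2 = 1 := by rw [hB, conj_pow, hAA, mul_one, mul_inv_cancel]
  have hoff : ∀ i j, i ≠ j → (B : Matrix (Fin 3) (Fin 3) F) i j = 0 := by
    intro i j hij
    have h : ((B : Matrix (Fin 3) (Fin 3) F) * Matrix.diagonal ![1, w, w ^ 2]) i j =
        (Matrix.diagonal ![1, w, w ^ 2] * (B : Matrix (Fin 3) (Fin 3) F)) i j :=
      congrFun (congrFun (congrArg Subtype.val hBD) i) j
    rw [Matrix.mul_diagonal, Matrix.diagonal_mul, mul_comm] at h
    by_contra hb
    have := mul_right_cancel₀ hb h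
    revert this hij
    fin_cases i <;> fin_cases j <;> simp [hw.2, Ne.symm hw.2, hw2, Ne.symm hw2, hne, hne.symm]
  have hB1 : B = 1 := by
    refine Subtype.ext (Matrix.ext fun i j => ?_)
    show (B : Matrix (Fin 3) (Fin 3) F) i j = (1 : Matrix (Fin 3) (Fin 3) F) i j
    rcases eq_or_ne i j with rfl | hij
    · have h : ((B : Matrix (Fin 3) (Fin 3) F) * (B : Matrix (Fin 3) (Fin 3) F)) i i = (1 : Matrix (Fin 3) (Fin 3) F) i i := by
        have := congrArg Subtype.val hB2
        rw [sq] at this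
        exact congrFun (congrFun this i) i
      rw [Matrix.mul_apply, Finset.sum_eq_single i (fun l _ hl => by rw [hoff i l hl.symm, zero_mul]) (by simp),
        Matrix.one_apply_eq] at h
      rw [Matrix.one_apply_eq]
      rcases mul_self_eq_one_iff.1 h with h | h
      · exact h
      · rw [h, CharTwo.neg_eq]
    · rw [hoff i j hij, Matrix.one_apply_ne hij]
  have : A = 1 := by
    rw [hB, mul_inv_eq_one, mul_eq_left] at hB1
    exact hB1
  rw [this]
  rfl

abbrev a₀ : Matrix.SpecialLinearGroup (Fin 4) (ZMod 2) := ⟨!![1, 0, 0, 0; 0, 1, 0, 0; 0, 0, 1, 1; 0, 0, 0, 1], by decide⟩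

abbrev b₀ : Matrix.SpecialLinearGroup (Fin 4) (ZMod 2) := ⟨!![0, 1, 0, 0; 1, 1, 0, 0; 0, 0, 1, 0; 0, 0, 0, 1], by decide⟩

theorem a₀_sq : a₀ * a₀ = 1 := by decide

theorem b₀_cube : b₀ * b₀ * b₀ = 1 := by decide

theorem a₀b₀ : a₀ * b₀ = b₀ * a₀ := by decide

theorem a₀_ne : a₀ ≠ 1 := by decide

theorem b₀_ne : b₀ ≠ 1 := by decide

theorem distinct {K : Type*} [Field K] [Fintype K] (hF : Fintype.card F = 2) (hK : Fintype.card K = 4) :
    Nat.card (ProjectiveSpecialLinearGroup (Fin 4) F) = Nat.card (ProjectiveSpecialLinearGroup (Fin 3) K) ∧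
      ¬ Nonempty (ProjectiveSpecialLinearGroup (Fin 4) F ≃* ProjectiveSpecialLinearGroup (Fin 3) K) := by
  constructor
  · have h1 := card_PSL_mul (F := F) (n := Fin 4)
    have h2 := card_PSL_mul (F := K) (n := Fin 3)
    have h3 := card_SL_mul (F := F) hF 4 (by norm_num)
    have h4 := card_SL_mul (F := K) hK 3 (by norm_num)
    simp [Fin.prod_univ_succ, Nat.card_eq_fintype_card (α := F), Nat.card_eq_fintype_card (α := K), hF, hK] at h1 h2 h3 h4
    omega
  · rintro ⟨e⟩
    haveI : Fact (Nat.Prime 2) := ⟨Nat.prime_two⟩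
    haveI : CharP F 2 := charP_of_card_eq_prime_pow (f := 1) (by rw [hF]; norm_num)
    let S := SpecialLinearGroup.map (n := Fin 4) (ZMod.castHom (dvd_refl 2) F)
    have hS : Function.Injective S := fun u v h => Subtype.ext (Matrix.map_injective
      (ZMod.castHom (dvd_refl 2) F).injective (congrArg Subtype.val h))
    let φ := e.toMonoidHom.comp ((QuotientGroup.mk' (Subgroup.center (SpecialLinearGroup (Fin 4) F))).comp S)
    have hφ : Function.Injective φ := by
      have hq : Function.Injective (QuotientGroup.mk' (Subgroup.center (SpecialLinearGroup (Fin 4) F))) := by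
        rw [← MonoidHom.ker_eq_bot_iff, QuotientGroup.ker_mk', ← Subgroup.card_eq_one, card_center_SL, Fintype.card_fin,
          Nat.card_eq_fintype_card, hF]
        norm_num
      exact e.injective.comp (hq.comp hS)
    have key := no_six hK (φ a₀) (φ b₀)
      (by rw [← map_pow, show a₀ ^ 2 = 1 by rw [sq, a₀_sq], map_one])
      (by rw [← map_pow, show b₀ ^ 3 = 1 by rw [pow_succ, sq, b₀_cube], map_one])
      (fun h => b₀_ne (hφ (h.trans (map_one φ).symm)))
      (by rw [← map_mul, ← map_mul, a₀b₀])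
    exact a₀_ne (hφ (key.trans (map_one φ).symm))

end CfsgLib.MiscPSLThreeFour
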