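import Cfsg.Agent.Misc.SLTwoEven

/-!
Products of two conjugacy classes in PSL₂(q).
-/

set_option autoImplicit false
set_option linter.unusedSectionVars false

namespace CfsgLib.Misc.PSLTwoProducts

open scoped Matrix

variable {F : Type*} [Field F] [Fintype F]

local notation "SL2" => Matrix.SpecialLinearGroup (Fin 2) F

/-- Trace. -/
abbrev tr (g : SL2) : F := Dickson.tr g

theorem tr_conj (u g : SL2) : tr (u * g * u⁻¹) = tr g := by
  have h : ∀ A B : Matrix (Fin 2) (Fin 2) F, (A * B).trace = (B * A).trace := Matrix.trace_mul_comm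
  have e : ∀ A : SL2, tr A = (A : Matrix (Fin 2) (Fin 2) F).trace := fun A => by
    rw [Matrix.trace_fin_two]; rfl
  rw [e, e, Matrix.SpecialLinearGroup.coe_mul, h, ← Matrix.SpecialLinearGroup.coe_mul, ← mul_assoc,
    inv_mul_cancel, one_mul]

theorem normal_form {g : SL2} (h1 : g ≠ 1) (h2 : g ≠ -1) :
    ∃ (γ : F) (u : SL2), γ ≠ 0 ∧
      ((u * g * u⁻¹ : SL2) : Matrix (Fin 2) (Fin 2) F) = !![0, -γ⁻¹; γ, tr g] := by
  set M := (g : Matrix (Fin 2) (Fin 2) F) with hM
  have hd := Dickson.det_eq g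
  rw [← hM] at hd
  obtain ⟨x, y, hxy⟩ : ∃ x y : F, x * (M 1 0 * x + M 1 1 * y) - y * (M 0 0 * x + M 0 1 * y) ≠ 0 := by
    by_contra h
    push Not at h
    have a := h 1 0
    have b := h 0 1
    have c := h 1 1
    simp at a b
    have c' : M 0 0 = M 1 1 := by linear_combination -c + a - b
    have hsq : (M 0 0 - 1) * (M 0 0 + 1) = 0 := by
      linear_combination hd + M 0 0 * c' + M 1 0 * b
    rcases mul_eq_zero.1 hsq with e | e
    · refine h1 (Subtype.ext ?_)
      ext i j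
      fin_cases i <;> fin_cases j <;> simp [← hM, a, b, ← c', sub_eq_zero.1 e]
    · refine h2 (Subtype.ext ?_)
      rw [Matrix.SpecialLinearGroup.coe_neg]
      ext i j
      fin_cases i <;> fin_cases j <;> simp [← hM, a, b, ← c', eq_neg_of_add_eq_zero_left e]
  set γ := x * (M 1 0 * x + M 1 1 * y) - y * (M 0 0 * x + M 0 1 * y) with hγ
  obtain ⟨P, hP⟩ : ∃ P : SL2, (P : Matrix (Fin 2) (Fin 2) F) =
      !![x, (M 0 0 * x + M 0 1 * y) / γ; y, (M 1 0 * x + M 1 1 * y) / γ] :=
    ⟨⟨_, by rw [Matrix.det_fin_two]; simp; field_simp; rw [hγ]; ring⟩, rfl⟩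
  obtain ⟨N, hN⟩ : ∃ N : SL2, (N : Matrix (Fin 2) (Fin 2) F) = !![0, -γ⁻¹; γ, tr g] :=
    ⟨⟨_, by rw [Matrix.det_fin_two]; simp [hxy]⟩, rfl⟩
  refine ⟨γ, P⁻¹, hxy, ?_⟩
  have e : g * P = P * N := by
    refine Subtype.ext ?_
    rw [Matrix.SpecialLinearGroup.coe_mul, Matrix.SpecialLinearGroup.coe_mul, hP, hN, ← hM]
    have htr : tr g = M 0 0 + M 1 1 := rfl
    ext i j
    fin_cases i <;> fin_cases j <;> simp [Matrix.mul_apply, Fin.sum_univ_two, htr] <;> field_simp
    · linear_combination -x * hd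
    · linear_combination -y * hd
  rw [inv_inv, mul_assoc, e, inv_mul_cancel_left, hN]

local notation "PSL2" => Matrix.ProjectiveSpecialLinearGroup (Fin 2) F
local notation "π" => QuotientGroup.mk' (Subgroup.center SL2)

theorem pi_neg (g : SL2) : π (-g) = π g := by
  rw [show -g = g * -1 by simp, map_mul,
    (QuotientGroup.eq_one_iff (N := Subgroup.center SL2) (-1 : SL2)).2 (PSLTwoSpec.mem_Z.2 (Or.inr rfl)) |>
      (fun h => show π (-1 : SL2) = 1 from h), mul_one]

theorem ne_pm {a : SL2} (ha : π a ≠ 1) : a ≠ 1 ∧ a ≠ -1 :=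
  ⟨fun h => ha ((QuotientGroup.eq_one_iff _).2 (PSLTwoSpec.mem_Z.2 (Or.inl h))),
    fun h => ha ((QuotientGroup.eq_one_iff _).2 (PSLTwoSpec.mem_Z.2 (Or.inr h)))⟩

/-- Traces of lifts of conjugates agree up to sign. -/
theorem tr_sq {g h : SL2} (hc : IsConj (π g) (π h)) : tr g = tr h ∨ tr g = -tr h := by
  obtain ⟨c, hc⟩ := isConj_iff.1 hc
  obtain ⟨c, rfl⟩ := QuotientGroup.mk'_surjective _ c
  rw [← map_inv, ← map_mul, ← map_mul] at hc
  obtain hz | hz := PSLTwoSpec.mem_Z.1 (QuotientGroup.eq.1 hc)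
  · left
    rw [inv_mul_eq_one] at hz
    rw [← tr_conj c g, hz]
  · right
    rw [inv_mul_eq_iff_eq_mul] at hz
    rw [← tr_conj c g, hz, mul_neg, mul_one]
    simp [tr, Dickson.tr, Matrix.SpecialLinearGroup.coe_neg]
    ring

theorem not_single_class (h4 : 4 ≤ Fintype.card F) (a b : PSL2) (ha : a ≠ 1) (hb : b ≠ 1) (c : PSL2) :
    {g : PSL2 | ∃ u v : PSL2, g = (u * a * u⁻¹) * (v * b * v⁻¹)} ≠ {g | IsConj c g} := by
  classical
  intro heq
  obtain ⟨a, rfl⟩ := QuotientGroup.mk'_surjective _ a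
  obtain ⟨b, rfl⟩ := QuotientGroup.mk'_surjective _ b
  obtain ⟨c, rfl⟩ := QuotientGroup.mk'_surjective _ c
  obtain ⟨γ, P, hγ, hP⟩ := normal_form (ne_pm ha).1 (ne_pm ha).2
  obtain ⟨δ, Q, hδ, hQ⟩ := normal_form (ne_pm hb).1 (ne_pm hb).2
  set t := tr a
  set t' := tr b
  let f : F → F := fun x => -δ / γ + γ * (-δ⁻¹ + x * t' - x * x * δ) + t * (t' - x * δ)
  have hf : ∀ x, ∃ z : SL2, π z ∈ {g : PSL2 | ∃ u v : PSL2, g = (u * π a * u⁻¹) * (v * π b * v⁻¹)} ∧ tr z = f x := by
    intro x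
    obtain ⟨X, hX⟩ : ∃ X : SL2, (X : Matrix (Fin 2) (Fin 2) F) = !![1, x; 0, 1] :=
      ⟨⟨_, by simp [Matrix.det_fin_two]⟩, rfl⟩
    refine ⟨(P * a * P⁻¹) * (X * (Q * b * Q⁻¹) * X⁻¹), ⟨π P, π (X * Q), ?_⟩, ?_⟩
    · simp only [← map_mul, ← map_inv]
      congr 1
      group
    · have hA : ((P * a * P⁻¹ : SL2) : Matrix (Fin 2) (Fin 2) F) = !![0, -γ⁻¹; γ, t] := hP
      have hB : ((Q * b * Q⁻¹ : SL2) : Matrix (Fin 2) (Fin 2) F) = !![0, -δ⁻¹; δ, t'] := hQ
      simp only [tr, Dickson.tr, Matrix.SpecialLinearGroup.coe_mul _ (X * _ * _),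
        Matrix.SpecialLinearGroup.coe_mul (X * _), Matrix.SpecialLinearGroup.coe_mul X, hA, hB,
        Matrix.SpecialLinearGroup.coe_inv, hX, Matrix.adjugate_fin_two]
      simp [Matrix.mul_apply, Fin.sum_univ_two, f]
      ring
  have hval : ∀ x, f x = tr c ∨ f x = -tr c := fun x => by
    obtain ⟨z, hz, e⟩ := hf x
    rw [heq] at hz
    rcases tr_sq hz with h | h
    · exact Or.inl (e.symm.trans h.symm)
    · exact Or.inr (by rw [h, neg_neg, e])
  have hfib : ∀ s : F, (Finset.univ.filter fun x => f x = s).card ≤ 2 := by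
    intro s
    by_contra h
    obtain ⟨x, y, z, hx, hy, hz, hxy, hxz, hyz⟩ := Finset.two_lt_card_iff.1 (not_le.1 h)
    simp only [Finset.mem_filter, Finset.mem_univ, true_and, f] at hx hy hz
    have e1 : (x - y) * (-γ * δ * (x + y) + (γ * t' - t * δ)) = 0 := by linear_combination hx - hy
    have e2 : (x - z) * (-γ * δ * (x + z) + (γ * t' - t * δ)) = 0 := by linear_combination hx - hz
    have e3 : γ * δ * (z - y) = 0 := by
      linear_combination (mul_eq_zero.1 e1).resolve_left (sub_ne_zero.2 hxy) - (mul_eq_zero.1 e2).resolve_left (sub_ne_zero.2 hxz)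
    exact hyz (sub_eq_zero.1 ((mul_eq_zero.1 e3).resolve_left (mul_ne_zero hγ hδ))).symm
  have hle : Fintype.card F ≤ ((Finset.univ.filter fun x => f x = tr c) ∪ (Finset.univ.filter fun x => f x = -tr c)).card := by
    rw [← Finset.card_univ]
    exact Finset.card_le_card fun x _ => by simpa using hval x
  have := hle.trans (Finset.card_union_le _ _)
  have h1 := hfib (tr c)
  have h2 := hfib (-tr c)
  have hq : Fintype.card F = 4 := by omega
  haveI : CharP F 2 := by
    have hc : ringChar F = 2 := (FiniteField.even_card_iff_char_two (F := F)).2 (by omega)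
    exact hc ▸ ringChar.charP F
  rw [CharTwo.neg_eq, Finset.union_self] at hle
  omega

theorem semisimple_conj {a b : SL2} (ht : tr a ^ 2 ≠ 4) (hab : tr a = tr b) : IsConj (π a) (π b) := by
  have hne : ∀ g : SL2, tr g ^ 2 ≠ 4 → g ≠ 1 ∧ g ≠ -1 := by
    intro g hg
    constructor <;> rintro rfl <;> refine hg ?_ <;>
      simp [tr, Dickson.tr, Matrix.SpecialLinearGroup.coe_neg] <;> ring
  obtain ⟨γ, P, hγ, hP⟩ := normal_form (hne a ht).1 (hne a ht).2
  obtain ⟨δ, Q, hδ, hQ⟩ := normal_form (hne b (hab ▸ ht)).1 (hne b (hab ▸ ht)).2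
  set A := P * a * P⁻¹
  set B := Q * b * Q⁻¹
  set t := tr a
  rw [← hab] at hQ
  -- an element (x, y; ..) intertwining the two normal forms
  obtain ⟨x, y, hxy⟩ : ∃ x y : F, x ^ 2 + t * x * y + y ^ 2 = δ / γ := by
    by_cases h2 : ringChar F = 2
    · obtain ⟨r, hr⟩ := FiniteField.isSquare_of_char_two h2 (δ / γ)
      exact ⟨r, 0, by rw [hr]; ring⟩
    · have h2' : (2 : F) ≠ 0 := fun h => h2 (by
        haveI : CharP F 2 := by
          have h' : ((2 : ℕ) : F) = 0 := by exact_mod_cast h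
          exact CharP.ringChar_of_prime_eq_zero Nat.prime_two h' ▸ ringChar.charP F
        exact ringChar.eq F 2)
      obtain ⟨z, y, h⟩ := FiniteField.exists_root_sum_quadratic (f := (Polynomial.X ^ 2 : Polynomial F))
        (g := (Polynomial.C (1 - t ^ 2 / 4) * Polynomial.X ^ 2 + Polynomial.C (-(δ / γ)) : Polynomial F)) (by simp)
        (by
          have hc : (1 - t ^ 2 / 4 : F) ≠ 0 := by
            have h4 : (4 : F) ≠ 0 := by rw [show (4 : F) = 2 * 2 by norm_num]; exact mul_ne_zero h2' h2'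
            intro e
            field_simp at e
            exact ht (by linear_combination -e)
          rw [Polynomial.degree_add_eq_left_of_degree_lt, Polynomial.degree_C_mul_X_pow 2 hc]
          · rfl
          · rw [Polynomial.degree_C_mul_X_pow 2 hc]
            exact lt_of_le_of_lt Polynomial.degree_C_le (WithBot.coe_lt_coe.2 two_pos))
        (FiniteField.odd_card_of_char_ne_two h2)
      have h4 : (4 : F) ≠ 0 := by rw [show (4 : F) = 2 * 2 by norm_num]; exact mul_ne_zero h2' h2'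
      simp at h
      refine ⟨z - t * y / 2, y, ?_⟩
      field_simp at h ⊢
      linear_combination h
  obtain ⟨C, hC⟩ : ∃ C : SL2, (C : Matrix (Fin 2) (Fin 2) F) = !![x, -y / δ; γ * y, (x + y * t) * γ / δ] :=
    ⟨⟨_, by rw [Matrix.det_fin_two]; simp; field_simp at hxy ⊢; linear_combination hxy⟩, rfl⟩
  have hAB : A * C = C * B := by
    refine Subtype.ext ?_
    rw [Matrix.SpecialLinearGroup.coe_mul A C, Matrix.SpecialLinearGroup.coe_mul C B, hC, hP, hQ]
    ext i j
    fin_cases i <;> fin_cases j <;> simp [Matrix.mul_apply, Fin.sum_univ_two] <;> field_simp <;> ring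
  refine isConj_iff.2 ⟨π (Q⁻¹ * C⁻¹ * P), ?_⟩
  rw [← map_inv, ← map_mul, ← map_mul]
  congr 1
  calc Q⁻¹ * C⁻¹ * P * a * (Q⁻¹ * C⁻¹ * P)⁻¹ = Q⁻¹ * C⁻¹ * (A * C) * Q := by simp [A, mul_assoc]
    _ = b := by rw [hAB]; simp [B, mul_assoc]

/-- The covering criterion: a matrix of trace `t` whose product with `g` has trace `t`. -/
theorem two_conjugates (x g : SL2) (ht : tr x ^ 2 ≠ 4)
    (w : SL2) (hw : tr w = tr x) (hwg : tr (w * g) = tr x) :
    ∃ u v : PSL2, π g = (u * π x * u⁻¹) * (v * π x * v⁻¹) := by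
  have hwi : tr w⁻¹ = tr x := by
    rw [← hw]; simp [tr, Dickson.tr, Matrix.SpecialLinearGroup.coe_inv, Matrix.adjugate_fin_two, add_comm]
  obtain ⟨u, hu⟩ := isConj_iff.1 (semisimple_conj ht hwi.symm)
  obtain ⟨v, hv⟩ := isConj_iff.1 (semisimple_conj ht hwg.symm)
  exact ⟨u, v, by rw [hu, hv, ← map_mul, inv_mul_cancel_left]⟩

theorem exists_w (t : F) (g : SL2) (h1 : g ≠ 1) (h2 : g ≠ -1)
    (hs : tr g ^ 2 ≠ 4 ∨ (tr g + 2 = 0 ∧ (2 : F) ≠ 0 ∧ t ≠ 0) ∨ (tr g = 2 ∧ ∃ r : F, r ^ 2 - t * r + 1 = 0)) :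
    ∃ w : SL2, tr w = t ∧ tr (w * g) = t := by
  obtain ⟨γ, P, hγ, hP⟩ := normal_form h1 h2
  set s := tr g
  obtain ⟨a, B, hab⟩ : ∃ a B : F, a ^ 2 - s * a * B + B ^ 2 - t * a + (s * t - t) * B + 1 = 0 := by
    rcases hs with hs | ⟨hs, h2, ht⟩ | ⟨hs, r, hr⟩
    · by_cases hc : ringChar F = 2
      · haveI : CharP F 2 := hc ▸ ringChar.charP F
        have hs0 : s ≠ 0 := fun e => hs (by
          rw [e]; linear_combination -2 * CharTwo.two_eq_zero (R := F))
        obtain ⟨a, ha⟩ := FiniteField.isSquare_of_char_two hc (-((-t / s) ^ 2 + (s * t - t) * (-t / s) + 1))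
        refine ⟨a, -t / s, ?_⟩
        field_simp at ha ⊢
        linear_combination -ha
      · have h2' : (2 : F) ≠ 0 := fun h => hc (by
          haveI : CharP F 2 := by
            have h' : ((2 : ℕ) : F) = 0 := by exact_mod_cast h
            exact CharP.ringChar_of_prime_eq_zero Nat.prime_two h' ▸ ringChar.charP F
          exact ringChar.eq F 2)
        have h4 : (4 : F) ≠ 0 := by rw [show (4 : F) = 2 * 2 by norm_num]; exact mul_ne_zero h2' h2'
        have hc' : (1 - s ^ 2 / 4 : F) ≠ 0 := by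
          intro e
          field_simp at e
          exact hs (by linear_combination -e)
        obtain ⟨z, B, h⟩ := FiniteField.exists_root_sum_quadratic (f := (Polynomial.X ^ 2 : Polynomial F))
          (g := (Polynomial.C (1 - s ^ 2 / 4) * Polynomial.X ^ 2 + Polynomial.C ((s * t - t) - s * t / 2) * Polynomial.X +
            Polynomial.C (1 - t ^ 2 / 4) : Polynomial F)) (by simp)
          (Polynomial.degree_quadratic hc') (FiniteField.odd_card_of_char_ne_two hc)
        simp at h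
        refine ⟨z + s * B / 2 + t / 2, B, ?_⟩
        field_simp at h ⊢
        refine mul_left_cancel₀ h2' ?_
        linear_combination h
    · have hs' : s = -2 := eq_neg_of_add_eq_zero_left hs
      refine ⟨0 - 1 / (2 * t), 1 / (2 * t), ?_⟩
      rw [hs']
      field_simp
      ring
    · exact ⟨r, 0, by linear_combination hr⟩
  obtain ⟨W, hW⟩ : ∃ W : SL2, (W : Matrix (Fin 2) (Fin 2) F) = !![a, B / γ; γ * (B + s * (t - a) - t), t - a] :=
    ⟨⟨_, by rw [Matrix.det_fin_two]; simp; field_simp; linear_combination -hab⟩, rfl⟩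
  refine ⟨P⁻¹ * W * P, ?_, ?_⟩
  · have := tr_conj P⁻¹ W
    rw [inv_inv] at this
    rw [this]
    simp [tr, Dickson.tr, hW]
  · rw [← tr_conj P (P⁻¹ * W * P * g)]
    have e : P * (P⁻¹ * W * P * g) * P⁻¹ = W * (P * g * P⁻¹) := by simp [mul_assoc]
    rw [e]
    simp only [tr, Dickson.tr, Matrix.SpecialLinearGroup.coe_mul W, hW, hP]
    simp [Matrix.mul_apply, Fin.sum_univ_two]
    field_simp
    ring

theorem covering_odd (p : ℕ) [Fact p.Prime] [CharP F p] (hp : p ≠ 2) (x : PSL2) (hx2 : 2 < orderOf x)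
    (hxp : ¬ p ∣ orderOf x) (g : PSL2) (hg : g ≠ 1) :
    ∃ u v : PSL2, g = (u * x * u⁻¹) * (v * x * v⁻¹) := by
  obtain ⟨x, rfl⟩ := QuotientGroup.mk'_surjective _ x
  obtain ⟨g, rfl⟩ := QuotientGroup.mk'_surjective _ g
  have h2 : (2 : F) ≠ 0 := Ring.two_ne_zero (by rwa [ringChar.eq F p])
  have hx1 : π x ≠ 1 := fun e => by rw [e, orderOf_one] at hx2; omega
  have ht : tr x ^ 2 ≠ 4 := by
    intro ht
    have hd : orderOf (π x) ∣ p := by
      refine orderOf_dvd_of_pow_eq_one ?_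
      rcases mul_eq_zero.1 (show (tr x - 2) * (tr x + 2) = 0 by linear_combination ht) with h | h
      · rw [← map_pow, Dickson.pow_eq_one_of_tr p (sub_eq_zero.1 h), map_one]
      · rw [← pi_neg x, ← map_pow, Dickson.pow_eq_one_of_tr p, map_one]
        simp [tr, Dickson.tr, Matrix.SpecialLinearGroup.coe_neg]
        simp [tr, Dickson.tr] at h
        linear_combination -h
    rcases (Nat.dvd_prime Fact.out).1 hd with h | h
    · omega
    · exact hxp (h ▸ dvd_rfl)
  have ht0 : tr x ≠ 0 := by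
    intro h0
    have hz : x * x = -1 := by
      refine Subtype.ext ?_
      rw [Matrix.SpecialLinearGroup.coe_mul, Matrix.SpecialLinearGroup.coe_neg]
      have hd := Dickson.det_eq x
      simp [tr, Dickson.tr] at h0
      ext i j
      fin_cases i <;> fin_cases j <;> simp [Matrix.mul_apply, Fin.sum_univ_two]
      · linear_combination -hd + (x : Matrix (Fin 2) (Fin 2) F) 0 0 * h0
      · linear_combination (x : Matrix (Fin 2) (Fin 2) F) 0 1 * h0
      · linear_combination (x : Matrix (Fin 2) (Fin 2) F) 1 0 * h0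
      · linear_combination -hd + (x : Matrix (Fin 2) (Fin 2) F) 1 1 * h0
    have : orderOf (π x) ∣ 2 := orderOf_dvd_of_pow_eq_one (by
      rw [pow_two, ← map_mul, hz, pi_neg, map_one])
    have := Nat.le_of_dvd two_pos this
    omega
  -- choose the lift of trace different from 2
  by_cases hs : tr g = 2
  · obtain ⟨w, hw, hwg⟩ := exists_w (tr x) (-g) (fun e => (ne_pm hg).2 (by rw [← e, neg_neg]))
      (fun e => (ne_pm hg).1 (by simpa using congrArg (- ·) e))
      (Or.inr (Or.inl ⟨by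
        simp [tr, Dickson.tr, Matrix.SpecialLinearGroup.coe_neg]
        simp [tr, Dickson.tr] at hs
        linear_combination -hs, h2, ht0⟩))
    obtain ⟨u, v, e⟩ := two_conjugates x (-g) ht w hw hwg
    exact ⟨u, v, by rw [← pi_neg g, e]⟩
  · obtain ⟨w, hw, hwg⟩ := exists_w (tr x) g (ne_pm hg).1 (ne_pm hg).2 (by
      by_cases h4 : tr g ^ 2 = 4
      · right; left
        refine ⟨?_, h2, ht0⟩
        exact (mul_eq_zero.1 (show (tr g - 2) * (tr g + 2) = 0 by linear_combination h4)).resolve_left (sub_ne_zero.2 hs)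
      · exact Or.inl h4)
    exact two_conjugates x g ht w hw hwg

theorem covering_even [CharP F 2] (x : PSL2) (hx2 : 2 < orderOf x) (hxq : ¬ orderOf x ∣ Fintype.card F + 1)
    (g : PSL2) (hg : g ≠ 1) : ∃ u v : PSL2, g = (u * x * u⁻¹) * (v * x * v⁻¹) := by
  classical
  obtain ⟨x, rfl⟩ := QuotientGroup.mk'_surjective _ x
  obtain ⟨g, rfl⟩ := QuotientGroup.mk'_surjective _ g
  haveI : Fact (Nat.Prime 2) := ⟨Nat.prime_two⟩
  have h2 : (2 : F) = 0 := CharTwo.two_eq_zero
  have hx1 : π x ≠ 1 := fun e => by rw [e, orderOf_one] at hx2; omega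
  have ht : tr x ^ 2 ≠ 4 := by
    intro ht
    have h0 : tr x = 2 := by
      rw [h2]
      exact pow_eq_zero_iff two_ne_zero |>.1 (by linear_combination ht + 2 * h2)
    have : orderOf (π x) ∣ 2 := orderOf_dvd_of_pow_eq_one (by
      rw [← map_pow, Dickson.pow_eq_one_of_tr 2 h0, map_one])
    have := Nat.le_of_dvd two_pos this
    omega
  obtain ⟨r, hr⟩ : ∃ r : F, r ^ 2 - tr x * r + 1 = 0 := by
    by_contra h
    push Not at h
    refine hxq ((orderOf_map_dvd π x).trans (orderOf_dvd_of_pow_eq_one ?_))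
    have hc := SLTwoEven.card_centralizer (ne_pm hx1).1
    haveI : IsEmpty {r : F // r ^ 2 + Dickson.tr x * r + 1 = 0} := ⟨fun r => h r (by
      linear_combination r.2 - tr x * (r : F) * h2)⟩
    rw [Nat.card_of_isEmpty (α := {r : F // r ^ 2 + Dickson.tr x * r + 1 = 0}), add_zero] at hc
    have := pow_card_eq_one' (x := (⟨x, Subgroup.mem_centralizer_singleton_iff.2 rfl⟩ :
      Subgroup.centralizer ({x} : Set SL2)))
    rw [hc] at this
    exact congrArg Subtype.val this
  obtain ⟨w, hw, hwg⟩ := exists_w (tr x) g (ne_pm hg).1 (ne_pm hg).2 (by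
    by_cases h4 : tr g ^ 2 = 4
    · right; right
      refine ⟨?_, r, hr⟩
      rw [h2]
      exact pow_eq_zero_iff two_ne_zero |>.1 (by linear_combination h4 + 2 * h2)
    · exact Or.inl h4)
  exact two_conjugates x g ht w hw hwg

end CfsgLib.Misc.PSLTwoProducts
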