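import Mathlib
import Cfsg.Agent.Misc.Semisimple

/-!
Classes of elements of prime order in GL_n over a finite field.
-/

set_option autoImplicit false
set_option linter.unusedSectionVars false

namespace CfsgLib.MiscPrimeClasses

open Polynomial UniqueFactorizationMonoid Module

universe u

variable {F : Type*} [Field F]

theorem annihil {V : Type u} [AddCommGroup V] [Module F V] [FiniteDimensional F V] {T : Module.End F V}
    (hT : CfsgLib.MiscSemi.Ord T) {h : F[X]}
    (hfac : ∀ f : F[X], f.Monic → Irreducible f → f ∣ T.charpoly → f ∣ h) : aeval T h = 0 := by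
  by_contra hne
  set W := LinearMap.ker (aeval T h)
  have hWt : W ≠ ⊤ := fun e => hne (LinearMap.ker_eq_top.1 e)
  have hWinv : W ∈ Module.End.invtSubmodule T := by
    rw [Module.End.mem_invtSubmodule]
    intro v hv
    have hc := ((Commute.all h (X : F[X])).map (aeval T)).eq
    rw [aeval_X] at hc
    show T v ∈ W
    rw [LinearMap.mem_ker] at hv ⊢
    rw [← Module.End.mul_apply, hc, Module.End.mul_apply, hv, map_zero]
  obtain ⟨N, hN, hTN⟩ := hT
  have hss : T.IsSemisimple := by
    refine Module.End.isSemisimple_of_squarefree_aeval_eq_zero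
      ((Polynomial.separable_X_pow_sub_C (1 : F) hN one_ne_zero).squarefree) ?_
    simp [hTN]
  obtain ⟨W', hW', hc⟩ := Module.End.isSemisimple_iff.1 hss _ hWinv
  have hW'i : ∀ x ∈ W', T x ∈ W' := fun x hx => (Module.End.mem_invtSubmodule T).1 hW' hx
  have hpos : 0 < finrank F W' := by
    refine Module.finrank_pos_iff.2 (Submodule.nontrivial_iff_ne_bot.2 fun e => hWt ?_)
    rw [e] at hc
    exact eq_top_of_isCompl_bot hc
  obtain ⟨f, hfm, hf, hfd⟩ := CfsgLib.MiscSemi.exists_factor (LinearMap.restrict T hW'i) hpos
  obtain ⟨v, hv, hfv⟩ := CfsgLib.MiscSemi.exists_ker _ rfl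
    (CfsgLib.MiscSemi.Ord.restrict ⟨N, hN, hTN⟩ hW'i) hfm hf hfd
  have hfv' : aeval T f (v : V) = 0 := by rw [← CfsgLib.MiscSemi.aeval_restrict hW'i, hfv]; rfl
  have hfT : f ∣ T.charpoly := by
    by_contra hn
    obtain ⟨a, b, hab⟩ := (Irreducible.coprime_iff_not_dvd hf).2 hn
    have h1 := LinearMap.congr_fun (congrArg (aeval T) hab) (v : V)
    rw [map_add, map_mul, map_mul, LinearMap.add_apply, Module.End.mul_apply, Module.End.mul_apply, hfv',
      LinearMap.aeval_self_charpoly] at h1
    exact hv (Subtype.ext (by simpa using h1.symm))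
  obtain ⟨c, hc'⟩ := hfac f hfm hf hfT
  have hvW : (v : V) ∈ W := by
    rw [LinearMap.mem_ker, hc', mul_comm, map_mul, Module.End.mul_apply, hfv', map_zero]
  exact hv (Subtype.ext (Submodule.disjoint_def.1 hc.disjoint _ hvW v.2))

variable [Fintype F] {n r : ℕ}

open Matrix in
theorem realize (hr : r.Prime) (hr0 : (r : F) ≠ 0) {χ : F[X]} (hm : χ.Monic) (hd : χ.natDegree = n)
    (hfac : ∀ f : F[X], f.Monic → Irreducible f → f ∣ χ → f ∣ X ^ r - 1) (hne : χ ≠ (X - C 1) ^ n) :
    ∃ g : GL (Fin n) F, orderOf g = r ∧ (g : Matrix (Fin n) (Fin n) F).charpoly = χ := by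
  have h0 : χ.coeff 0 ≠ 0 := fun e => by
    have h := hfac X monic_X irreducible_X (X_dvd_iff.2 e)
    rw [X_dvd_iff] at h
    simp [coeff_X_pow, hr.ne_zero.symm] at h
  obtain ⟨T, hT, hTc⟩ := CfsgLib.MiscSemi.exists_ord n hd hm h0
  have hTr : T ^ r = 1 := by
    have h := annihil hT (h := X ^ r - 1) fun f h1 h2 h3 => hfac f h1 h2 (hTc ▸ h3)
    rwa [map_sub, map_pow, aeval_X, map_one, sub_eq_zero] at h
  set M : Matrix (Fin n) (Fin n) F := Matrix.toLinAlgEquiv'.symm T
  have hu : M ^ r = 1 := by rw [← map_pow, hTr, map_one]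
  have hunit : IsUnit M := IsUnit.of_pow_eq_one hu hr.ne_zero
  have hch : (hunit.unit : Matrix (Fin n) (Fin n) F).charpoly = χ := by
    rw [← CfsgLib.MiscSemi.charpoly_toEnd, CfsgLib.MiscSemi.toEnd, IsUnit.unit_spec, AlgEquiv.apply_symm_apply, hTc]
  refine ⟨hunit.unit, ?_, hch⟩
  haveI := Fact.mk hr
  refine orderOf_eq_prime (Units.ext (by rw [Units.val_pow_eq_pow_val, IsUnit.unit_spec, hu, Units.val_one]))
    fun e => hne ?_
  rw [← hch, e, Units.val_one, Matrix.charpoly_one, Fintype.card_fin, C_1]

theorem multiset_option {α : Type*} [DecidableEq α] (s : Multiset (Option α)) :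
    s = (s.filterMap id).map some + Multiset.replicate (s.count none) none := by
  induction s using Multiset.induction with
  | empty => simp
  | cons a s ih =>
    rcases a with _ | a
    · rw [Multiset.filterMap_cons_none _ _ rfl, Multiset.count_cons_self, Multiset.replicate_succ, Multiset.add_cons, ← ih]
    · rw [Multiset.filterMap_cons_some id (some a) s (b := a) rfl, Multiset.count_cons_of_ne (by simp), Multiset.map_cons,
        Multiset.cons_add, ← ih]

theorem count_none_eq {α : Type*} [DecidableEq α] (s : Multiset (Option α)) :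
    s.count none = Multiset.card s - Multiset.card (s.filterMap id) := by
  have := congrArg Multiset.card (multiset_option s)
  rw [Multiset.card_add, Multiset.card_map, Multiset.card_replicate] at this
  omega

theorem count_classes {p q : ℕ} [Fact p.Prime] [CharP F p] (hF : Fintype.card F = q) (n r i t : ℕ) (hr : r.Prime)
    (hrp : r ≠ p) (hi : i = orderOf (q : ZMod r)) (ht : t * i = r - 1) :
    Nat.card {C : ConjClasses (GL (Fin n) F) // ∃ g : GL (Fin n) F, ConjClasses.mk g = C ∧ orderOf g = r} =
      Nat.choose (n / i + t) t - 1 := by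
  classical
  haveI := Fact.mk hr
  obtain ⟨e, -, hq⟩ := FiniteField.card F p
  have hpr : p.Coprime r := (Nat.coprime_primes Fact.out hr).2 hrp.symm
  have hr0 : (r : F) ≠ 0 := fun h =>
    hrp ((Nat.prime_dvd_prime_iff_eq Fact.out hr).1 ((CharP.cast_eq_zero_iff F p r).1 h)).symm
  have hord : orderOf (ZMod.unitOfCoprime _ (hpr.pow_left (e : ℕ))) = i := by
    rw [hi, ← hF, hq, ← orderOf_units, ZMod.coe_unitOfCoprime]
  have hipos : 0 < i := by rw [← hord]; exact orderOf_pos _
  set S := (normalizedFactors (cyclotomic r F)).toFinset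
  have hS : S.card = t := by
    have := Polynomial.normalizedFactors_cyclotomic_card (K := F) hq hpr
    rw [show Nat.totient r = r - 1 from Nat.totient_prime hr, hord, ← ht, Nat.mul_div_cancel _ hipos] at this
    exact this
  let Q : F[X] := X - C 1
  have hQm : Q.Monic := monic_X_sub_C 1
  have hQi : Irreducible Q := irreducible_X_sub_C 1
  have hQd : Q.natDegree = 1 := natDegree_X_sub_C 1
  have hSm : ∀ f ∈ S, f.Monic ∧ Irreducible f ∧ f.natDegree = i ∧ f ≠ Q ∧ f ∣ X ^ r - 1 := by
    intro f hf
    rw [Multiset.mem_toFinset] at hf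
    have hd := dvd_of_mem_normalizedFactors hf
    have hirr := irreducible_of_normalized_factor f hf
    refine ⟨?_, hirr, ?_, ?_, ?_⟩
    · rw [← normalize_normalized_factor f hf]; exact monic_normalize hirr.ne_zero
    · rw [← hord]; exact Polynomial.natDegree_of_dvd_cyclotomic_of_irreducible hq hpr hd hirr
    · intro h
      obtain ⟨c, hc⟩ := hd
      have := congrArg (Polynomial.eval 1) hc
      rw [eval_one_cyclotomic_prime, eval_mul, h] at this
      simp [Q] at this
      exact hr0 this
    · exact hd.trans (Dvd.intro _ (cyclotomic_prime_mul_X_sub_one F r))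
  have hclass : ∀ f : F[X], f.Monic → Irreducible f → f ∣ X ^ r - 1 → f = Q ∨ f ∈ S := by
    intro f hm hf hd
    rw [← cyclotomic_prime_mul_X_sub_one F r] at hd
    rcases hf.prime.dvd_or_dvd hd with h | h
    · obtain ⟨g, hg, hfg⟩ := exists_mem_normalizedFactors_of_dvd (cyclotomic_ne_zero r F) hf h
      right
      have hgm : g.Monic := (hSm g (Multiset.mem_toFinset.2 hg)).1
      rw [eq_of_monic_of_associated hm hgm hfg]
      exact Multiset.mem_toFinset.2 hg
    · left
      rw [← C_1] at h
      exact eq_of_monic_of_associated hm hQm (hf.associated_of_dvd hQi h)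
  have hmp : ∀ M : Multiset F[X], (∀ a ∈ M, a.Monic) → M.prod.Monic := fun M h => by
    simpa using monic_multiset_prod_of_monic M id h
  set k := n / i
  let ψ : Option S → Multiset F[X] := fun o => o.elim (Multiset.replicate i Q) fun f => {(f : F[X])}
  let E : Multiset (Option S) → Multiset F[X] := fun s => s.bind ψ + Multiset.replicate (n % i) Q
  have hfilter : ∀ s, (E s).filter (fun f => f ≠ Q) = (s.filterMap id).map (fun f : S => (f : F[X])) := by
    intro s
    simp only [E, Multiset.filter_add]
    rw [(Multiset.filter_eq_nil (s := Multiset.replicate (n % i) Q)).2 (fun a ha => by simp [Multiset.eq_of_mem_replicate ha]),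
      add_zero]
    induction s using Multiset.induction with
    | empty => simp
    | cons a s ih =>
      rw [Multiset.cons_bind, Multiset.filter_add, ih]
      rcases a with _ | f
      · rw [Multiset.filterMap_cons_none _ _ rfl,
          (Multiset.filter_eq_nil (s := ψ none)).2 (fun a ha => by simp [Multiset.eq_of_mem_replicate ha]), zero_add]
      · rw [Multiset.filterMap_cons_some id (some f) s (b := f) rfl, Multiset.map_cons]
        show Multiset.filter _ {(f : F[X])} + _ = _
        rw [Multiset.filter_eq_self.2 (fun a ha => by rw [Multiset.mem_singleton.1 ha]; exact (hSm f f.2).2.2.2.1),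
          Multiset.singleton_add]
  have hEmem : ∀ s, ∀ f ∈ E s, f.Monic ∧ Irreducible f ∧ f ∣ X ^ r - 1 := by
    intro s f hf
    have hQ : Q.Monic ∧ Irreducible Q ∧ Q ∣ X ^ r - 1 :=
      ⟨hQm, hQi, by rw [← cyclotomic_prime_mul_X_sub_one F r, ← C_1]; exact Dvd.intro_left _ rfl⟩
    simp only [E, Multiset.mem_add, Multiset.mem_bind] at hf
    rcases hf with ⟨o, -, ho⟩ | hf
    · rcases o with _ | g
      · rw [Multiset.eq_of_mem_replicate ho]; exact hQ
      · rw [Multiset.mem_singleton.1 ho]; exact ⟨(hSm g g.2).1, (hSm g g.2).2.1, (hSm g g.2).2.2.2.2⟩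
    · rw [Multiset.eq_of_mem_replicate hf]; exact hQ
  have hEnf : ∀ s, normalizedFactors (E s).prod = E s := fun s => by
    rw [normalizedFactors_prod_eq _ fun a ha => (hEmem s a ha).2.1]
    conv_rhs => rw [← Multiset.map_id (E s)]
    exact Multiset.map_congr rfl fun a ha => (hEmem s a ha).1.normalize_eq_self
  have hEdeg : ∀ s : Sym (Option S) k, (E s.1).prod.natDegree = n := fun s => by
    rw [natDegree_multiset_prod_of_monic _ fun a ha => (hEmem _ a ha).1]
    have h : ∀ u : Multiset (Option S), ((u.bind ψ).map natDegree).sum = i * Multiset.card u := fun u => by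
      induction u using Multiset.induction with
      | empty => simp
      | cons a u ih =>
        rw [Multiset.cons_bind, Multiset.map_add, Multiset.sum_add, ih, Multiset.card_cons]
        rcases a with _ | f
        · simp [ψ, hQd]; ring
        · simp [ψ, (hSm f f.2).2.2.1]; ring
    simp only [E, Multiset.map_add, Multiset.sum_add, h, s.2, Multiset.map_replicate, Multiset.sum_replicate, hQd,
      smul_eq_mul, mul_one]
    exact Nat.div_add_mod n i
  have hEinj : ∀ s s' : Sym (Option S) k, E s.1 = E s'.1 → s = s' := by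
    intro s s' h
    have h1 : (s.1.filterMap id) = (s'.1.filterMap id) := by
      have := congrArg (fun M => M.filter (fun f => f ≠ Q)) h
      simp only [hfilter] at this
      exact Multiset.map_injective Subtype.val_injective this
    refine Subtype.ext ?_
    rw [multiset_option s.1, multiset_option s'.1, count_none_eq, count_none_eq, h1, s.2, s'.2]
  let s₀ : Sym (Option S) k := Sym.replicate k none
  have hs₀ : E s₀.1 = Multiset.replicate n Q := by
    refine Multiset.eq_replicate.2 ⟨?_, fun b hb => ?_⟩
    · show Multiset.card ((Multiset.replicate k none).bind ψ + Multiset.replicate (n % i) Q) = n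
      rw [Multiset.card_add, Multiset.card_bind, Multiset.map_replicate, Multiset.sum_replicate]
      simp only [Function.comp_apply, ψ, Option.elim_none, Multiset.card_replicate, smul_eq_mul]
      rw [mul_comm]; exact Nat.div_add_mod n i
    · rcases Multiset.mem_add.1 hb with hb | hb
      · obtain ⟨o, ho, hb⟩ := Multiset.mem_bind.1 hb
        rw [Sym.val_replicate] at ho
        rw [Multiset.eq_of_mem_replicate ho] at hb
        exact Multiset.eq_of_mem_replicate hb
      · exact Multiset.eq_of_mem_replicate hb
  have hex : ∀ s : {s : Sym (Option S) k // s ≠ s₀},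
      ∃ g : GL (Fin n) F, orderOf g = r ∧ (g : Matrix (Fin n) (Fin n) F).charpoly = (E s.1.1).prod := by
    intro s
    refine realize hr hr0 (hmp _ fun a ha => (hEmem _ a ha).1) (hEdeg s.1)
      (fun f hm hf hd => ?_) (fun h => s.2 (hEinj _ _ ?_))
    · obtain ⟨a, ha, hfa⟩ := hf.prime.exists_mem_multiset_dvd hd
      rw [eq_of_monic_of_associated hm (hEmem _ a ha).1 (hf.associated_of_dvd (hEmem _ a ha).2.1 hfa)]
      exact (hEmem _ a ha).2.2
    · rw [hs₀, ← hEnf s.1.1, h, ← Multiset.prod_replicate,
        normalizedFactors_prod_eq _ fun a ha => Multiset.eq_of_mem_replicate ha ▸ hQi, Multiset.map_replicate,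
        hQm.normalize_eq_self]
  choose g hg hgc using hex
  have hbij : Function.Bijective (fun s : {s : Sym (Option S) k // s ≠ s₀} =>
      (⟨ConjClasses.mk (g s), g s, rfl, hg s⟩ :
        {C : ConjClasses (GL (Fin n) F) // ∃ g : GL (Fin n) F, ConjClasses.mk g = C ∧ orderOf g = r})) := by
    constructor
    · intro s s' h
      obtain ⟨c, hc⟩ := isConj_iff.1 (ConjClasses.mk_eq_mk_iff_isConj.1 (congrArg Subtype.val h))
      have h1 : (E s.1.1).prod = (E s'.1.1).prod := by
        rw [← hgc, ← hgc, ← hc, Units.val_mul, Units.val_mul, Matrix.coe_units_inv, Matrix.charpoly_units_conj]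
      refine Subtype.ext (hEinj _ _ ?_)
      rw [← hEnf, h1, hEnf]
    · rintro ⟨-, x, rfl, hx⟩
      set χ := (x : Matrix (Fin n) (Fin n) F).charpoly
      have hT : CfsgLib.MiscSemi.Ord (CfsgLib.MiscSemi.toEnd x) :=
        CfsgLib.MiscSemi.ord_toEnd (p := p) (by rw [hx]; exact hpr.symm)
      have hTr : CfsgLib.MiscSemi.toEnd x ^ r = 1 := by
        rw [CfsgLib.MiscSemi.toEnd, ← map_pow, ← Units.val_pow_eq_pow_val, ← hx, pow_orderOf_eq_one, Units.val_one, map_one]
      have hfac : ∀ f : F[X], f.Monic → Irreducible f → f ∣ χ → f ∣ X ^ r - 1 := by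
        intro f hm hf hd
        obtain ⟨v, hv, hfv⟩ := CfsgLib.MiscSemi.exists_ker _ rfl hT hm hf
          (by rw [CfsgLib.MiscSemi.charpoly_toEnd]; exact hd)
        by_contra hn
        obtain ⟨a, b, hab⟩ := (Irreducible.coprime_iff_not_dvd hf).2 hn
        have h1 := LinearMap.congr_fun (congrArg (aeval (CfsgLib.MiscSemi.toEnd x)) hab) v
        rw [map_add, map_mul, map_mul, LinearMap.add_apply, Module.End.mul_apply, Module.End.mul_apply, hfv] at h1
        exact hv (by simpa [hTr] using h1.symm)
      have hχm : χ.Monic := Matrix.charpoly_monic _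
      set M := normalizedFactors χ
      have hMmem : ∀ f ∈ M, f.Monic ∧ (f = Q ∨ f ∈ S) := fun f hf => by
        have hirr := irreducible_of_normalized_factor f hf
        have hm : f.Monic := by rw [← normalize_normalized_factor f hf]; exact monic_normalize hirr.ne_zero
        exact ⟨hm, hclass f hm hirr (hfac f hm hirr (dvd_of_mem_normalizedFactors hf))⟩
      have hMprod : M.prod = χ :=
        eq_of_monic_of_associated (hmp _ fun a ha => (hMmem a ha).1) hχm
          (prod_normalizedFactors hχm.ne_zero)
      set O := M.filter (fun f => f ≠ Q)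
      have hO : ∀ f ∈ O, f ∈ S := fun f hf =>
        ((hMmem f (Multiset.mem_of_mem_filter hf)).2).resolve_left (Multiset.of_mem_filter (p := fun f => f ≠ Q) hf)
      let L : Multiset S := O.pmap (fun f h => (⟨f, h⟩ : S)) hO
      have hL : L.map (fun f : S => (f : F[X])) = O := by
        simp only [L, Multiset.map_pmap, Multiset.pmap_eq_map, Multiset.map_id']
      have hM : M = O + Multiset.replicate (M.count Q) Q := by
        rw [← Multiset.filter_eq' M Q, add_comm]
        simpa [O] using (Multiset.filter_add_not (fun f => f = Q) M).symm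
      have hn : n = i * Multiset.card L + M.count Q := by
        have h1 : χ.natDegree = n := by simp [χ, Matrix.charpoly_natDegree_eq_dim]
        rw [← hMprod, natDegree_multiset_prod_of_monic _ fun a ha => (hMmem a ha).1, hM, Multiset.map_add,
          Multiset.sum_add, Multiset.map_replicate, Multiset.sum_replicate, hQd, smul_eq_mul, mul_one, ← hL,
          Multiset.map_map, Multiset.map_congr (f := natDegree ∘ fun f : S => (f : F[X])) (g := fun _ => i) rfl (fun f _ => (hSm f f.2).2.2.1),
          Multiset.map_const', Multiset.sum_replicate, smul_eq_mul, mul_comm] at h1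
        exact h1.symm
      have hle : Multiset.card L ≤ k := by
        rw [Nat.le_div_iff_mul_le hipos, mul_comm]; omega
      let s : Sym (Option S) k := ⟨L.map some + Multiset.replicate (k - Multiset.card L) none, by
        rw [Multiset.card_add, Multiset.card_map, Multiset.card_replicate]; omega⟩
      have hEs : E s.1 = M := by
        show (L.map some + Multiset.replicate (k - Multiset.card L) none).bind ψ + Multiset.replicate (n % i) Q = M
        rw [Multiset.add_bind, Multiset.bind_map, hM, ← hL]
        have e1 : L.bind (fun f => ψ (some f)) = L.map (fun f : S => (f : F[X])) := Multiset.bind_singleton _ _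
        have e2 : ∀ j : ℕ, (Multiset.replicate j (none : Option S)).bind ψ = Multiset.replicate (j * i) Q := fun j => by
          induction j with
          | zero => simp
          | succ j ih =>
            rw [Multiset.replicate_succ, Multiset.cons_bind, ih, Nat.succ_mul, add_comm (j * i), Multiset.replicate_add]
            rfl
        rw [e1, e2, add_assoc, ← Multiset.replicate_add, hL, ← hM]
        conv_rhs => rw [hM]
        congr 2
        have := Nat.div_add_mod n i
        rw [Nat.sub_mul, mul_comm k, mul_comm (Multiset.card L)]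
        have h2 : i * Multiset.card L ≤ i * k := Nat.mul_le_mul_left _ hle
        change i * k + n % i = n at this
        omega
      have hs : s ≠ s₀ := by
        intro h
        have hMQ : M = Multiset.replicate n Q := by rw [← hEs, h, hs₀]
        obtain ⟨c, hc⟩ := CfsgLib.MiscSemi.conj_of_charpoly (p := p) (g := x) (h := 1)
          (by rw [hx]; exact hpr.symm) (by simp) (by
            show χ = _
            rw [← hMprod, hMQ, Multiset.prod_replicate, Units.val_one, Matrix.charpoly_one, Fintype.card_fin]
            simp [Q])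
        rw [mul_inv_eq_one, mul_eq_left] at hc
        rw [hc, orderOf_one] at hx
        exact hr.ne_one hx.symm
      refine ⟨⟨s, hs⟩, Subtype.ext ?_⟩
      obtain ⟨c, hc⟩ := CfsgLib.MiscSemi.conj_of_charpoly (p := p) (g := g ⟨s, hs⟩) (h := x)
        (by rw [hg]; exact hpr.symm) (by rw [hx]; exact hpr.symm) (by rw [hgc, hEs, hMprod])
      exact ConjClasses.mk_eq_mk_iff_isConj.2 (isConj_iff.2 ⟨c, hc⟩)
  rw [← Nat.card_eq_of_bijective _ hbij]
  rw [Nat.card_eq_fintype_card, Fintype.card_subtype_compl, Fintype.card_subtype_eq, Sym.card_sym_eq_choose,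
    Fintype.card_option, Fintype.card_coe, hS, show t + 1 + k - 1 = k + t by rw [Nat.add_right_comm, Nat.add_sub_cancel, add_comm], Nat.choose_symm_add]

end CfsgLib.MiscPrimeClasses
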