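import Mathlib
import Cfsg.Prelude.Def_PLocal
import Cfsg.Prelude.Def_LocalEven

/-!
Sections of PSL₂ in the defining characteristic have abelian Sylow subgroups, so Qd(p) is not among them.
-/

set_option autoImplicit false

namespace CfsgLib.MiscQdSection

open Matrix

def PAbelian (p : ℕ) (G : Type*) [Group G] : Prop :=
  ∀ P : Subgroup G, IsPGroup p P → ∀ a ∈ P, ∀ b ∈ P, a * b = b * a

theorem PAbelian.sub {p : ℕ} {G H : Type*} [Group G] [Group H] (f : H →* G) (hf : Function.Injective f)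
    (h : PAbelian p G) : PAbelian p H := by
  intro P hP a ha b hb
  exact hf (by
    rw [map_mul, map_mul]
    exact h (P.map f) (hP.map f) _ (Subgroup.mem_map_of_mem f ha) _ (Subgroup.mem_map_of_mem f hb))

theorem PAbelian.quot {p : ℕ} [Fact p.Prime] {G H : Type*} [Group G] [Finite G] [Group H] (f : G →* H)
    (hf : Function.Surjective f) (h : PAbelian p G) : PAbelian p H := by
  intro Q hQ a ha b hb
  haveI : Finite H := Finite.of_surjective f hf
  obtain ⟨S, hS⟩ := hQ.exists_le_sylow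
  obtain ⟨P, rfl⟩ := Sylow.mapSurjective_surjective hf p S
  obtain ⟨x, hx, rfl⟩ := hS ha
  obtain ⟨y, hy, rfl⟩ := hS hb
  rw [← map_mul, ← map_mul, h _ P.2 x hx y hy]

variable {p : ℕ} [Fact p.Prime] {K : Type*} [Field K] [Fintype K] [CharP K p]

theorem pAbelian_SL : PAbelian p (Matrix.SpecialLinearGroup (Fin 2) K) := by
  classical
  intro P hP a ha b hb
  letI : MulAction P (Fin 2 → K) :=
    { smul := fun g v => ((g : Matrix.SpecialLinearGroup (Fin 2) K) : Matrix (Fin 2) (Fin 2) K) *ᵥ v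
      one_smul := fun v => Matrix.one_mulVec v
      mul_smul := fun g h v => (Matrix.mulVec_mulVec v _ _).symm }
  have hdvd : p ∣ Nat.card (Fin 2 → K) := by
    obtain ⟨n, -, hn⟩ := FiniteField.card K p
    rw [Nat.card_eq_fintype_card, Fintype.card_fun, hn, Fintype.card_fin, ← pow_mul]
    exact dvd_pow_self p (Nat.mul_ne_zero n.ne_zero two_ne_zero)
  obtain ⟨v, hv, hv0⟩ := hP.exists_fixed_point_of_prime_dvd_card_of_fixed_point (Fin 2 → K) hdvd
    (a := 0) (fun g => Matrix.mulVec_zero _)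
  have hfix : ∀ g ∈ P, (g : Matrix (Fin 2) (Fin 2) K) *ᵥ v = v := fun g hg => hv ⟨g, hg⟩
  obtain ⟨M, hM⟩ : ∃ M : GL (Fin 2) K, (M : Matrix (Fin 2) (Fin 2) K) *ᵥ ![1, 0] = v := by
    by_cases h : v 0 = 0
    · have h1 : v 1 ≠ 0 := fun e => hv0 (funext fun i => by fin_cases i <;> simp [h, e])
      refine ⟨Matrix.GeneralLinearGroup.mkOfDetNeZero !![v 0, 1; v 1, 0] (by simp [Matrix.det_fin_two, h1]), ?_⟩
      funext i
      fin_cases i <;> simp [Matrix.GeneralLinearGroup.mkOfDetNeZero, Matrix.mulVec, dotProduct, Fin.sum_univ_two]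
    · refine ⟨Matrix.GeneralLinearGroup.mkOfDetNeZero !![v 0, 0; v 1, 1] (by simp [Matrix.det_fin_two, h]), ?_⟩
      funext i
      fin_cases i <;> simp [Matrix.GeneralLinearGroup.mkOfDetNeZero, Matrix.mulVec, dotProduct, Fin.sum_univ_two]
  have hform : ∀ g ∈ P, ∃ t : K, ((M⁻¹ : GL (Fin 2) K) : Matrix (Fin 2) (Fin 2) K) * (g : Matrix (Fin 2) (Fin 2) K) *
      (M : Matrix (Fin 2) (Fin 2) K) = !![1, t; 0, 1] := by
    intro g hg
    set A := ((M⁻¹ : GL (Fin 2) K) : Matrix (Fin 2) (Fin 2) K) * (g : Matrix (Fin 2) (Fin 2) K) *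
      (M : Matrix (Fin 2) (Fin 2) K) with hAdef
    have h1 : A *ᵥ ![1, 0] = ![1, 0] := by
      rw [hAdef, ← Matrix.mulVec_mulVec, ← Matrix.mulVec_mulVec, hM, hfix g hg, ← hM, Matrix.mulVec_mulVec,
        Units.inv_mul, Matrix.one_mulVec]
    have h00 : A 0 0 = 1 := by simpa [Matrix.mulVec, dotProduct, Fin.sum_univ_two] using congrFun h1 0
    have h10 : A 1 0 = 0 := by simpa [Matrix.mulVec, dotProduct, Fin.sum_univ_two] using congrFun h1 1
    have hdet : A.det = 1 := by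
      rw [hAdef, Matrix.det_units_conj', g.2]
    rw [Matrix.det_fin_two, h00, h10, one_mul, mul_zero, sub_zero] at hdet
    refine ⟨A 0 1, ?_⟩
    ext i j
    fin_cases i <;> fin_cases j <;> simp [h00, h10, hdet]
  obtain ⟨s, hs⟩ := hform a ha
  obtain ⟨t, ht⟩ := hform b hb
  refine Subtype.ext ?_
  have e1 : (a : Matrix (Fin 2) (Fin 2) K) = (M : Matrix (Fin 2) (Fin 2) K) * !![1, s; 0, 1] *
      ((M⁻¹ : GL (Fin 2) K) : Matrix (Fin 2) (Fin 2) K) := by
    simp [← hs, mul_assoc]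
  have e2 : (b : Matrix (Fin 2) (Fin 2) K) = (M : Matrix (Fin 2) (Fin 2) K) * !![1, t; 0, 1] *
      ((M⁻¹ : GL (Fin 2) K) : Matrix (Fin 2) (Fin 2) K) := by
    simp [← ht, mul_assoc]
  show (a : Matrix (Fin 2) (Fin 2) K) * (b : Matrix (Fin 2) (Fin 2) K) = (b : Matrix (Fin 2) (Fin 2) K) * a
  have h2 : (!![1, s; 0, 1] : Matrix (Fin 2) (Fin 2) K) * !![1, t; 0, 1] = !![1, t; 0, 1] * !![1, s; 0, 1] := by
    simp [Matrix.mul_fin_two, add_comm]
  rw [e1, e2]
  simp only [mul_assoc]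
  rw [← mul_assoc ((M⁻¹ : GL (Fin 2) K) : Matrix (Fin 2) (Fin 2) K), Units.inv_mul, one_mul,
    ← mul_assoc ((M⁻¹ : GL (Fin 2) K) : Matrix (Fin 2) (Fin 2) K), Units.inv_mul, one_mul,
    ← mul_assoc !![1, s; 0, 1], h2, mul_assoc]

theorem not_pAbelian_qd (hp : p ≠ 2) : ¬ PAbelian p ↥(Cfsg.qd p) := by
  classical
  intro h
  let ut : Matrix.SpecialLinearGroup (Fin 3) (ZMod p) → Prop := fun M =>
    (M : Matrix (Fin 3) (Fin 3) (ZMod p)) 0 0 = 1 ∧ (M : Matrix (Fin 3) (Fin 3) (ZMod p)) 1 1 = 1 ∧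
    (M : Matrix (Fin 3) (Fin 3) (ZMod p)) 2 2 = 1 ∧ (M : Matrix (Fin 3) (Fin 3) (ZMod p)) 1 0 = 0 ∧
    (M : Matrix (Fin 3) (Fin 3) (ZMod p)) 2 0 = 0 ∧ (M : Matrix (Fin 3) (Fin 3) (ZMod p)) 2 1 = 0
  have hmul : ∀ M N, ut M → ut N → ut (M * N) := by
    rintro M N ⟨a1, a2, a3, a4, a5, a6⟩ ⟨b1, b2, b3, b4, b5, b6⟩
    simp [ut, Matrix.SpecialLinearGroup.coe_mul, Matrix.mul_apply, Fin.sum_univ_three, *]
  have hone : ut 1 := by simp [ut]
  have hpow : ∀ M, ut M → M ^ p = 1 := by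
    rintro M ⟨a1, a2, a3, a4, a5, a6⟩
    refine Subtype.ext ?_
    rw [Matrix.SpecialLinearGroup.coe_pow, Matrix.SpecialLinearGroup.coe_one]
    have hN : ((M : Matrix (Fin 3) (Fin 3) (ZMod p)) - 1) ^ 3 = 0 := by
      ext i j
      rw [pow_three, Matrix.mul_apply]
      fin_cases i <;> fin_cases j <;>
        simp [Matrix.mul_apply, Fin.sum_univ_three, Matrix.one_apply, *]
    have h3 : 3 ≤ p := by have := (Fact.out : p.Prime).two_le; omega
    have h2 : ((M : Matrix (Fin 3) (Fin 3) (ZMod p)) - 1) ^ p = 0 := by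
      exact pow_eq_zero_of_le h3 hN
    rw [show (M : Matrix (Fin 3) (Fin 3) (ZMod p)) = ((M : Matrix (Fin 3) (Fin 3) (ZMod p)) - 1) + 1 by simp,
      add_pow_char_of_commute p (Commute.one_right _), h2, one_pow, zero_add]
  let U : Subgroup ↥(Cfsg.qd p) :=
    { carrier := {g | ut g.1}
      one_mem' := hone
      mul_mem' := fun {x y} hx hy => hmul _ _ hx hy
      inv_mem' := fun {x} hx => by
        show ut (x.1)⁻¹
        have e : (x.1)⁻¹ = x.1 ^ (p - 1) := inv_eq_of_mul_eq_one_right (by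
          rw [← pow_succ', Nat.sub_add_cancel (Fact.out : p.Prime).one_le, hpow _ hx])
        rw [e]
        generalize p - 1 = k
        induction k with
        | zero => rw [pow_zero]; exact hone
        | succ k ih => rw [pow_succ]; exact hmul _ _ ih hx }
  have hU : IsPGroup p U := fun g => ⟨1, by
    rw [pow_one]; exact Subtype.ext (Subtype.ext (hpow _ g.2))⟩
  let X : Matrix.SpecialLinearGroup (Fin 3) (ZMod p) :=
    ⟨!![1, 1, 0; 0, 1, 0; 0, 0, 1], by simp [Matrix.det_fin_three]⟩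
  let Y : Matrix.SpecialLinearGroup (Fin 3) (ZMod p) :=
    ⟨!![1, 0, 0; 0, 1, 1; 0, 0, 1], by simp [Matrix.det_fin_three]⟩
  have hX : X ∈ Cfsg.qd p := Subgroup.subset_closure ⟨rfl, rfl, rfl⟩
  have hY : Y ∈ Cfsg.qd p := Subgroup.subset_closure ⟨rfl, rfl, rfl⟩
  have hXU : (⟨X, hX⟩ : ↥(Cfsg.qd p)) ∈ U := by show ut X; simp [ut, X]
  have hYU : (⟨Y, hY⟩ : ↥(Cfsg.qd p)) ∈ U := by show ut Y; simp [ut, Y]
  have e := congrArg (fun g : ↥(Cfsg.qd p) => (g.1 : Matrix (Fin 3) (Fin 3) (ZMod p)) 0 2) (h U hU _ hXU _ hYU)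
  simp only [Subgroup.coe_mul, Matrix.SpecialLinearGroup.coe_mul] at e
  simp [X, Y, Matrix.mul_apply, Fin.sum_univ_three] at e

theorem main (hp : p ≠ 2) : ¬ Cfsg.Involves ↥(Cfsg.qd p) (Matrix.ProjectiveSpecialLinearGroup (Fin 2) K) := by
  rintro ⟨H, R, hR, ⟨e⟩⟩
  haveI := hR
  have h1 : PAbelian p (Matrix.ProjectiveSpecialLinearGroup (Fin 2) K) :=
    pAbelian_SL.quot (QuotientGroup.mk' _) (QuotientGroup.mk'_surjective _)
  have h2 := ((h1.sub H.subtype H.subtype_injective).quot (QuotientGroup.mk' (R.subgroupOf H))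
    (QuotientGroup.mk'_surjective _)).sub e.symm.toMonoidHom e.symm.injective
  exact not_pAbelian_qd hp h2

end CfsgLib.MiscQdSection
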