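import Mathlib

/-! Facts about SL(2, 3). -/

set_option autoImplicit false
set_option maxRecDepth 100000
set_option maxHeartbeats 1000000

open Matrix

namespace CfsgLib.Misc.SL23Facts

local notation "G" => SpecialLinearGroup (Fin 2) (ZMod 3)

theorem card_G : Fintype.card G = 24 := by decide +kernel

theorem central : ∀ a : G, (∀ b : G, a * b = b * a) ↔ (a * a = 1) := by decide +kernel

theorem card_two : Fintype.card {a : G // a * a = 1} = 2 := by decide +kernel

theorem comm_four : ∀ a b : G, (a * b * a⁻¹ * b⁻¹) * (a * b * a⁻¹ * b⁻¹) * ((a * b * a⁻¹ * b⁻¹) * (a * b * a⁻¹ * b⁻¹)) = 1 := by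
  decide +kernel

theorem four_comm : ∀ x : G, x * x * (x * x) = 1 → ∃ a b : G, a * b * a⁻¹ * b⁻¹ = x := by decide +kernel

theorem card_four : Fintype.card {a : G // a * a * (a * a) = 1} = 8 := by decide +kernel

theorem out_gen : ∀ x : G, x * x * (x * x) ≠ 1 → ∀ q : G, q * q * (q * q) = 1 →
    ∃ g h : G, x * g * x⁻¹ * g⁻¹ * (x * h * x⁻¹ * h⁻¹) = q := by decide +kernel

theorem in_gen : ∀ x : G, x * x * (x * x) = 1 → x * x ≠ 1 → ∀ q : G, q * q * (q * q) = 1 →
    ∃ g h : G, g * x * g⁻¹ * (h * x * h⁻¹) = q := by decide +kernel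

theorem four_mul : ∀ a b : G, a * a * (a * a) = 1 → b * b * (b * b) = 1 →
    a * b * (a * b) * (a * b * (a * b)) = 1 := by decide +kernel

theorem four_inv : ∀ a : G, a * a * (a * a) = 1 → a⁻¹ * a⁻¹ * (a⁻¹ * a⁻¹) = 1 := by decide +kernel

/-- The elements of order dividing four. -/
def Q : Subgroup G where
  carrier := {a | a * a * (a * a) = 1}
  mul_mem' {a b} ha hb := four_mul a b ha hb
  one_mem' := by simp
  inv_mem' {a} ha := four_inv a ha

theorem commutator_eq : commutator G = Q := by
  refine le_antisymm ?_ fun x hx => ?_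
  · rw [commutator_def, Subgroup.commutator_le]
    intro a _ b _
    exact comm_four a b
  · obtain ⟨a, b, h⟩ := four_comm x hx
    rw [← h, ← commutatorElement_def]
    exact Subgroup.commutator_mem_commutator (Subgroup.mem_top a) (Subgroup.mem_top b)

theorem card_Q : Nat.card Q = 8 :=
  (Nat.card_congr (Equiv.subtypeEquivRight (q := fun a : G => a * a * (a * a) = 1) fun _ => Iff.rfl)).trans
    (Nat.card_eq_fintype_card.trans card_four)

def qi : G := ⟨!![0, -1; 1, 0], by decide⟩
def qj : G := ⟨!![1, 1; 1, -1], by decide⟩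

def qf : QuaternionGroup 2 → G
  | .a k => qi ^ k.val
  | .xa k => qj * qi ^ k.val

theorem qf_mul : ∀ x y, qf (x * y) = qf x * qf y := by decide +kernel
theorem qf_inj : ∀ x y, qf x = qf y → x = y := by decide +kernel
theorem qf_mem : ∀ x, qf x * qf x * (qf x * qf x) = 1 := by decide +kernel

theorem q8 : Nonempty (Q ≃* QuaternionGroup 2) := by
  let f : QuaternionGroup 2 →* Q := MonoidHom.mk' (fun x => ⟨qf x, qf_mem x⟩) fun x y => Subtype.ext (qf_mul x y)
  have hinj : Function.Injective f := fun x y h => qf_inj x y (congrArg Subtype.val h)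
  have hcard : Nat.card (QuaternionGroup 2) = Nat.card Q := by
    rw [card_Q, Nat.card_eq_fintype_card, QuaternionGroup.card]
  exact ⟨(MulEquiv.ofBijective f ((Nat.bijective_iff_injective_and_card f).2 ⟨hinj, hcard⟩)).symm⟩

theorem main :
    Nat.card G = 24 ∧
    Nat.card (Subgroup.center G) = 2 ∧
    Nat.card (commutator G) = 8 ∧
    Nonempty (commutator G ≃* QuaternionGroup 2) ∧
    (∀ P : Sylow 3 G, Subgroup.IsComplement' (commutator G) (P : Subgroup G)) ∧
    ∀ N : Subgroup G, N.Normal →
      N = ⊥ ∨ N = ⊤ ∨ N = Subgroup.center G ∨ N = commutator G := by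
  classical
  have hG : Nat.card G = 24 := Nat.card_eq_fintype_card.trans card_G
  have hcen : ∀ a : G, a ∈ Subgroup.center G ↔ a * a = 1 := fun a => by
    rw [Subgroup.mem_center_iff, ← central a]
    exact ⟨fun h b => (h b).symm, fun h b => (h b).symm⟩
  have hZ : Nat.card (Subgroup.center G) = 2 := by
    refine (Nat.card_congr (Equiv.subtypeEquivRight hcen)).trans ?_
    exact Nat.card_eq_fintype_card.trans card_two
  rw [commutator_eq]
  refine ⟨hG, hZ, card_Q, q8, fun P => ?_, fun N hN => ?_⟩
  · haveI : Fact (Nat.Prime 3) := ⟨by norm_num⟩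
    have hP : Nat.card (P : Subgroup G) = 3 := by
      rw [P.card_eq_multiplicity, hG]
      have h : Nat.factorization 24 3 = 1 := by
        rw [show (24 : ℕ) = 3 ^ 1 * 8 from rfl, Nat.factorization_mul (by norm_num) (by norm_num),
          Finsupp.add_apply, Nat.factorization_pow, Finsupp.smul_apply,
          Nat.Prime.factorization_self (by norm_num),
          Nat.factorization_eq_zero_of_not_dvd (by norm_num)]
        rfl
      rw [h, pow_one]
    exact Subgroup.isComplement'_of_coprime (by rw [card_Q, hP, hG]) (by rw [card_Q, hP]; decide)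
  · by_cases h1 : ∀ x ∈ N, x * x = 1
    · have hle : N ≤ Subgroup.center G := fun x hx => (hcen x).2 (h1 x hx)
      have hd := Subgroup.card_dvd_of_le hle
      rw [hZ] at hd
      rcases (Nat.dvd_prime Nat.prime_two).1 hd with h | h
      · exact Or.inl (Subgroup.card_eq_one.1 h)
      · exact Or.inr (Or.inr (Or.inl (Subgroup.eq_of_le_of_card_ge hle (by rw [hZ, h]))))
    · push Not at h1
      obtain ⟨x, hx, hx2⟩ := h1
      by_cases h2 : ∀ y ∈ N, y * y * (y * y) = 1
      · refine Or.inr (Or.inr (Or.inr (le_antisymm (fun y hy => h2 y hy) fun q hq => ?_)))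
        obtain ⟨g, h, e⟩ := in_gen x (h2 x hx) hx2 q hq
        rw [← e]
        exact mul_mem (hN.conj_mem x hx g) (hN.conj_mem x hx h)
      · push Not at h2
        obtain ⟨y, hy, hy4⟩ := h2
        have hQN : Q ≤ N := fun q hq => by
          obtain ⟨g, h, e⟩ := out_gen y hy4 q hq
          have hc : ∀ g : G, y * g * y⁻¹ * g⁻¹ ∈ N := fun g => by
            rw [mul_assoc y g, mul_assoc y]
            exact mul_mem hy (hN.conj_mem _ (inv_mem hy) g)
          rw [← e]
          exact mul_mem (hc g) (hc h)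
        have h8 : 8 ∣ Nat.card N := card_Q ▸ Subgroup.card_dvd_of_le hQN
        have h24 : Nat.card N ∣ 24 := hG ▸ Subgroup.card_subgroup_dvd_card N
        have hne : Nat.card N ≠ 8 := fun e =>
          hy4 ((Subgroup.eq_of_le_of_card_ge hQN (by rw [card_Q, e])) ▸ hy : y ∈ Q)
        refine Or.inr (Or.inl (Subgroup.eq_top_of_card_eq N ?_))
        rw [hG]
        have hle : Nat.card N ≤ 24 := Nat.le_of_dvd (by norm_num) h24
        obtain ⟨c, hc⟩ := h8
        rw [hc] at h24 hne hle ⊢
        have : c ≤ 3 := by omega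
        interval_cases c <;> omega

end CfsgLib.Misc.SL23Facts
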