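import Cfsg.Agent.Lie.SLn
import Cfsg.Agent.Lie.Orders
import Mathlib.GroupTheory.Complement

/-!
The centre of SL(3,4).
-/

set_option autoImplicit false

namespace CfsgLib.MiscLin

theorem sl34 (F : Type*) [Field F] [Fintype F] (hF : Fintype.card F = 4) :
    Nat.card ↥(Subgroup.center (Matrix.SpecialLinearGroup (Fin 3) F)) = 3 ∧
    ¬ ∃ K : Subgroup (Matrix.SpecialLinearGroup (Fin 3) F),
      Subgroup.IsComplement' (Subgroup.center (Matrix.SpecialLinearGroup (Fin 3) F)) K := by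
  classical
  have hc : Nat.card ↥(Subgroup.center (Matrix.SpecialLinearGroup (Fin 3) F)) = 3 := by
    have := CfsgLib.Lie.Orders.card_center_SL (n := Fin 3) (F := F)
    rw [this]
    simp [hF]
  refine ⟨hc, ?_⟩
  rintro ⟨K, hK⟩
  set G := Matrix.SpecialLinearGroup (Fin 3) F
  have hperf : commutator G = ⊤ := CfsgLib.Lie.SLn.commutator_eq_top (Or.inl (by simp))
  have hle : commutator G ≤ K := by
    rw [commutator_def, Subgroup.commutator_le]
    intro g _ h _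
    obtain ⟨⟨⟨z, hz⟩, ⟨k, hk⟩⟩, rfl⟩ := hK.surjective g
    obtain ⟨⟨⟨z', hz'⟩, ⟨k', hk'⟩⟩, rfl⟩ := hK.surjective h
    rw [commutatorElement_def]
    have e : z * k * (z' * k') * (z * k)⁻¹ * (z' * k')⁻¹ = k * k' * k⁻¹ * k'⁻¹ := by
      have c1 := Subgroup.mem_center_iff.1 hz
      have c2 := Subgroup.mem_center_iff.1 hz'
      calc z * k * (z' * k') * (z * k)⁻¹ * (z' * k')⁻¹
          = z * (k * z') * k' * k⁻¹ * z⁻¹ * k'⁻¹ * z'⁻¹ := by group
        _ = z * (z' * k) * k' * k⁻¹ * z⁻¹ * k'⁻¹ * z'⁻¹ := by rw [c2 k]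
        _ = z * z' * (k * k' * k⁻¹) * z⁻¹ * k'⁻¹ * z'⁻¹ := by group
        _ = z * z' * (z⁻¹ * (k * k' * k⁻¹)) * k'⁻¹ * z'⁻¹ := by
          rw [← Subgroup.mem_center_iff.1 (Subgroup.inv_mem _ hz) (k * k' * k⁻¹)]; group
        _ = (z * z' * z⁻¹) * ((k * k' * k⁻¹ * k'⁻¹) * z'⁻¹) := by group
        _ = (z' * z * z⁻¹) * (z'⁻¹ * (k * k' * k⁻¹ * k'⁻¹)) := by
          rw [c1 z', Subgroup.mem_center_iff.1 (Subgroup.inv_mem _ hz') (k * k' * k⁻¹ * k'⁻¹)]
        _ = k * k' * k⁻¹ * k'⁻¹ := by group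
    show z * k * (z' * k') * (z * k)⁻¹ * (z' * k')⁻¹ ∈ K
    rw [e]
    exact K.mul_mem (K.mul_mem (K.mul_mem hk hk') (K.inv_mem hk)) (K.inv_mem hk')
  rw [hperf, top_le_iff] at hle
  subst hle
  have h1 := hK.card_mul
  rw [hc, Subgroup.card_top] at h1
  have hpos : 0 < Nat.card G := Nat.card_pos
  change 3 * Nat.card G = Nat.card G at h1
  omega

end CfsgLib.MiscLin
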