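import Cfsg.Agent.Misc.GLTwoClassify
import Mathlib.Algebra.QuadraticDiscriminant
import Mathlib.LinearAlgebra.Matrix.ToLinearEquiv

/-!
The irreducible characters of SL₂(q): the principal series, its halves and the cuspidal ones.
-/

set_option autoImplicit false
set_option linter.unusedSectionVars false
set_option linter.unusedSimpArgs false

namespace CfsgLib.Misc.SLTwoClassify

open Cfsg CfsgLib.Char BorelInduced PrincipalSeries GelfandGraev
open GLTwoClassify (eq_zero_of_mulChar_sums irr_detChar isCharacter_psG)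
open scoped ComplexConjugate

variable {F : Type*} [Field F] [Fintype F] [DecidableEq F]

local notation "GL2" => Matrix.GeneralLinearGroup (Fin 2) F
local notation "SL2" => Matrix.SpecialLinearGroup (Fin 2) F
local notation "toG" => (Matrix.SpecialLinearGroup.toGL :
  Matrix.SpecialLinearGroup (Fin 2) F →* Matrix.GeneralLinearGroup (Fin 2) F)

theorem toG_injective : Function.Injective toG := Matrix.SpecialLinearGroup.toGL_injective

/-- upper unitriangular elements and the anti-involution -/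
def setupS : Setup toG where
  inj := toG_injective
  u x := ⟨!![1, x; 0, 1], by simp [Matrix.det_fin_two]⟩
  hu _ := rfl
  τ g := ⟨!![(g : Matrix (Fin 2) (Fin 2) F) 1 1, (g : Matrix (Fin 2) (Fin 2) F) 0 1;
      (g : Matrix (Fin 2) (Fin 2) F) 1 0, (g : Matrix (Fin 2) (Fin 2) F) 0 0], by
      have := g.2
      rw [Matrix.det_fin_two] at this
      rw [Matrix.det_fin_two]
      simp
      linear_combination this⟩
  hτ _ := rfl

/-- not a constituent of the principal series -/
def Cuspidal (χ : SL2 → ℂ) : Prop := ∀ α : MulChar F ℂ, classInner (psS α) χ = 0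

theorem cusp_sum {χ : SL2 → ℂ} (hχ : IsIrrCharacter SL2 χ) (h : Cuspidal χ) (a : Fˣ) :
    ∑ x : F, χ (eS (a, x) : SL2) = 0 := by
  classical
  haveI : Fintype (Bor toG) := Fintype.ofFinite _
  let g : Fˣ → ℂ := fun a => ∑ x : F, conj (χ (eS (a, x) : SL2))
  have h2 : g = 0 := by
    refine eq_zero_of_mulChar_sums _ fun α => ?_
    have e := h α
    rw [CfsgLib.Char.frobenius _ _ (classFun_of_irr hχ), classInner_def, mul_eq_zero] at e
    have e' := e.resolve_left (inv_ne_zero (natCard_ne_zero _))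
    rw [← Fintype.sum_equiv eS (fun p => th toG (fun a _ => α a) (eS p) * conj (χ (eS p : SL2))) _
      (fun _ => rfl), Fintype.sum_prod_type] at e'
    rw [← e']
    refine Finset.sum_congr rfl fun a _ => ?_
    simp only [Finset.mul_sum, g]
    rfl
  have := congrArg conj (congrFun h2 a)
  simpa [g, map_sum] using this

theorem eS_one (x : F) : (eS ((1 : Fˣ), x) : SL2) = setupS.u x :=
  Subtype.ext (by simp [eS, setupS, Equiv.ofBijective])

theorem cusp_zero {χ : SL2 → ℂ} (hχ : IsIrrCharacter SL2 χ) (h : Cuspidal χ) :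
    ∑ z : F, χ (setupS.u z) = 0 := by simpa [eS_one] using cusp_sum hχ h 1

theorem psS_one (α : MulChar F ℂ) : psS α 1 = (Fintype.card F : ℂ) + 1 := by
  refine (ind_scalar toG _ rS (g := 1) (by simp [mat]) (by simp [mat]) (by simp [mat]) rfl rS_some).trans ?_
  simp [mat]

theorem isCharacter_psS (α : MulChar F ℂ) : IsCharacter SL2 (psS α) :=
  isCharacter_indFun _ (th_S α ▸ isCharacter_th _ α 1)

theorem psS_eq_res (α : MulChar F ℂ) (g : SL2) : psS α g = psG α 1 (toG g) := by
  classical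
  rw [psS, th_S, psG, ind_formula toG _ rS rfl rS_some, ind_formula (MonoidHom.id GL2) _ rG rfl rG_some]
  rfl

/-- constituents of the quadratic principal series -/
theorem half {α : MulChar F ℂ} (h2 : α ^ 2 = 1) (h1 : α ≠ 1) {χ : SL2 → ℂ} (hχ : IsIrrCharacter SL2 χ)
    (hc : classInner (psS α) χ ≠ 0) :
    IsIrrCharacter SL2 (psS α - χ) ∧ χ ≠ psS α - χ ∧ 2 * χ 1 = (Fintype.card F : ℂ) + 1 ∧
      ∃ x : GL2, ∀ g h : SL2, toG h = x * toG g * x⁻¹ → (psS α - χ) h = χ g := by
  classical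
  have hrest := isCharacter_sub_constituent (isCharacter_psS α) hχ hc
  obtain ⟨n, hn⟩ := inner_char_irr (isCharacter_psS α) hχ
  have hn' : classInner χ (psS α) = n := by rw [← classInner_conj, hn, Complex.conj_natCast]
  have hnorm : classInner (psS α - χ) (psS α - χ) = 3 - 2 * (n : ℂ) := by
    rw [classInner_sub_left, classInner_sub_right, classInner_sub_right, hn, hn', irr_inner_self hχ, inner_S,
      if_pos rfl, if_pos (eq_inv_of_mul_eq_one_left (by rw [← pow_two, h2]))]
    ring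
  obtain ⟨m, hm⟩ := inner_char_char hrest hrest
  have hn1 : n = 1 := by
    have e : m + 2 * n = 3 := by exact_mod_cast (show (m : ℂ) + 2 * n = 3 by rw [← hm, hnorm]; ring)
    rcases Nat.eq_zero_or_pos n with h0 | h0
    · exact absurd (by rw [hn, h0, Nat.cast_zero]) hc
    · omega
  subst hn1
  have hirr : IsIrrCharacter SL2 (psS α - χ) := isIrr_of_char_norm hrest (by rw [hnorm]; norm_num)
  have hne : χ ≠ psS α - χ := by
    intro e
    have : classInner (psS α - χ) χ = 0 := by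
      rw [classInner_sub_left, hn, irr_inner_self hχ]; simp
    rw [← e, irr_inner_self hχ] at this
    exact one_ne_zero this
  let N : Subgroup GL2 := (toG).range
  haveI : N.Normal := by
    have : N = (Matrix.GeneralLinearGroup.det : GL2 →* Fˣ).ker := by
      ext g
      rw [MonoidHom.mem_ker]
      constructor
      · rintro ⟨k, rfl⟩
        exact Units.ext k.2
      · intro hg
        exact ⟨⟨(g : Matrix (Fin 2) (Fin 2) F), congrArg Units.val hg⟩, Units.ext rfl⟩
    rw [this]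
    infer_instance
  haveI : Fintype N := Fintype.ofFinite _
  let e : SL2 ≃* N := MonoidHom.ofInjective toG_injective
  have hirrN : ∀ {φ : SL2 → ℂ}, IsIrrCharacter SL2 φ → IsIrrCharacter N (φ ∘ e.symm) := fun hφ =>
    irr_mulEquiv e.symm hφ
  have hres : (fun k : N => psG α 1 (k : GL2)) = psS α ∘ e.symm := by
    funext k
    obtain ⟨g, rfl⟩ := e.surjective k
    simp only [Function.comp_apply, MulEquiv.symm_apply_apply, psS_eq_res]
    rfl
  have hin : ∀ {φ : SL2 → ℂ}, classInner (psS α) φ ≠ 0 →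
      classInner (fun k : N => psG α 1 (k : GL2)) (φ ∘ e.symm) ≠ 0 := fun {φ} hφ => by
    rw [hres, classInner_mulEquiv e.symm]; exact hφ
  have hc2 : classInner (psS α) (psS α - χ) ≠ 0 := by
    rw [classInner_sub_right, hn, inner_S, if_pos rfl, if_pos (eq_inv_of_mul_eq_one_left (by rw [← pow_two, h2]))]
    norm_num
  obtain ⟨x, hx⟩ := conjugate_of_constituents (irr_G α 1 h1) (hirrN hχ) (hirrN hirr) (hin hc) (hin hc2)
  have key : ∀ g h : SL2, toG h = x⁻¹ * toG g * x⁻¹⁻¹ → (psS α - χ) h = χ g := by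
    intro g h hgh
    have := congrFun hx (e h)
    simp only [Function.comp_apply, MulEquiv.symm_apply_apply, conjN] at this
    rw [this]
    congr 1
    apply e.injective
    rw [MulEquiv.apply_symm_apply]
    refine Subtype.ext ?_
    show x * toG h * x⁻¹ = toG g
    rw [hgh]
    group
  refine ⟨hirr, hne, ?_, x⁻¹, key⟩
  have := key 1 1 (by simp)
  rw [Pi.sub_apply, psS_one] at this
  linear_combination -this

/-- a commuting element of every determinant makes conjugation by GL₂ inner -/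
theorem half_value {α : MulChar F ℂ} (h2 : α ^ 2 = 1) (h1 : α ≠ 1) {χ : SL2 → ℂ} (hχ : IsIrrCharacter SL2 χ)
    (hc : classInner (psS α) χ ≠ 0) {g : SL2}
    (hg : ∀ δ : F, δ ≠ 0 → ∃ c : GL2, c * toG g = toG g * c ∧ (c : Matrix (Fin 2) (Fin 2) F).det = δ) :
    2 * χ g = psS α g := by
  obtain ⟨hirr, -, -, x, hx⟩ := half h2 h1 hχ hc
  obtain ⟨c, hcg, hcd⟩ := hg _ (Matrix.GeneralLinearGroup.det_ne_zero x)
  let k : SL2 := ⟨((x * c⁻¹ : GL2) : Matrix (Fin 2) (Fin 2) F), by
    have hd : Matrix.GeneralLinearGroup.det c = Matrix.GeneralLinearGroup.det x := Units.ext hcd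
    have : Matrix.GeneralLinearGroup.det (x * c⁻¹) = 1 := by rw [map_mul, map_inv, hd, mul_inv_cancel]
    exact congrArg Units.val this⟩
  have hk : toG k = x * c⁻¹ := Units.ext rfl
  have := hx g (k * g * k⁻¹) (by
    rw [map_mul, map_mul, map_inv, hk, mul_inv_rev, inv_inv]
    calc x * c⁻¹ * toG g * (c * x⁻¹) = x * c⁻¹ * (toG g * c) * x⁻¹ := by group
      _ = x * toG g * x⁻¹ := by rw [← hcg]; group)
  rw [classFun_of_irr hirr g k, Pi.sub_apply] at this
  linear_combination -this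

theorem exists_comm_elliptic (hodd : Odd (Fintype.card F)) {g : SL2}
    (hv : ∀ (c : F) (v : Fin 2 → F), v ≠ 0 → (g : Matrix (Fin 2) (Fin 2) F).mulVec v ≠ c • v)
    (δ : F) (hδ : δ ≠ 0) :
    ∃ c : GL2, c * toG g = toG g * c ∧ (c : Matrix (Fin 2) (Fin 2) F).det = δ := by
  set M := (g : Matrix (Fin 2) (Fin 2) F) with hM
  have hd : M 0 0 * M 1 1 - M 0 1 * M 1 0 = 1 := by rw [← Matrix.det_fin_two]; exact g.2
  have hch : ringChar F ≠ 2 := by
    intro h
    have := FiniteField.even_card_of_char_two h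
    rw [Nat.odd_iff] at hodd
    omega
  have h2 : (2 : F) ≠ 0 := Ring.two_ne_zero hch
  set D := ((M 0 0 + M 1 1) / 2) ^ 2 - 1 with hD
  have hD0 : D ≠ 0 := by
    intro h0
    obtain ⟨v, hv0, hv1⟩ := Matrix.exists_mulVec_eq_zero_iff.2
      (show (M - ((M 0 0 + M 1 1) / 2) • (1 : Matrix (Fin 2) (Fin 2) F)).det = 0 by
        rw [Matrix.det_fin_two]
        simp
        rw [hD] at h0
        field_simp at h0 ⊢
        linear_combination 4 * hd - h0)
    refine hv ((M 0 0 + M 1 1) / 2) v hv0 ?_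
    rwa [Matrix.sub_mulVec, Matrix.smul_mulVec, Matrix.one_mulVec, sub_eq_zero] at hv1
  obtain ⟨a, b, hab⟩ := FiniteField.exists_root_sum_quadratic (f := Polynomial.X ^ 2 - Polynomial.C δ)
    (g := Polynomial.C (-D) * Polynomial.X ^ 2) (Polynomial.degree_X_pow_sub_C (by norm_num) _)
    (Polynomial.degree_C_mul_X_pow 2 (neg_ne_zero.2 hD0)) (Nat.odd_iff.1 hodd)
  simp at hab
  set C : Matrix (Fin 2) (Fin 2) F := (a - (M 0 0 + M 1 1) / 2 * b) • 1 + b • M with hC
  have hdet : C.det = δ := by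
    rw [hC, Matrix.det_fin_two]
    simp
    rw [hD] at hab
    field_simp at hab ⊢
    linear_combination hab + 4 * b ^ 2 * hd
  refine ⟨Matrix.GeneralLinearGroup.mkOfDetNeZero C (hdet ▸ hδ), Units.ext ?_, hdet⟩
  show C * M = M * C
  simp [hC, add_mul, mul_add]

theorem exists_comm_diag {g : SL2} (h01 : (g : Matrix (Fin 2) (Fin 2) F) 0 1 = 0)
    (h10 : (g : Matrix (Fin 2) (Fin 2) F) 1 0 = 0) (δ : F) (hδ : δ ≠ 0) :
    ∃ c : GL2, c * toG g = toG g * c ∧ (c : Matrix (Fin 2) (Fin 2) F).det = δ := by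
  refine ⟨Matrix.GeneralLinearGroup.mkOfDetNeZero !![δ, 0; 0, 1] (by simpa [Matrix.det_fin_two] using hδ),
    Units.ext ?_, by show (!![δ, 0; 0, 1] : Matrix (Fin 2) (Fin 2) F).det = δ; simp [Matrix.det_fin_two]⟩
  show !![δ, 0; 0, 1] * (g : Matrix (Fin 2) (Fin 2) F) = (g : Matrix (Fin 2) (Fin 2) F) * !![δ, 0; 0, 1]
  rw [Matrix.eta_fin_two (g : Matrix (Fin 2) (Fin 2) F), h01, h10]
  simp [mul_comm]

theorem classify {χ : SL2 → ℂ} (hχ : IsIrrCharacter SL2 χ) :
    Cuspidal χ ∨ (∃ α : MulChar F ℂ, α ^ 2 ≠ 1 ∧ χ = psS α) ∨ χ = (fun _ => 1) ∨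
      χ = psS (1 : MulChar F ℂ) - (fun _ => 1) ∨
      (∃ α : MulChar F ℂ, α ^ 2 = 1 ∧ α ≠ 1 ∧ classInner (psS α) χ ≠ 0) := by
  classical
  by_cases hc : Cuspidal χ
  · exact Or.inl hc
  refine Or.inr ?_
  unfold Cuspidal at hc
  push Not at hc
  obtain ⟨α, hne⟩ := hc
  by_cases h2 : α ^ 2 = 1
  · by_cases h1 : α = 1
    · subst h1
      have hone : IsIrrCharacter SL2 (fun _ => (1 : ℂ)) := isIrr_one
      have h11 : classInner (psS (1 : MulChar F ℂ)) (fun _ : SL2 => (1 : ℂ)) = 1 := by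
        haveI : Fintype (Bor toG) := Fintype.ofFinite _
        have heq : th toG (fun a _ => (1 : MulChar F ℂ) a) = fun _ : Bor toG => (1 : ℂ) := by
          funext b
          exact MulChar.one_apply (isUnit_iff_ne_zero.2 (diag_ne _ ((mem_Bor _).1 b.2)).1)
        rw [psS, CfsgLib.Char.frobenius _ _ (classFun_of_irr hone), heq]
        exact classInner_one_one
      have hrest : IsIrrCharacter SL2 (psS (1 : MulChar F ℂ) - fun _ => 1) := by
        refine isIrr_of_char_norm (isCharacter_sub_constituent (isCharacter_psS 1) hone (by rw [h11]; exact one_ne_zero)) ?_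
        have h11' : classInner (fun _ : SL2 => (1 : ℂ)) (psS (1 : MulChar F ℂ)) = 1 := by
          rw [← classInner_conj, h11, map_one]
        rw [classInner_sub_left, classInner_sub_right, classInner_sub_right, h11, h11', irr_inner_self hone, inner_S]
        simp
      rw [show psS (1 : MulChar F ℂ) = (fun _ => 1) + (psS (1 : MulChar F ℂ) - fun _ => 1) by abel,
        classInner_add_left, irr_inner hone hχ, irr_inner hrest hχ] at hne
      by_cases e : (fun _ => (1 : ℂ)) = χ
      · exact Or.inr (Or.inl e.symm)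
      · refine Or.inr (Or.inr (Or.inl ?_))
        rw [if_neg e, zero_add] at hne
        by_contra e'
        exact hne (if_neg (Ne.symm e'))
    · exact Or.inr (Or.inr (Or.inr ⟨α, h2, h1, hne⟩))
  · refine Or.inl ⟨α, h2, ?_⟩
    rw [irr_inner ((irr_S_iff α).2 h2) hχ] at hne
    by_contra e
    exact hne (if_neg (Ne.symm e))

theorem steinberg_one : (psS (1 : MulChar F ℂ) - fun _ : SL2 => (1 : ℂ)) 1 = (Fintype.card F : ℂ) := by
  rw [Pi.sub_apply, psS_one]; ring

theorem diag_value_cusp {χ : SL2 → ℂ} (hχ : IsIrrCharacter SL2 χ) (h : Cuspidal χ) {g : SL2}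
    (h01 : (g : Matrix (Fin 2) (Fin 2) F) 0 1 = 0) (h10 : (g : Matrix (Fin 2) (Fin 2) F) 1 0 = 0)
    (hne : (g : Matrix (Fin 2) (Fin 2) F) 0 0 ^ 2 ≠ 1) : χ g = 0 := by
  set M := (g : Matrix (Fin 2) (Fin 2) F) with hM
  have hd : M 0 0 * M 1 1 = 1 := by
    have : M.det = 1 := g.2
    rw [Matrix.det_fin_two, h01, zero_mul, sub_zero] at this
    exact this
  set a : Fˣ := Units.mk0 _ (left_ne_zero_of_mul_eq_one hd) with ha
  have e : ∀ x, χ (eS (a, x) : SL2) = χ g := by
    intro x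
    have h11 : M 1 1 = (M 0 0)⁻¹ := eq_inv_of_mul_eq_one_right hd
    have hs : M 0 0 - (M 0 0)⁻¹ ≠ 0 := by
      intro h0
      refine hne ?_
      rw [← h11, sub_eq_zero] at h0
      rw [pow_two]
      conv_lhs => arg 2; rw [h0]
      exact hd
    have : g = setupS.u (x / (M 0 0 - (M 0 0)⁻¹)) * (eS (a, x) : SL2) * (setupS.u (x / (M 0 0 - (M 0 0)⁻¹)))⁻¹ := by
      rw [eq_mul_inv_iff_mul_eq]
      refine Subtype.ext ?_
      show M * !![1, x / (M 0 0 - (M 0 0)⁻¹); 0, 1] =
        !![1, x / (M 0 0 - (M 0 0)⁻¹); 0, 1] * !![(a : F), x; 0, ((a⁻¹ : Fˣ) : F)]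
      generalize hw : x / (M 0 0 - (M 0 0)⁻¹) = w
      have hx : x = w * (M 0 0 - (M 0 0)⁻¹) := by rw [← hw, div_mul_cancel₀ _ hs]
      rw [Matrix.eta_fin_two M, h01, h10, h11]
      simp [ha, hx]
      ring
    conv_rhs => rw [this]
    exact (classFun_of_irr hχ _ _).symm
  have := cusp_sum hχ h a
  simp only [e, Finset.sum_const, Finset.card_univ, nsmul_eq_mul] at this
  exact (mul_eq_zero.1 this).resolve_left (Nat.cast_ne_zero.2 Fintype.card_ne_zero)

theorem coef_shift {χ : SL2 → ℂ} (hχ : IsIrrCharacter SL2 χ) (φ : AddChar F ℂ) {a : F} (ha : a ≠ 0) :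
    setupS.coef (φ.mulShift (a ^ 2)) χ = setupS.coef φ χ := by
  unfold Setup.coef
  refine Fintype.sum_equiv (Equiv.mulLeft₀ (a ^ 2) (pow_ne_zero 2 ha)) _ _ fun z => ?_
  show φ.mulShift (a ^ 2) (-z) * χ (setupS.u z) = φ (-(a ^ 2 * z)) * χ (setupS.u (a ^ 2 * z))
  rw [AddChar.mulShift_apply, mul_neg]
  congr 1
  let t : SL2 := ⟨!![a, 0; 0, a⁻¹], by simp [Matrix.det_fin_two, mul_inv_cancel₀ ha]⟩
  have : setupS.u (a ^ 2 * z) = t * setupS.u z * t⁻¹ := by
    rw [eq_mul_inv_iff_mul_eq]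
    refine Subtype.ext ?_
    show !![1, a ^ 2 * z; 0, 1] * !![a, 0; 0, a⁻¹] = !![a, 0; 0, a⁻¹] * !![1, z; 0, 1]
    simp
    field_simp
  rw [this]
  exact (classFun_of_irr hχ _ _).symm

/-- a cuspidal character of degree above `(q - 1) / 2` has degree `q - 1` -/
theorem cusp_deg_large {χ : SL2 → ℂ} (hχ : IsIrrCharacter SL2 χ) (h : Cuspidal χ) {k : ℕ} (hk : χ 1 = k)
    (hlarge : Fintype.card F ≤ 2 * k) : k + 1 = Fintype.card F := by
  classical
  have hq : (Fintype.card F : ℂ) ≠ 0 := Nat.cast_ne_zero.2 Fintype.card_ne_zero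
  set T := Finset.univ.filter (fun φ : AddChar F ℂ => setupS.coef φ χ ≠ 0) with hT
  have h10 : setupS.coef 1 χ = 0 := (setupS.coef_one_eq χ).trans (cusp_zero hχ h)
  have hsum : (Fintype.card F : ℂ) * χ 1 = (Fintype.card F : ℂ) * T.card := by
    conv_lhs => rw [← setupS.u_zero, ← setupS.fourier]
    rw [hT, ← Finset.sum_boole, Finset.mul_sum]
    refine Finset.sum_congr rfl fun φ _ => ?_
    by_cases hφ : φ = 1
    · subst hφ; simp [h10]
    · rcases setupS.coef_le_one φ hφ hχ with e | e <;> simp [e, hq]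
  have hkT : k = T.card := by exact_mod_cast (hk ▸ mul_left_cancel₀ hq hsum : (k : ℂ) = T.card)
  have h1T : (1 : AddChar F ℂ) ∉ T := by simp [hT, h10]
  have hcard := card_addChar (F := F)
  by_contra hne
  obtain ⟨φ, hφ1, hφT⟩ : ∃ φ : AddChar F ℂ, φ ≠ 1 ∧ φ ∉ T := by
    by_contra hc
    push Not at hc
    have : Finset.univ.erase (1 : AddChar F ℂ) ⊆ T := fun φ hφ => hc φ (Finset.mem_erase.1 hφ).1
    have := Finset.card_le_card this
    rw [Finset.card_erase_of_mem (Finset.mem_univ _), Finset.card_univ] at this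
    have := Finset.card_lt_univ_of_notMem h1T
    omega
  set O := (Finset.univ.erase (0 : F)).image (fun a => φ.mulShift (a ^ 2)) with hO
  have hO2 : (Finset.univ.erase (0 : F)).card ≤ 2 * O.card := by
    rw [hO]
    refine Finset.card_le_mul_card_image _ 2 fun ψ hψ => ?_
    obtain ⟨a, -, rfl⟩ := Finset.mem_image.1 hψ
    refine le_trans (Finset.card_le_card (t := ({a, -a} : Finset F)) ?_) Finset.card_le_two
    intro b hb
    simp only [Finset.mem_filter] at hb
    have := AddChar.to_mulShift_inj_of_isPrimitive (AddChar.IsPrimitive.of_ne_one hφ1) hb.2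
    simpa [sq_eq_sq_iff_eq_or_eq_neg] using this
  have hdis : Disjoint O T := by
    rw [Finset.disjoint_left]
    intro ψ hψ hψT
    obtain ⟨a, ha, rfl⟩ := Finset.mem_image.1 hψ
    rw [hT, Finset.mem_filter, coef_shift hχ φ (Finset.mem_erase.1 ha).1] at hψT
    exact hφT (Finset.mem_filter.2 ⟨Finset.mem_univ _, hψT.2⟩)
  have h1O : (1 : AddChar F ℂ) ∉ O := by
    intro h1
    obtain ⟨a, ha, e⟩ := Finset.mem_image.1 h1
    exact AddChar.IsPrimitive.of_ne_one hφ1 (pow_ne_zero 2 (Finset.mem_erase.1 ha).1) e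
  have htot := Finset.card_lt_univ_of_notMem (s := O ∪ T) (x := 1) (by simp [h1O, h1T])
  rw [Finset.card_union_of_disjoint hdis] at htot
  rw [Finset.card_erase_of_mem (Finset.mem_univ _), Finset.card_univ] at hO2
  omega

theorem cusp_lt {χ : SL2 → ℂ} (hχ : IsIrrCharacter SL2 χ) (h : Cuspidal χ) {k : ℕ} (hk : χ 1 = k) :
    k < Fintype.card F := by
  obtain ⟨m, hm, hlt⟩ := setupS.degree_lt hχ (cusp_zero hχ h)
  have : k = m := by exact_mod_cast hk.symm.trans hm
  omega

theorem cusp_u {χ : SL2 → ℂ} (hχ : IsIrrCharacter SL2 χ) (h : Cuspidal χ)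
    (hdeg : χ 1 = (Fintype.card F : ℂ) - 1) {y : F} (hy : y ≠ 0) : χ (setupS.u y) = -1 :=
  setupS.value_of_degree hχ (cusp_zero hχ h) hdeg hy

end CfsgLib.Misc.SLTwoClassify
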