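import Cfsg.Agent.Misc.SLTwoTorus
import Cfsg.Agent.Char.CyclicTI
import Cfsg.Agent.Char.Brauer

/-!
The discrete series of SL₂(q), q odd, and the characters orthogonal to the principal series.
-/

set_option autoImplicit false
set_option linter.unusedSectionVars false
set_option linter.unusedSimpArgs false

namespace CfsgLib.Misc.SLTwoDiscrete

open Cfsg CfsgLib.Char BorelInduced PrincipalSeries SLTwoClassify
open SLTwoTorus (Ell)
open PSLTwoProducts (tr)
open scoped ComplexConjugate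

variable {F : Type*} [Field F] [Fintype F] [DecidableEq F]

local notation "SL2" => Matrix.SpecialLinearGroup (Fin 2) F
local notation "toG" => (Matrix.SpecialLinearGroup.toGL :
  Matrix.SpecialLinearGroup (Fin 2) F →* Matrix.GeneralLinearGroup (Fin 2) F)
local notation "qC" => (Fintype.card F : ℂ)

theorem two_ne (hodd : Odd (Fintype.card F)) : (2 : F) ≠ 0 := by
  refine Ring.two_ne_zero fun h => ?_
  have := FiniteField.even_card_of_char_two h
  rw [Nat.odd_iff] at hodd
  omega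

theorem neg_one_central (k : SL2) : (-1 : SL2) * k = k * -1 := Subtype.ext (by simp)

theorem neg_one_sq : (-1 : SL2) * -1 = 1 := by simp

theorem mem_center_iff (g : SL2) : g ∈ Subgroup.center SL2 ↔ g = 1 ∨ g = -1 := by
  constructor
  · intro h
    obtain ⟨r, hr1, hr2⟩ := Matrix.SpecialLinearGroup.mem_center_iff.1 h
    rw [Fintype.card_fin] at hr1
    rcases sq_eq_one_iff.1 hr1 with e | e
    · refine Or.inl (Subtype.ext ?_)
      rw [← hr2, e]; simp
    · refine Or.inr (Subtype.ext ?_)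
      rw [← hr2, e]
      ext i j
      fin_cases i <;> fin_cases j <;> simp
  · rintro (rfl | rfl)
    · exact Subgroup.one_mem _
    · exact Subgroup.mem_center_iff.2 fun k => (neg_one_central k).symm

theorem index_Bor : (Bor toG).index = Fintype.card F + 1 := by
  have h := psS_one (F := F) 1
  rw [psS, indFun_one] at h
  simp [th, mat] at h
  exact_mod_cast h

theorem card_Bor : Nat.card (Bor toG) = Fintype.card F * (Fintype.card F - 1) := by
  rw [Nat.card_congr eS.symm, Nat.card_prod, Nat.card_units, Nat.card_eq_fintype_card, mul_comm]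

theorem ps_upper (α : MulChar F ℂ) (a : Fˣ) (x : F) (ha : (a : F) ≠ ((a⁻¹ : Fˣ) : F)) :
    psS α (eS (a, x) : SL2) = α (a : F) + α ((a⁻¹ : Fˣ) : F) := by
  classical
  rw [psS, ind_formula toG _ rS rfl rS_some]
  have m00 : mat toG (eS (a, x) : SL2) 0 0 = (a : F) := rfl
  have m01 : mat toG (eS (a, x) : SL2) 0 1 = x := rfl
  have m10 : mat toG (eS (a, x) : SL2) 1 0 = 0 := rfl
  have m11 : mat toG (eS (a, x) : SL2) 1 1 = ((a⁻¹ : Fˣ) : F) := rfl
  rw [if_pos m10, m00, m01, m10, m11]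
  congr 1
  have hd : ((a⁻¹ : Fˣ) : F) - a ≠ 0 := sub_ne_zero.2 ha.symm
  rw [Finset.sum_eq_single (x / (((a⁻¹ : Fˣ) : F) - a))]
  · rw [if_pos (by rw [zero_mul, zero_add, mul_div_cancel₀ _ hd, sub_self]), zero_mul, zero_add]
  · intro t _ ht
    rw [if_neg]
    intro e
    exact ht (by rw [eq_div_iff hd]; linear_combination e)
  · simp

theorem ps_plus (α : MulChar F ℂ) (a : Fˣ) (x : F) (ha : (a : F) = ((a⁻¹ : Fˣ) : F)) :
    psS α (eS (a, x) : SL2) = if x = 0 then (qC + 1) * α (a : F) else α (a : F) := by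
  split_ifs with hx
  · exact ind_scalar toG _ rS (g := (eS (a, x) : SL2)) rfl ha hx rfl rS_some
  · exact ind_unip toG _ rS (g := (eS (a, x) : SL2)) rfl ha hx rfl rS_some

theorem sum_two (hodd : Odd (Fintype.card F)) (φ : Fˣ → ℂ)
    (h : ∀ a : Fˣ, (a : F) ≠ ((a⁻¹ : Fˣ) : F) → φ a = 0) : ∑ a : Fˣ, φ a = φ 1 + φ (-1) := by
  classical
  have hne : (1 : Fˣ) ≠ -1 := fun e => two_ne hodd (by
    have := congrArg Units.val e
    simp at this
    linear_combination this)
  refine Fintype.sum_eq_add 1 (-1) hne fun a ha => h a fun e => ?_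
  have : (a : F) * a = 1 := by
    conv_lhs => arg 2; rw [e]
    exact Units.mul_inv a
  rcases sq_eq_one_iff.1 ((pow_two _).trans this) with e' | e'
  · exact ha.1 (Units.ext e')
  · exact ha.2 (Units.ext (by simpa using e'))

theorem eS_neg_zero : (eS ((-1 : Fˣ), (0 : F)) : SL2) = -1 := by
  refine Subtype.ext ?_
  ext i j
  fin_cases i <;> fin_cases j <;> simp [eS, Equiv.ofBijective]

theorem eS_one_zero : (eS ((1 : Fˣ), (0 : F)) : SL2) = 1 := by
  refine Subtype.ext ?_
  ext i j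
  fin_cases i <;> fin_cases j <;> simp [eS, Equiv.ofBijective]

theorem neg_sq (α : MulChar F ℂ) : α (-1) * conj (α (-1)) = 1 := by
  rw [Complex.mul_conj', GLTwoClassify.norm_mulChar α (neg_ne_zero.2 one_ne_zero)]; simp

/-- the split part -/
noncomputable def Aα (α : MulChar F ℂ) : SL2 → ℂ := fun g => psS α g * (psS 1 g - 2)

theorem Aα_upper (hodd : Odd (Fintype.card F)) (α : MulChar F ℂ) (a : Fˣ) (x : F) :
    Aα α (eS (a, x) : SL2) =
      if (a : F) ≠ ((a⁻¹ : Fˣ) : F) then 0 else if x = 0 then (qC + 1) * (qC - 1) * α (a : F) else -α (a : F) := by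
  have h1 : (1 : MulChar F ℂ) (a : F) = 1 := MulChar.one_apply_coe a
  have h1' : (1 : MulChar F ℂ) ((a⁻¹ : Fˣ) : F) = 1 := MulChar.one_apply_coe a⁻¹
  unfold Aα
  split_ifs with ha hx
  · rw [ps_upper 1 a x ha, h1, h1']; ring
  · push Not at ha
    rw [ps_plus 1 a x ha, ps_plus α a x ha, if_pos hx, if_pos hx, h1]; ring
  · push Not at ha
    rw [ps_plus 1 a x ha, ps_plus α a x ha, if_neg hx, if_neg hx, h1]; ring

theorem Aα_eq_ind (α : MulChar F ℂ) :
    Aα α = indFun (Bor toG) (fun b => th toG (fun a _ => α a) b * (psS 1 (b : SL2) - 2)) := by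
  have hW : IsClassFunction SL2 (fun g => psS (1 : MulChar F ℂ) g - 2) := fun g k => by
    simp only [show psS (1 : MulChar F ℂ) (k * g * k⁻¹) = psS 1 g from indFun_classFun _ _ g k]
  exact indFun_mul (Bor toG) (th toG fun a _ => α a) hW

theorem th_eS (α : MulChar F ℂ) (a : Fˣ) (x : F) : th toG (fun a _ => α a) (eS (a, x)) = α (a : F) := rfl

theorem classFun_Aα (α : MulChar F ℂ) : IsClassFunction SL2 (Aα α) := by
  rw [Aα_eq_ind]; exact indFun_classFun _ _

theorem Aα_inner (hodd : Odd (Fintype.card F)) (α : MulChar F ℂ) {ξ : SL2 → ℂ} (hξ : IsClassFunction SL2 ξ) :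
    classInner (Aα α) ξ = (qC * (qC - 1))⁻¹ *
      ((qC * conj (ξ 1) - ∑ x : F, conj (ξ (eS ((1 : Fˣ), x) : SL2))) +
        α (-1) * (qC * conj (ξ (-1)) - ∑ x : F, conj (ξ (eS ((-1 : Fˣ), x) : SL2)))) := by
  classical
  haveI : Fintype (Bor toG) := Fintype.ofFinite _
  have h1 : 1 ≤ Fintype.card F := Fintype.card_pos
  rw [Aα_eq_ind, CfsgLib.Char.frobenius _ _ hξ, classInner_def, card_Bor, Nat.cast_mul, Nat.cast_sub h1, Nat.cast_one,
    ← Fintype.sum_equiv eS (fun p => th toG (fun a _ => α a) (eS p) * (psS 1 (eS p : SL2) - 2) * conj (ξ (eS p : SL2))) _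
      (fun _ => rfl), Fintype.sum_prod_type, sum_two hodd]
  · congr 1
    have e : ∀ a : Fˣ, (a : F) = ((a⁻¹ : Fˣ) : F) →
        ∑ x : F, th toG (fun a _ => α a) (eS (a, x)) * (psS 1 (eS (a, x) : SL2) - 2) * conj (ξ (eS (a, x) : SL2)) =
          α (a : F) * (qC * conj (ξ (eS (a, (0 : F)) : SL2)) - ∑ x : F, conj (ξ (eS (a, x) : SL2))) := by
      intro a ha
      have hh : ∀ x : F, th toG (fun a _ => α a) (eS (a, x)) * (psS 1 (eS (a, x) : SL2) - 2) * conj (ξ (eS (a, x) : SL2)) =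
          α (a : F) * ((if x = 0 then qC * conj (ξ (eS (a, x) : SL2)) else 0) - conj (ξ (eS (a, x) : SL2))) := by
        intro x
        rw [ps_plus 1 a x ha, MulChar.one_apply_coe, th_eS]
        split_ifs <;> ring
      simp only [hh, ← Finset.mul_sum, Finset.sum_sub_distrib, Finset.sum_ite_eq', Finset.mem_univ, if_true]
    rw [e 1 (by simp), e (-1) (by simp), Units.val_one, map_one, one_mul, eS_one_zero, eS_neg_zero,
      Units.val_neg, Units.val_one]
  · intro a ha
    refine Finset.sum_eq_zero fun x _ => ?_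
    rw [ps_upper 1 a x ha, MulChar.one_apply_coe, MulChar.one_apply_coe]
    ring

theorem Aα_norm (hodd : Odd (Fintype.card F)) (α : MulChar F ℂ) : classInner (Aα α) (Aα α) = 2 * qC := by
  classical
  rw [Aα_inner hodd α (classFun_Aα α)]
  have e : ∀ a : Fˣ, (a : F) = ((a⁻¹ : Fˣ) : F) →
      qC * conj (Aα α (eS (a, (0 : F)) : SL2)) - ∑ x : F, conj (Aα α (eS (a, x) : SL2)) =
        (qC - 1) * ((qC + 1) * (qC - 1) + 1) * conj (α (a : F)) := by
    intro a ha
    simp only [Aα_upper hodd, if_neg (not_not.2 ha), apply_ite conj, map_neg, map_mul, map_add, map_sub, map_one,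
      Complex.conj_natCast, if_pos]
    rw [← Finset.add_sum_erase Finset.univ _ (Finset.mem_univ (0 : F)), if_pos rfl,
      Finset.sum_congr rfl fun x hx => if_neg (Finset.mem_erase.1 hx).1, Finset.sum_const,
      Finset.card_erase_of_mem (Finset.mem_univ _), Finset.card_univ, nsmul_eq_mul,
      Nat.cast_sub Fintype.card_pos, Nat.cast_one]
    simp
    ring
  have a1 := e 1 (by simp)
  have a2 := e (-1) (by simp)
  rw [eS_one_zero, Units.val_one, map_one, map_one, mul_one] at a1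
  rw [eS_neg_zero, Units.val_neg, Units.val_one] at a2
  rw [a1, a2]
  have hq : qC ≠ 0 := Nat.cast_ne_zero.2 Fintype.card_ne_zero
  have hq1 : qC - 1 ≠ 0 := sub_ne_zero.2 (by exact_mod_cast (Fintype.one_lt_card (α := F)).ne')
  field_simp
  linear_combination ((qC - 1) * (qC + 1) + 1) * neg_sq α

variable (C : Subgroup (Matrix.SpecialLinearGroup (Fin 2) F))

/-- a cyclic torus of order `q + 1` -/
structure IsTorus : Prop where
  odd : Odd (Fintype.card F)
  cyclic : IsCyclic C
  card : Nat.card C = Fintype.card F + 1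

namespace IsTorus

variable {C}

theorem comm (hC : IsTorus C) (a b : C) : a * b = b * a := by
  haveI := hC.cyclic
  obtain ⟨c, hc⟩ := IsCyclic.exists_generator (α := C)
  obtain ⟨i, rfl⟩ := Subgroup.mem_zpowers_iff.1 (hc a)
  obtain ⟨j, rfl⟩ := Subgroup.mem_zpowers_iff.1 (hc b)
  exact ((Commute.refl c).zpow_zpow i j).eq

theorem ell (hC : IsTorus C) {c : SL2} (hc : c ∈ C) (h1 : c ≠ 1) (hn : c ≠ -1) : Ell c := by
  refine SLTwoTorus.ell_of_pow (two_ne hC.odd) ?_ h1 hn
  rw [← hC.card]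
  exact congrArg Subtype.val (pow_card_eq_one' (x := (⟨c, hc⟩ : C)))

theorem centralizer_eq (hC : IsTorus C) {c : SL2} (hc : c ∈ C) (h1 : c ≠ 1) (hn : c ≠ -1) :
    Subgroup.centralizer ({c} : Set SL2) = C := by
  refine (Subgroup.eq_of_le_of_card_ge (fun x hx => ?_) ?_).symm
  · exact Subgroup.mem_centralizer_singleton_iff.2 (congrArg Subtype.val (hC.comm ⟨x, hx⟩ ⟨c, hc⟩))
  · rw [SLTwoTorus.card_centralizer (two_ne hC.odd) (hC.ell hc h1 hn), hC.card]

theorem neg_one_mem (hC : IsTorus C) : (-1 : SL2) ∈ C := by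
  haveI := Fintype.ofFinite C
  obtain ⟨x, hx⟩ := exists_prime_orderOf_dvd_card' (G := C) 2 (by
    obtain ⟨k, hk⟩ := hC.odd
    rw [hC.card, hk]; exact ⟨k + 1, by ring⟩)
  have hx2 : (x : SL2) * x = 1 := by
    have := pow_orderOf_eq_one x
    rw [hx, pow_two] at this
    exact congrArg Subtype.val this
  have hx1 : (x : SL2) ≠ 1 := by
    intro e
    rw [show x = 1 from Subtype.ext e, orderOf_one] at hx
    norm_num at hx
  by_cases hn : (x : SL2) = -1
  · exact hn ▸ x.2
  exfalso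
  have hv := hC.ell x.2 hx1 hn
  have e := SLTwoTorus.cayley (x : SL2)
  rw [← Matrix.SpecialLinearGroup.coe_mul, hx2] at e
  have e2 : tr (x : SL2) • (x : SL2).1 = (2 : F) • (1 : Matrix (Fin 2) (Fin 2) F) := by
    rw [two_smul]
    exact (eq_add_of_sub_eq e.symm).trans rfl
  by_cases ht : tr (x : SL2) = 0
  · rw [ht, zero_smul] at e2
    have := congrFun (congrFun e2 0) 0
    simp at this
    exact two_ne hC.odd this.symm
  · refine hv (2 / tr (x : SL2)) ![1, 0] (fun e => one_ne_zero (congrFun e 0)) ?_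
    have h00 := congrFun (congrFun e2 0) 0
    have h10 := congrFun (congrFun e2 1) 0
    simp [ht] at h00 h10
    funext i
    fin_cases i <;> simp [Matrix.mulVec, dotProduct, Fin.sum_univ_two, h10]
    field_simp
    linear_combination h00

/-- the central involution inside the torus -/
def z (hC : IsTorus C) : C := ⟨-1, hC.neg_one_mem⟩

theorem theta_z (hC : IsTorus C) (θ : C →* ℂˣ) : (θ hC.z : ℂ) = 1 ∨ (θ hC.z : ℂ) = -1 := by
  refine mul_self_eq_one_iff.1 ?_
  rw [← Units.val_mul, ← map_mul, show hC.z * hC.z = 1 from Subtype.ext neg_one_sq, map_one, Units.val_one]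

theorem exists_alpha (hC : IsTorus C) (θ : C →* ℂˣ) : ∃ α : MulChar F ℂ, α (-1) = θ hC.z := by
  rcases hC.theta_z θ with e | e
  · exact ⟨1, by rw [e]; exact MulChar.one_apply (isUnit_iff_ne_zero.2 (neg_ne_zero.2 one_ne_zero))⟩
  · have hne : (-1 : F) ≠ 1 := fun e => two_ne hC.odd (by linear_combination -e)
    obtain ⟨α, hα⟩ := MulChar.exists_apply_ne_one_of_hasEnoughRootsOfUnity F ℂ hne
    refine ⟨α, ?_⟩
    rw [e]
    refine (mul_self_eq_one_iff.1 ?_).resolve_left hα
    rw [← map_mul, neg_one_mul, neg_neg, map_one]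

/-- the character of the split torus matching `θ` at the centre -/
noncomputable def alpha (hC : IsTorus C) (θ : C →* ℂˣ) : MulChar F ℂ := (hC.exists_alpha θ).choose

theorem alpha_spec (hC : IsTorus C) (θ : C →* ℂˣ) : hC.alpha θ (-1) = θ hC.z := (hC.exists_alpha θ).choose_spec

/-- the induced linear character of the torus -/
noncomputable abbrev indC (θ : C →* ℂˣ) : SL2 → ℂ := indFun C (fun c => (θ c : ℂ))

/-- the discrete series (virtual) character -/
noncomputable def disc (hC : IsTorus C) (θ : C →* ℂˣ) : SL2 → ℂ := Aα (hC.alpha θ) - indC θ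

theorem gen_disc (hC : IsTorus C) (θ : C →* ℂˣ) : IsGeneralizedCharacter SL2 (hC.disc θ) := by
  have hth : IsCharacter (Bor toG) (th toG fun a _ => hC.alpha θ a) := th_S (hC.alpha θ) ▸ isCharacter_th _ _ 1
  refine ⟨indFun (Bor toG) (fun b => th toG (fun a _ => hC.alpha θ a) b * psS 1 (b : SL2)),
    indFun (Bor toG) (th toG (fun a _ => hC.alpha θ a) + th toG (fun a _ => hC.alpha θ a)) + indC θ,
    isCharacter_indFun _ (isCharacter_mul hth (isCharacter_restrict _ (isCharacter_psS 1))),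
    isCharacter_add (isCharacter_indFun _ (isCharacter_add hth hth)) (isCharacter_indFun _ (isCharacter_linear θ)), ?_⟩
  rw [disc, Aα_eq_ind, sub_add_eq_sub_sub, ← indFun_sub]
  congr 2
  funext b
  simp only [Pi.sub_apply, Pi.add_apply]
  ring

theorem card_G (hC : IsTorus C) :
    Nat.card SL2 = Fintype.card F * (Fintype.card F - 1) * (Fintype.card F + 1) := by
  rw [← Subgroup.index_mul_card (Bor toG), index_Bor, card_Bor, mul_comm]

theorem index_C (hC : IsTorus C) : C.index = Fintype.card F * (Fintype.card F - 1) := by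
  have := Subgroup.index_mul_card C
  rw [hC.card, hC.card_G] at this
  exact Nat.eq_of_mul_eq_mul_right (Nat.succ_pos _) this

theorem ne_inv (hC : IsTorus C) {c : SL2} (hc : c ∈ C) (h1 : c ≠ 1) (hn : c ≠ -1) : c ≠ c⁻¹ := by
  intro e
  have hv := hC.ell hc h1 hn
  have hcc : c * c = 1 := mul_eq_one_iff_eq_inv.2 e
  have e' := SLTwoTorus.cayley c
  rw [← Matrix.SpecialLinearGroup.coe_mul, hcc] at e'
  by_cases ht : tr c = 0
  · rw [ht, zero_smul, zero_sub] at e'
    have := congrFun (congrFun e' 0) 0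
    simp at this
    exact two_ne hC.odd (by linear_combination this)
  · refine hv (2 / tr c) ![1, 0] (fun e => one_ne_zero (congrFun e 0)) ?_
    have h00 := congrFun (congrFun e' 0) 0
    have h10 := congrFun (congrFun e' 1) 0
    simp [ht] at h00 h10
    funext i
    fin_cases i <;> simp [Matrix.mulVec, dotProduct, Fin.sum_univ_two, h10]
    field_simp
    linear_combination -h00

theorem eq_or_inv (hC : IsTorus C) {c d : SL2} (hc : c ∈ C) (hd : d ∈ C) (h1 : c ≠ 1) (hn : c ≠ -1)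
    (ht : tr d = tr c) : d = c ∨ d = c⁻¹ := by
  classical
  by_contra hne
  push Not at hne
  have hm : (c : Matrix (Fin 2) (Fin 2) F) * d = d * c :=
    congrArg (fun z : C => ((z : SL2) : Matrix (Fin 2) (Fin 2) F)) (hC.comm ⟨c, hc⟩ ⟨d, hd⟩)
  have e1 := SLTwoTorus.cayley c
  have e2 := SLTwoTorus.cayley d
  rw [ht] at e2
  have hci : (c⁻¹ : SL2).1 = tr c • (1 : Matrix (Fin 2) (Fin 2) F) - c := by
    rw [Matrix.SpecialLinearGroup.coe_inv, Matrix.adjugate_fin_two]
    ext i j
    fin_cases i <;> fin_cases j <;> simp [PSLTwoProducts.tr, Dickson.tr]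
  have hz : ((d : Matrix (Fin 2) (Fin 2) F) - c) * ((d : Matrix (Fin 2) (Fin 2) F) - (c⁻¹ : SL2).1) = 0 := by
    rw [hci, sub_mul, mul_sub, mul_sub, mul_sub, mul_sub, mul_smul_comm, mul_smul_comm, mul_one, mul_one, e1, e2, hm]
    abel
  -- the first factor is invertible
  have hdet : ((d : Matrix (Fin 2) (Fin 2) F) - c).det ≠ 0 := by
    intro h0
    have hk : d * c⁻¹ ∈ C := C.mul_mem hd (C.inv_mem hc)
    have e : ((d * c⁻¹ : SL2).1 - 1).det = 0 := by
      have : ((d : Matrix (Fin 2) (Fin 2) F) - c) = ((d * c⁻¹ : SL2).1 - 1) * c := by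
        rw [sub_mul, one_mul, ← Matrix.SpecialLinearGroup.coe_mul, inv_mul_cancel_right]
      rw [this, Matrix.det_mul, c.2, mul_one] at h0
      exact h0
    have k1 : d * c⁻¹ ≠ 1 := fun h => hne.1 (mul_inv_eq_one.1 h)
    by_cases k2 : d * c⁻¹ = -1
    · rw [k2] at e
      simp [Matrix.det_fin_two] at e
      exact two_ne hC.odd (by linear_combination -e)
    · obtain ⟨v, hv0, hv1⟩ := Matrix.exists_mulVec_eq_zero_iff.2 e
      refine hC.ell hk k1 k2 1 v hv0 ?_
      rw [Matrix.sub_mulVec, Matrix.one_mulVec, sub_eq_zero] at hv1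
      rw [one_smul]
      exact hv1
  refine hne.2 (Subtype.ext (sub_eq_zero.1 ?_))
  have hu : IsUnit ((d : Matrix (Fin 2) (Fin 2) F) - c) := (Matrix.isUnit_iff_isUnit_det _).2 (isUnit_iff_ne_zero.2 hdet)
  exact (IsUnit.mul_right_eq_zero hu).1 hz

theorem indC_one_neg (hC : IsTorus C) (θ : C →* ℂˣ) {g : SL2} (hg : g ∈ C) (hcen : ∀ k, g * k = k * g) :
    indC θ g = (C.index : ℂ) * θ ⟨g, hg⟩ := by
  haveI := Fintype.ofFinite C
  rw [indC, indFun_apply]
  have : ∀ x : SL2, extendByZero C (fun c => (θ c : ℂ)) (x⁻¹ * g * x) = (θ ⟨g, hg⟩ : ℂ) := fun x => by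
    rw [mul_assoc, hcen, inv_mul_cancel_left, extendByZero_mem' _ _ hg]
  simp only [this, Finset.sum_const, Finset.card_univ, nsmul_eq_mul, ← Nat.card_eq_fintype_card]
  rw [← Subgroup.index_mul_card C, Nat.cast_mul]
  field_simp [Nat.cast_ne_zero.2 (Nat.card_pos (α := C)).ne']

theorem indC_torus (hC : IsTorus C) (θ : C →* ℂˣ) {c : SL2} (hc : c ∈ C) (h1 : c ≠ 1) (hn : c ≠ -1) :
    indC θ c = (θ ⟨c, hc⟩ : ℂ) + ((θ ⟨c, hc⟩)⁻¹ : ℂˣ) := by
  classical
  obtain ⟨k, hk⟩ := SLTwoTorus.conj_of_tr hC.odd (hC.ell hc h1 hn) (SLTwoTorus.tr_inv c)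
  have hval : ∀ x : SL2, extendByZero C (fun c => (θ c : ℂ)) (x⁻¹ * c * x) =
      (if x ∈ C then (θ ⟨c, hc⟩ : ℂ) else 0) + (if k * x ∈ C then ((θ ⟨c, hc⟩)⁻¹ : ℂˣ).val else 0) := by
    intro x
    have iff1 : x⁻¹ * c * x = c ↔ x ∈ C := by
      rw [← hC.centralizer_eq hc h1 hn, Subgroup.mem_centralizer_singleton_iff, mul_assoc, inv_mul_eq_iff_eq_mul]
      exact ⟨fun e => e.symm, fun e => e.symm⟩
    have iff2 : x⁻¹ * c * x = c⁻¹ ↔ k * x ∈ C := by
      have hci : c⁻¹ ∈ C := C.inv_mem hc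
      have i1 : c⁻¹ ≠ 1 := by simpa using h1
      have i2 : c⁻¹ ≠ -1 := fun e => hn (by rw [← inv_inv c, e]; exact inv_eq_of_mul_eq_one_right neg_one_sq)
      rw [← hC.centralizer_eq hci i1 i2, Subgroup.mem_centralizer_singleton_iff]
      have hk' : k * c = c⁻¹ * k := by rw [← hk]; group
      constructor
      · intro e
        calc k * x * c⁻¹ = k * (x * (x⁻¹ * c * x)) := by rw [e]; group
          _ = k * c * x := by group
          _ = c⁻¹ * (k * x) := by rw [hk', mul_assoc]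
      · intro e
        rw [mul_assoc, inv_mul_eq_iff_eq_mul]
        apply mul_left_cancel (a := k)
        rw [← mul_assoc, hk', mul_assoc, ← e, mul_assoc]
    by_cases hm : x⁻¹ * c * x ∈ C
    · rw [extendByZero_mem' _ _ hm]
      have ht : tr (x⁻¹ * c * x) = tr c := by
        simpa using PSLTwoProducts.tr_conj x⁻¹ c
      rcases hC.eq_or_inv hc hm h1 hn ht with e | e
      · rw [if_pos (iff1.1 e), if_neg (fun h => hC.ne_inv hc h1 hn (e.symm.trans (iff2.2 h))), add_zero]
        simp only [e]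
      · rw [if_neg (fun h => hC.ne_inv hc h1 hn ((iff1.2 h).symm.trans e)), if_pos (iff2.1 e), zero_add]
        simp only [e]
        rw [← map_inv]
        rfl
    · rw [extendByZero_not_mem _ _ hm, if_neg, if_neg, add_zero]
      · exact fun h => hm (by rw [iff2.2 h]; exact C.inv_mem hc)
      · exact fun h => hm (by rw [iff1.2 h]; exact hc)
  haveI := Fintype.ofFinite C
  rw [indC, indFun_apply]
  simp only [hval, Finset.sum_add_distrib]
  rw [Fintype.sum_equiv (Equiv.mulLeft k) (fun x => if k * x ∈ C then ((θ ⟨c, hc⟩)⁻¹ : ℂˣ).val else 0)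
      (fun y => if y ∈ C then ((θ ⟨c, hc⟩)⁻¹ : ℂˣ).val else 0) (fun x => rfl),
    ← Finset.sum_filter, ← Finset.sum_filter, Finset.sum_const, Finset.sum_const, nsmul_eq_mul, nsmul_eq_mul, ← mul_add,
    show (Finset.univ.filter fun x : SL2 => x ∈ C).card = Nat.card C by
      rw [Nat.card_eq_fintype_card, Fintype.card_subtype],
    inv_mul_cancel_left₀ (Nat.cast_ne_zero.2 Nat.card_pos.ne')]

theorem indC_not_ell (hC : IsTorus C) (θ : C →* ℂˣ) {g : SL2} (hv : ¬ Ell g) (h1 : g ≠ 1) (hn : g ≠ -1) :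
    indC θ g = 0 := by
  haveI := Fintype.ofFinite C
  rw [indC, indFun_apply, Finset.sum_eq_zero, mul_zero]
  intro x _
  refine extendByZero_not_mem _ _ fun hm => hv ?_
  have e : g = x * (x⁻¹ * g * x) * x⁻¹ := by group
  rw [e]
  refine SLTwoTorus.ell_conj (hC.ell hm (fun h => h1 ?_) (fun h => hn ?_))
  · rw [e, h]; group
  · rw [e, h, ← neg_one_central, mul_assoc, mul_inv_cancel, mul_one]

theorem not_ell_upper {g : SL2} (h : (g : Matrix (Fin 2) (Fin 2) F) 1 0 = 0) : ¬ Ell g := fun hv => by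
  refine hv ((g : Matrix (Fin 2) (Fin 2) F) 0 0) ![1, 0] (fun e => one_ne_zero (congrFun e 0)) ?_
  funext i
  fin_cases i <;> simp [Matrix.mulVec, dotProduct, Fin.sum_univ_two, h]

theorem Aα_torus (hC : IsTorus C) (α : MulChar F ℂ) {c : SL2} (hv : Ell c) : Aα α c = 0 := by
  rw [Aα, psS, ind_elliptic toG _ rS hv rfl rS_some, zero_mul]

theorem Aα_one (α : MulChar F ℂ) : Aα α 1 = (qC + 1) * (qC - 1) := by
  rw [Aα, psS_one, psS_one]; ring

theorem Aα_neg (hC : IsTorus C) (α : MulChar F ℂ) : Aα α (-1) = (qC + 1) * (qC - 1) * α (-1) := by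
  have h := Aα_upper hC.odd α (-1) 0
  rw [eS_neg_zero, if_neg (by simp), if_pos rfl, Units.val_neg, Units.val_one] at h
  exact h

theorem indC_one (hC : IsTorus C) (θ : C →* ℂˣ) : indC θ 1 = qC * (qC - 1) := by
  rw [hC.indC_one_neg θ C.one_mem (fun k => by rw [one_mul, mul_one]), hC.index_C]
  rw [show θ ⟨1, C.one_mem⟩ = 1 from map_one θ, Units.val_one, mul_one, Nat.cast_mul, Nat.cast_sub Fintype.card_pos]
  simp

theorem indC_neg (hC : IsTorus C) (θ : C →* ℂˣ) : indC θ (-1) = qC * (qC - 1) * θ hC.z := by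
  rw [hC.indC_one_neg θ hC.neg_one_mem neg_one_central, hC.index_C, Nat.cast_mul, Nat.cast_sub Fintype.card_pos]
  simp [z]

theorem disc_one (hC : IsTorus C) (θ : C →* ℂˣ) : hC.disc θ 1 = qC - 1 := by
  rw [disc, Pi.sub_apply, Aα_one, hC.indC_one]; ring

theorem disc_neg (hC : IsTorus C) (θ : C →* ℂˣ) : hC.disc θ (-1) = (qC - 1) * θ hC.z := by
  rw [disc, Pi.sub_apply, hC.Aα_neg, hC.indC_neg, hC.alpha_spec]; ring

theorem disc_torus (hC : IsTorus C) (θ : C →* ℂˣ) {c : SL2} (hc : c ∈ C) (h1 : c ≠ 1) (hn : c ≠ -1) :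
    hC.disc θ c = -((θ ⟨c, hc⟩ : ℂ) + ((θ ⟨c, hc⟩)⁻¹ : ℂˣ)) := by
  rw [disc, Pi.sub_apply, hC.Aα_torus _ (hC.ell hc h1 hn), hC.indC_torus θ hc h1 hn, zero_sub]

theorem disc_diag (hC : IsTorus C) (θ : C →* ℂˣ) (a : Fˣ) (x : F) (ha : (a : F) ≠ ((a⁻¹ : Fˣ) : F)) :
    hC.disc θ (eS (a, x) : SL2) = 0 := by
  rw [disc, Pi.sub_apply, Aα_upper hC.odd, if_pos ha, hC.indC_not_ell θ (not_ell_upper rfl), sub_zero]
  · intro e
    exact ha (by
      have := congrArg (fun k : SL2 => (k.1 0 0, k.1 1 1)) e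
      simp [eS, Equiv.ofBijective] at this
      simp [this])
  · intro e
    exact ha (by
      have := congrArg (fun k : SL2 => (k.1 0 0, k.1 1 1)) e
      simp [eS, Equiv.ofBijective] at this
      simp [this])

theorem disc_u (hC : IsTorus C) (θ : C →* ℂˣ) {y : F} (hy : y ≠ 0) : hC.disc θ (setupS.u y) = -1 := by
  rw [← eS_one, disc, Pi.sub_apply, Aα_upper hC.odd, if_neg (by simp), if_neg hy,
    hC.indC_not_ell θ (not_ell_upper rfl), sub_zero, Units.val_one, map_one]
  · intro e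
    exact hy (by simpa [eS, Equiv.ofBijective] using congrArg (fun k : SL2 => k.1 0 1) e)
  · intro e
    exact hy (by simpa [eS, Equiv.ofBijective] using congrArg (fun k : SL2 => k.1 0 1) e)

theorem A_res (hC : IsTorus C) (α : MulChar F ℂ) (θ : C →* ℂˣ) [Fintype C] (hα : α (-1) = θ hC.z) :
    classInner (fun c : C => (θ c : ℂ)) (fun c : C => Aα α c) = 2 * (qC - 1) := by
  classical
  rw [classInner_def, hC.card, Fintype.sum_eq_add (1 : C) hC.z]
  · have hzz : (θ hC.z : ℂ) * conj (θ hC.z : ℂ) = 1 := by rcases hC.theta_z θ with e | e <;> simp [e]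
    rw [map_one, Units.val_one, Subgroup.coe_one, Aα_one,
      show ((hC.z : C) : SL2) = -1 from rfl, hC.Aα_neg, hα]
    have hne : qC + 1 ≠ 0 := Nat.cast_add_one_ne_zero _
    simp only [map_mul, map_add, map_sub, map_one, Complex.conj_natCast, Nat.cast_add, Nat.cast_one]
    field_simp
    linear_combination (qC - 1) * hzz
  · intro e
    have := congrArg (fun k : C => ((k : SL2) : Matrix (Fin 2) (Fin 2) F) 0 0) e
    simp [z] at this
    exact two_ne hC.odd (by linear_combination this)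
  · intro c hc
    have h1 : (c : SL2) ≠ 1 := fun e => hc.1 (Subtype.ext e)
    have hn : (c : SL2) ≠ -1 := fun e => hc.2 (Subtype.ext e)
    rw [hC.Aα_torus _ (hC.ell c.2 h1 hn), map_zero, mul_zero]

theorem sum_hom (hC : IsTorus C) [Fintype C] (μ : C →* ℂˣ) [Decidable (μ = 1)] :
    ∑ c : C, (μ c : ℂ) = if μ = 1 then qC + 1 else 0 := by
  classical
  have h := CTI.linear_inner μ (1 : C →* ℂˣ)
  rw [classInner_def] at h
  simp only [MonoidHom.one_apply, Units.val_one, map_one, mul_one] at h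
  rw [inv_mul_eq_iff_eq_mul₀ (Nat.cast_ne_zero.2 Nat.card_pos.ne'), hC.card] at h
  rw [h]
  split_ifs <;> simp

theorem ind_norm (hC : IsTorus C) (θ : C →* ℂˣ) [Decidable (θ * θ = 1)] :
    classInner (indC θ) (indC θ) = 2 * qC - 3 + if θ * θ = 1 then 1 else 0 := by
  classical
  haveI := Fintype.ofFinite C
  rw [indC, CfsgLib.Char.frobenius _ _ (indFun_classFun _ _), classInner_def, hC.card]
  have hconj : ∀ c : C, conj (θ c : ℂ) = ((θ c)⁻¹ : ℂˣ) := fun c => by
    rw [Units.val_inv_eq_inv_val]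
    exact conj_root (orderOf_pos c).ne' (linear_root θ c)
  have hzz : (θ hC.z : ℂ) * conj (θ hC.z : ℂ) = 1 := by rcases hC.theta_z θ with e | e <;> simp [e]
  have hne1 : (1 : C) ≠ hC.z := fun e => by
    have := congrArg (fun k : C => ((k : SL2) : Matrix (Fin 2) (Fin 2) F) 0 0) e
    simp [z] at this
    exact two_ne hC.odd (by linear_combination this)
  have hv : ∀ c : C, (θ c : ℂ) * conj (indFun C (fun c => (θ c : ℂ)) (c : SL2)) =
      (1 + ((θ * θ) c : ℂ)) + (if c = 1 then qC * (qC - 1) - 2 else 0) + (if c = hC.z then qC * (qC - 1) - 2 else 0) := by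
    intro c
    by_cases a : c = 1
    · subst a
      rw [if_pos rfl, if_neg hne1]
      simp only [Subgroup.coe_one]
      rw [show indFun C (fun c => (θ c : ℂ)) 1 = _ from hC.indC_one θ]
      simp
      ring
    by_cases b : c = hC.z
    · subst b
      rw [if_neg a, if_pos rfl, show ((hC.z : C) : SL2) = -1 from rfl,
        show indFun C (fun c => (θ c : ℂ)) (-1) = _ from hC.indC_neg θ]
      rcases hC.theta_z θ with e | e <;> simp [e] <;> ring
    rw [if_neg a, if_neg b, add_zero, add_zero,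
      show indFun C (fun c => (θ c : ℂ)) (c : SL2) = _ from
        hC.indC_torus θ c.2 (fun e => a (Subtype.ext e)) (fun e => b (Subtype.ext e))]
    simp only [Subtype.coe_eta, map_add, hconj, Units.val_inv_eq_inv_val, map_inv₀, inv_inv, MonoidHom.mul_apply,
      Units.val_mul]
    have : (θ c : ℂ) ≠ 0 := Units.ne_zero _
    field_simp
  simp only [hv, Finset.sum_add_distrib, Finset.sum_const, Finset.card_univ, nsmul_one, Finset.sum_ite_eq',
    Finset.mem_univ, if_true, ← Nat.card_eq_fintype_card, hC.card, hC.sum_hom (θ * θ)]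
  have hne : qC + 1 ≠ 0 := Nat.cast_add_one_ne_zero _
  split_ifs <;> push_cast <;> field_simp <;> ring

theorem disc_norm (hC : IsTorus C) (θ : C →* ℂˣ) [Decidable (θ * θ = 1)] :
    classInner (hC.disc θ) (hC.disc θ) = 1 + if θ * θ = 1 then 1 else 0 := by
  haveI := Fintype.ofFinite C
  have hIA : classInner (indC θ) (Aα (hC.alpha θ)) = 2 * (qC - 1) := by
    rw [indC, CfsgLib.Char.frobenius _ _ (classFun_Aα _), hC.A_res _ θ (hC.alpha_spec θ)]
  have hAI : classInner (Aα (hC.alpha θ)) (indC θ) = 2 * (qC - 1) := by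
    rw [← classInner_conj, hIA]; simp [map_ofNat]
  rw [disc, classInner_sub_left, classInner_sub_right, classInner_sub_right, Aα_norm hC.odd, hIA, hAI, hC.ind_norm]
  ring

theorem irr_disc (hC : IsTorus C) {θ : C →* ℂˣ} (hθ : θ * θ ≠ 1) : IsIrrCharacter SL2 (hC.disc θ) := by
  classical
  refine (isIrr_or_neg_of_norm (hC.gen_disc θ) (by rw [hC.disc_norm, if_neg hθ, add_zero])).resolve_right fun h => ?_
  obtain ⟨n, hn, h1⟩ := irr_deg h
  rw [Pi.neg_apply, hC.disc_one] at h1
  have : n + Fintype.card F = 1 := by exact_mod_cast (show (n : ℂ) + qC = 1 by linear_combination -h1)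
  have : 2 ≤ Fintype.card F := Fintype.one_lt_card
  omega

/-- the decomposition of a cuspidal character on the torus -/
theorem cusp_torus (hC : IsTorus C) {χ : SL2 → ℂ} (hχ : IsIrrCharacter SL2 χ) (h : Cuspidal χ)
    [Fintype (C →* ℂˣ)] :
    (∑ θ : C →* ℂˣ, classInner (hC.disc θ) χ = 2 * χ 1 / (qC - 1)) ∧
      ∀ c : C, (c : SL2) ≠ 1 → (c : SL2) ≠ -1 →
        ∑ θ : C →* ℂˣ, conj (θ c : ℂ) * classInner (hC.disc θ) χ = -conj (χ c) := by
  classical
  haveI := Fintype.ofFinite C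
  have hq : qC ≠ 0 := Nat.cast_ne_zero.2 Fintype.card_ne_zero
  have hq1 : qC - 1 ≠ 0 := sub_ne_zero.2 (by exact_mod_cast (Fintype.one_lt_card (α := F)).ne')
  have hq2 : qC + 1 ≠ 0 := Nat.cast_add_one_ne_zero _
  have hD : ∀ θ : C →* ℂˣ, classInner (hC.disc θ) χ =
      (qC - 1)⁻¹ * (conj (χ 1) + (θ hC.z : ℂ) * conj (χ (-1))) -
        (qC + 1)⁻¹ * ∑ d : C, (θ d : ℂ) * conj (χ d) := by
    intro θ
    have z1 : ∑ x : F, conj (χ (eS ((1 : Fˣ), x) : SL2)) = 0 := by rw [← map_sum, cusp_sum hχ h, map_zero]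
    have z2 : ∑ x : F, conj (χ (eS ((-1 : Fˣ), x) : SL2)) = 0 := by rw [← map_sum, cusp_sum hχ h, map_zero]
    rw [disc, classInner_sub_left, Aα_inner hC.odd _ (classFun_of_irr hχ), indC,
      CfsgLib.Char.frobenius _ _ (classFun_of_irr hχ), classInner_def, z1, z2, hC.alpha_spec, hC.card]
    push_cast
    field_simp
    ring
  have hsum : ∀ c : C, ∑ θ : C →* ℂˣ, conj (θ c : ℂ) * classInner (hC.disc θ) χ =
      (qC - 1)⁻¹ * ((if 1 = c then qC + 1 else 0) * conj (χ 1) + (if hC.z = c then qC + 1 else 0) * conj (χ (-1))) -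
        conj (χ c) := by
    intro c
    have S : ∀ d : C, ∑ θ : C →* ℂˣ, (θ d : ℂ) * conj (θ c : ℂ) = if d = c then qC + 1 else 0 := fun d => by
      rw [CTI.sum_linear_conj hC.comm d c, hC.card]; push_cast; rfl
    have S1 := S 1
    simp only [map_one, Units.val_one, one_mul] at S1
    simp only [hD, mul_sub, Finset.sum_sub_distrib]
    congr 1
    · simp only [← S1, ← S hC.z, Finset.sum_mul, ← Finset.sum_add_distrib, Finset.mul_sum]
      exact Finset.sum_congr rfl fun θ _ => by ring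
    · simp only [Finset.mul_sum]
      rw [Finset.sum_comm]
      rw [Finset.sum_congr rfl fun d _ => show ∑ θ : C →* ℂˣ, conj (θ c : ℂ) * ((qC + 1)⁻¹ * ((θ d : ℂ) * conj (χ d))) =
          (qC + 1)⁻¹ * conj (χ d) * ∑ θ : C →* ℂˣ, (θ d : ℂ) * conj (θ c : ℂ) by
        rw [Finset.mul_sum]; exact Finset.sum_congr rfl fun θ _ => by ring]
      simp only [S, mul_ite, mul_zero, Finset.sum_ite_eq', Finset.mem_univ, if_true]
      field_simp
  refine ⟨?_, fun c h1 hn => ?_⟩
  · have := hsum 1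
    simp only [map_one, Units.val_one, one_mul, Subgroup.coe_one] at this
    simp only [if_true] at this
    rw [this, if_neg (fun e => by
      have := congrArg (fun k : C => ((k : SL2) : Matrix (Fin 2) (Fin 2) F) 0 0) e
      simp [z] at this
      exact two_ne hC.odd (by linear_combination -this))]
    obtain ⟨n, -, hn⟩ := irr_deg hχ
    rw [hn, Complex.conj_natCast]
    field_simp
    ring
  · rw [hsum c, if_neg (fun e => h1 (by rw [← e]; rfl)), if_neg (fun e => hn (by rw [← e]; rfl))]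
    ring

end IsTorus

end CfsgLib.Misc.SLTwoDiscrete
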