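import Mathlib
import Cfsg.Agent.Lie.SLn

/-!
Two element generation of SL_{n+1} modulo its centre.
-/

set_option autoImplicit false
set_option linter.unusedSectionVars false

namespace CfsgLib.Misc.SLTwoGen

open Matrix
open scoped Fin.NatCast

variable {K : Type*} [Field K] {n : ℕ}

local notation "SL" => Matrix.SpecialLinearGroup (Fin (n + 1)) K

/-- The scalar on row `a` of the cycle matrix. -/
def sgn (a : Fin (n + 1)) : K := if a.val = n then (-1) ^ n else 1

theorem sgn_ne (a : Fin (n + 1)) : (sgn a : K) ≠ 0 := by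
  unfold sgn; split_ifs <;> simp

/-- A monomial cycle matrix. -/
def IsCycleMat (w : SL) : Prop :=
  ∀ a b : Fin (n + 1), (w : Matrix (Fin (n + 1)) (Fin (n + 1)) K) a b = if b = a + 1 then sgn a else 0

theorem isCycleMat_of (w : SL) (hw : (w : Matrix (Fin (n + 1)) (Fin (n + 1)) K) =
    Matrix.of (fun i j => if j.val = i.val + 1 then 1 else if i.val = n ∧ j.val = 0 then (-1) ^ n else 0)) :
    IsCycleMat w := by
  intro a b
  rw [hw, Matrix.of_apply, sgn]
  have hb := b.isLt
  have ha := a.isLt
  by_cases han : a.val = n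
  · have : a + 1 = 0 := by
      rw [show a = Fin.last n from Fin.ext han]; simp
    rw [this, if_neg (by omega)]
    by_cases hb0 : b.val = 0
    · rw [if_pos ⟨han, hb0⟩, if_pos (Fin.ext hb0), if_pos han]
    · rw [if_neg (fun h => hb0 h.2), if_neg (fun h => hb0 (by rw [h]; rfl))]
  · have hv : (a + 1 : Fin (n + 1)).val = a.val + 1 := by
      rw [Fin.val_add_one, if_neg (fun h => han (by rw [h]; rfl))]
    rw [if_neg han]
    by_cases hb1 : b.val = a.val + 1
    · rw [if_pos hb1, if_pos (Fin.ext (hb1.trans hv.symm))]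
    · rw [if_neg hb1, if_neg (fun h => han h.1), if_neg (fun h => hb1 (by rw [h, hv]))]

theorem conj_transvection {w : SL} (hw : IsCycleMat w) {i j : Fin (n + 1)} (hij : i ≠ j) (c : K) :
    w * SpecialLinearGroup.transvection hij c * w⁻¹ =
      SpecialLinearGroup.transvection (show i - 1 ≠ j - 1 by simpa using hij) (c * sgn (i - 1) / sgn (j - 1)) := by
  rw [mul_inv_eq_iff_eq_mul]
  refine Subtype.ext ?_
  show (w : Matrix (Fin (n + 1)) (Fin (n + 1)) K) * Matrix.transvection i j c =
    Matrix.transvection (i - 1) (j - 1) _ * (w : Matrix (Fin (n + 1)) (Fin (n + 1)) K)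
  simp only [Matrix.transvection, mul_add, add_mul, mul_one, one_mul]
  congr 1
  ext a b
  by_cases hb : b = j
  · subst hb
    rw [Matrix.mul_single_apply_same]
    by_cases ha : a = i - 1
    · subst ha
      rw [Matrix.single_mul_apply_same, hw, hw, if_pos (sub_add_cancel i 1).symm,
        if_pos (sub_add_cancel b 1).symm, div_mul_cancel₀ _ (sgn_ne _), mul_comm]
    · rw [Matrix.single_mul_apply_of_ne _ _ _ _ _ ha, hw, if_neg (fun h => ha (eq_sub_of_add_eq h.symm)), zero_mul]
  · rw [Matrix.mul_single_apply_of_ne _ _ _ _ _ hb]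
    by_cases ha : a = i - 1
    · subst ha
      rw [Matrix.single_mul_apply_same, hw, if_neg (fun h => hb (h.trans (sub_add_cancel j 1))), mul_zero]
    · rw [Matrix.single_mul_apply_of_ne _ _ _ _ _ ha]

theorem tv_mul {i j : Fin (n + 1)} (hij : i ≠ j) (c d : K) :
    SpecialLinearGroup.transvection hij c * SpecialLinearGroup.transvection hij d =
      SpecialLinearGroup.transvection hij (c + d) :=
  Subtype.ext (Matrix.transvection_mul_transvection_same i j hij c d)

theorem comm_transvection {i j l : Fin (n + 1)} (hij : i ≠ j) (hjl : j ≠ l) (hil : i ≠ l) (c d : K) :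
    SpecialLinearGroup.transvection hij c * SpecialLinearGroup.transvection hjl d *
      SpecialLinearGroup.transvection hij (-c) * SpecialLinearGroup.transvection hjl (-d) =
      SpecialLinearGroup.transvection hil (c * d) := by
  refine Subtype.ext ?_
  show Matrix.transvection i j c * Matrix.transvection j l d * Matrix.transvection i j (-c) *
    Matrix.transvection j l (-d) = Matrix.transvection i l (c * d)
  refine Matrix.ext_of_mulVec_single fun m => funext fun k => ?_
  simp only [← Matrix.mulVec_mulVec, Lie.SLn.transv_mulVec_apply]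
  by_cases hki : k = i
  · subst hki; simp [hij, hij.symm, hjl, hjl.symm, hil, hil.symm]; ring
  · by_cases hkj : k = j
    · subst hkj; simp [hij, hij.symm, hjl, hjl.symm, hil, hil.symm]
    · simp [hki, hkj]

theorem top_of_base (hn : 1 ≤ n) {w : SL} (hw : IsCycleMat w) (H : Subgroup SL) (hwH : w ∈ H)
    (hbase : ∀ (h01 : (0 : Fin (n + 1)) ≠ 1) (c : K), SpecialLinearGroup.transvection h01 c ∈ H) : H = ⊤ := by
  let P : Fin (n + 1) → Fin (n + 1) → Prop := fun i j => ∀ (h : i ≠ j) (c : K), SpecialLinearGroup.transvection h c ∈ H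
  have hshift : ∀ i j, P i j → P (i - 1) (j - 1) := by
    intro i j hP h c
    have hij : i ≠ j := fun e => h (by rw [e])
    have := H.mul_mem (H.mul_mem hwH (hP hij (c * sgn (j - 1) / sgn (i - 1)))) (H.inv_mem hwH)
    rw [conj_transvection hw hij] at this
    have e : c * sgn (j - 1) / sgn (i - 1) * sgn (i - 1) / sgn (j - 1) = c := by
      rw [div_mul_cancel₀ _ (sgn_ne _), mul_div_cancel_right₀ _ (sgn_ne _)]
    rwa [e] at this
  have hiter : ∀ (m : ℕ) i j, P i j → P (i - m) (j - m) := by
    intro m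
    induction m with
    | zero => simp
    | succ m ih =>
      intro i j h
      have := hshift _ _ (ih i j h)
      simpa [Nat.cast_succ, sub_sub] using this
  have hall : ∀ i j k, P i j → P k (k + (j - i)) := by
    intro i j k h
    have := hiter (i - k).val i j h
    rw [Fin.cast_val_eq_self, sub_sub_cancel] at this
    rwa [show k + (j - i) = j - (i - k) by abel]
  have h01 : (0 : Fin (n + 1)) ≠ 1 := by
    obtain ⟨m, rfl⟩ : ∃ m, n = m + 1 := ⟨n - 1, by omega⟩
    exact Fin.zero_ne_one
  have hd : ∀ d : ℕ, d < n + 1 → P 0 (d : Fin (n + 1)) := by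
    intro d
    induction d with
    | zero => intro _ h; exact absurd (by simp) h
    | succ d ih =>
      intro hlt h c
      rcases Nat.eq_zero_or_pos d with rfl | hd0
      · simp only [zero_add, Nat.cast_one] at h ⊢
        exact hbase h c
      have hP := ih (by omega)
      have hne : (0 : Fin (n + 1)) ≠ (d : Fin (n + 1)) := fun e => by
        have := congrArg Fin.val e
        rw [Fin.val_natCast, Nat.mod_eq_of_lt (by omega)] at this
        simp at this; omega
      have hP1 := hall 0 1 (d : Fin (n + 1)) (fun h c => hbase h c)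
      rw [sub_zero, ← Nat.cast_succ] at hP1
      have hne1 : (d : Fin (n + 1)) ≠ ((d + 1 : ℕ) : Fin (n + 1)) := fun e => by
        have := congrArg Fin.val e
        rw [Fin.val_natCast, Fin.val_natCast, Nat.mod_eq_of_lt (by omega), Nat.mod_eq_of_lt hlt] at this
        omega
      rw [← mul_one c, ← comm_transvection hne hne1 h c 1]
      exact H.mul_mem (H.mul_mem (H.mul_mem (hP hne c) (hP1 hne1 1)) (hP hne (-c))) (hP1 hne1 (-1))
  refine Lie.SLn.eq_top_of_transvection_mem H fun i j hij c => ?_
  have := hall 0 _ i (hd (j - i).val (j - i).isLt)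
  rw [Fin.cast_val_eq_self, sub_zero, add_sub_cancel] at this
  exact this hij c

theorem small_field [Fintype K] (hK : Fintype.card K ≤ 3) (c : K) : ∃ m : ℕ, c = (m : K) := by
  classical
  by_cases h2 : c = 0
  · exact ⟨0, by simpa using h2⟩
  by_cases h1 : c = 1
  · exact ⟨1, by simpa using h1⟩
  refine ⟨2, ?_⟩
  by_contra hc
  simp only [Nat.cast_ofNat] at hc
  have hcard : ({0, 1, c} : Finset K).card = 3 := by
    rw [Finset.card_insert_of_notMem (by simp [Ne.symm h2]), Finset.card_insert_of_notMem (by simp [Ne.symm h1]),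
      Finset.card_singleton]
  have huniv := Finset.eq_univ_of_card ({0, 1, c} : Finset K) (le_antisymm (Finset.card_le_univ _) (hcard.symm ▸ hK))
  have hmem : (2 : K) ∈ ({0, 1, c} : Finset K) := huniv ▸ Finset.mem_univ _
  simp only [Finset.mem_insert, Finset.mem_singleton] at hmem
  rcases hmem with h | h | h
  · have hmem' : (1 : K) + c ∈ ({0, 1, c} : Finset K) := huniv ▸ Finset.mem_univ _
    simp only [Finset.mem_insert, Finset.mem_singleton] at hmem'
    rcases hmem' with h' | h' | h'
    · exact h1 (by linear_combination h' - h)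
    · exact h2 (by linear_combination h')
    · exact one_ne_zero (α := K) (by linear_combination h')
  · exact one_ne_zero (α := K) (by linear_combination h)
  · exact hc h.symm

theorem exists_two_sq [Fintype K] (c : K) : ∃ a b : K, a ^ 2 + b ^ 2 = c := by
  by_cases h2 : ringChar K = 2
  · obtain ⟨b, hb⟩ := FiniteField.isSquare_of_char_two h2 c
    exact ⟨b, 0, by rw [hb]; ring⟩
  · obtain ⟨a, b, hab⟩ := FiniteField.exists_root_sum_quadratic (f := (Polynomial.X ^ 2 : Polynomial K))
      (g := (Polynomial.X ^ 2 + Polynomial.C (-c) : Polynomial K)) (by simp)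
      (by rw [Polynomial.degree_X_pow_add_C two_pos]; rfl) (FiniteField.odd_card_of_char_ne_two h2)
    exact ⟨a, b, by simp at hab; linear_combination hab⟩

theorem gen_small [Fintype K] (hK : Fintype.card K ≤ 3) (hn : 1 ≤ n) (x w : SL)
    (hx : (x : Matrix (Fin (n + 1)) (Fin (n + 1)) K) = Matrix.transvection (0 : Fin (n + 1)) (1 : Fin (n + 1)) 1)
    (hw : IsCycleMat w) : Subgroup.closure ({x, w} : Set SL) ⊔ Subgroup.center SL = ⊤ := by
  refine top_of_base hn hw _ (Subgroup.mem_sup_left (Subgroup.subset_closure (by simp))) fun h01 c => ?_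
  obtain ⟨m, rfl⟩ := small_field hK c
  have : SpecialLinearGroup.transvection h01 (m : K) = x ^ m := by
    induction m with
    | zero => exact Subtype.ext (by simp [SpecialLinearGroup.transvection])
    | succ m ih =>
      rw [pow_succ, ← ih, show x = SpecialLinearGroup.transvection h01 1 from Subtype.ext hx, tv_mul, Nat.cast_succ]
  rw [this]
  exact pow_mem (Subgroup.mem_sup_left (Subgroup.subset_closure (by simp))) m

theorem diag_conj {i j : Fin (n + 1)} (hij : i ≠ j) (d : SL) (f : Fin (n + 1) → K)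
    (hd : (d : Matrix (Fin (n + 1)) (Fin (n + 1)) K) = Matrix.diagonal f) (hf : f j ≠ 0) (c : K) :
    d * SpecialLinearGroup.transvection hij c * d⁻¹ =
      SpecialLinearGroup.transvection hij (f i / f j * c) := by
  rw [mul_inv_eq_iff_eq_mul]
  refine Subtype.ext ?_
  show (d : Matrix (Fin (n + 1)) (Fin (n + 1)) K) * Matrix.transvection i j c =
    Matrix.transvection i j (f i / f j * c) * (d : Matrix (Fin (n + 1)) (Fin (n + 1)) K)
  rw [hd]
  ext a b
  rw [Matrix.diagonal_mul, Matrix.mul_diagonal]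
  simp only [Matrix.transvection, Matrix.add_apply, Matrix.one_apply, Matrix.single_apply]
  by_cases h1 : i = a ∧ j = b
  · obtain ⟨rfl, rfl⟩ := h1
    simp [hij]
    field_simp
  · rw [if_neg h1, if_neg h1]
    by_cases h2 : a = b
    · subst h2; ring
    · simp [h2]

theorem gen_large [Fintype K] (hK : 3 < Fintype.card K) (hn : 1 ≤ n) (k : Kˣ) (hk : ∀ u : Kˣ, u ∈ Subgroup.zpowers k)
    (h x w : SL)
    (hh : (h : Matrix (Fin (n + 1)) (Fin (n + 1)) K) =
      Matrix.diagonal (fun i => if i.val = 0 then (k : K) else if i.val = 1 then ((k⁻¹ : Kˣ) : K) else 1))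
    (hx : (x : Matrix (Fin (n + 1)) (Fin (n + 1)) K) = Matrix.transvection (0 : Fin (n + 1)) (1 : Fin (n + 1)) 1)
    (hw : IsCycleMat w) : Subgroup.closure ({h, x * w} : Set SL) ⊔ Subgroup.center SL = ⊤ := by
  classical
  set H := Subgroup.closure ({h, x * w} : Set SL) ⊔ Subgroup.center SL
  have hhH : h ∈ H := Subgroup.mem_sup_left (Subgroup.subset_closure (by simp))
  have hyH : x * w ∈ H := Subgroup.mem_sup_left (Subgroup.subset_closure (by simp))
  obtain ⟨m, rfl⟩ : ∃ m, n = m + 1 := ⟨n - 1, by omega⟩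
  have h01 : (0 : Fin (m + 1 + 1)) ≠ 1 := Fin.zero_ne_one
  set f : Fin (m + 1 + 1) → K := fun i => if i.val = 0 then (k : K) else if i.val = 1 then ((k⁻¹ : Kˣ) : K) else 1
  have hf : ∀ i, f i ≠ 0 := fun i => by simp only [f]; split_ifs <;> simp
  have hk0 : (k : K) ≠ 0 := k.ne_zero
  have hord : orderOf k = Fintype.card K - 1 := by
    rw [orderOf_eq_card_of_forall_mem_zpowers hk, Nat.card_units, Nat.card_eq_fintype_card]
  have hk2 : (k : K) * k ≠ 1 := fun e => by
    have e' : k ^ 2 = 1 := Units.ext (by rw [Units.val_pow_eq_pow_val, pow_two]; simpa using e)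
    have := Nat.le_of_dvd (by omega) (orderOf_dvd_of_pow_eq_one e')
    omega
  have hk1 : (k : K) ≠ 1 := fun e => hk2 (by rw [e, one_mul])
  set d := w * h * w⁻¹
  have hd : (d : Matrix (Fin (m + 1 + 1)) (Fin (m + 1 + 1)) K) = Matrix.diagonal (fun a => f (a + 1)) := by
    obtain ⟨D, hD⟩ : ∃ D : Matrix.SpecialLinearGroup (Fin (m + 1 + 1)) K, (D : Matrix (Fin (m + 1 + 1)) (Fin (m + 1 + 1)) K) = Matrix.diagonal (fun a => f (a + 1)) :=
      ⟨⟨_, by
        change (Matrix.diagonal fun a => f (a + 1)).det = 1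
        rw [Matrix.det_diagonal]
        have hdet := h.2
        rw [hh, Matrix.det_diagonal] at hdet
        exact (Equiv.prod_comp (Equiv.addRight (1 : Fin (m + 1 + 1))) f).trans hdet⟩, rfl⟩
    have : d = D := by
      rw [mul_inv_eq_iff_eq_mul]
      refine Subtype.ext ?_
      show (w : Matrix (Fin (m + 1 + 1)) (Fin (m + 1 + 1)) K) * (h : Matrix (Fin (m + 1 + 1)) (Fin (m + 1 + 1)) K) =
        (D : Matrix (Fin (m + 1 + 1)) (Fin (m + 1 + 1)) K) * (w : Matrix (Fin (m + 1 + 1)) (Fin (m + 1 + 1)) K)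
      rw [hD, hh]
      ext a b
      rw [Matrix.diagonal_mul, Matrix.mul_diagonal, hw]
      by_cases e : b = a + 1
      · rw [if_pos e, e, mul_comm]
      · rw [if_neg e, zero_mul, mul_zero]
    rw [this, hD]
  set ρ := f (0 + 1) / f (1 + 1)
  have hρ : ρ ≠ 1 := by
    rw [Ne, div_eq_one_iff_eq (hf _)]
    have e1 : f (0 + 1) = ((k⁻¹ : Kˣ) : K) := by simp [f]
    rw [e1, show (1 + 1 : Fin (m + 1 + 1)) = ((2 : ℕ) : Fin (m + 1 + 1)) by norm_num]
    rcases Nat.eq_zero_or_pos m with rfl | hm
    · have e2 : f (((2 : ℕ) : Fin (0 + 1 + 1))) = (k : K) := by simp [f]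
      rw [e2]
      intro e
      exact hk2 (by nth_rewrite 1 [← e]; simp)
    · have hv : (((2 : ℕ) : Fin (m + 1 + 1))).val = 2 := by rw [Fin.val_natCast, Nat.mod_eq_of_lt]; omega
      have e2 : f (((2 : ℕ) : Fin (m + 1 + 1))) = 1 := by
        simp only [f]
        rw [if_neg (by omega), if_neg (by omega)]
      rw [e2]
      intro e
      exact hk1 (by
        have := congrArg (fun t : K => t * k) e
        simpa using this.symm)
  set T := fun c : K => SpecialLinearGroup.transvection h01 c
  have hxT : x = T 1 := Subtype.ext hx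
  have hTinv : ∀ c, (T c)⁻¹ = T (-c) := fun c => inv_eq_of_mul_eq_one_right (by
    rw [tv_mul, add_neg_cancel]; exact Subtype.ext (by simp [SpecialLinearGroup.transvection]))
  have hA : (x * w) * h * (x * w)⁻¹ = T (1 - ρ) * d := by
    have e1 : d * T (-1) * d⁻¹ = T (ρ * -1) := diag_conj h01 d _ hd (hf _) (-1)
    calc (x * w) * h * (x * w)⁻¹ = x * d * x⁻¹ := by simp [d, mul_assoc]
      _ = x * (d * T (-1) * d⁻¹) * d := by rw [hxT, hTinv]; simp [mul_assoc]
      _ = T (1 - ρ) * d := by rw [e1, hxT, tv_mul]; congr 2; ring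
  have hhd : h * d = d * h := by
    refine Subtype.ext ?_
    show (h : Matrix (Fin (m + 1 + 1)) (Fin (m + 1 + 1)) K) * (d : Matrix (Fin (m + 1 + 1)) (Fin (m + 1 + 1)) K) = _ * _
    rw [hh, hd, Matrix.diagonal_mul_diagonal, Matrix.diagonal_mul_diagonal]
    simp only [mul_comm]
  have hconj : ∀ c, h * T c * h⁻¹ = T ((k : K) * k * c) := fun c => by
    rw [diag_conj h01 h f hh (hf _)]
    congr 1
    simp [f]
  set s := ((k : K) * k - 1) * (1 - ρ)
  have hs : T s ∈ H := by
    have hAH : T (1 - ρ) * d ∈ H := hA ▸ H.mul_mem (H.mul_mem hyH hhH) (H.inv_mem hyH)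
    have := H.mul_mem (H.mul_mem (H.mul_mem hhH hAH) (H.inv_mem hhH)) (H.inv_mem hAH)
    have e : h * (T (1 - ρ) * d) * h⁻¹ * (T (1 - ρ) * d)⁻¹ = T s := by
      calc h * (T (1 - ρ) * d) * h⁻¹ * (T (1 - ρ) * d)⁻¹
          = h * T (1 - ρ) * h⁻¹ * (h * d * h⁻¹ * d⁻¹) * (T (1 - ρ))⁻¹ := by simp [mul_assoc]
        _ = T s := by
          rw [hconj, show h * d * h⁻¹ * d⁻¹ = 1 by rw [hhd]; group, mul_one, hTinv, tv_mul]
          congr 1
          simp only [s]; ring
    rwa [e] at this
  have hs0 : s ≠ 0 := mul_ne_zero (sub_ne_zero.2 hk2) (sub_ne_zero.2 (Ne.symm hρ))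
  have hsq : ∀ u : K, T (u * u * s) ∈ H := by
    intro u
    by_cases hu : u = 0
    · subst hu
      rw [zero_mul, zero_mul, show T 0 = 1 from Subtype.ext (by simp [T, SpecialLinearGroup.transvection])]
      exact one_mem _
    obtain ⟨a, ha⟩ := Subgroup.mem_zpowers_iff.1 (hk (Units.mk0 u hu))
    obtain ⟨a', -, ha'⟩ : ∃ a' : ℕ, True ∧ k ^ a' = Units.mk0 u hu := by
      obtain ⟨a', ha'⟩ := (mem_powers_iff_mem_zpowers.2 ⟨a, ha⟩ : Units.mk0 u hu ∈ Submonoid.powers k)
      exact ⟨a', trivial, ha'⟩
    have hpow : ∀ a' : ℕ, T (((k : K) ^ a') * ((k : K) ^ a') * s) ∈ H := by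
      intro a'
      induction a' with
      | zero => simpa [T] using hs
      | succ a' ih =>
        have := H.mul_mem (H.mul_mem hhH ih) (H.inv_mem hhH)
        rw [hconj] at this
        convert this using 2
        ring
    have := hpow a'
    rwa [← Units.val_pow_eq_pow_val, ha'] at this
  refine top_of_base hn hw H ?_ fun h01' c => ?_
  · have hx1 : x ∈ H := by
      obtain ⟨a, b, hab⟩ := exists_two_sq (K := K) s⁻¹
      rw [hxT, show (1 : K) = a * a * s + b * b * s by field_simp at hab ⊢; linear_combination -hab]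
      simp only [T]
      rw [← tv_mul]
      exact H.mul_mem (hsq a) (hsq b)
    have := H.mul_mem (H.inv_mem hx1) hyH
    rwa [inv_mul_cancel_left] at this
  · obtain ⟨a, b, hab⟩ := exists_two_sq (K := K) (c / s)
    rw [show c = a * a * s + b * b * s by field_simp at hab ⊢; linear_combination -hab, ← tv_mul]
    exact H.mul_mem (hsq a) (hsq b)

end CfsgLib.Misc.SLTwoGen
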