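import Cfsg.Agent.Misc.SLTwoDiscrete
import Mathlib.NumberTheory.GaussSum

/-!
The characters of SL₂(q) of degree `(q ± 1) / 2`, q odd.
-/

set_option autoImplicit false
set_option linter.unusedSectionVars false
set_option linter.unusedSimpArgs false

namespace CfsgLib.Misc.SLTwoHalves

open Cfsg CfsgLib.Char BorelInduced PrincipalSeries SLTwoClassify SLTwoDiscrete GelfandGraev
open SLTwoTorus (Ell)
open scoped ComplexConjugate

variable {F : Type*} [Field F] [Fintype F] [DecidableEq F]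

local notation "SL2" => Matrix.SpecialLinearGroup (Fin 2) F
local notation "qC" => (Fintype.card F : ℂ)

theorem ringChar_ne (hodd : Odd (Fintype.card F)) : ringChar F ≠ 2 := by
  intro h
  have := FiniteField.even_card_of_char_two h
  rw [Nat.odd_iff] at hodd
  omega

theorem exists_nonsquare (hodd : Odd (Fintype.card F)) : ∃ ν : F, ¬ IsSquare ν ∧ ν ≠ 0 := by
  obtain ⟨ν, hν⟩ := FiniteField.exists_nonsquare (ringChar_ne hodd)
  exact ⟨ν, hν, fun e => hν (by rw [e]; exact IsSquare.zero)⟩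

theorem quad_apply {α : MulChar F ℂ} (h2 : α ^ 2 = 1) (h1 : α ≠ 1) (hodd : Odd (Fintype.card F)) {x : F}
    (hx : x ≠ 0) : α x = if IsSquare x then 1 else -1 := by
  classical
  have hsq : ∀ y : F, y ≠ 0 → α y * α y = 1 := fun y hy => by
    rw [← MulChar.mul_apply, ← pow_two, h2, MulChar.one_apply (isUnit_iff_ne_zero.2 hy)]
  have hS : ∀ y : F, y ≠ 0 → IsSquare y → α y = 1 := by
    rintro y hy ⟨r, rfl⟩
    rw [map_mul, hsq r (fun e => hy (by rw [e, zero_mul]))]
  split_ifs with hs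
  · exact hS x hx hs
  · refine (mul_self_eq_one_iff.1 (hsq x hx)).resolve_left fun e => h1 (MulChar.ext fun u => ?_)
    rw [MulChar.one_apply_coe]
    by_cases hu : IsSquare (u : F)
    · exact hS _ u.ne_zero hu
    · have hq : IsSquare ((u : F) / x) := by
        have hc := ringChar_ne hodd
        rw [FiniteField.isSquare_iff hc (div_ne_zero u.ne_zero hx), div_pow]
        rw [FiniteField.isSquare_iff hc hx] at hs
        rw [FiniteField.isSquare_iff hc u.ne_zero] at hu
        rw [(FiniteField.pow_dichotomy hc hx).resolve_left hs, (FiniteField.pow_dichotomy hc u.ne_zero).resolve_left hu]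
        simp
      have := hS _ (div_ne_zero u.ne_zero hx) hq
      rw [show (u : F) = (u : F) / x * x by rw [div_mul_cancel₀ _ hx], map_mul, this, e, one_mul]

theorem quad_unique {α β : MulChar F ℂ} (ha2 : α ^ 2 = 1) (ha1 : α ≠ 1) (hb2 : β ^ 2 = 1) (hb1 : β ≠ 1)
    (hodd : Odd (Fintype.card F)) : α = β :=
  MulChar.ext fun u => by rw [quad_apply ha2 ha1 hodd u.ne_zero, quad_apply hb2 hb1 hodd u.ne_zero]

theorem exists_quad (hodd : Odd (Fintype.card F)) : ∃ α : MulChar F ℂ, α ^ 2 = 1 ∧ α ≠ 1 := by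
  obtain ⟨ν, hν, hν0⟩ := exists_nonsquare hodd
  refine ⟨(quadraticChar F).ringHomComp (Int.castRingHom ℂ), ?_, ?_⟩
  · refine MulChar.ext fun u => ?_
    rw [MulChar.pow_apply_coe, MulChar.one_apply_coe, MulChar.ringHomComp_apply, ← map_pow, quadraticChar_sq_one u.ne_zero,
      map_one]
  · intro h
    have := congrArg (fun χ : MulChar F ℂ => χ ν) h
    simp only [MulChar.one_apply (isUnit_iff_ne_zero.2 hν0), MulChar.ringHomComp_apply,
      quadraticChar_neg_one_iff_not_isSquare.2 hν] at this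
    norm_num at this

theorem quad_neg_one {α : MulChar F ℂ} (h2 : α ^ 2 = 1) (h1 : α ≠ 1) (hodd : Odd (Fintype.card F)) :
    α (-1) = (-1 : ℂ) ^ ((Fintype.card F - 1) / 2) := by
  classical
  obtain ⟨k, hk⟩ := hodd
  have hodd : Odd (Fintype.card F) := ⟨k, hk⟩
  rw [quad_apply h2 h1 hodd (neg_ne_zero.2 one_ne_zero), show (Fintype.card F - 1) / 2 = k by omega]
  have hiff := FiniteField.isSquare_iff (ringChar_ne hodd) (neg_ne_zero.2 (one_ne_zero (α := F)))
  rw [show Fintype.card F / 2 = k by omega] at hiff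
  have hne : (-1 : F) ≠ 1 := fun e => two_ne hodd (by linear_combination -e)
  rcases Nat.even_or_odd k with hp | hp
  · rw [hp.neg_one_pow, if_pos (hiff.2 hp.neg_one_pow)]
  · rw [hp.neg_one_pow, if_neg (fun e => hne (hp.neg_one_pow.symm.trans (hiff.1 e)))]

theorem sum_quad {α : MulChar F ℂ} (h1 : α ≠ 1) : ∑ x : F, α x = 0 := MulChar.sum_eq_zero_of_ne_one h1

/-- the values on the unipotent elements -/
theorem u_value {α : MulChar F ℂ} (h2 : α ^ 2 = 1) (h1 : α ≠ 1) (hodd : Odd (Fintype.card F))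
    {χ : SL2 → ℂ} (hχ : IsClassFunction SL2 χ) {ν : F} (hν : ¬ IsSquare ν) {x : F} (hx : x ≠ 0) :
    χ (setupS.u x) = (χ (setupS.u 1) + χ (setupS.u ν)) / 2 + (χ (setupS.u 1) - χ (setupS.u ν)) / 2 * α x := by
  classical
  have hconj : ∀ (y r : F), r ≠ 0 → χ (setupS.u (r ^ 2 * y)) = χ (setupS.u y) := by
    intro y r hr
    let t : SL2 := ⟨!![r, 0; 0, r⁻¹], by simp [Matrix.det_fin_two, mul_inv_cancel₀ hr]⟩
    have : setupS.u (r ^ 2 * y) = t * setupS.u y * t⁻¹ := by
      rw [eq_mul_inv_iff_mul_eq]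
      refine Subtype.ext ?_
      show !![1, r ^ 2 * y; 0, 1] * !![r, 0; 0, r⁻¹] = !![r, 0; 0, r⁻¹] * !![1, y; 0, 1]
      simp
      field_simp
    rw [this]
    exact hχ _ _
  have hν0 : ν ≠ 0 := fun e => hν (by rw [e]; exact IsSquare.zero)
  rw [quad_apply h2 h1 hodd hx]
  split_ifs with hs
  · obtain ⟨r, rfl⟩ := hs
    rw [show r * r = r ^ 2 * 1 by ring, hconj 1 r (fun e => hx (by rw [e, zero_mul]))]
    ring
  · have hq : IsSquare (x / ν) := by
      have hc := ringChar_ne hodd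
      rw [FiniteField.isSquare_iff hc (div_ne_zero hx hν0), div_pow]
      rw [FiniteField.isSquare_iff hc hx] at hs
      rw [FiniteField.isSquare_iff hc hν0] at hν
      rw [(FiniteField.pow_dichotomy hc hx).resolve_left hs, (FiniteField.pow_dichotomy hc hν0).resolve_left hν]
      simp
    obtain ⟨r, hr⟩ := hq
    have : x = r ^ 2 * ν := by rw [pow_two, ← hr, div_mul_cancel₀ _ hν0]
    rw [this, hconj ν r (fun e => hx (by rw [this, e]; ring))]
    ring

theorem sum_u {α : MulChar F ℂ} (h2 : α ^ 2 = 1) (h1 : α ≠ 1) (hodd : Odd (Fintype.card F))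
    {χ : SL2 → ℂ} (hχ : IsClassFunction SL2 χ) {ν : F} (hν : ¬ IsSquare ν) :
    ∑ x : F, χ (setupS.u x) = χ 1 + (qC - 1) * ((χ (setupS.u 1) + χ (setupS.u ν)) / 2) := by
  classical
  rw [← Finset.add_sum_erase Finset.univ _ (Finset.mem_univ (0 : F)), setupS.u_zero,
    Finset.sum_congr rfl fun x hx => u_value h2 h1 hodd hχ hν (Finset.mem_erase.1 hx).1, Finset.sum_add_distrib,
    ← Finset.mul_sum, Finset.sum_erase _ (MulChar.map_zero α), sum_quad h1, Finset.sum_const,
    Finset.card_erase_of_mem (Finset.mem_univ _), Finset.card_univ, nsmul_eq_mul, Nat.cast_sub Fintype.card_pos]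
  simp

/-- Gauss sum in the form used here -/
noncomputable def gs (α : MulChar F ℂ) (φ : AddChar F ℂ) : ℂ := ∑ x : F, α x * φ (-x)

theorem gs_sq {α : MulChar F ℂ} (h2 : α ^ 2 = 1) (h1 : α ≠ 1) (hodd : Odd (Fintype.card F)) {φ : AddChar F ℂ}
    (hφ : φ ≠ 1) : gs α φ ^ 2 = (-1 : ℂ) ^ ((Fintype.card F - 1) / 2) * qC := by
  classical
  have hq : α.IsQuadratic := fun a => by
    by_cases ha : a = 0
    · exact Or.inl (by rw [ha, MulChar.map_zero])
    · rw [quad_apply h2 h1 hodd ha]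
      split_ifs <;> simp
  have hp : (φ.mulShift (-1)).IsPrimitive :=
    AddChar.IsPrimitive.of_ne_one fun e =>
      AddChar.IsPrimitive.of_ne_one hφ (neg_ne_zero.2 one_ne_zero) e
  rw [show gs α φ = gaussSum α (φ.mulShift (-1)) from ?_, gaussSum_sq h1 hq hp, quad_neg_one h2 h1 hodd]
  simp [gs, gaussSum]

theorem gs_shift {α : MulChar F ℂ} (h2 : α ^ 2 = 1) (h1 : α ≠ 1) (hodd : Odd (Fintype.card F)) (φ : AddChar F ℂ)
    {ν : F} (hν : ¬ IsSquare ν) : gs α (φ.mulShift ν) = -gs α φ := by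
  classical
  have hν0 : ν ≠ 0 := fun e => hν (by rw [e]; exact IsSquare.zero)
  have e : α ν = -1 := by rw [quad_apply h2 h1 hodd hν0, if_neg hν]
  have : α ν * gs α (φ.mulShift ν) = gs α φ := by
    unfold gs
    rw [Finset.mul_sum]
    refine Fintype.sum_equiv (Equiv.mulLeft₀ ν hν0) _ _ fun x => ?_
    show α ν * (α x * φ.mulShift ν (-x)) = α (ν * x) * φ (-(ν * x))
    rw [AddChar.mulShift_apply, map_mul α, mul_neg, mul_assoc]
  rw [e] at this
  linear_combination -this

theorem coef_eq {α : MulChar F ℂ} (h2 : α ^ 2 = 1) (h1 : α ≠ 1) (hodd : Odd (Fintype.card F))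
    {χ : SL2 → ℂ} (hχ : IsClassFunction SL2 χ) {ν : F} (hν : ¬ IsSquare ν) {φ : AddChar F ℂ} (hφ : φ ≠ 1) :
    setupS.coef φ χ = χ 1 - (χ (setupS.u 1) + χ (setupS.u ν)) / 2 +
      (χ (setupS.u 1) - χ (setupS.u ν)) / 2 * gs α φ := by
  classical
  unfold Setup.coef gs
  rw [← Finset.add_sum_erase Finset.univ (fun z : F => φ (-z) * χ (setupS.u z)) (Finset.mem_univ (0 : F)),
    setupS.u_zero, neg_zero, AddChar.map_zero_eq_one, one_mul,
    Finset.sum_congr rfl fun x hx => by rw [u_value h2 h1 hodd hχ hν (Finset.mem_erase.1 hx).1]]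
  simp only [mul_add, Finset.sum_add_distrib, ← Finset.sum_mul]
  rw [Finset.sum_erase_eq_sub (Finset.mem_univ _), neg_zero, AddChar.map_zero_eq_one,
    show ∑ x : F, φ (-x) = 0 from (Equiv.sum_comp (Equiv.neg F) (fun z => φ z)).trans
      ((AddChar.sum_eq_zero_iff_ne_zero).2 hφ)]
  have : ∑ x ∈ Finset.univ.erase (0 : F), φ (-x) * ((χ (setupS.u 1) - χ (setupS.u ν)) / 2 * α x) =
      (χ (setupS.u 1) - χ (setupS.u ν)) / 2 * ∑ x : F, α x * φ (-x) := by
    rw [Finset.mul_sum, ← Finset.sum_erase (a := (0 : F)) Finset.univ (by rw [MulChar.map_zero]; ring)]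
    exact Finset.sum_congr rfl fun x _ => by ring
  rw [this]
  ring

theorem mulShift_ne {φ : AddChar F ℂ} (hφ : φ ≠ 1) {ν : F} (hν : ν ≠ 0) : φ.mulShift ν ≠ 1 :=
  AddChar.IsPrimitive.of_ne_one hφ hν

theorem exists_nontriv : ∃ φ : AddChar F ℂ, φ ≠ 1 := by
  haveI : Nontrivial (AddChar F ℂ) :=
    Fintype.one_lt_card_iff_nontrivial.1 (card_addChar (F := F) ▸ Fintype.one_lt_card)
  exact exists_ne 1

/-- if the two coefficients add up to `q`, the Gauss sum gives the difference of the unipotent values -/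
theorem sq_diff {α : MulChar F ℂ} (h2 : α ^ 2 = 1) (h1 : α ≠ 1) (hodd : Odd (Fintype.card F))
    {χ : SL2 → ℂ} (hχ : IsIrrCharacter SL2 χ) {ν : F} (hν : ¬ IsSquare ν)
    (hs : 2 * χ 1 - (χ (setupS.u 1) + χ (setupS.u ν)) = qC) :
    (χ (setupS.u 1) - χ (setupS.u ν)) ^ 2 = (-1 : ℂ) ^ ((Fintype.card F - 1) / 2) * qC := by
  obtain ⟨φ, hφ⟩ := exists_nontriv (F := F)
  have hq : qC ≠ 0 := Nat.cast_ne_zero.2 Fintype.card_ne_zero
  have hG := gs_sq h2 h1 hodd hφ
  have e := coef_eq h2 h1 hodd (classFun_of_irr hχ) hν hφ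
  have hd : ((χ (setupS.u 1) - χ (setupS.u ν)) * gs α φ) ^ 2 = qC ^ 2 := by
    rcases setupS.coef_le_one φ hφ hχ with h | h <;> rw [h] at e
    · linear_combination
        ((χ (setupS.u 1) - χ (setupS.u ν)) * gs α φ - qC) * (-2 * e - hs)
    · linear_combination
        ((χ (setupS.u 1) - χ (setupS.u ν)) * gs α φ + qC) * (-2 * e - hs)
  have hε : ((-1 : ℂ) ^ ((Fintype.card F - 1) / 2)) ^ 2 = 1 := by rw [← pow_mul, mul_comm, pow_mul]; norm_num
  rw [mul_pow, hG] at hd
  refine mul_right_cancel₀ hq ?_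
  linear_combination ((-1 : ℂ) ^ ((Fintype.card F - 1) / 2)) * hd -
    (χ (setupS.u 1) - χ (setupS.u ν)) ^ 2 * qC * hε

theorem small_sum (hodd : Odd (Fintype.card F)) {χ : SL2 → ℂ} (hχ : IsIrrCharacter SL2 χ) (hc : Cuspidal χ)
    (hdeg : 2 * χ 1 = qC - 1) {ν : F} (hν : ¬ IsSquare ν) : χ (setupS.u 1) + χ (setupS.u ν) = -1 := by
  obtain ⟨α, h2, h1⟩ := exists_quad hodd
  have e := sum_u h2 h1 hodd (classFun_of_irr hχ) hν
  rw [cusp_zero hχ hc] at e
  have hq1 : qC - 1 ≠ 0 := sub_ne_zero.2 (by exact_mod_cast (Fintype.one_lt_card (α := F)).ne')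
  refine mul_left_cancel₀ hq1 ?_
  linear_combination -2 * e - hdeg

theorem psS_u (β : MulChar F ℂ) (x : F) : psS β (setupS.u x) = if x = 0 then qC + 1 else 1 := by
  rw [← eS_one, ps_plus β 1 x (by simp), Units.val_one, map_one, mul_one]

theorem half_sum (hodd : Odd (Fintype.card F)) (hq5 : 5 ≤ Fintype.card F) {α : MulChar F ℂ} (h2 : α ^ 2 = 1)
    (h1 : α ≠ 1) {χ : SL2 → ℂ} (hχ : IsIrrCharacter SL2 χ) (hc : classInner (psS α) χ ≠ 0) {ν : F}
    (hν : ¬ IsSquare ν) : χ (setupS.u 1) + χ (setupS.u ν) = 1 := by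
  classical
  obtain ⟨h', hne, hdeg, -⟩ := half h2 h1 hχ hc
  have hq : qC ≠ 0 := Nat.cast_ne_zero.2 Fintype.card_ne_zero
  have hdeg' : 2 * (psS α - χ) 1 = qC + 1 := by rw [Pi.sub_apply, psS_one]; linear_combination -hdeg
  have hpos : ∀ ξ : SL2 → ℂ, IsIrrCharacter SL2 ξ → 2 * ξ 1 = qC + 1 →
      ∃ m : ℕ, 0 < m ∧ ∑ x : F, ξ (setupS.u x) = qC * m := by
    intro ξ hξ hd
    obtain ⟨m, hm⟩ := setupS.coef_nat (1 : AddChar F ℂ) (isCharacter_of_isIrr hξ)
    rw [setupS.coef_one_eq] at hm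
    refine ⟨m, Nat.pos_of_ne_zero fun h0 => ?_, hm⟩
    obtain ⟨φ, hφ⟩ := exists_nontriv (F := F)
    have hν0 : ν ≠ 0 := fun e => hν (by rw [e]; exact IsSquare.zero)
    have e := sum_u h2 h1 hodd (classFun_of_irr hξ) hν
    rw [hm, h0, Nat.cast_zero, mul_zero] at e
    have e1 := coef_eq h2 h1 hodd (classFun_of_irr hξ) hν hφ
    have e2 := coef_eq h2 h1 hodd (classFun_of_irr hξ) hν (mulShift_ne hφ hν0)
    rw [gs_shift h2 h1 hodd φ hν] at e2
    have key : (qC - 1) * (setupS.coef φ ξ + setupS.coef (φ.mulShift ν) ξ) = qC * (qC + 1) := by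
      linear_combination (qC - 1) * e1 + (qC - 1) * e2 + 2 * e + qC * hd
    rcases setupS.coef_le_one φ hφ hξ with a | a <;>
      rcases setupS.coef_le_one _ (mulShift_ne hφ hν0) hξ with b | b <;> rw [a, b] at key
    · exact (mul_ne_zero hq (Nat.cast_add_one_ne_zero _)) (by linear_combination -key)
    · exact absurd (show (2 : ℂ) = 0 from mul_left_cancel₀ hq (by linear_combination -key)) two_ne_zero
    · exact absurd (show (2 : ℂ) = 0 from mul_left_cancel₀ hq (by linear_combination -key)) two_ne_zero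
    · have : qC = 3 := mul_left_cancel₀ hq (by linear_combination key)
      have : Fintype.card F = 3 := by exact_mod_cast this
      omega
  obtain ⟨m, hm0, hm⟩ := hpos χ hχ hdeg
  obtain ⟨m', hm0', hm'⟩ := hpos _ h' hdeg'
  have htot : qC * m + qC * m' = 2 * qC := by
    rw [← hm, ← hm', ← Finset.sum_add_distrib]
    simp only [Pi.sub_apply, add_sub_cancel, psS_u]
    rw [← Finset.add_sum_erase Finset.univ _ (Finset.mem_univ (0 : F)), if_pos rfl,
      Finset.sum_congr rfl fun x hx => if_neg (Finset.mem_erase.1 hx).1, Finset.sum_const,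
      Finset.card_erase_of_mem (Finset.mem_univ _), Finset.card_univ, nsmul_eq_mul, Nat.cast_sub Fintype.card_pos]
    push_cast
    ring
  have : m + m' = 2 := by exact_mod_cast mul_left_cancel₀ hq (show qC * (m + m' : ℂ) = qC * 2 by linear_combination htot)
  have e := sum_u h2 h1 hodd (classFun_of_irr hχ) hν
  rw [hm, show m = 1 by omega, Nat.cast_one, mul_one] at e
  have hq1 : qC - 1 ≠ 0 := sub_ne_zero.2 (by exact_mod_cast (Fintype.one_lt_card (α := F)).ne')
  refine mul_left_cancel₀ hq1 ?_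
  linear_combination -2 * e - hdeg

/-- irreducible characters by degree -/
theorem deg_half (hq5 : 5 ≤ Fintype.card F) {χ : SL2 → ℂ} (hχ : IsIrrCharacter SL2 χ)
    (hdeg : 2 * χ 1 = qC + 1) : ∃ α : MulChar F ℂ, α ^ 2 = 1 ∧ α ≠ 1 ∧ classInner (psS α) χ ≠ 0 := by
  obtain ⟨n, -, hn⟩ := irr_deg hχ
  rw [hn] at hdeg
  have h2n : 2 * n = Fintype.card F + 1 := by exact_mod_cast hdeg
  rcases classify hχ with hc | ⟨α, hα, rfl⟩ | rfl | rfl | h
  · exfalso
    have := cusp_deg_large hχ hc hn (by omega)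
    omega
  · rw [psS_one] at hn
    exfalso
    have : n = Fintype.card F + 1 := by exact_mod_cast hn.symm
    omega
  · exfalso
    have : n = 1 := by exact_mod_cast (show (n : ℂ) = 1 from hn.symm)
    omega
  · rw [steinberg_one] at hn
    exfalso
    have : n = Fintype.card F := by exact_mod_cast hn.symm
    omega
  · exact h

theorem deg_small (hq4 : 4 ≤ Fintype.card F) {χ : SL2 → ℂ} (hχ : IsIrrCharacter SL2 χ)
    (hdeg : 2 * χ 1 = qC - 1 ∨ χ 1 = qC - 1) : Cuspidal χ := by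
  obtain ⟨n, -, hn⟩ := irr_deg hχ
  rw [hn] at hdeg
  have h2n : 2 * n + 1 = Fintype.card F ∨ n + 1 = Fintype.card F := hdeg.imp
    (fun e => by exact_mod_cast (show (2 * (n : ℂ) + 1) = qC by linear_combination e))
    (fun e => by exact_mod_cast (show ((n : ℂ) + 1) = qC by linear_combination e))
  rcases classify hχ with hc | ⟨α, hα, rfl⟩ | rfl | rfl | ⟨α, h2, h1, hc⟩
  · exact hc
  · rw [psS_one] at hn
    exfalso
    have : n = Fintype.card F + 1 := by exact_mod_cast hn.symm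
    omega
  · exfalso
    have : n = 1 := by exact_mod_cast (show (n : ℂ) = 1 from hn.symm)
    omega
  · rw [steinberg_one] at hn
    exfalso
    have : n = Fintype.card F := by exact_mod_cast hn.symm
    omega
  · obtain ⟨-, -, hd, -⟩ := half h2 h1 hχ hc
    rw [hn] at hd
    exfalso
    have : 2 * n = Fintype.card F + 1 := by exact_mod_cast hd
    omega

theorem exists_elliptic : ∃ g : SL2, Ell g := by
  classical
  have hns : ¬ Function.Surjective (fun u : Fˣ => (u : F) + ((u⁻¹ : Fˣ) : F)) := by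
    intro h
    have := Fintype.card_le_of_surjective _ h
    rw [Fintype.card_units] at this
    have : 0 < Fintype.card F := Fintype.card_pos
    omega
  simp only [Function.Surjective, not_forall, not_exists] at hns
  obtain ⟨t, ht⟩ := hns
  obtain ⟨g, -, -, hg⟩ := SLTwoOdd.exists_with_tr (F := F) t
  refine ⟨g, SLTwoTorus.ell_of_no_root fun a ha => ?_⟩
  rw [hg] at ha
  have ha0 : a ≠ 0 := fun e => by rw [e] at ha; norm_num at ha
  refine ht (Units.mk0 a ha0) ?_
  simp
  field_simp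
  linear_combination ha

end CfsgLib.Misc.SLTwoHalves
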