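import Cfsg.Agent.Misc.PSLTwoProducts
import Cfsg.Agent.Lie.OrthForms

/-!
Centralisers in SL₂(q) and PSL₂(q), q odd, and the class sizes.
-/

set_option autoImplicit false
set_option linter.unusedSectionVars false

namespace CfsgLib.Misc.SLTwoOdd

open scoped Matrix
open PSLTwoProducts (tr normal_form ne_pm pi_neg)

variable {F : Type*} [Field F] [Fintype F]

local notation "SL2" => Matrix.SpecialLinearGroup (Fin 2) F
local notation "PSL2" => Matrix.ProjectiveSpecialLinearGroup (Fin 2) F
local notation "π" => QuotientGroup.mk' (Subgroup.center SL2)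

/-- the form attached to a trace -/
abbrev Sol (t : F) : Type _ := {v : F × F // v.1 ^ 2 + t * v.1 * v.2 + v.2 ^ 2 = 1}

theorem card_centralizer {g : SL2} (h1 : g ≠ 1) (h2 : g ≠ -1) :
    Nat.card (Subgroup.centralizer ({g} : Set SL2)) = Nat.card (Sol (tr g)) := by
  classical
  set M := (g : Matrix (Fin 2) (Fin 2) F) with hM
  have hd := Dickson.det_eq g
  rw [← hM] at hd
  have htr : tr g = M 0 0 + M 1 1 := rfl
  have hns : M 0 1 ≠ 0 ∨ M 1 0 ≠ 0 ∨ M 0 0 ≠ M 1 1 := by
    by_contra h
    push Not at h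
    obtain ⟨a, b, c⟩ := h
    have hsq : (M 1 1 - 1) * (M 1 1 + 1) = 0 := by
      linear_combination hd - M 1 1 * c + M 1 0 * a
    rcases mul_eq_zero.1 hsq with e | e
    · refine h1 (Subtype.ext ?_)
      ext i j
      fin_cases i <;> fin_cases j <;> simp [← hM, a, b, c, sub_eq_zero.1 e]
    · refine h2 (Subtype.ext ?_)
      rw [Matrix.SpecialLinearGroup.coe_neg]
      ext i j
      fin_cases i <;> fin_cases j <;> simp [← hM, a, b, c, eq_neg_of_add_eq_zero_left e]
  have hdet : ∀ x y : F, (x • (1 : Matrix (Fin 2) (Fin 2) F) + y • M).det = x ^ 2 + tr g * x * y + y ^ 2 := fun x y => by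
    rw [Matrix.det_fin_two]
    simp [htr]
    linear_combination y ^ 2 * hd
  let φ : Sol (tr g) → Subgroup.centralizer ({g} : Set SL2) := fun v =>
    ⟨⟨v.1.1 • (1 : Matrix (Fin 2) (Fin 2) F) + v.1.2 • M, by rw [hdet]; exact v.2⟩, by
      refine Subgroup.mem_centralizer_singleton_iff.2 (Subtype.ext ?_)
      change (v.1.1 • (1 : Matrix (Fin 2) (Fin 2) F) + v.1.2 • M) * M = M * (v.1.1 • 1 + v.1.2 • M)
      simp [add_mul, mul_add]⟩
  symm
  refine Nat.card_eq_of_bijective φ ⟨?_, ?_⟩
  · rintro ⟨⟨x, y⟩, hv⟩ ⟨⟨x', y'⟩, hv'⟩ h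
    have h' : x • (1 : Matrix (Fin 2) (Fin 2) F) + y • M = x' • 1 + y' • M :=
      congrArg (fun z : Subgroup.centralizer ({g} : Set SL2) => ((z : SL2) : Matrix (Fin 2) (Fin 2) F)) h
    have h00 := congrFun (congrFun h' 0) 0
    have h01 := congrFun (congrFun h' 0) 1
    have h10 := congrFun (congrFun h' 1) 0
    have h11 := congrFun (congrFun h' 1) 1
    simp at h00 h01 h10 h11
    have hy : y = y' := by
      rcases hns with a | a | a
      · exact (h01.resolve_right a)
      · exact (h10.resolve_right a)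
      · exact mul_right_cancel₀ (sub_ne_zero.2 a) (by linear_combination h00 - h11)
    subst hy
    simp at h00
    subst h00
    rfl
  · rintro ⟨h, hh⟩
    rw [Subgroup.mem_centralizer_singleton_iff] at hh
    set H := (h : Matrix (Fin 2) (Fin 2) F) with hH
    have hm : H * M = M * H := congrArg Subtype.val hh
    have c00 := congrFun (congrFun hm 0) 0
    have c01 := congrFun (congrFun hm 0) 1
    have c10 := congrFun (congrFun hm 1) 0
    simp [Matrix.mul_apply, Fin.sum_univ_two] at c00 c01 c10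
    obtain ⟨x, y, hxy⟩ : ∃ x y : F, H = x • (1 : Matrix (Fin 2) (Fin 2) F) + y • M := by
      rcases hns with a | a | a
      · refine ⟨H 0 0 - H 0 1 / M 0 1 * M 0 0, H 0 1 / M 0 1, ?_⟩
        ext i j
        fin_cases i <;> fin_cases j <;> simp <;> field_simp
        · linear_combination -c00
        · linear_combination -c01
      · refine ⟨H 0 0 - H 1 0 / M 1 0 * M 0 0, H 1 0 / M 1 0, ?_⟩
        ext i j
        fin_cases i <;> fin_cases j <;> simp <;> field_simp
        · linear_combination c00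
        · linear_combination c10
      · have a' : M 0 0 - M 1 1 ≠ 0 := sub_ne_zero.2 a
        refine ⟨H 0 0 - (H 0 0 - H 1 1) / (M 0 0 - M 1 1) * M 0 0, (H 0 0 - H 1 1) / (M 0 0 - M 1 1), ?_⟩
        ext i j
        fin_cases i <;> fin_cases j <;> simp <;> field_simp
        · linear_combination -c01
        · linear_combination c10
        · ring
    refine ⟨⟨(x, y), ?_⟩, Subtype.ext (Subtype.ext hxy.symm)⟩
    rw [← hdet, ← hxy]
    exact h.2

variable (h2 : (2 : F) ≠ 0)
include h2

/-- completing the square -/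
theorem card_sol (t : F) :
    Nat.card (Sol t) = Nat.card {v : F × F // v.1 ^ 2 - (t ^ 2 / 4 - 1) * v.2 ^ 2 = 1} := by
  have h4 : (4 : F) ≠ 0 := by rw [show (4 : F) = 2 * 2 by norm_num]; exact mul_ne_zero h2 h2
  exact Nat.card_congr
    { toFun := fun v => ⟨(v.1.1 + t * v.1.2 / 2, v.1.2), by
        have := v.2; field_simp; linear_combination 16 * this⟩
      invFun := fun v => ⟨(v.1.1 - t * v.1.2 / 2, v.1.2), by
        have := v.2; field_simp at this ⊢; linear_combination this⟩
      left_inv := fun v => Subtype.ext (Prod.ext (by ring) rfl)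
      right_inv := fun v => Subtype.ext (Prod.ext (by ring) rfl) }

theorem card_unip {t : F} (ht : t ^ 2 = 4) : Nat.card (Sol t) = 2 * Fintype.card F := by
  have h4 : (4 : F) ≠ 0 := by rw [show (4 : F) = 2 * 2 by norm_num]; exact mul_ne_zero h2 h2
  rw [card_sol h2, ← Nat.card_eq_fintype_card (α := F)]
  have e : t ^ 2 / 4 - 1 = 0 := by rw [ht, div_self h4, sub_self]
  calc Nat.card {v : F × F // v.1 ^ 2 - (t ^ 2 / 4 - 1) * v.2 ^ 2 = 1}
      = Nat.card ({z : F // z ^ 2 = 1} × F) := Nat.card_congr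
        { toFun := fun v => (⟨v.1.1, by simpa [e] using v.2⟩, v.1.2)
          invFun := fun p => ⟨(p.1, p.2), by simp [e, p.1.2]⟩
          left_inv := fun v => rfl
          right_inv := fun p => rfl }
    _ = 2 * Nat.card F := by
      rw [Nat.card_prod]
      congr 1
      rw [Nat.card_eq_two_iff]
      refine ⟨⟨1, by norm_num⟩, ⟨-1, by norm_num⟩, fun e => h2 ?_, Set.eq_univ_of_forall fun r => ?_⟩
      · have := congrArg Subtype.val e
        simp only at this
        linear_combination this
      · rcases sq_eq_one_iff.1 r.2 with e | e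
        exacts [Or.inl (Subtype.ext e), Or.inr (Subtype.ext e)]

theorem card_split {t : F} (ht : t ^ 2 ≠ 4) (hs : IsSquare (t ^ 2 / 4 - 1)) :
    Nat.card (Sol t) = Fintype.card F - 1 := by
  classical
  have h4 : (4 : F) ≠ 0 := by rw [show (4 : F) = 2 * 2 by norm_num]; exact mul_ne_zero h2 h2
  obtain ⟨d, hd⟩ := hs
  have hd0 : d ≠ 0 := fun e => ht (by
    rw [e, mul_zero, sub_eq_zero, div_eq_one_iff_eq h4] at hd; exact hd)
  rw [card_sol h2, hd]
  calc Nat.card {v : F × F // v.1 ^ 2 - d * d * v.2 ^ 2 = 1}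
      = Nat.card Fˣ := Nat.card_congr
        { toFun := fun v => ⟨v.1.1 + d * v.1.2, v.1.1 - d * v.1.2,
            by linear_combination v.2, by linear_combination v.2⟩
          invFun := fun u => ⟨(((u : F) + ((u⁻¹ : Fˣ) : F)) / 2, ((u : F) - ((u⁻¹ : Fˣ) : F)) / (2 * d)), by
            field_simp
            linear_combination 4 * (Units.mul_inv u)⟩
          left_inv := fun v => Subtype.ext (Prod.ext (by simp; field_simp; ring) (by simp; field_simp; ring))
          right_inv := fun u => Units.ext (by simp; field_simp; ring) }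
    _ = _ := by rw [Nat.card_units, Nat.card_eq_fintype_card]

theorem card_nonsplit {t : F} (hs : ¬ IsSquare (t ^ 2 / 4 - 1)) : Nat.card (Sol t) = Fintype.card F + 1 := by
  have h4 : (4 : F) ≠ 0 := by rw [show (4 : F) = 2 * 2 by norm_num]; exact mul_ne_zero h2 h2
  rw [← Lie.OrthForms.card_norm_one (a := t) (b := 1) ?_ (rfl : Fintype.card F = Fintype.card F)]
  · refine Nat.card_congr (Equiv.subtypeEquivRight fun v => ?_)
    rw [Lie.OrthOrder.binQ_apply]
    constructor <;> intro h <;> linear_combination h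
  · intro z w h
    by_cases hw : w = 0
    · subst hw; exact ⟨pow_eq_zero_iff two_ne_zero |>.1 (by linear_combination h), rfl⟩
    · refine absurd ⟨(z + t * w / 2) / w, ?_⟩ hs
      field_simp
      linear_combination -16 * h

omit h2 in
theorem exists_anti {g : SL2} (h1 : g ≠ 1) (h2' : g ≠ -1) (h0 : tr g = 0) : ∃ h : SL2, h * g = -g * h := by
  obtain ⟨γ, u, hγ, hu⟩ := normal_form h1 h2'
  rw [h0] at hu
  obtain ⟨x, y, hxy⟩ : ∃ x y : F, x ^ 2 + y ^ 2 = -1 := by
    by_cases hc : ringChar F = 2
    · obtain ⟨r, hr⟩ := FiniteField.isSquare_of_char_two hc (-1 : F)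
      exact ⟨r, 0, by rw [hr]; ring⟩
    · exact Fus.PSL2Two.exists_two_squares (FiniteField.odd_card_of_char_ne_two hc) (-1)
  obtain ⟨k, hk⟩ : ∃ k : SL2, (k : Matrix (Fin 2) (Fin 2) F) = !![x, y / γ; γ * y, -x] :=
    ⟨⟨_, by rw [Matrix.det_fin_two]; simp; field_simp; linear_combination -hxy⟩, rfl⟩
  have e : k * (u * g * u⁻¹) = -(u * g * u⁻¹) * k := by
    refine Subtype.ext ?_
    rw [Matrix.SpecialLinearGroup.coe_mul k, Matrix.SpecialLinearGroup.coe_mul (-(u * g * u⁻¹)),
      Matrix.SpecialLinearGroup.coe_neg, hk, hu]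
    ext i j
    fin_cases i <;> fin_cases j <;> simp [Matrix.mul_apply, Fin.sum_univ_two] <;> field_simp <;> ring
  refine ⟨u⁻¹ * k * u, ?_⟩
  calc u⁻¹ * k * u * g = u⁻¹ * (k * (u * g * u⁻¹)) * u := by simp [mul_assoc]
    _ = u⁻¹ * (-(u * g * u⁻¹) * k) * u := by rw [e]
    _ = -g * (u⁻¹ * k * u) := by simp [mul_assoc]

open Classical in
theorem card_pre (g : SL2) (h1 : g ≠ 1) (h2' : g ≠ -1) :
    2 * Nat.card (Subgroup.centralizer ({π g} : Set PSL2)) =
      (if tr g = 0 then 2 else 1) * Nat.card (Subgroup.centralizer ({g} : Set SL2)) := by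
  classical
  set C := Subgroup.centralizer ({π g} : Set PSL2)
  set P := C.comap π
  set K := Subgroup.centralizer ({g} : Set SL2)
  have hZ : Nat.card (Subgroup.center SL2) = 2 := by
    rw [Nat.card_eq_two_iff]
    refine ⟨⟨1, one_mem _⟩, ⟨-1, PSLTwoSpec.mem_Z.2 (Or.inr rfl)⟩, fun h => h2 ?_,
      Set.eq_univ_of_forall fun z => ?_⟩
    · have h' := congrArg (fun z : Subgroup.center SL2 => (((z : SL2) : Matrix (Fin 2) (Fin 2) F)) 0 0) h
      simp [Matrix.SpecialLinearGroup.coe_neg] at h'
      linear_combination h'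
    · rcases PSLTwoSpec.mem_Z.1 z.2 with h | h
      exacts [Or.inl (Subtype.ext h), Or.inr (Subtype.ext h)]
  have hP : Nat.card P = 2 * Nat.card C := by
    have hi : P.index = C.index := Subgroup.index_comap_of_surjective _ (QuotientGroup.mk'_surjective _)
    have a := P.card_mul_index
    have b := C.card_mul_index
    have c := (Subgroup.center SL2).card_mul_index
    rw [hZ, Subgroup.index] at c
    have hpos : 0 < C.index := Nat.pos_of_ne_zero Subgroup.index_ne_zero_of_finite
    refine Nat.eq_of_mul_eq_mul_right hpos ?_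
    rw [mul_assoc, b, ← hi, a]
    exact c.symm
  have hmem : ∀ x, x ∈ P ↔ x * g = g * x ∨ x * g = -g * x := by
    intro x
    rw [Subgroup.mem_comap, Subgroup.mem_centralizer_singleton_iff, ← map_mul, ← map_mul]
    constructor
    · intro h
      rcases PSLTwoSpec.mem_Z.1 (QuotientGroup.eq.1 h) with e | e
      · left; exact inv_mul_eq_one.1 e
      · right
        rw [inv_mul_eq_iff_eq_mul] at e
        rw [neg_mul, e, mul_neg, mul_one, neg_neg]
    · rintro (h | h)
      · rw [h]
      · rw [h, neg_mul, pi_neg]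
  rw [← hP]
  by_cases h0 : tr g = 0
  · rw [if_pos h0]
    obtain ⟨a, ha⟩ := exists_anti h1 h2' h0
    have hKP : K ≤ P := fun x hx => (hmem x).2 (Or.inl (Subgroup.mem_centralizer_singleton_iff.1 hx))
    have hidx : K.relIndex P = 2 := by
      rw [Subgroup.relIndex, Subgroup.index_eq_two_iff]
      refine ⟨⟨a, (hmem a).2 (Or.inr ha)⟩, fun b => ?_⟩
      simp only [Subgroup.mem_subgroupOf, Subgroup.coe_mul, K, Subgroup.mem_centralizer_singleton_iff]
      have e : (b : SL2) * a * g = -((b : SL2) * g) * a := by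
        rw [mul_assoc, ha]; simp [mul_assoc]
      rcases (hmem b).1 b.2 with h | h
      · refine Or.inr ⟨h, fun h' => h2 ?_⟩
        rw [e, h, neg_mul, mul_assoc] at h'
        have h'' := congrArg (fun z : SL2 => (((g⁻¹ * z) * ((b : SL2) * a)⁻¹ : SL2) : Matrix (Fin 2) (Fin 2) F) 0 0) h'
        simp [Matrix.SpecialLinearGroup.coe_neg] at h''
        linear_combination -h''
      · refine Or.inl ⟨by rw [e, h]; simp [mul_assoc], fun h' => h2 ?_⟩
        rw [h', neg_mul] at h
        have h'' := congrArg (fun z : SL2 => (((g⁻¹ * z) * (b : SL2)⁻¹ : SL2) : Matrix (Fin 2) (Fin 2) F) 0 0) h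
        simp [Matrix.SpecialLinearGroup.coe_neg] at h''
        linear_combination h''
    have := Subgroup.card_mul_index (K.subgroupOf P)
    rw [Nat.card_congr (Subgroup.subgroupOfEquivOfLe hKP).toEquiv, show (K.subgroupOf P).index = 2 from hidx] at this
    omega
  · rw [if_neg h0, one_mul]
    congr 2
    ext x
    rw [hmem, Subgroup.mem_centralizer_singleton_iff]
    refine ⟨fun h => h.resolve_right fun h' => h0 ?_, Or.inl⟩
    have e : x * g * x⁻¹ = -g := by rw [h', neg_mul, neg_mul, mul_inv_cancel_right]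
    have e' := congrArg tr e
    rw [PSLTwoProducts.tr_conj] at e'
    simp [tr, Dickson.tr, Matrix.SpecialLinearGroup.coe_neg] at e' ⊢
    exact (mul_eq_zero.1 (show (2 : F) * ((g : Matrix (Fin 2) (Fin 2) F) 0 0 + (g : Matrix (Fin 2) (Fin 2) F) 1 1) = 0 by
      linear_combination e')).resolve_left h2

theorem card_PSL : 2 * Nat.card PSL2 = Fintype.card F * (Fintype.card F ^ 2 - 1) := by
  have hc := Lie.ProjLine.card_PSL_two (F := F) rfl
  have hodd : Fintype.card F % 2 = 1 := FiniteField.odd_card_of_char_ne_two fun h => h2 (by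
    have : CharP F 2 := ringChar.of_eq h
    exact CharTwo.two_eq_zero)
  rwa [Nat.gcd_eq_left (by omega)] at hc

omit h2 in
theorem exists_with_tr (t : F) : ∃ g : SL2, g ≠ 1 ∧ g ≠ -1 ∧ tr g = t := by
  obtain ⟨g, hg⟩ : ∃ g : SL2, (g : Matrix (Fin 2) (Fin 2) F) = !![t, -1; 1, 0] :=
    ⟨⟨_, by rw [Matrix.det_fin_two]; simp⟩, rfl⟩
  refine ⟨g, fun h => ?_, fun h => ?_, by simp [tr, Dickson.tr, hg]⟩
  · have := congrArg (fun z : SL2 => (z : Matrix (Fin 2) (Fin 2) F) 1 0) h
    simp [hg] at this
  · have := congrArg (fun z : SL2 => (z : Matrix (Fin 2) (Fin 2) F) 1 0) h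
    simp [hg, Matrix.SpecialLinearGroup.coe_neg] at this

theorem range_index (h7 : 7 ≤ Fintype.card F) :
    (Fintype.card F % 4 = 1 → Set.range (fun g : PSL2 => (Subgroup.centralizer ({g} : Set PSL2)).index) =
      {1, (Fintype.card F ^ 2 - 1) / 2, Fintype.card F * (Fintype.card F + 1) / 2,
        Fintype.card F * (Fintype.card F - 1), Fintype.card F * (Fintype.card F + 1)}) ∧
    (Fintype.card F % 4 = 3 → Set.range (fun g : PSL2 => (Subgroup.centralizer ({g} : Set PSL2)).index) =
      {1, (Fintype.card F ^ 2 - 1) / 2, Fintype.card F * (Fintype.card F - 1) / 2,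
        Fintype.card F * (Fintype.card F + 1), Fintype.card F * (Fintype.card F - 1)}) := by
  classical
  have hP := card_PSL h2
  set q := Fintype.card F with hq
  have e1 : q ^ 2 - 1 = (q - 1) * (q + 1) := by rw [Nat.mul_comm, ← Nat.sq_sub_sq, one_pow]
  have h4 : (4 : F) ≠ 0 := by rw [show (4 : F) = 2 * 2 by norm_num]; exact mul_ne_zero h2 h2
  have hm1 : IsSquare (-1 : F) ↔ q % 4 ≠ 3 := FiniteField.isSquare_neg_one_iff
  obtain ⟨Q, hQ⟩ : ∃ Q, Q = q ^ 2 - 1 := ⟨_, rfl⟩
  -- index from the centraliser in SL₂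
  have key : ∀ (g : SL2) (c r : ℕ), g ≠ 1 → g ≠ -1 → Nat.card (Sol (tr g)) = c → 0 < c →
      (if tr g = 0 then 2 else 1) * c * r = q * (q ^ 2 - 1) →
      (Subgroup.centralizer ({π g} : Set PSL2)).index = r := by
    intro g c r a b hc hc0 hr
    have hpre := card_pre h2 g a b
    rw [card_centralizer a b, hc] at hpre
    have hi := (Subgroup.centralizer ({π g} : Set PSL2)).card_mul_index
    refine Nat.eq_of_mul_eq_mul_left (by split_ifs <;> omega : 0 < (if tr g = 0 then 2 else 1) * c) ?_
    rw [hr, ← hP, ← hi, ← hpre, mul_assoc]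
  have hu0 : ∀ t : F, t ^ 2 = 4 → t ≠ 0 := fun t ht e => h4 (by rw [← ht, e]; ring)
  have unip : ∀ g : SL2, g ≠ 1 → g ≠ -1 → tr g ^ 2 = 4 →
      (Subgroup.centralizer ({π g} : Set PSL2)).index = (q ^ 2 - 1) / 2 := fun g a b ht =>
    key g (2 * q) _ a b (card_unip h2 ht) (by omega) (by
      rw [if_neg (hu0 _ ht), one_mul, mul_comm 2 q, mul_assoc, Nat.mul_div_cancel' ?_]
      rcases Nat.even_or_odd q with he | ho
      · exfalso
        have := FiniteField.odd_card_of_char_ne_two (F := F) fun h => h2 (by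
          have : CharP F 2 := ringChar.of_eq h
          exact CharTwo.two_eq_zero)
        have := Nat.even_iff.1 he
        omega
      · obtain ⟨k, hk⟩ := ho
        exact ⟨2 * k * k + 2 * k, by rw [hk]; ring_nf; omega⟩)
  have split : ∀ g : SL2, g ≠ 1 → g ≠ -1 → tr g ^ 2 ≠ 4 → IsSquare (tr g ^ 2 / 4 - 1) →
      (Subgroup.centralizer ({π g} : Set PSL2)).index = if tr g = 0 then q * (q + 1) / 2 else q * (q + 1) :=
    fun g a b ht hs => key g (q - 1) _ a b (card_split h2 ht hs) (by omega) (by
      rw [e1]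
      split_ifs
      · rw [mul_comm 2 (q - 1), mul_assoc, Nat.mul_div_cancel' (Nat.even_mul_succ_self q).two_dvd]; ring
      · ring)
  have hev : 2 ∣ q * (q - 1) := by
    rcases Nat.even_or_odd q with he | ho
    · exact he.two_dvd.mul_right _
    · exact (Nat.even_sub (by omega) |>.2 (iff_of_false (Nat.not_even_iff_odd.2 ho) Nat.not_even_one)).two_dvd.mul_left _
  have nonsplit : ∀ g : SL2, g ≠ 1 → g ≠ -1 → ¬ IsSquare (tr g ^ 2 / 4 - 1) →
      (Subgroup.centralizer ({π g} : Set PSL2)).index = if tr g = 0 then q * (q - 1) / 2 else q * (q - 1) :=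
    fun g a b hs => key g (q + 1) _ a b (card_nonsplit h2 hs) (by omega) (by
      rw [e1]
      split_ifs
      · rw [mul_comm 2 (q + 1), mul_assoc, Nat.mul_div_cancel' hev]; ring
      · ring)
  have hz : ((0 : F) ^ 2 / 4 - 1) = -1 := by simp
  have hone : (Subgroup.centralizer ({(1 : PSL2)} : Set PSL2)).index = 1 :=
    Subgroup.index_eq_one.2 (eq_top_iff.2 fun x _ => by simp [Subgroup.mem_centralizer_singleton_iff])
  -- witnesses
  have wu : ∃ x : PSL2, (Subgroup.centralizer ({x} : Set PSL2)).index = (q ^ 2 - 1) / 2 := by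
    obtain ⟨g, a, b, c⟩ := exists_with_tr (F := F) 2
    exact ⟨π g, unip g a b (by rw [c]; norm_num)⟩
  have ws : ∃ x : PSL2, (Subgroup.centralizer ({x} : Set PSL2)).index = q * (q + 1) := by
    obtain ⟨a, ha⟩ : ∃ a : F, a ∉ ({0, 1, -1} : Finset F) ∧ a ^ 2 + 1 ≠ 0 := by
      by_contra hh
      push Not at hh
      have hsub : (Finset.univ : Finset F) ⊆ ({0, 1, -1} : Finset F) ∪ (Finset.univ.filter fun a : F => a ^ 2 + 1 = 0) :=
        fun a _ => by
          by_cases e : a ∈ ({0, 1, -1} : Finset F)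
          · exact Finset.mem_union_left _ e
          · exact Finset.mem_union_right _ (by simpa using hh a e)
      have hle : (Finset.univ.filter fun a : F => a ^ 2 + 1 = 0).card ≤ 2 := by
        by_contra hc
        obtain ⟨x, y, z, hx, hy, hz, hxy, hxz, hyz⟩ := Finset.two_lt_card_iff.1 (not_le.1 hc)
        simp only [Finset.mem_filter, Finset.mem_univ, true_and] at hx hy hz
        have f1 := (mul_eq_zero.1 (show (x - y) * (x + y) = 0 by linear_combination hx - hy)).resolve_left (sub_ne_zero.2 hxy)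
        have f2 := (mul_eq_zero.1 (show (x - z) * (x + z) = 0 by linear_combination hx - hz)).resolve_left (sub_ne_zero.2 hxz)
        exact hyz (by linear_combination f1 - f2)
      have := (Finset.card_le_card hsub).trans (Finset.card_union_le _ _)
      have h3 : ({0, 1, -1} : Finset F).card ≤ 3 := Finset.card_le_three
      rw [Finset.card_univ, ← hq] at this
      omega
    obtain ⟨ha, ha2⟩ := ha
    simp only [Finset.mem_insert, Finset.mem_singleton, not_or] at ha
    obtain ⟨g, u, v, c⟩ := exists_with_tr (F := F) (a + a⁻¹)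
    have ha0 := ha.1
    have t0 : a + a⁻¹ ≠ 0 := fun e => ha2 (by field_simp at e; linear_combination e)
    refine ⟨π g, ?_⟩
    rw [split g u v ?_ ?_, if_neg (by rw [c]; exact t0)]
    · rw [c]
      intro e
      field_simp at e
      have : (a - 1) * (a + 1) = 0 := pow_eq_zero_iff two_ne_zero |>.1 (by linear_combination e)
      rcases mul_eq_zero.1 this with h | h
      exacts [ha.2.1 (sub_eq_zero.1 h), ha.2.2 (eq_neg_of_add_eq_zero_left h)]
    · exact ⟨(a - a⁻¹) / 2, by rw [c]; field_simp; ring⟩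
  have wn : ∃ x : PSL2, (Subgroup.centralizer ({x} : Set PSL2)).index = q * (q - 1) := by
    obtain ⟨t, ht0, hns⟩ : ∃ t : F, t ≠ 0 ∧ ¬ IsSquare (t ^ 2 / 4 - 1) := by
      by_contra hh
      push Not at hh
      have hc2 : ringChar F ≠ 2 := fun h => h2 (by
        have : CharP F 2 := ringChar.of_eq h
        exact CharTwo.two_eq_zero)
      obtain ⟨ν, hν⟩ := FiniteField.exists_nonsquare hc2
      -- at least two solutions with nonzero second coordinate
      have hcard : Nat.card {v : F × F // Lie.OrthOrder.binQ 0 (-ν) v = 1} = q + 1 :=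
        Lie.OrthForms.card_norm_one (fun z w h => by
          by_cases hw : w = 0
          · subst hw; exact ⟨pow_eq_zero_iff two_ne_zero |>.1 (by linear_combination h), rfl⟩
          · exact absurd ⟨z / w, by field_simp; linear_combination -h⟩ hν) rfl
      have hlt : Nat.card {v : F × F // v.2 = 0 ∧ v.1 ^ 2 = 1} + Nat.card {v : F × F // v.1 = 0 ∧ -(ν * v.2 ^ 2) = 1} <
          q + 1 := by
        have h1 : ∀ s : F, Nat.card {x : F // x ^ 2 = s} ≤ 2 := fun s => by
          rw [Nat.card_eq_fintype_card, Fintype.card_subtype]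
          by_contra hc
          obtain ⟨x, y, z, hx, hy, hz, hxy, hxz, hyz⟩ := Finset.two_lt_card_iff.1 (not_le.1 hc)
          simp only [Finset.mem_filter, Finset.mem_univ, true_and] at hx hy hz
          have f1 := (mul_eq_zero.1 (show (x - y) * (x + y) = 0 by linear_combination hx - hy)).resolve_left (sub_ne_zero.2 hxy)
          have f2 := (mul_eq_zero.1 (show (x - z) * (x + z) = 0 by linear_combination hx - hz)).resolve_left (sub_ne_zero.2 hxz)
          exact hyz (by linear_combination f1 - f2)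
        have b1 : Nat.card {v : F × F // v.2 = 0 ∧ v.1 ^ 2 = 1} ≤ 2 :=
          le_trans (Nat.card_le_card_of_injective (fun v => (⟨v.1.1, v.2.2⟩ : {x : F // x ^ 2 = 1}))
            fun u v h => Subtype.ext (Prod.ext (congrArg Subtype.val h) (u.2.1.trans v.2.1.symm))) (h1 1)
        have b2 : Nat.card {v : F × F // v.1 = 0 ∧ -(ν * v.2 ^ 2) = 1} ≤ 2 :=
          le_trans (Nat.card_le_card_of_injective (fun v => (⟨v.1.2, by
            have h := v.2.2
            have hν0 : ν ≠ 0 := fun e => hν (e ▸ IsSquare.zero)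
            field_simp
            linear_combination -h⟩ : {x : F // x ^ 2 = -1 / ν}))
            fun u v h => Subtype.ext (Prod.ext (u.2.1.trans v.2.1.symm) (congrArg Subtype.val h))) (h1 _)
        omega
      obtain ⟨z, hz1, hz2, hz3⟩ : ∃ z : F × F, Lie.OrthOrder.binQ 0 (-ν) z = 1 ∧ z.1 ≠ 0 ∧ z.2 ≠ 0 := by
        by_contra hall
        push Not at hall
        have := Nat.card_le_card_of_injective (fun v : {v : F × F // Lie.OrthOrder.binQ 0 (-ν) v = 1} =>
          if h : v.1.2 = 0 then Sum.inl (⟨v.1, h, by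
              have := v.2; rw [Lie.OrthOrder.binQ_apply, h] at this; linear_combination this⟩ :
              {v : F × F // v.2 = 0 ∧ v.1 ^ 2 = 1})
          else Sum.inr (⟨v.1, by by_contra e; exact h (hall v.1 v.2 e), by
              have e := v.2
              rw [Lie.OrthOrder.binQ_apply, show v.1.1 = 0 by by_contra e'; exact h (hall v.1 v.2 e')] at e
              linear_combination e⟩ : {v : F × F // v.1 = 0 ∧ -(ν * v.2 ^ 2) = 1}))
          (fun u v h => by
            dsimp only at h
            split_ifs at h with a b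
            · simp at h; exact Subtype.ext h
            · simp at h; exact Subtype.ext h)
        rw [Nat.card_sum, hcard] at this
        omega
      obtain ⟨r, hr⟩ := hh (2 * z.1) (mul_ne_zero h2 hz2)
      refine hν ⟨r / z.2, ?_⟩
      rw [Lie.OrthOrder.binQ_apply] at hz1
      field_simp at hr ⊢
      refine mul_left_cancel₀ h4 ?_
      linear_combination hr - 4 * hz1
    obtain ⟨g, u, v, c⟩ := exists_with_tr (F := F) t
    exact ⟨π g, by rw [nonsplit g u v (by rwa [c]), if_neg (by rwa [c])]⟩
  refine ⟨fun h => ?_, fun h => ?_⟩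
  all_goals
    ext k
    simp only [Set.mem_range, Set.mem_insert_iff, Set.mem_singleton_iff]
    constructor
  · rintro ⟨x, rfl⟩
    obtain ⟨g, rfl⟩ := QuotientGroup.mk'_surjective _ x
    by_cases hx : π g = 1
    · left; rw [hx]; exact hone
    obtain ⟨a, b⟩ := ne_pm hx
    by_cases ht : tr g ^ 2 = 4
    · exact Or.inr (Or.inl (unip g a b ht))
    by_cases hs : IsSquare (tr g ^ 2 / 4 - 1)
    · rw [split g a b ht hs]; split_ifs <;> simp
    · rw [nonsplit g a b hs, if_neg fun e => hs (by rw [e, hz, hm1]; omega)]; simp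
  · rintro (rfl | rfl | rfl | rfl | rfl)
    · exact ⟨1, hone⟩
    · exact wu
    · obtain ⟨g, u, v, c⟩ := exists_with_tr (F := F) 0
      exact ⟨π g, by
        rw [split g u v (by rw [c]; intro e; exact hu0 0 e rfl) (by rw [c, hz, hm1]; omega), if_pos c]⟩
    · exact wn
    · exact ws
  · rintro ⟨x, rfl⟩
    obtain ⟨g, rfl⟩ := QuotientGroup.mk'_surjective _ x
    by_cases hx : π g = 1
    · left; rw [hx]; exact hone
    obtain ⟨a, b⟩ := ne_pm hx
    by_cases ht : tr g ^ 2 = 4
    · exact Or.inr (Or.inl (unip g a b ht))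
    by_cases hs : IsSquare (tr g ^ 2 / 4 - 1)
    · rw [split g a b ht hs, if_neg fun e => by rw [e, hz, hm1] at hs; omega]; simp
    · rw [nonsplit g a b hs]; split_ifs <;> simp
  · rintro (rfl | rfl | rfl | rfl | rfl)
    · exact ⟨1, hone⟩
    · exact wu
    · obtain ⟨g, u, v, c⟩ := exists_with_tr (F := F) 0
      exact ⟨π g, by
        rw [nonsplit g u v (by rw [c, hz, hm1]; omega), if_pos c]⟩
    · exact ws
    · exact wn

end CfsgLib.Misc.SLTwoOdd
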