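import Cfsg.Agent.Misc.SLTwoClassify
import Cfsg.Agent.Misc.SLTwoOdd
import Mathlib.RingTheory.IntegralDomain
import Mathlib.FieldTheory.IsAlgClosed.AlgebraicClosure

/-!
The non-split torus of SL₂(q), q odd.
-/

set_option autoImplicit false
set_option linter.unusedSectionVars false
set_option linter.unusedSimpArgs false

namespace CfsgLib.Misc.SLTwoTorus

open PSLTwoProducts (tr tr_conj normal_form)

variable {F : Type*} [Field F] [Fintype F]

local notation "SL2" => Matrix.SpecialLinearGroup (Fin 2) F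
local notation "toG" => (Matrix.SpecialLinearGroup.toGL :
  Matrix.SpecialLinearGroup (Fin 2) F →* Matrix.GeneralLinearGroup (Fin 2) F)

/-- no eigenvector over the field -/
def Ell (g : SL2) : Prop :=
  ∀ (c : F) (v : Fin 2 → F), v ≠ 0 → (g : Matrix (Fin 2) (Fin 2) F).mulVec v ≠ c • v

theorem no_root {g : SL2} (hv : Ell g) (a : F) : a ^ 2 - tr g * a + 1 ≠ 0 := by
  classical
  intro h
  have hd := Dickson.det_eq g
  have htr : tr g = (g : Matrix (Fin 2) (Fin 2) F) 0 0 + (g : Matrix (Fin 2) (Fin 2) F) 1 1 := rfl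
  obtain ⟨v, hv0, hv1⟩ := Matrix.exists_mulVec_eq_zero_iff.2
    (show ((g : Matrix (Fin 2) (Fin 2) F) - a • (1 : Matrix (Fin 2) (Fin 2) F)).det = 0 by
      rw [Matrix.det_fin_two]
      simp
      linear_combination h + hd + a * htr)
  refine hv a v hv0 ?_
  rwa [Matrix.sub_mulVec, Matrix.smul_mulVec, Matrix.one_mulVec, sub_eq_zero] at hv1

theorem ne_pm {g : SL2} (hv : Ell g) : g ≠ 1 ∧ g ≠ -1 := by
  constructor <;> rintro rfl
  · exact hv 1 ![1, 0] (fun e => one_ne_zero (congrFun e 0)) (by simp)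
  · exact hv (-1) ![1, 0] (fun e => one_ne_zero (congrFun e 0)) (by simp [Matrix.neg_mulVec])

theorem ell_of_no_root {g : SL2} (h : ∀ a : F, a ^ 2 - tr g * a + 1 ≠ 0) : Ell g := by
  classical
  intro a v hv e
  refine h a ?_
  have hd := Dickson.det_eq g
  have htr : tr g = (g : Matrix (Fin 2) (Fin 2) F) 0 0 + (g : Matrix (Fin 2) (Fin 2) F) 1 1 := rfl
  have h0 : ((g : Matrix (Fin 2) (Fin 2) F) - a • (1 : Matrix (Fin 2) (Fin 2) F)).det = 0 :=
    Matrix.exists_mulVec_eq_zero_iff.1 ⟨v, hv, by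
      rw [Matrix.sub_mulVec, Matrix.smul_mulVec, Matrix.one_mulVec, e, sub_self]⟩
  rw [Matrix.det_fin_two] at h0
  simp at h0
  linear_combination h0 - hd - a * htr

theorem root_of_eig {g : SL2} (h : ¬ Ell g) : ∃ a : F, a ^ 2 - tr g * a + 1 = 0 := by
  by_contra hc
  push Not at hc
  exact h (ell_of_no_root hc)

theorem ell_conj {g k : SL2} (hv : Ell g) : Ell (k * g * k⁻¹) :=
  ell_of_no_root fun a => by rw [tr_conj]; exact no_root hv a

/-- same trace, no eigenvalue: conjugate -/
theorem conj_of_tr [DecidableEq F] (hodd : Odd (Fintype.card F)) {g h : SL2} (hg : Ell g) (ht : tr h = tr g) :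
    ∃ k : SL2, k * g * k⁻¹ = h := by
  have hh : Ell h := ell_of_no_root fun a => by rw [ht]; exact no_root hg a
  obtain ⟨γ, P, hγ, hP⟩ := normal_form (ne_pm hg).1 (ne_pm hg).2
  obtain ⟨δ, Q, hδ, hQ⟩ := normal_form (ne_pm hh).1 (ne_pm hh).2
  let T : Matrix.GeneralLinearGroup (Fin 2) F := Matrix.GeneralLinearGroup.mkOfDetNeZero !![1, 0; 0, δ / γ]
    (by simp [Matrix.det_fin_two, hγ, hδ])
  have hT : toG (Q * h * Q⁻¹) * T = T * toG (P * g * P⁻¹) := by
    refine Units.ext ?_
    show ((Q * h * Q⁻¹ : SL2) : Matrix (Fin 2) (Fin 2) F) * !![1, 0; 0, δ / γ] =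
      !![1, 0; 0, δ / γ] * ((P * g * P⁻¹ : SL2) : Matrix (Fin 2) (Fin 2) F)
    rw [hP, hQ, ht]
    ext i j
    fin_cases i <;> fin_cases j <;> simp [Matrix.mul_apply, Fin.sum_univ_two] <;> field_simp
  obtain ⟨c, hc, hcd⟩ := SLTwoClassify.exists_comm_elliptic hodd (g := P * g * P⁻¹) (ell_conj hg) _
    (Matrix.GeneralLinearGroup.det_ne_zero T)
  let k : SL2 := ⟨((T * c⁻¹ : Matrix.GeneralLinearGroup (Fin 2) F) : Matrix (Fin 2) (Fin 2) F), by
    have hd : Matrix.GeneralLinearGroup.det c = Matrix.GeneralLinearGroup.det T := Units.ext hcd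
    have : Matrix.GeneralLinearGroup.det (T * c⁻¹) = 1 := by rw [map_mul, map_inv, hd, mul_inv_cancel]
    exact congrArg Units.val this⟩
  have hk : toG k = T * c⁻¹ := Units.ext rfl
  have e : Q * h * Q⁻¹ * k = k * (P * g * P⁻¹) := by
    refine Matrix.SpecialLinearGroup.toGL_injective ?_
    rw [map_mul _ _ k, map_mul _ k, hk, ← mul_assoc, hT, mul_assoc T, mul_assoc T, (Commute.inv_left hc).eq]
  refine ⟨Q⁻¹ * k * P, ?_⟩
  calc Q⁻¹ * k * P * g * (Q⁻¹ * k * P)⁻¹ = Q⁻¹ * (k * (P * g * P⁻¹)) * k⁻¹ * Q := by group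
    _ = h := by rw [← e]; group

theorem tr_inv (g : SL2) : tr g⁻¹ = tr g := by
  show (g⁻¹ : SL2).1 0 0 + (g⁻¹ : SL2).1 1 1 = g.1 0 0 + g.1 1 1
  rw [Matrix.SpecialLinearGroup.coe_inv, Matrix.adjugate_fin_two]
  simp [add_comm]

theorem cayley (g : SL2) :
    (g : Matrix (Fin 2) (Fin 2) F) * g = tr g • (g : Matrix (Fin 2) (Fin 2) F) - 1 := by
  have hd := Dickson.det_eq g
  have htr : tr g = (g : Matrix (Fin 2) (Fin 2) F) 0 0 + (g : Matrix (Fin 2) (Fin 2) F) 1 1 := rfl
  ext i j
  fin_cases i <;> fin_cases j <;> simp [Matrix.mul_apply, Fin.sum_univ_two, htr]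
  · linear_combination -hd
  · ring
  · ring
  · linear_combination -hd

/-- an element killed by `q + 1` is central or elliptic -/
theorem ell_of_pow (h2 : (2 : F) ≠ 0) {g : SL2} (hp : g ^ (Fintype.card F + 1) = 1) (h1 : g ≠ 1) (hn1 : g ≠ -1) :
    Ell g := by
  classical
  by_contra hc
  obtain ⟨a, ha⟩ := root_of_eig hc
  set M := (g : Matrix (Fin 2) (Fin 2) F) with hM
  have ha0 : a ≠ 0 := fun e => by rw [e] at ha; norm_num at ha
  obtain ⟨v, hv0, hv1⟩ := Matrix.exists_mulVec_eq_zero_iff.2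
    (show (M - a • (1 : Matrix (Fin 2) (Fin 2) F)).det = 0 by
      rw [Matrix.det_fin_two]
      simp
      have htr : tr g = M 0 0 + M 1 1 := rfl
      linear_combination ha + Dickson.det_eq g + a * htr)
  rw [Matrix.sub_mulVec, Matrix.smul_mulVec, Matrix.one_mulVec, sub_eq_zero] at hv1
  have hpowv : ∀ n : ℕ, (M ^ n).mulVec v = a ^ n • v := by
    intro n
    induction n with
    | zero => simp
    | succ n ih => rw [pow_succ, ← Matrix.mulVec_mulVec, hv1, Matrix.mulVec_smul, ih, smul_smul, ← pow_succ']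
  have hMp : M ^ (Fintype.card F + 1) = 1 := by
    rw [hM, ← Matrix.SpecialLinearGroup.coe_pow, hp]; rfl
  have ha1 : a ^ (Fintype.card F + 1) = 1 := by
    have := hpowv (Fintype.card F + 1)
    rw [hMp, Matrix.one_mulVec] at this
    exact smul_left_injective F hv0 ((one_smul F v).trans this).symm
  have hsq : a ^ 2 = 1 := by rw [pow_succ, FiniteField.pow_card, ← pow_two] at ha1; exact ha1
  have htr : tr g = 2 * a := by
    refine mul_right_cancel₀ ha0 ?_
    linear_combination -ha - hsq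
  set N := M - a • (1 : Matrix (Fin 2) (Fin 2) F) with hN
  have hN2 : N * N = 0 := by
    have e := cayley g
    rw [← hM, htr] at e
    rw [hN, sub_mul, mul_sub, mul_sub, e, smul_mul_assoc, smul_mul_assoc, one_mul, one_mul, mul_smul_comm, mul_one,
      smul_smul, ← pow_two, hsq, one_smul, two_mul, add_smul]
    abel
  have hpw : ∀ n : ℕ, M ^ (n + 1) = a ^ (n + 1) • (1 : Matrix (Fin 2) (Fin 2) F) + (((n : F) + 1) * a ^ n) • N := by
    intro n
    have hMN : M = a • (1 : Matrix (Fin 2) (Fin 2) F) + N := by rw [hN]; abel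
    induction n with
    | zero => simpa using hMN
    | succ n ih =>
      rw [pow_succ M (n + 1), ih]
      nth_rewrite 1 [hMN]
      simp only [add_mul, mul_add, smul_mul_assoc, mul_smul_comm, one_mul, mul_one, hN2, smul_zero, add_zero, smul_smul,
        Nat.cast_succ]
      rw [smul_add, smul_smul, smul_smul, add_assoc, ← add_smul]
      congr 2 <;> ring
  have e := hpw (Fintype.card F)
  rw [hMp, FiniteField.cast_card_eq_zero, zero_add, one_mul, pow_succ, FiniteField.pow_card, ← pow_two, hsq,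
    one_smul, left_eq_add, smul_eq_zero] at e
  have hN0 : N = 0 := e.resolve_left ha0
  rw [hN, sub_eq_zero] at hN0
  rcases sq_eq_one_iff.1 hsq with e' | e'
  · exact h1 (Subtype.ext (by rw [← hM, hN0, e', one_smul]; rfl))
  · exact hn1 (Subtype.ext (by rw [← hM, hN0, e', Matrix.SpecialLinearGroup.coe_neg]; simp))

theorem card_centralizer (h2 : (2 : F) ≠ 0) {g : SL2} (hv : Ell g) :
    Nat.card (Subgroup.centralizer ({g} : Set SL2)) = Fintype.card F + 1 := by
  rw [SLTwoOdd.card_centralizer (ne_pm hv).1 (ne_pm hv).2, SLTwoOdd.card_nonsplit h2]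
  rintro ⟨r, hr⟩
  refine no_root hv (tr g / 2 + r) ?_
  have h4 : (4 : F) ≠ 0 := by rw [show (4 : F) = 2 * 2 by norm_num]; exact mul_ne_zero h2 h2
  field_simp at hr ⊢
  linear_combination -hr

theorem isCyclic_centralizer {g : SL2} (hv : Ell g) : IsCyclic (Subgroup.centralizer ({g} : Set SL2)) := by
  classical
  set M := (g : Matrix (Fin 2) (Fin 2) F) with hM
  have hb : M 0 1 ≠ 0 := by
    intro h
    refine hv (M 1 1) ![0, 1] (fun e => one_ne_zero (congrFun e 1)) ?_
    funext i
    fin_cases i <;> simp [Matrix.mulVec, dotProduct, Fin.sum_univ_two, ← hM, h]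
  let ι : F →+* AlgebraicClosure F := algebraMap F (AlgebraicClosure F)
  obtain ⟨lam, hlam⟩ := IsAlgClosed.exists_root (Polynomial.X ^ 2 - Polynomial.C (ι (tr g)) * Polynomial.X + 1 : Polynomial (AlgebraicClosure F))
    (by
      have : (Polynomial.X ^ 2 - Polynomial.C (ι (tr g)) * Polynomial.X + 1 : Polynomial (AlgebraicClosure F)).degree = 2 := by
        compute_degree!
      rw [this]; exact two_ne_zero)
  simp [Polynomial.IsRoot] at hlam
  have hnF : ∀ a : F, ι a ≠ lam := by
    intro a e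
    refine no_root hv a (ι.injective ?_)
    rw [← e] at hlam
    simpa using hlam
  have rel : ∀ c : Subgroup.centralizer ({g} : Set SL2),
      (c : SL2).1 1 0 * M 0 1 = (c : SL2).1 0 1 * M 1 0 ∧
        (c : SL2).1 1 1 * M 0 1 = (c : SL2).1 0 0 * M 0 1 + (c : SL2).1 0 1 * (M 1 1 - M 0 0) := by
    intro c
    have hm : (c : SL2).1 * M = M * (c : SL2).1 :=
      congrArg (fun z : SL2 => (z : Matrix (Fin 2) (Fin 2) F)) (Subgroup.mem_centralizer_singleton_iff.1 c.2)
    have c00 := congrFun (congrFun hm 0) 0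
    have c01 := congrFun (congrFun hm 0) 1
    simp [Matrix.mul_apply, Fin.sum_univ_two] at c00 c01
    exact ⟨by linear_combination -c00, by linear_combination -c01⟩
  let φ : Subgroup.centralizer ({g} : Set SL2) →* AlgebraicClosure F :=
    { toFun := fun c => ι ((c : SL2).1 0 0) + ι ((c : SL2).1 0 1) / ι (M 0 1) * (lam - ι (M 0 0))
      map_one' := by simp
      map_mul' := fun c d => by
        obtain ⟨r1, r2⟩ := rel d
        have hd := Dickson.det_eq g
        have htr : tr g = M 0 0 + M 1 1 := rfl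
        rw [← hM] at hd
        have hb' : ι (M 0 1) ≠ 0 := (map_ne_zero ι).2 hb
        have e00 : ((c * d : Subgroup.centralizer ({g} : Set SL2)) : SL2).1 0 0 =
            (c : SL2).1 0 0 * (d : SL2).1 0 0 + (c : SL2).1 0 1 * (d : SL2).1 1 0 := by
          simp [Matrix.mul_apply, Fin.sum_univ_two]
        have e01 : ((c * d : Subgroup.centralizer ({g} : Set SL2)) : SL2).1 0 1 =
            (c : SL2).1 0 0 * (d : SL2).1 0 1 + (c : SL2).1 0 1 * (d : SL2).1 1 1 := by
          simp [Matrix.mul_apply, Fin.sum_univ_two]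
        have R1 := congrArg ι r1
        have R2 := congrArg ι r2
        have HD := congrArg ι hd
        have HT := congrArg ι htr
        simp only [map_mul, map_add, map_sub, map_one] at R1 R2 HD HT
        simp only [e00, e01, map_mul, map_add]
        field_simp
        rw [HT] at hlam
        linear_combination (ι ((c : SL2).1 0 1) * ι (M 0 1)) * R1 + ι ((c : SL2).1 0 1) * (lam - ι (M 0 0)) * R2 -
          ι ((c : SL2).1 0 1) * ι ((d : SL2).1 0 1) * hlam - ι ((c : SL2).1 0 1) * ι ((d : SL2).1 0 1) * HD }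
  refine isCyclic_of_injective_ringHom φ ?_
  intro c d h
  suffices h0 : ∀ x : Subgroup.centralizer ({g} : Set SL2), φ x = 1 → x = 1 by
    have : φ (c * d⁻¹) = 1 := by rw [map_mul, h, ← map_mul, mul_inv_cancel, map_one]
    exact mul_inv_eq_one.1 (h0 _ this)
  intro x hx
  change ι _ + ι _ / ι (M 0 1) * (lam - ι (M 0 0)) = 1 at hx
  obtain ⟨r1, r2⟩ := rel x
  have h01 : (x : SL2).1 0 1 = 0 := by
    by_contra hne
    have hb' : ι (M 0 1) ≠ 0 := (map_ne_zero ι).2 hb
    have hne' : ι ((x : SL2).1 0 1) ≠ 0 := (map_ne_zero ι).2 hne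
    refine hnF (M 0 0 + (1 - (x : SL2).1 0 0) * M 0 1 / (x : SL2).1 0 1) ?_
    simp only [map_add, map_div₀, map_mul, map_sub, map_one]
    field_simp at hx ⊢
    linear_combination -hx
  have h00 : (x : SL2).1 0 0 = 1 := by
    rw [h01] at hx
    exact ι.injective (by simpa using hx)
  rw [h01, zero_mul] at r1
  rw [h01, h00, zero_mul, add_zero, one_mul] at r2
  refine Subtype.ext (Subtype.ext ?_)
  ext i j
  fin_cases i <;> fin_cases j
  · simpa using h00
  · simpa using h01
  · simpa using (mul_eq_zero.1 r1).resolve_right hb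
  · simpa using mul_right_cancel₀ hb (r2.trans (one_mul _).symm)

end CfsgLib.Misc.SLTwoTorus
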