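import Cfsg.Agent.Misc.SUThreeInvol
import Mathlib.GroupTheory.GroupAction.Quotient

/-!
Counts in the commuting graph of involutions of SU₃(q), q odd.
-/

set_option autoImplicit false
set_option linter.unusedSectionVars false
set_option linter.unusedSimpArgs false

namespace CfsgLib.Misc.SUThreeGraph

open Matrix CfsgLib.Lie SUThreeInvol
open Herm (two_le Lev)

variable {F : Type*} [Field F] [Fintype F] {q : ℕ}

theorem two_ne' (hq : Odd q) (hF : Fintype.card F = q ^ 2) : (2 : F) ≠ 0 := by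
  intro h
  obtain ⟨k, hp, hk⟩ := FiniteField.card F (ringChar F)
  have h' : ((2 : ℕ) : F) = 0 := by simpa using h
  rw [ringChar.spec] at h'
  have h2 : ringChar F = 2 := (Nat.prime_dvd_prime_iff_eq hp Nat.prime_two).1 h'
  rw [h2, hF] at hk
  have : 2 ∣ q ^ 2 := hk ▸ dvd_pow_self 2 k.pos.ne'
  exact Nat.not_even_iff_odd.2 hq (even_iff_two_dvd.2 (Nat.prime_two.dvd_of_dvd_pow this))

variable (hq : Odd q) (hF : Fintype.card F = q ^ 2)
include hq hF

theorem conj_all (t x : Cfsg.SU 3 F q) (ht : t ≠ 1) (ht2 : t * t = 1) (hx : x ≠ 1) (hx2 : x * x = 1) :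
    ∃ g : Cfsg.SU 3 F q, g * t * g⁻¹ = x := by
  obtain ⟨v, rfl⟩ := exists_R hF (two_ne' hq hF) ht ht2
  obtain ⟨w, rfl⟩ := exists_R hF (two_ne' hq hF) hx hx2
  obtain ⟨g, hg⟩ := exists_app hF v w
  exact ⟨g, by rw [R_conj]; congr 1; exact Subtype.ext hg⟩

theorem total : Nat.card {x : Cfsg.SU 3 F q // x ≠ 1 ∧ x * x = 1} = q ^ 2 * (q ^ 2 - q + 1) := by
  have h2 := two_ne' hq hF
  have h := card_inv hF h2 (fun _ => True)
  rw [Nat.card_congr (Equiv.subtypeUnivEquiv fun _ => trivial), lev3 hF,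
    Nat.card_congr (Equiv.subtypeEquivRight (p := fun x : Cfsg.SU 3 F q => x ≠ 1 ∧ x * x = 1 ∧ True)
      (q := fun x => x ≠ 1 ∧ x * x = 1) fun x => by simp)] at h
  have hq2 : q ≤ q ^ 2 := Nat.le_self_pow two_ne_zero q
  refine mul_left_cancel₀ (show q + 1 ≠ 0 by omega) (h.trans ?_)
  zify [hq2]; ring

theorem card_centralizer (t : Cfsg.SU 3 F q) (ht : t ≠ 1) (ht2 : t * t = 1) :
    Nat.card ↥(Subgroup.centralizer ({t} : Set ↥(Cfsg.SU 3 F q))) = q * (q + 1) * (q ^ 2 - 1) := by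
  classical
  have hq2 := two_le hF
  have hq1 : 1 ≤ q ^ 2 := Nat.one_le_pow _ _ (by omega)
  have hcl : Nat.card {x : Cfsg.SU 3 F q // IsConj t x} = q ^ 2 * (q ^ 2 - q + 1) := by
    rw [← total hq hF]
    refine Nat.card_congr (Equiv.subtypeEquivRight fun x => ?_)
    rw [isConj_iff]
    constructor
    · rintro ⟨g, rfl⟩
      refine ⟨fun e => ht (conj_eq_one_iff.1 e), ?_⟩
      calc g * t * g⁻¹ * (g * t * g⁻¹) = g * (t * t) * g⁻¹ := by group
        _ = 1 := by rw [ht2]; group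
    · rintro ⟨h1, h2⟩
      exact conj_all hq hF t x ht ht2 h1 h2
  have hS : Nat.card (Cfsg.SU 3 F q) = q ^ 3 * (q ^ 2 - 1) * (q ^ 3 + 1) := by
    refine mul_left_cancel₀ (show q + 1 ≠ 0 by omega) ?_
    rw [Unitary.card_SU hF (by norm_num), Herm.card_GU hF]
    simp [Finset.prod_range_succ, show ¬ Even 1 from Nat.not_even_one]
    ring
  have horb : Nat.card (MulAction.orbit (ConjAct (Cfsg.SU 3 F q)) t) * Nat.card ↥(Subgroup.centralizer ({t} : Set ↥(Cfsg.SU 3 F q))) =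
      Nat.card (Cfsg.SU 3 F q) := by
    have h := Nat.card_congr (MulAction.orbitProdStabilizerEquivGroup (ConjAct (Cfsg.SU 3 F q)) t)
    rw [Nat.card_prod, ConjAct.stabilizer_eq_centralizer] at h
    exact h
  have horb' : Nat.card (MulAction.orbit (ConjAct (Cfsg.SU 3 F q)) t) = q ^ 2 * (q ^ 2 - q + 1) := by
    rw [← hcl]
    refine Nat.card_congr (Equiv.subtypeEquivRight fun x => ?_)
    rw [ConjAct.mem_orbit_conjAct, isConj_comm]
  rw [horb', hS] at horb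
  have hq3 : q ≤ q ^ 2 := Nat.le_self_pow two_ne_zero q
  refine mul_left_cancel₀ (show q ^ 2 * (q ^ 2 - q + 1) ≠ 0 from
    Nat.mul_ne_zero (by positivity) (by omega)) (horb.trans ?_)
  zify [hq1, hq3]; ring

theorem transport (t : Cfsg.SU 3 F q) (ht : t ≠ 1) (ht2 : t * t = 1) :
    ∃ φ : Cfsg.SU 3 F q ≃* Cfsg.SU 3 F q, φ t = R hF (e0 hF) := by
  obtain ⟨g, hg⟩ := conj_all hq hF t _ ht ht2 (R_ne hF (e0 hF) (two_ne' hq hF)) (R_sq hF (e0 hF))
  exact ⟨MulAut.conj g, hg⟩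

theorem form_e0 (w : Fin 3 → F) : Cfsg.hermForm 3 F q w (e0 hF).1 = w 0 := Herm.form_single hF 0 w

theorem commute_e0 (w : Lev 3 F q (1 : F)) :
    Commute (R hF (e0 hF)) (R hF w) ↔ w.1 0 = 0 ∨ (w.1 1 = 0 ∧ w.1 2 = 0) := by
  rw [R_commute_iff hF (two_ne' hq hF), form_e0 hq hF]
  refine or_congr Iff.rfl ⟨?_, fun h => ⟨w.1 0, ?_⟩⟩
  · rintro ⟨c, hc⟩
    constructor <;> simp [hc, e0]
  · funext i
    fin_cases i <;> simp [e0, h.1, h.2]

theorem eq_e0 (w : Lev 3 F q (1 : F)) : R hF w = R hF (e0 hF) ↔ w.1 1 = 0 ∧ w.1 2 = 0 := by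
  rw [eq_comm, R_eq_iff hF (two_ne' hq hF)]
  refine ⟨?_, fun h => ⟨w.1 0, ?_⟩⟩
  · rintro ⟨c, hc⟩
    constructor <;> simp [hc, e0]
  · funext i
    fin_cases i <;> simp [e0, h.1, h.2]

theorem pow_zero' : (0 : F) ^ q = 0 := zero_pow (by have := two_le hF; omega)

theorem mem_norm (w : Lev 3 F q (1 : F)) :
    w.1 0 * w.1 0 ^ q + w.1 1 * w.1 1 ^ q + w.1 2 * w.1 2 ^ q = 1 := (form_eq w.1 w.1).symm.trans w.2

theorem common_iff (w : Lev 3 F q (1 : F)) :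
    (¬ Commute (R hF (e0 hF)) (R hF w) ∧
      ∃ y : Cfsg.SU 3 F q, y ≠ 1 ∧ y * y = 1 ∧ Commute (R hF (e0 hF)) y ∧ Commute y (R hF w)) ↔
    w.1 0 ≠ 0 ∧ w.1 0 * w.1 0 ^ q ≠ 1 := by
  have h2 := two_ne' hq hF
  have hn := mem_norm hq hF w
  constructor
  · rintro ⟨hnc, y, hy1, hy2, hc1, hc2⟩
    rw [commute_e0 hq hF, not_or] at hnc
    refine ⟨hnc.1, fun h0 => ?_⟩
    obtain ⟨u, rfl⟩ := exists_R hF h2 hy1 hy2
    rcases (commute_e0 hq hF u).1 hc1 with hu | hu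
    · rcases (R_commute_iff hF h2 u w).1 hc2 with h | ⟨c, hc⟩
      · rw [form_eq, hu, pow_zero' hq hF, mul_zero, zero_add] at h
        have hun := mem_norm hq hF u
        rw [hu, pow_zero' hq hF, mul_zero, zero_add] at hun
        have hs : w.1 1 * w.1 1 ^ q + w.1 2 * w.1 2 ^ q = 0 := by linear_combination hn - h0
        have h' : w.1 1 ^ q * u.1 1 + w.1 2 ^ q * u.1 2 = 0 := by
          have := congrArg (fun z : F => z ^ q) h
          simp only [Herm.add_pow_q hF, mul_pow, Herm.pow_pow_q hF, pow_zero' hq hF] at this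
          exact this
        by_cases hw2 : w.1 2 = 0
        · rw [hw2, zero_mul, add_zero] at hs
          refine hnc.2 ⟨?_, hw2⟩
          rcases mul_eq_zero.1 hs with e | e
          · exact e
          · exact eq_zero_of_pow_eq_zero e
        · have hw1 : w.1 1 ≠ 0 := fun e => by
            rw [e, zero_mul, zero_add] at hs
            rcases mul_eq_zero.1 hs with e' | e'
            · exact hw2 e'
            · exact hw2 (eq_zero_of_pow_eq_zero e')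
          have hu2 : u.1 2 = - (w.1 1 ^ q * u.1 1) / w.1 2 ^ q := by
            rw [eq_div_iff (pow_ne_zero _ hw2)]; linear_combination h'
          have hu2' : u.1 2 = u.1 1 * w.1 2 / w.1 1 := by
            rw [hu2]
            field_simp
            linear_combination -u.1 1 * hs
          rw [hu2', div_pow, mul_pow] at hun
          have : (1 : F) = 0 := by
            rw [← hun]
            field_simp
            linear_combination u.1 1 * u.1 1 ^ q * hs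
          exact one_ne_zero this
      · refine hnc.1 ?_
        rw [hc]; simp [hu]
    · have : R hF u = R hF (e0 hF) := (eq_e0 hq hF u).2 hu
      rw [this] at hc2
      rcases (commute_e0 hq hF w).1 hc2 with h | h
      · exact hnc.1 h
      · exact hnc.2 h
  · rintro ⟨hw0, hN⟩
    have hs : w.1 1 * w.1 1 ^ q + w.1 2 * w.1 2 ^ q ≠ 0 := fun e => hN (by linear_combination hn - e)
    refine ⟨?_, ?_⟩
    · rw [commute_e0 hq hF, not_or]
      exact ⟨hw0, fun h => hs (by rw [h.1, h.2]; ring)⟩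
    let u' : Fin 3 → F := ![0, -(w.1 2) ^ q, w.1 1 ^ q]
    have hu' : Cfsg.hermForm 3 F q u' u' = w.1 1 * w.1 1 ^ q + w.1 2 * w.1 2 ^ q := by
      rw [form_eq]
      simp [u', pow_zero' hq hF]
      rw [hq.neg_pow, Herm.pow_pow_q hF, Herm.pow_pow_q hF]
      ring
    obtain ⟨a, ha0, ha⟩ := Herm.exists_norm hF _ hs (by
      simp only [Herm.add_pow_q hF, mul_pow, Herm.pow_pow_q hF]; ring)
    let u : Lev 3 F q (1 : F) := ⟨a⁻¹ • u', by
      rw [Herm.form_smul_left, Herm.form_smul_right, hu', ← ha, inv_pow]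
      field_simp⟩
    refine ⟨R hF u, R_ne hF u h2, R_sq hF u, (commute_e0 hq hF u).2 (Or.inl ?_),
      (R_commute_iff hF h2 u w).2 (Or.inl ?_)⟩
    · show (a⁻¹ • u') 0 = 0
      simp [u']
    · show Cfsg.hermForm 3 F q w.1 (a⁻¹ • u') = 0
      rw [Herm.form_smul_right, form_eq]
      simp [u', pow_zero' hq hF]
      right
      rw [hq.neg_pow, Herm.pow_pow_q hF, Herm.pow_pow_q hF]
      ring

theorem Z_card :
    Nat.card {x : Cfsg.SU 3 F q // x ≠ 1 ∧ x * x = 1 ∧ x ≠ R hF (e0 hF) ∧ Commute (R hF (e0 hF)) x} =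
      q * (q - 1) := by
  have h2 := two_ne' hq hF
  have hq2 := two_le hF
  have h := card_inv hF h2 (fun x => x ≠ R hF (e0 hF) ∧ Commute (R hF (e0 hF)) x)
  have hiff : ∀ v : Lev 3 F q (1 : F),
      (R hF v ≠ R hF (e0 hF) ∧ Commute (R hF (e0 hF)) (R hF v)) ↔ v.1 0 = 0 := fun v => by
    rw [commute_e0 hq hF, ne_eq, eq_e0 hq hF]
    refine ⟨fun h => h.2.resolve_right h.1, fun h0 => ⟨fun h' => ?_, Or.inl h0⟩⟩
    have := mem_norm hq hF v
    rw [h0, h'.1, h'.2] at this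
    simp at this
  rw [Nat.card_congr (Equiv.subtypeEquivRight hiff), card_Z hF] at h
  refine mul_left_cancel₀ (show q + 1 ≠ 0 by omega) (h.trans ?_)
  zify [show 1 ≤ q by omega, show 1 ≤ q ^ 2 from Nat.one_le_pow _ _ (by omega)]; ring

theorem far_count :
    Nat.card {x : Cfsg.SU 3 F q // x ≠ 1 ∧ x * x = 1 ∧ ¬ Commute (R hF (e0 hF)) x ∧
      ∀ y : Cfsg.SU 3 F q, y ≠ 1 → y * y = 1 → ¬ (Commute (R hF (e0 hF)) y ∧ Commute y x)} =
      (q + 1) * (q ^ 2 - 1) := by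
  classical
  have h2 := two_ne' hq hF
  have hq2 := two_le hF
  have h := card_inv hF h2 (fun x => ¬ Commute (R hF (e0 hF)) x ∧
      ∀ y : Cfsg.SU 3 F q, y ≠ 1 → y * y = 1 → ¬ (Commute (R hF (e0 hF)) y ∧ Commute y x))
  have hiff : ∀ v : Lev 3 F q (1 : F),
      (¬ Commute (R hF (e0 hF)) (R hF v) ∧
        ∀ y : Cfsg.SU 3 F q, y ≠ 1 → y * y = 1 → ¬ (Commute (R hF (e0 hF)) y ∧ Commute y (R hF v))) ↔
      (v.1 0 * v.1 0 ^ q = 1 ∧ ¬ (v.1 1 = 0 ∧ v.1 2 = 0)) := fun v => by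
    have hc := common_iff hq hF v
    constructor
    · rintro ⟨hnc, hall⟩
      have hno : ¬ (v.1 0 ≠ 0 ∧ v.1 0 * v.1 0 ^ q ≠ 1) := fun e => by
        obtain ⟨-, y, h1, h2, h3, h4⟩ := hc.2 e
        exact hall y h1 h2 ⟨h3, h4⟩
      rw [commute_e0 hq hF, not_or] at hnc
      exact ⟨not_ne_iff.1 fun e => hno ⟨hnc.1, e⟩, hnc.2⟩
    · rintro ⟨h0, h12⟩
      have hne : v.1 0 ≠ 0 := fun e => by simp [e] at h0
      have hnc : ¬ Commute (R hF (e0 hF)) (R hF v) := by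
        rw [commute_e0 hq hF, not_or]; exact ⟨hne, h12⟩
      exact ⟨hnc, fun y h1 h2 h3 => (hc.1 ⟨hnc, y, h1, h2, h3.1, h3.2⟩).2 h0⟩
  rw [Nat.card_congr (Equiv.subtypeEquivRight hiff)] at h
  have hU := card_U hF
  have hbase : Nat.card {v : Lev 3 F q (1 : F) // v.1 1 = 0 ∧ v.1 2 = 0} = q + 1 := by
    rw [← Unitary.card_N1 (F := F) hF]
    exact Nat.card_congr
      { toFun := fun v => ⟨Units.mk0 (v.1.1 0) (fun e => by
            have := mem_norm hq hF v.1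
            rw [e, v.2.1, v.2.2] at this; simp at this), Units.ext (by
          have := mem_norm hq hF v.1
          simpa [v.2.1, v.2.2, pow_succ', pow_zero' hq hF] using this)⟩
        invFun := fun u => ⟨⟨![((u : Fˣ) : F), 0, 0], by
          rw [form_eq]; simpa [pow_zero' hq hF] using Unitary.N1_val u.2⟩, by simp, by simp⟩
        left_inv := fun v => by
          refine Subtype.ext (Subtype.ext (funext fun i => ?_))
          fin_cases i <;> simp [v.2.1, v.2.2]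
        right_inv := fun u => Subtype.ext (Units.ext (by simp)) }
  have hsplit : Nat.card {v : Lev 3 F q (1 : F) // v.1 0 * v.1 0 ^ q = 1 ∧ ¬ (v.1 1 = 0 ∧ v.1 2 = 0)} + (q + 1) =
      Nat.card {v : Lev 3 F q (1 : F) // v.1 0 * v.1 0 ^ q = 1} := by
    rw [← hbase, Nat.card_eq_fintype_card, Nat.card_eq_fintype_card, Nat.card_eq_fintype_card,
      Fintype.card_subtype, Fintype.card_subtype, Fintype.card_subtype,
      ← Finset.card_filter_add_card_filter_not (s := Finset.univ.filter fun v : Lev 3 F q (1 : F) => v.1 0 * v.1 0 ^ q = 1)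
        (fun v => ¬ (v.1 1 = 0 ∧ v.1 2 = 0)), Finset.filter_filter, Finset.filter_filter]
    congr 2
    refine Finset.filter_congr fun v _ => ⟨fun h => ⟨?_, not_not.2 h⟩, fun h => not_not.1 h.2⟩
    have := mem_norm hq hF v
    simpa [h.1, h.2, pow_zero' hq hF] using this
  rw [hU, ← h] at hsplit
  have e : (q + 1) * ((q ^ 2 - 1) * (q + 1) + 1) = (q + 1) * ((q + 1) * (q ^ 2 - 1)) + (q + 1) := by ring
  rw [e, Nat.add_right_cancel_iff] at hsplit
  exact mul_left_cancel₀ (show q + 1 ≠ 0 by omega) hsplit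

theorem near_count :
    Nat.card {x : Cfsg.SU 3 F q // x ≠ 1 ∧ x * x = 1 ∧ ¬ Commute (R hF (e0 hF)) x ∧
      ∃ y : Cfsg.SU 3 F q, y ≠ 1 ∧ y * y = 1 ∧ Commute (R hF (e0 hF)) y ∧ Commute y x} =
      q * (q - 2) * (q ^ 2 - 1) := by
  classical
  have h2 := two_ne' hq hF
  have hq2 := two_le hF
  have h := card_inv hF h2 (fun x => ¬ Commute (R hF (e0 hF)) x ∧
      ∃ y : Cfsg.SU 3 F q, y ≠ 1 ∧ y * y = 1 ∧ Commute (R hF (e0 hF)) y ∧ Commute y x)
  rw [Nat.card_congr (Equiv.subtypeEquivRight (common_iff hq hF))] at h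
  have hsum : Nat.card {v : Lev 3 F q (1 : F) // v.1 0 ≠ 0 ∧ v.1 0 * v.1 0 ^ q ≠ 1} +
      Nat.card {v : Lev 3 F q (1 : F) // v.1 0 * v.1 0 ^ q = 1} +
      Nat.card {v : Lev 3 F q (1 : F) // v.1 0 = 0} = Nat.card (Lev 3 F q (1 : F)) := by
    simp only [Nat.card_eq_fintype_card, Fintype.card_subtype]
    rw [← Finset.card_union_of_disjoint, ← Finset.card_union_of_disjoint]
    · rw [← Fintype.card_subtype]
      refine Eq.trans ?_ Finset.card_univ
      congr 1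
      ext v
      simp only [Finset.mem_union, Finset.mem_filter, Finset.mem_univ, true_and]
      tauto
    · rw [Finset.disjoint_left]
      intro v hv hv'
      simp only [Finset.mem_union, Finset.mem_filter, Finset.mem_univ, true_and] at hv hv'
      rcases hv with hv | hv
      · exact hv.1 hv'
      · simp [hv'] at hv
    · rw [Finset.disjoint_left]
      intro v hv hv'
      simp only [Finset.mem_filter, Finset.mem_univ, true_and] at hv hv'
      exact hv.2 hv'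
  rw [card_U hF, card_Z hF, lev3 hF, ← h] at hsum
  have hq1 : 1 ≤ q ^ 2 := Nat.one_le_pow _ _ (by omega)
  refine mul_left_cancel₀ (show q + 1 ≠ 0 by omega) ?_
  zify [show 2 ≤ q by omega, hq1] at hsum ⊢
  linear_combination hsum

theorem diameter (w : Lev 3 F q (1 : F)) :
    ∃ y z : Cfsg.SU 3 F q, y ≠ 1 ∧ y * y = 1 ∧ z ≠ 1 ∧ z * z = 1 ∧
      Commute (R hF (e0 hF)) y ∧ Commute y z ∧ Commute z (R hF w) := by
  have h2 := two_ne' hq hF
  have hn := mem_norm hq hF w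
  by_cases hc : Commute (R hF (e0 hF)) (R hF w)
  · exact ⟨R hF w, R hF w, R_ne hF w h2, R_sq hF w, R_ne hF w h2, R_sq hF w, hc, Commute.refl _, Commute.refl _⟩
  by_cases hN : w.1 0 * w.1 0 ^ q = 1
  swap
  · have hw0 : w.1 0 ≠ 0 := fun e => hc ((commute_e0 hq hF w).2 (Or.inl e))
    obtain ⟨-, y, hy1, hy2, hy3, hy4⟩ := (common_iff hq hF w).2 ⟨hw0, hN⟩
    exact ⟨y, y, hy1, hy2, hy1, hy2, hy3, Commute.refl _, hy4⟩
  have hsq : ∀ a : F, (-a) ^ q = -(a ^ q) := fun a => hq.neg_pow a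
  have key : ∀ i j : Fin 3, (i = 1 ∧ j = 2 ∨ i = 2 ∧ j = 1) →
      w.1 0 * w.1 0 ^ q + w.1 j * w.1 j ^ q ≠ 0 →
      ∃ y z : Cfsg.SU 3 F q, y ≠ 1 ∧ y * y = 1 ∧ z ≠ 1 ∧ z * z = 1 ∧
        Commute (R hF (e0 hF)) y ∧ Commute y z ∧ Commute z (R hF w) := by
    intro i j hij hne
    let y : Lev 3 F q (1 : F) := ⟨Pi.single i 1, by rw [Herm.form_single hF]; simp⟩
    let z' : Fin 3 → F := fun k => if k = 0 then w.1 j ^ q else if k = j then -(w.1 0 ^ q) else 0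
    have hz' : Cfsg.hermForm 3 F q z' z' = w.1 0 * w.1 0 ^ q + w.1 j * w.1 j ^ q := by
      rw [form_eq]
      rcases hij with ⟨rfl, rfl⟩ | ⟨rfl, rfl⟩ <;> simp [z', pow_zero' hq hF, hsq, Herm.pow_pow_q hF] <;> ring
    obtain ⟨a, ha0, ha⟩ := Herm.exists_norm hF _ hne (by
      simp only [Herm.add_pow_q hF, mul_pow, Herm.pow_pow_q hF]; ring)
    let z : Lev 3 F q (1 : F) := ⟨a⁻¹ • z', by
      rw [Herm.form_smul_left, Herm.form_smul_right, hz', ← ha, inv_pow]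
      field_simp⟩
    refine ⟨R hF y, R hF z, R_ne hF y h2, R_sq hF y, R_ne hF z h2, R_sq hF z,
      (commute_e0 hq hF y).2 (Or.inl ?_), (R_commute_iff hF h2 y z).2 (Or.inl ?_),
      (R_commute_iff hF h2 z w).2 (Or.inl ?_)⟩
    · rcases hij with ⟨rfl, rfl⟩ | ⟨rfl, rfl⟩ <;> simp [y]
    · show Cfsg.hermForm 3 F q (a⁻¹ • z') (Pi.single i 1) = 0
      rw [Herm.form_single hF]
      rcases hij with ⟨rfl, rfl⟩ | ⟨rfl, rfl⟩ <;> simp [z']
    · show Cfsg.hermForm 3 F q w.1 (a⁻¹ • z') = 0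
      rw [Herm.form_smul_right, form_eq]
      rcases hij with ⟨rfl, rfl⟩ | ⟨rfl, rfl⟩ <;> simp [z', pow_zero' hq hF, hsq, Herm.pow_pow_q hF] <;>
        exact Or.inr (by ring)
  by_cases h1 : w.1 0 * w.1 0 ^ q + w.1 2 * w.1 2 ^ q = 0
  · refine key 2 1 (Or.inr ⟨rfl, rfl⟩) fun h3 => h2 ?_
    linear_combination (h1 + h3) - hn - hN
  · exact key 1 2 (Or.inl ⟨rfl, rfl⟩) h1

theorem third (w : Lev 3 F q (1 : F)) (h0 : w.1 0 = 0) :
    Nat.card {y : Cfsg.SU 3 F q // y ≠ 1 ∧ y * y = 1 ∧ y ≠ R hF (e0 hF) ∧ y ≠ R hF w ∧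
      Commute (R hF (e0 hF)) y ∧ Commute (R hF w) y} = 1 := by
  have h2 := two_ne' hq hF
  have hn := mem_norm hq hF w
  rw [h0, pow_zero' hq hF, mul_zero, zero_add] at hn
  let u : Lev 3 F q (1 : F) := ⟨![0, -(w.1 2 ^ q), w.1 1 ^ q], by
    rw [form_eq]
    simp [pow_zero' hq hF, hq.neg_pow, Herm.pow_pow_q hF]
    linear_combination hn⟩
  have huw : Cfsg.hermForm 3 F q u.1 w.1 = 0 := by
    rw [form_eq]
    simp [u]
    ring
  rw [Nat.card_eq_one_iff_unique]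
  refine ⟨⟨fun a b => Subtype.ext ?_⟩, ⟨R hF u, R_ne hF u h2, R_sq hF u, ?_, ?_,
    (commute_e0 hq hF u).2 (Or.inl (by simp [u])), (R_commute_iff hF h2 w u).2 (Or.inl huw)⟩⟩
  · suffices H : ∀ y : Cfsg.SU 3 F q, y ≠ 1 → y * y = 1 → y ≠ R hF (e0 hF) → y ≠ R hF w →
        Commute (R hF (e0 hF)) y → Commute (R hF w) y → R hF u = y by
      obtain ⟨a, a1, a2, a3, a4, a5, a6⟩ := a
      obtain ⟨b, b1, b2, b3, b4, b5, b6⟩ := b
      exact (H a a1 a2 a3 a4 a5 a6).symm.trans (H b b1 b2 b3 b4 b5 b6)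
    intro y y1 y2 y3 y4 y5 y6
    obtain ⟨v, rfl⟩ := exists_R hF h2 y1 y2
    have hv0 : v.1 0 = 0 := ((commute_e0 hq hF v).1 y5).resolve_right fun h => y3 ((eq_e0 hq hF v).2 h)
    have hvw : Cfsg.hermForm 3 F q v.1 w.1 = 0 := ((R_commute_iff hF h2 w v).1 y6).resolve_right
      fun h => y4 ((R_eq_iff hF h2 w v).2 h).symm
    rw [form_eq, hv0, zero_mul, zero_add] at hvw
    refine (R_eq_iff hF h2 u v).2 ⟨- v.1 1 * w.1 2 + v.1 2 * w.1 1, ?_⟩
    funext i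
    fin_cases i <;> simp [u, hv0]
    · linear_combination (w.1 1) * hvw - v.1 1 * hn
    · linear_combination (w.1 2) * hvw - v.1 2 * hn
  · rw [ne_eq, eq_e0 hq hF]
    rintro ⟨e1, e2⟩
    simp [u] at e1 e2
    have h0' : q ≠ 0 := by have := two_le hF; omega
    simp [h0'] at e1 e2
    rw [e1, e2] at hn
    simp at hn
  · intro e
    obtain ⟨c, hc⟩ := (R_eq_iff hF h2 w u).1 e.symm
    rw [hc, Herm.form_smul_left, w.2, mul_one] at huw
    have := u.2
    rw [hc, huw, zero_smul] at this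
    simp [Cfsg.hermForm] at this

theorem main_2360 (t : Cfsg.SU 3 F q) (ht : t ≠ 1) (ht2 : t * t = 1) :
    (∀ x : ↥(Cfsg.SU 3 F q), x ≠ 1 → x * x = 1 → ∃ g : ↥(Cfsg.SU 3 F q), g * t * g⁻¹ = x) ∧
    Nat.card {x : ↥(Cfsg.SU 3 F q) // x ≠ 1 ∧ x * x = 1} = q ^ 2 * (q ^ 2 - q + 1) ∧
    Nat.card ↥(Subgroup.centralizer ({t} : Set ↥(Cfsg.SU 3 F q))) = q * (q + 1) * (q ^ 2 - 1) ∧
    ∀ x : ↥(Cfsg.SU 3 F q), x ≠ 1 → x * x = 1 → x ≠ t → Commute t x →
      Nat.card {y : ↥(Cfsg.SU 3 F q) // y ≠ 1 ∧ y * y = 1 ∧ y ≠ t ∧ y ≠ x ∧ Commute t y ∧ Commute x y} = 1 := by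
  refine ⟨fun x => conj_all hq hF t x ht ht2, total hq hF, card_centralizer hq hF t ht ht2,
    fun x hx1 hx2 hxt hc => ?_⟩
  obtain ⟨φ, hφ⟩ := transport hq hF t ht ht2
  obtain ⟨w, hw⟩ := exists_R hF (two_ne' hq hF) (φ.map_ne_one_iff.2 hx1) (by rw [← map_mul, hx2, map_one])
  have h0 : w.1 0 = 0 := by
    refine ((commute_e0 hq hF w).1 ?_).resolve_right fun h => hxt (φ.injective ?_)
    · rw [hw, ← hφ]; exact hc.map φ
    · rw [← hw, hφ, (eq_e0 hq hF w).2 h]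
  rw [← third hq hF w h0, hw, ← hφ]
  refine Nat.card_congr (φ.toEquiv.subtypeEquiv fun y => ?_)
  simp only [MulEquiv.toEquiv_eq_coe, EquivLike.coe_coe, ne_eq, φ.map_eq_one_iff, ← map_mul,
    φ.injective.eq_iff, commute_map_iff φ.injective]

omit hq hF in
theorem cnt {G : Type*} (φ : G ≃ G) {p r : G → Prop} (h : ∀ y, p y ↔ r (φ y)) :
    Nat.card {y // p y} = Nat.card {y // r y} := Nat.card_congr (φ.subtypeEquiv h)

theorem main_2356 (t : Cfsg.SU 3 F q) (ht : t ≠ 1) (ht2 : t * t = 1) :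
    Nat.card {x : ↥(Cfsg.SU 3 F q) // x ≠ 1 ∧ x * x = 1 ∧ x ≠ t ∧ Commute t x} = q * (q - 1) ∧
    Nat.card {x : ↥(Cfsg.SU 3 F q) // x ≠ 1 ∧ x * x = 1 ∧ ¬ Commute t x ∧
        ∃ y : ↥(Cfsg.SU 3 F q), y ≠ 1 ∧ y * y = 1 ∧ Commute t y ∧ Commute y x} = q * (q - 2) * (q ^ 2 - 1) ∧
    Nat.card {x : ↥(Cfsg.SU 3 F q) // x ≠ 1 ∧ x * x = 1 ∧ ¬ Commute t x ∧
        ∀ y : ↥(Cfsg.SU 3 F q), y ≠ 1 → y * y = 1 → ¬ (Commute t y ∧ Commute y x)} = (q + 1) * (q ^ 2 - 1) ∧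
    ∀ x : ↥(Cfsg.SU 3 F q), x ≠ 1 → x * x = 1 →
      ∃ y z : ↥(Cfsg.SU 3 F q), y ≠ 1 ∧ y * y = 1 ∧ z ≠ 1 ∧ z * z = 1 ∧
        Commute t y ∧ Commute y z ∧ Commute z x := by
  obtain ⟨φ, hφ⟩ := transport hq hF t ht ht2
  have hs : ∀ y, φ y * φ y = 1 ↔ y * y = 1 := fun y => by rw [← map_mul, φ.map_eq_one_iff]
  refine ⟨?_, ?_, ?_, fun x hx1 hx2 => ?_⟩
  · rw [← Z_card hq hF, ← hφ]
    refine cnt φ.toEquiv fun y => ?_
    simp only [MulEquiv.toEquiv_eq_coe, EquivLike.coe_coe, ne_eq, φ.map_eq_one_iff, hs, φ.injective.eq_iff,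
      commute_map_iff φ.injective]
  · rw [← near_count hq hF, ← hφ]
    refine cnt φ.toEquiv fun y => ?_
    conv_rhs => rw [φ.surjective.exists]
    simp only [MulEquiv.toEquiv_eq_coe, EquivLike.coe_coe, ne_eq, φ.map_eq_one_iff, hs, φ.injective.eq_iff,
      commute_map_iff φ.injective]
  · rw [← far_count hq hF, ← hφ]
    refine cnt φ.toEquiv fun y => ?_
    conv_rhs => rw [φ.surjective.forall]
    simp only [MulEquiv.toEquiv_eq_coe, EquivLike.coe_coe, ne_eq, φ.map_eq_one_iff, hs, φ.injective.eq_iff,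
      commute_map_iff φ.injective]
  · obtain ⟨w, hw⟩ := exists_R hF (two_ne' hq hF) (φ.map_ne_one_iff.2 hx1) (by rw [← map_mul, hx2, map_one])
    obtain ⟨y, z, h1, h2, h3, h4, h5, h6, h7⟩ := diameter hq hF w
    obtain ⟨y, rfl⟩ := φ.surjective y
    obtain ⟨z, rfl⟩ := φ.surjective z
    rw [hw] at h7
    rw [← hφ] at h5
    exact ⟨y, z, φ.map_ne_one_iff.1 h1, (hs y).1 h2, φ.map_ne_one_iff.1 h3, (hs z).1 h4,
      (commute_map_iff φ.injective).1 h5, (commute_map_iff φ.injective).1 h6, (commute_map_iff φ.injective).1 h7⟩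

end CfsgLib.Misc.SUThreeGraph
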