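import Cfsg.Agent.Lie.Unitary

/-!
Involutions of SU₃(q), q odd, correspond to anisotropic points; the commuting graph.
-/

set_option autoImplicit false
set_option linter.unusedSectionVars false
set_option linter.unusedSimpArgs false

namespace CfsgLib.Misc.SUThreeInvol

open Matrix CfsgLib.Lie
open Herm (two_le Lev)

variable {F : Type*} [Field F] [Fintype F] {q : ℕ}

local notation "V3" => Fin 3 → F

/-- the action -/
def app (g : Cfsg.SU 3 F q) (v : Fin 3 → F) : Fin 3 → F :=
  (g.1 : Matrix (Fin 3) (Fin 3) F) *ᵥ v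

theorem app_mul (g h : Cfsg.SU 3 F q) (v : V3) : app (g * h) v = app g (app h v) := (mulVec_mulVec v _ _).symm
theorem app_one (v : V3) : app (1 : Cfsg.SU 3 F q) v = v := one_mulVec v
theorem app_inv (g : Cfsg.SU 3 F q) (v : V3) : app g⁻¹ (app g v) = v := by
  rw [← app_mul, inv_mul_cancel, app_one]
theorem app_inv' (g : Cfsg.SU 3 F q) (v : V3) : app g (app g⁻¹ v) = v := by
  rw [← app_mul, mul_inv_cancel, app_one]
theorem app_smul (g : Cfsg.SU 3 F q) (c : F) (v : V3) : app g (c • v) = c • app g v := mulVec_smul _ c v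
theorem app_ext {g h : Cfsg.SU 3 F q} (e : ∀ v, app g v = app h v) : g = h :=
  Subtype.ext (Subtype.ext (ext_of_mulVec_single fun i => e _))
theorem app_form (g : Cfsg.SU 3 F q) (u v : V3) :
    Cfsg.hermForm 3 F q (app g u) (app g v) = Cfsg.hermForm 3 F q u v := g.2 u v

theorem form_eq (u v : V3) :
    Cfsg.hermForm 3 F q u v = u 0 * v 0 ^ q + u 1 * v 1 ^ q + u 2 * v 2 ^ q := by
  simp [Cfsg.hermForm, Fin.sum_univ_three]

variable (hF : Fintype.card F = q ^ 2)
include hF

/-- the involution attached to a vector of norm one -/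
def R (v : Lev 3 F q (1 : F)) : Cfsg.SU 3 F q :=
  ⟨⟨-1 + (2 : F) • vecMulVec v.1 (fun i => v.1 i ^ q), by
      have h : v.1 0 * v.1 0 ^ q + v.1 1 * v.1 1 ^ q + v.1 2 * v.1 2 ^ q = 1 := (form_eq v.1 v.1).symm.trans v.2
      rw [det_fin_three]
      simp [vecMulVec_apply]
      linear_combination (2 : F) * h⟩, by
    intro a b
    have hq0 : q ≠ 0 := by have := two_le hF; omega
    have e : ∀ x : V3, ((-1 : Matrix (Fin 3) (Fin 3) F) + (2 : F) • vecMulVec v.1 (fun i => v.1 i ^ q)) *ᵥ x =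
        -x + (2 * Cfsg.hermForm 3 F q x v.1) • v.1 := fun x => by
      rw [add_mulVec, neg_mulVec, one_mulVec, smul_mulVec, vecMulVec_mulVec]
      funext i
      simp [dotProduct, Cfsg.hermForm, Fin.sum_univ_three]
      ring
    show Cfsg.hermForm 3 F q
      (((-1 : Matrix (Fin 3) (Fin 3) F) + (2 : F) • vecMulVec v.1 (fun i => v.1 i ^ q)) *ᵥ a)
      (((-1 : Matrix (Fin 3) (Fin 3) F) + (2 : F) • vecMulVec v.1 (fun i => v.1 i ^ q)) *ᵥ b) = _
    rw [e, e, Herm.form_add_left, Herm.form_add_right hF, Herm.form_add_right hF, Herm.form_smul_left,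
      Herm.form_smul_left, Herm.form_smul_right, Herm.form_smul_right, v.2]
    have hneg : ∀ x y : V3, Cfsg.hermForm 3 F q (-x) y = - Cfsg.hermForm 3 F q x y := fun x y => by
      rw [← neg_one_smul F x, Herm.form_smul_left, neg_one_mul]
    have hm1 : (-1 : F) ^ q = -1 := by
      rw [← Herm.conj_apply hF, map_neg, map_one]
    have hnegr : ∀ x y : V3, Cfsg.hermForm 3 F q x (-y) = - Cfsg.hermForm 3 F q x y := fun x y => by
      rw [← neg_one_smul F y, Herm.form_smul_right, hm1, neg_one_mul]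
    rw [hneg, hneg, hnegr, hnegr, mul_pow, Herm.form_comm hF b v.1,
      show (2 : F) ^ q = 2 by rw [← Herm.conj_apply hF, map_ofNat]]
    ring⟩

theorem app_R (v : Lev 3 F q (1 : F)) (x : V3) :
    app (R hF v) x = -x + (2 * Cfsg.hermForm 3 F q x v.1) • v.1 := by
  show ((-1 : Matrix (Fin 3) (Fin 3) F) + (2 : F) • vecMulVec v.1 (fun i => v.1 i ^ q)) *ᵥ x = _
  rw [add_mulVec, neg_mulVec, one_mulVec, smul_mulVec, vecMulVec_mulVec]
  funext i
  simp [dotProduct, Cfsg.hermForm, Fin.sum_univ_three]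
  ring

theorem R_self (v : Lev 3 F q (1 : F)) : app (R hF v) v.1 = v.1 := by
  rw [app_R, v.2, mul_one, two_smul, neg_add_cancel_left]

theorem R_sq (v : Lev 3 F q (1 : F)) : R hF v * R hF v = 1 := by
  refine app_ext fun x => ?_
  rw [app_mul, app_one, app_R, app_R, Herm.form_add_left, Herm.form_smul_left, v.2]
  rw [← neg_one_smul F x, Herm.form_smul_left]
  ext i
  simp
  ring

theorem R_ne (v : Lev 3 F q (1 : F)) (h2 : (2 : F) ≠ 0) : R hF v ≠ 1 := by
  intro e
  obtain ⟨x, hx, hx0⟩ : ∃ x : V3, Cfsg.hermForm 3 F q x v.1 = 0 ∧ x ≠ 0 := by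
    have hq0 : q ≠ 0 := by have := two_le hF; omega
    by_cases h0 : v.1 0 = 0
    · exact ⟨Pi.single 0 1, by simp [form_eq, h0, zero_pow hq0],
        fun e => one_ne_zero (α := F) (by simpa using congrFun e 0)⟩
    · exact ⟨![-(v.1 1) ^ q, v.1 0 ^ q, 0], by simp [form_eq]; ring,
        fun e => h0 (by simpa [hq0] using congrFun e 1)⟩
  have := app_R hF v x
  rw [e, app_one, hx, mul_zero, zero_smul, add_zero] at this
  apply hx0
  funext i
  have := congrFun this i
  simp at this
  have : (2 : F) * x i = 0 := by linear_combination this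
  exact (mul_eq_zero.1 this).resolve_left h2

theorem R_conj (g : Cfsg.SU 3 F q) (v : Lev 3 F q (1 : F)) :
    g * R hF v * g⁻¹ = R hF ⟨app g v.1, by rw [app_form]; exact v.2⟩ := by
  refine app_ext fun x => ?_
  rw [app_mul, app_mul, app_R, app_R]
  show app g (-app g⁻¹ x + _) = _
  have : ∀ a b : V3, app g (a + b) = app g a + app g b := fun a b => mulVec_add _ a b
  rw [this, app_smul]
  have hn : app g (-app g⁻¹ x) = -x := by rw [← neg_one_smul F, app_smul, app_inv', neg_one_smul]
  rw [hn]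
  congr 2
  conv_rhs => rw [← app_inv' g x, app_form]

theorem R_eq_iff (h2 : (2 : F) ≠ 0) (v w : Lev 3 F q (1 : F)) : R hF v = R hF w ↔ ∃ c : F, w.1 = c • v.1 := by
  constructor
  · intro e
    have h := R_self hF w
    rw [← e, app_R] at h
    refine ⟨Cfsg.hermForm 3 F q w.1 v.1, ?_⟩
    funext i
    have := congrFun h i
    simp at this
    rw [Pi.smul_apply, smul_eq_mul]
    refine mul_left_cancel₀ h2 ?_
    linear_combination -this
  · rintro ⟨c, hc⟩
    have hcc : c * c ^ q = 1 := by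
      have := w.2
      rwa [hc, Herm.form_smul_left, Herm.form_smul_right, v.2, mul_one] at this
    refine app_ext fun x => ?_
    rw [app_R, app_R, hc, Herm.form_smul_right, smul_smul]
    congr 2
    linear_combination (-(2 * Cfsg.hermForm 3 F q x v.1)) * hcc

theorem R_commute_iff (h2 : (2 : F) ≠ 0) (v w : Lev 3 F q (1 : F)) :
    Commute (R hF v) (R hF w) ↔ Cfsg.hermForm 3 F q w.1 v.1 = 0 ∨ ∃ c : F, w.1 = c • v.1 := by
  have key : Commute (R hF v) (R hF w) ↔
      R hF w = R hF ⟨app (R hF v) w.1, by rw [app_form]; exact w.2⟩ := by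
    rw [← R_conj hF (R hF v) w, eq_comm, mul_inv_eq_iff_eq_mul]
    exact Iff.rfl
  rw [key, R_eq_iff hF h2]
  show (∃ c : F, app (R hF v) w.1 = c • w.1) ↔ _
  rw [app_R]
  constructor
  · rintro ⟨c, hc⟩
    by_cases h0 : Cfsg.hermForm 3 F q w.1 v.1 = 0
    · exact Or.inl h0
    refine Or.inr ⟨(2 * Cfsg.hermForm 3 F q w.1 v.1) / (c + 1), ?_⟩
    have hc1 : c + 1 ≠ 0 := by
      intro e
      have hv0 : v.1 ≠ 0 := fun hv => by
        have := v.2
        rw [hv] at this
        simp [Cfsg.hermForm] at this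
      have h : (2 * Cfsg.hermForm 3 F q w.1 v.1) • v.1 = 0 := by
        rw [eq_neg_of_add_eq_zero_left e, neg_one_smul] at hc
        exact add_eq_left.1 hc
      rcases smul_eq_zero.1 h with h | h
      · exact h0 ((mul_eq_zero.1 h).resolve_left h2)
      · exact hv0 h
    funext i
    have := congrFun hc i
    simp at this
    rw [Pi.smul_apply, smul_eq_mul, div_mul_eq_mul_div, eq_div_iff hc1]
    linear_combination -this
  · rintro (h | ⟨c, hc⟩)
    · exact ⟨-1, by rw [h, mul_zero, zero_smul, add_zero, neg_one_smul]⟩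
    · refine ⟨1, ?_⟩
      rw [one_smul, hc, Herm.form_smul_left, v.2, mul_one, mul_smul, two_smul, neg_add_cancel_left]

/-- SU is transitive on vectors of norm one -/
theorem exists_app (v w : Lev 3 F q (1 : F)) : ∃ g : Cfsg.SU 3 F q, app g v.1 = w.1 := by
  classical
  have he : Cfsg.hermForm 3 F q (Pi.single 0 1) (Pi.single 0 1) = 1 := by
    rw [Herm.form_single hF]; simp
  obtain ⟨a, ha, hav⟩ := Herm.GU_transitive hF he v.2
  obtain ⟨b, hb, hbw⟩ := Herm.GU_transitive hF he w.2
  let d : Fin 3 → Unitary.N1 F q :=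
    Function.update 1 1 (Unitary.detN hF 3 ⟨a, ha⟩ * (Unitary.detN hF 3 ⟨b, hb⟩)⁻¹)
  set g : Cfsg.GU 3 F q := ⟨b, hb⟩ * Unitary.diagGU 3 d * (⟨a, ha⟩ : Cfsg.GU 3 F q)⁻¹ with hg
  have hdet : g ∈ (Unitary.detN hF 3).ker := by
    rw [MonoidHom.mem_ker, hg, map_mul, map_mul, map_inv, Unitary.detN_diagGU,
      Finset.prod_update_of_mem (Finset.mem_univ _)]
    simp
  rw [← Unitary.range_suToGU] at hdet
  obtain ⟨s, hs⟩ := hdet
  refine ⟨s, ?_⟩
  have hval : (s.1 : Matrix (Fin 3) (Fin 3) F) = (b : Matrix (Fin 3) (Fin 3) F) *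
      diagonal (fun i => ((d i : Fˣ) : F)) * ((a⁻¹ : GL (Fin 3) F) : Matrix (Fin 3) (Fin 3) F) :=
    congrArg (fun z : Cfsg.GU 3 F q => ((z : GL (Fin 3) F) : Matrix (Fin 3) (Fin 3) F)) hs
  show (s.1 : Matrix (Fin 3) (Fin 3) F) *ᵥ v.1 = w.1
  rw [hval, ← mulVec_mulVec, ← hav, mulVec_mulVec (M := ((a⁻¹ : GL (Fin 3) F) : Matrix (Fin 3) (Fin 3) F)),
    Units.inv_mul, one_mulVec, ← mulVec_mulVec, ← hbw]
  congr 1
  funext i
  rw [mulVec_diagonal]
  by_cases hi : i = 0
  · subst hi; simp [d]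
  · simp [hi]

/-- the base vector -/
def e0 : Lev 3 F q (1 : F) := ⟨Pi.single 0 1, by rw [Herm.form_single hF]; simp⟩

theorem exists_R (h2 : (2 : F) ≠ 0) {x : Cfsg.SU 3 F q} (hx1 : x ≠ 1) (hx : x * x = 1) :
    ∃ v : Lev 3 F q (1 : F), R hF v = x := by
  classical
  have hxx : ∀ v, app x (app x v) = v := fun v => by rw [← app_mul, hx, app_one]
  have hadd : ∀ a b : V3, app x (a + b) = app x a + app x b := fun a b => mulVec_add _ a b
  obtain ⟨v, hfix, hv⟩ : ∃ v : V3, app x v = v ∧ Cfsg.hermForm 3 F q v v ≠ 0 := by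
    by_contra hno
    push Not at hno
    let W : Submodule F V3 :=
      { carrier := {v | app x v = v}
        zero_mem' := mulVec_zero _
        add_mem' := fun {a b} ha hb => by rw [Set.mem_setOf_eq, hadd, ha, hb]
        smul_mem' := fun c a ha => by rw [Set.mem_setOf_eq, app_smul, ha] }
    have hiso := OrthBasis.hpol_herm (Herm.hb 3 hF) (by
      by_contra h
      push Not at h
      exact Herm.conj_ne_id hF (RingHom.ext h)) (Herm.hb_symm hF) W (fun w hw => hno w hw)
    have hP : ∀ u, app x u + u ∈ W := fun u => by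
      show app x _ = _
      rw [hadd, hxx, add_comm]
    have hzero : ∀ u, app x u + u = 0 := by
      intro u
      apply Herm.hb_sepLeft hF
      intro z
      show Cfsg.hermForm 3 F q z (app x u + u) = 0
      have h1 : Cfsg.hermForm 3 F q (app x z + z) (app x u + u) = 0 := hiso _ (hP u) _ (hP z)
      rw [Herm.form_add_left, ← app_form x z (app x u + u)] at h1
      rw [show app x (app x u + u) = app x u + u from hP u] at h1
      rw [← app_form x z (app x u + u), show app x (app x u + u) = app x u + u from hP u]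
      exact (mul_eq_zero.1 (show (2 : F) * Cfsg.hermForm 3 F q (app x z) (app x u + u) = 0 by
        linear_combination h1)).resolve_left h2
    have hmat : (x.1 : Matrix (Fin 3) (Fin 3) F) = -1 := ext_of_mulVec_single fun i => by
      rw [neg_mulVec, one_mulVec]
      exact eq_neg_of_add_eq_zero_left (hzero _)
    have hd : (x.1 : Matrix (Fin 3) (Fin 3) F).det = 1 := x.1.2
    rw [hmat, det_neg, det_one] at hd
    simp at hd
    exact h2 (by linear_combination -hd)
  obtain ⟨a, ha0, ha⟩ := Herm.exists_norm hF _ hv (Herm.form_comm hF v v)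
  let v1 : Lev 3 F q (1 : F) := ⟨a⁻¹ • v, by
    rw [Herm.form_smul_left, Herm.form_smul_right, ← ha, inv_pow]
    field_simp⟩
  have hfix1 : app x v1.1 = v1.1 := by show app x (a⁻¹ • v) = _; rw [app_smul, hfix]
  obtain ⟨g, hg⟩ := exists_app hF (e0 hF) v1
  set y := g⁻¹ * x * g with hy
  have hy0 : app y (Pi.single 0 1) = Pi.single 0 1 := by
    rw [hy, app_mul, app_mul, show app g (Pi.single 0 1) = v1.1 from hg, hfix1, ← hg, app_inv]
    rfl
  have hy2 : y * y = 1 := by
    rw [hy]; calc g⁻¹ * x * g * (g⁻¹ * x * g) = g⁻¹ * (x * x) * g := by group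
      _ = 1 := by rw [hx]; group
  set M := (y.1 : Matrix (Fin 3) (Fin 3) F) with hM
  have hc : ∀ i, M i 0 = if i = 0 then 1 else 0 := fun i => by
    have := congrFun hy0 i
    rw [app, mulVec_single_one] at this
    simpa [Pi.single_apply] using this
  have hr : ∀ j, M 0 j = if j = 0 then 1 else 0 := fun j => by
    have := app_form y (Pi.single j 1) (Pi.single 0 1)
    rw [hy0, Herm.form_single hF, Herm.form_single hF, app, mulVec_single_one] at this
    simpa [Pi.single_apply, eq_comm] using this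
  have hd : M.det = 1 := y.1.2
  have hsq : M * M = 1 := congrArg (fun z : Cfsg.SU 3 F q => (z.1 : Matrix (Fin 3) (Fin 3) F)) hy2
  rw [det_fin_three] at hd
  simp [hc, hr] at hd
  have e11 := congrFun (congrFun hsq 1) 1
  have e12 := congrFun (congrFun hsq 1) 2
  have e21 := congrFun (congrFun hsq 2) 1
  have e22 := congrFun (congrFun hsq 2) 2
  simp [Matrix.mul_apply, Fin.sum_univ_three, hc, hr] at e11 e12 e21 e22
  have ht : M 1 1 + M 2 2 ≠ 0 := fun e => h2 (by linear_combination M 1 1 * e - e11 - hd)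
  have m12 : M 1 2 = 0 := (mul_eq_zero.1 (show M 1 2 * (M 1 1 + M 2 2) = 0 by linear_combination e12)).resolve_right ht
  have m21 : M 2 1 = 0 := (mul_eq_zero.1 (show M 2 1 * (M 1 1 + M 2 2) = 0 by linear_combination e21)).resolve_right ht
  have m22 : M 2 2 = M 1 1 := by
    have h : (M 1 1 - M 2 2) * (M 1 1 + M 2 2) = 0 := by linear_combination e11 - e22
    exact (sub_eq_zero.1 ((mul_eq_zero.1 h).resolve_right ht)).symm
  rw [m12, zero_mul, add_zero] at e11
  refine ⟨v1, ?_⟩
  have hy' : y = R hF (e0 hF) := by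
    rcases mul_self_eq_one_iff.1 e11 with h | h
    · refine absurd ?_ hx1
      have : y = 1 := Subtype.ext (Subtype.ext (by
        show M = 1
        ext i j; fin_cases i <;> fin_cases j <;> simp [hc, hr, m12, m21, m22, h]))
      rw [show x = g * y * g⁻¹ by rw [hy]; group, this]
      group
    · refine Subtype.ext (Subtype.ext ?_)
      show M = _
      show M = (-1 : Matrix (Fin 3) (Fin 3) F) + (2 : F) • vecMulVec (Pi.single 0 1) (fun i => (Pi.single 0 1 : V3) i ^ q)
      have hq0 : q ≠ 0 := by have := two_le hF; omega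
      ext i j; fin_cases i <;> fin_cases j <;> simp [hc, hr, m12, m21, m22, h, vecMulVec_apply, hq0]
      norm_num
  rw [show x = g * y * g⁻¹ by rw [hy]; group, hy', R_conj]
  congr 1
  exact Subtype.ext hg.symm

theorem card_inv (h2 : (2 : F) ≠ 0) (P : Cfsg.SU 3 F q → Prop) :
    (q + 1) * Nat.card {x : Cfsg.SU 3 F q // x ≠ 1 ∧ x * x = 1 ∧ P x} =
      Nat.card {v : Lev 3 F q (1 : F) // P (R hF v)} := by
  classical
  let f : {v : Lev 3 F q (1 : F) // P (R hF v)} → {x : Cfsg.SU 3 F q // x ≠ 1 ∧ x * x = 1 ∧ P x} :=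
    fun v => ⟨R hF v.1, R_ne hF v.1 h2, R_sq hF v.1, v.2⟩
  have hfib : ∀ x, Nat.card {v // f v = x} = q + 1 := by
    rintro ⟨x, hx1, hx, hP⟩
    obtain ⟨v₀, hv₀⟩ := exists_R hF h2 hx1 hx
    rw [← Unitary.card_N1 (F := F) hF]
    refine Nat.card_congr (Equiv.symm ?_)
    have hmk : ∀ c : Unitary.N1 F q, ∃ v : Lev 3 F q (1 : F), v.1 = ((c : Fˣ) : F) • v₀.1 ∧ R hF v = x :=
      fun c => by
        have hcc := Unitary.N1_val c.2
        refine ⟨⟨((c : Fˣ) : F) • v₀.1, by rw [Herm.form_smul_left, Herm.form_smul_right, v₀.2, mul_one, hcc]⟩,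
          rfl, ?_⟩
        rw [← hv₀]; exact ((R_eq_iff hF h2 _ _).2 ⟨_, rfl⟩).symm
    choose w hw hwR using hmk
    refine Equiv.ofBijective (fun c => ⟨⟨w c, by rw [hwR]; exact hP⟩, Subtype.ext (hwR c)⟩) ⟨fun a b e => ?_, ?_⟩
    · have e' : (w a).1 = (w b).1 := congrArg (fun z : {v // f v = ⟨x, hx1, hx, hP⟩} => z.1.1.1) e
      rw [hw, hw] at e'
      have hv0 : v₀.1 ≠ 0 := fun hv => by
        have := v₀.2
        rw [hv] at this
        simp [Cfsg.hermForm] at this
      exact Subtype.ext (Units.ext (smul_left_injective F hv0 e'))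
    · rintro ⟨⟨v, hPv⟩, hv⟩
      have hv' : R hF v = x := congrArg Subtype.val hv
      obtain ⟨c, hc⟩ := (R_eq_iff hF h2 v₀ v).1 (hv₀.trans hv'.symm)
      have hcc : c * c ^ q = 1 := by
        have := v.2
        rwa [hc, Herm.form_smul_left, Herm.form_smul_right, v₀.2, mul_one] at this
      have hc0 : c ≠ 0 := fun e => by simp [e] at hcc
      refine ⟨⟨Units.mk0 c hc0, Units.ext (by simpa [pow_succ'] using hcc)⟩, ?_⟩
      refine Subtype.ext (Subtype.ext (Subtype.ext ?_))
      rw [hc, hw]; rfl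
  rw [← Nat.card_congr (Equiv.sigmaFiberEquiv f), Nat.card_sigma, Finset.sum_congr rfl fun x _ => hfib x,
    Finset.sum_const, smul_eq_mul, Finset.card_univ, ← Nat.card_eq_fintype_card, mul_comm]

theorem card_first (h0 : q ≠ 0) (c : F) (P : F → Prop) [DecidablePred P] :
    Nat.card {v : Lev 3 F q c // P (v.1 0)} =
      ∑ a ∈ Finset.univ.filter P, Nat.card (Lev 2 F q (c - a * a ^ q)) := by
  classical
  let e : {v : Lev 3 F q c // P (v.1 0)} ≃ Σ a : {a : F // P a}, Lev 2 F q (c - a.1 * a.1 ^ q) :=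
    { toFun := fun v => ⟨⟨v.1.1 0, v.2⟩, ![v.1.1 1, v.1.1 2], by
        have := v.1.2
        rw [form_eq] at this
        simp [Cfsg.hermForm, Fin.sum_univ_two]
        linear_combination this⟩
      invFun := fun s => ⟨⟨![s.1.1, s.2.1 0, s.2.1 1], by
        have := s.2.2
        simp [Cfsg.hermForm, Fin.sum_univ_two] at this
        rw [form_eq]
        show s.1.1 * s.1.1 ^ q + s.2.1 0 * s.2.1 0 ^ q + s.2.1 1 * s.2.1 1 ^ q = c
        linear_combination this⟩, s.1.2⟩
      left_inv := fun v => by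
        refine Subtype.ext (Subtype.ext (funext fun i => ?_))
        fin_cases i <;> rfl
      right_inv := fun s => by
        refine Sigma.subtype_ext (Subtype.ext rfl) (funext fun i => ?_)
        fin_cases i <;> rfl }
  rw [Nat.card_congr e, Nat.card_sigma, ← Finset.sum_subtype (Finset.univ.filter P) (fun x => by simp)
    (fun a => Nat.card (Lev 2 F q (c - a * a ^ q)))]

theorem lev2 : Nat.card (Lev 2 F q (1 : F)) = q * (q ^ 2 - 1) ∧
    Nat.card (Lev 2 F q (0 : F)) = (q ^ 2 - 1) * (q + 1) + 1 := by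
  constructor
  · rw [Herm.card_lev_one hF]; simp
  · rw [Herm.card_lev_zero hF]; simp

theorem lev3 : Nat.card (Lev 3 F q (1 : F)) = q ^ 2 * (q ^ 3 + 1) := by
  rw [Herm.card_lev_one hF, if_neg (by decide)]

theorem card_Z : Nat.card {v : Lev 3 F q (1 : F) // v.1 0 = 0} = q * (q ^ 2 - 1) := by
  classical
  have h0 : q ≠ 0 := by have := two_le hF; omega
  rw [card_first hF h0 1 (fun a => a = 0), show (Finset.univ.filter fun a : F => a = 0) = {0} by ext; simp,
    Finset.sum_singleton]
  simpa [h0] using (lev2 hF).1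

theorem card_U : Nat.card {v : Lev 3 F q (1 : F) // v.1 0 * v.1 0 ^ q = 1} = (q + 1) * ((q ^ 2 - 1) * (q + 1) + 1) := by
  classical
  have h0 : q ≠ 0 := by have := two_le hF; omega
  rw [card_first hF h0 1 (fun a => a * a ^ q = 1), Finset.sum_congr rfl (fun a ha => by
    rw [(Finset.mem_filter.1 ha).2, sub_self, (lev2 hF).2]), Finset.sum_const, smul_eq_mul]
  congr 1
  rw [← Unitary.card_N1 (F := F) hF, ← Fintype.card_subtype, ← Nat.card_eq_fintype_card]
  exact Nat.card_congr
    { toFun := fun a => ⟨Units.mk0 a.1 (fun e => by have := a.2; simp [e] at this),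
        Units.ext (by simpa [pow_succ'] using a.2)⟩
      invFun := fun u => ⟨((u : Fˣ) : F), Unitary.N1_val u.2⟩
      left_inv := fun a => rfl
      right_inv := fun u => Subtype.ext (Units.ext rfl) }

end CfsgLib.Misc.SUThreeInvol
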