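import Mathlib.GroupTheory.GroupAction.Basic
import Mathlib.Algebra.Group.Subgroup.Ker
import Mathlib.Tactic.Group
import Mathlib.Algebra.Group.End
import Mathlib.Algebra.BigOperators.Group.List.Basic
import Mathlib.SetTheory.Cardinal.Finite

/-!
Shintani descent in abstract form.
-/

set_option autoImplicit false

namespace CfsgLib.Shintani

variable {X : Type*} [Group X] (σ : MulAut X) (e : ℕ)

theorem mem_fix {τ : MulAut X} {g : X} :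
    g ∈ (MulEquiv.toMonoidHom τ).eqLocus (MonoidHom.id X) ↔ τ g = g := Iff.rfl

theorem prod_range (g a : X) (ha : g = a * (σ a)⁻¹) (d : ℕ) :
    ((List.range d).map fun i => (σ ^ i) g).prod = a * ((σ ^ d) a)⁻¹ := by
  induction d with
  | zero => simp
  | succ d ih =>
    rw [List.range_succ, List.map_append, List.prod_append, ih, List.map_singleton, List.prod_singleton, ha,
      map_mul, map_inv, pow_succ, MulAut.mul_apply]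
    group

theorem pow_comm_apply (y : X) : (σ ^ e) (σ y) = σ ((σ ^ e) y) := by
  rw [← MulAut.mul_apply, ← pow_succ, pow_succ', MulAut.mul_apply]

theorem fix_pow {y : X} (hy : σ y = y) (i : ℕ) : (σ ^ i) y = y := by
  induction i with
  | zero => rfl
  | succ i ih => rw [pow_succ, MulAut.mul_apply, hy, ih]

theorem image_fix {g a : X} (hg : (σ ^ e) g = g) (ha : g = a * (σ a)⁻¹) :
    σ (((σ ^ e) a)⁻¹ * a) = ((σ ^ e) a)⁻¹ * a := by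
  have hs : σ a = g⁻¹ * a := by rw [ha]; group
  rw [map_mul, map_inv, ← pow_comm_apply, hs, map_mul, map_inv, hg]
  group

theorem conj_iff {g g' a b : X} (hg : (σ ^ e) g = g) (ha : g = a * (σ a)⁻¹) (hb : g' = b * (σ b)⁻¹) :
    (∃ k, (σ ^ e) k = k ∧ g' = k * g * (σ k)⁻¹) ↔
      ∃ h, σ h = h ∧ ((σ ^ e) b)⁻¹ * b = h * (((σ ^ e) a)⁻¹ * a) * h⁻¹ := by
  constructor
  · rintro ⟨k, hk, e1⟩
    have hh : σ (b⁻¹ * k * a) = b⁻¹ * k * a := by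
      rw [hb, ha] at e1
      have e2 : σ b = σ k * σ a * a⁻¹ * k⁻¹ * b := by
        have := congrArg (fun z => z⁻¹ * b) e1
        simpa [mul_assoc] using this
      simp only [map_mul, map_inv, e2]
      group
    refine ⟨b⁻¹ * k * a, hh, ?_⟩
    have h2 := fix_pow σ hh e
    simp only [map_mul, map_inv, hk] at h2
    have e2 : (σ ^ e) b = k * (σ ^ e) a * (b⁻¹ * k * a)⁻¹ := by
      rw [← h2]; group
    rw [e2]
    group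
  · rintro ⟨h, hh, e1⟩
    have h2 := fix_pow σ hh e
    refine ⟨b * h * a⁻¹, ?_, ?_⟩
    · simp only [map_mul, map_inv, h2]
      have e2 : (σ ^ e) b = b * (h * (((σ ^ e) a)⁻¹ * a) * h⁻¹)⁻¹ := by rw [← e1]; group
      rw [e2]
      group
    · rw [hb, ha]
      simp only [map_mul, map_inv, hh]
      group

theorem exists_source {x : X} (hx : σ x = x) (hLe : ∀ g : X, ∃ a : X, g = a * ((σ ^ e) a)⁻¹) :
    ∃ g, (σ ^ e) g = g ∧ ∃ a, g = a * (σ a)⁻¹ ∧ ((σ ^ e) a)⁻¹ * a = x := by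
  obtain ⟨c, hc⟩ := hLe x⁻¹
  refine ⟨c⁻¹ * (σ c⁻¹)⁻¹, ?_, c⁻¹, rfl, ?_⟩
  · have e1 : (σ ^ e) c = x * c := by rw [← inv_inv x, hc]; group
    simp only [map_mul, map_inv, inv_inv, pow_comm_apply, e1, hx]
    group
  · rw [map_inv, inv_inv, ← inv_inv x, hc]; group

theorem stab_iff {g a : X} (ha : g = a * (σ a)⁻¹) (k : X) :
    ((σ ^ e) k = k ∧ k * g * (σ k)⁻¹ = g) ↔
      (σ (a⁻¹ * k * a) = a⁻¹ * k * a ∧
        (a⁻¹ * k * a) * (((σ ^ e) a)⁻¹ * a) = (((σ ^ e) a)⁻¹ * a) * (a⁻¹ * k * a)) := by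
  have e0 : k * g * (σ k)⁻¹ = g ↔ σ (a⁻¹ * k * a) = a⁻¹ * k * a := by
    rw [mul_inv_eq_iff_eq_mul, ha, map_mul, map_mul, map_inv]
    constructor
    · intro h
      calc (σ a)⁻¹ * σ k * σ a = a⁻¹ * (a * (σ a)⁻¹ * σ k) * σ a := by group
        _ = a⁻¹ * (k * (a * (σ a)⁻¹)) * σ a := by rw [h]
        _ = a⁻¹ * k * a := by group
    · intro h
      calc k * (a * (σ a)⁻¹) = a * (a⁻¹ * k * a) * (σ a)⁻¹ := by group
        _ = a * ((σ a)⁻¹ * σ k * σ a) * (σ a)⁻¹ := by rw [h]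
        _ = a * (σ a)⁻¹ * σ k := by group
  rw [e0, and_comm]
  refine and_congr_right fun h => ?_
  set c := a⁻¹ * k * a with hc
  have hk : k = a * c * a⁻¹ := by rw [hc]; group
  have h2 := fix_pow σ h e
  rw [hk]
  simp only [map_mul, map_inv, h2]
  constructor
  · intro e1
    calc c * (((σ ^ e) a)⁻¹ * a) = ((σ ^ e) a)⁻¹ * ((σ ^ e) a * c * ((σ ^ e) a)⁻¹) * a := by group
      _ = ((σ ^ e) a)⁻¹ * (a * c * a⁻¹) * a := by rw [e1]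
      _ = ((σ ^ e) a)⁻¹ * a * c := by group
  · intro e1
    calc (σ ^ e) a * c * ((σ ^ e) a)⁻¹ = (σ ^ e) a * (c * (((σ ^ e) a)⁻¹ * a)) * a⁻¹ := by group
      _ = (σ ^ e) a * (((σ ^ e) a)⁻¹ * a * c) * a⁻¹ := by rw [e1]
      _ = a * c * a⁻¹ := by group

theorem pow_image {g a : X} (hg : (σ ^ e) g = g) (ha : g = a * (σ a)⁻¹) (d : ℕ) :
    ((σ ^ d) ^ e) (a * ((σ ^ d) a)⁻¹) = a * ((σ ^ d) a)⁻¹ ∧
      (((σ ^ d) ^ e) a)⁻¹ * a = (((σ ^ e) a)⁻¹ * a) ^ d := by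
  have hS : ∀ y, (σ ^ e) y = y → ((σ ^ d) ^ e) y = y := fun y hy => by
    rw [← pow_mul, mul_comm, pow_mul]
    exact fix_pow (σ ^ e) hy d
  refine ⟨?_, ?_⟩
  · rw [← prod_range σ g a ha d, map_list_prod, List.map_map]
    refine congrArg List.prod (List.map_congr_left fun i _ => hS _ ?_)
    rw [← MulAut.mul_apply, ← pow_add, add_comm, pow_add, MulAut.mul_apply, hg]
  · set x := ((σ ^ e) a)⁻¹ * a with hx
    have hxf : (σ ^ e) x = x := fix_pow σ (image_fix σ e hg ha) e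
    rw [← pow_mul, mul_comm, pow_mul]
    have key : ∀ n : ℕ, ((σ ^ e) ^ n) a = a * (x ^ n)⁻¹ := by
      intro n
      induction n with
      | zero => simp
      | succ n ih =>
        rw [pow_succ' (σ ^ e), MulAut.mul_apply, ih, map_mul, map_inv, map_pow, hxf,
          show (σ ^ e) a = a * x⁻¹ by rw [hx]; group, pow_succ]
        group
    rw [key]
    group

theorem count (Y : Subgroup X) (hY : ∀ y : X, y ∈ Y ↔ σ y ∈ Y)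
    (hYL : ∀ y ∈ Y, ∃ a ∈ Y, y = a * (σ a)⁻¹) (hYLe : ∀ y ∈ Y, ∃ a ∈ Y, y = a * ((σ ^ e) a)⁻¹)
    {g a : X} (hg : (σ ^ e) g = g) (ha : g = a * (σ a)⁻¹) :
    Nat.card {k : ↥((MulEquiv.toMonoidHom (σ ^ e)).eqLocus (MonoidHom.id X)) // (k : X)⁻¹ * g * σ k ∈ Y} *
        Nat.card ↥(Y ⊓ (MulEquiv.toMonoidHom σ).eqLocus (MonoidHom.id X)) =
      Nat.card {h : ↥((MulEquiv.toMonoidHom σ).eqLocus (MonoidHom.id X)) // (h : X)⁻¹ * (((σ ^ e) a)⁻¹ * a) * h ∈ Y} *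
        Nat.card ↥(Y ⊓ (MulEquiv.toMonoidHom (σ ^ e)).eqLocus (MonoidHom.id X)) := by
  have hYp : ∀ (i : ℕ) (y : X), y ∈ Y → (σ ^ i) y ∈ Y := fun i y hy => by
    induction i with
    | zero => exact hy
    | succ i ih => rw [pow_succ', MulAut.mul_apply]; exact (hY _).1 ih
  -- forward witness
  choose wA hwA hwA' using fun k : {k : ↥((MulEquiv.toMonoidHom (σ ^ e)).eqLocus (MonoidHom.id X)) //
    (k : X)⁻¹ * g * σ k ∈ Y} => hYL _ k.2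
  have hB' : ∀ h : {h : ↥((MulEquiv.toMonoidHom σ).eqLocus (MonoidHom.id X)) //
      (h : X)⁻¹ * (((σ ^ e) a)⁻¹ * a) * h ∈ Y},
      ∃ w ∈ Y, (h : X)⁻¹ * (((σ ^ e) a)⁻¹ * a) * h = ((σ ^ e) w)⁻¹ * w := fun h => by
    obtain ⟨c, hc, e1⟩ := hYLe _ (inv_mem h.2)
    refine ⟨c⁻¹, inv_mem hc, ?_⟩
    rw [map_inv, inv_inv, ← inv_inv ((h : X)⁻¹ * _ * _), e1]
    group
  choose wB hwB hwB' using hB'
  -- admissible pairs on either side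
  have fwd : ∀ (k w : X), (σ ^ e) k = k → w ∈ Y → k⁻¹ * g * σ k = w * (σ w)⁻¹ →
      σ (a⁻¹ * k * w) = a⁻¹ * k * w ∧
        (a⁻¹ * k * w)⁻¹ * (((σ ^ e) a)⁻¹ * a) * (a⁻¹ * k * w) = ((σ ^ e) w)⁻¹ * w := by
    intro k w hk hw e1
    have h1 : σ (a⁻¹ * k * w) = a⁻¹ * k * w := by
      calc σ (a⁻¹ * k * w) = (σ a)⁻¹ * σ k * σ w := by rw [map_mul, map_mul, map_inv]
        _ = a⁻¹ * (k * (k⁻¹ * g * σ k)) * σ w := by rw [ha]; group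
        _ = a⁻¹ * (k * (w * (σ w)⁻¹)) * σ w := by rw [e1]
        _ = a⁻¹ * k * w := by group
    refine ⟨h1, ?_⟩
    have h2 := fix_pow σ h1 e
    rw [map_mul, map_mul, map_inv, hk] at h2
    calc (a⁻¹ * k * w)⁻¹ * (((σ ^ e) a)⁻¹ * a) * (a⁻¹ * k * w)
        = (a⁻¹ * k * w)⁻¹ * (((σ ^ e) a)⁻¹ * k * (σ ^ e) w) * (((σ ^ e) w)⁻¹ * w) := by group
      _ = ((σ ^ e) w)⁻¹ * w := by rw [h2]; group
  have bwd : ∀ (h w : X), σ h = h → w ∈ Y → h⁻¹ * (((σ ^ e) a)⁻¹ * a) * h = ((σ ^ e) w)⁻¹ * w →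
      (σ ^ e) (a * h * w⁻¹) = a * h * w⁻¹ ∧ (a * h * w⁻¹)⁻¹ * g * σ (a * h * w⁻¹) = w * (σ w)⁻¹ := by
    intro h w hh hw e1
    have h2 := fix_pow σ hh e
    refine ⟨?_, ?_⟩
    · calc (σ ^ e) (a * h * w⁻¹) = (σ ^ e) a * h * (((σ ^ e) w)⁻¹ * w) * w⁻¹ := by
            rw [map_mul, map_mul, map_inv, h2]; group
        _ = (σ ^ e) a * h * (h⁻¹ * (((σ ^ e) a)⁻¹ * a) * h) * w⁻¹ := by rw [e1]
        _ = a * h * w⁻¹ := by group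
    · rw [map_mul, map_mul, map_inv, hh, ha]; group
  rw [← Nat.card_prod, ← Nat.card_prod]
  refine Nat.card_congr ?_
  have f1 : ∀ (p : {k : ↥((MulEquiv.toMonoidHom (σ ^ e)).eqLocus (MonoidHom.id X)) // (k : X)⁻¹ * g * σ k ∈ Y} ×
      ↥(Y ⊓ (MulEquiv.toMonoidHom σ).eqLocus (MonoidHom.id X))),
      wA p.1 * (p.2 : X) ∈ Y ∧ ((p.1.1 : X))⁻¹ * g * σ p.1.1 = (wA p.1 * p.2) * (σ (wA p.1 * p.2))⁻¹ := fun p => by
    refine ⟨mul_mem (hwA p.1) p.2.2.1, ?_⟩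
    rw [hwA' p.1, map_mul, (mem_fix.1 p.2.2.2 : σ (p.2 : X) = p.2)]
    group
  have f2 : ∀ (p : {h : ↥((MulEquiv.toMonoidHom σ).eqLocus (MonoidHom.id X)) //
      (h : X)⁻¹ * (((σ ^ e) a)⁻¹ * a) * h ∈ Y} × ↥(Y ⊓ (MulEquiv.toMonoidHom (σ ^ e)).eqLocus (MonoidHom.id X))),
      (p.2 : X) * wB p.1 ∈ Y ∧ ((p.1.1 : X))⁻¹ * (((σ ^ e) a)⁻¹ * a) * p.1.1 =
        ((σ ^ e) ((p.2 : X) * wB p.1))⁻¹ * ((p.2 : X) * wB p.1) := fun p => by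
    refine ⟨mul_mem p.2.2.1 (hwB p.1), ?_⟩
    rw [hwB' p.1, map_mul, (mem_fix.1 p.2.2.2 : (σ ^ e) (p.2 : X) = p.2)]
    group
  let F1 := fun p => (⟨⟨a⁻¹ * (p : {k : ↥((MulEquiv.toMonoidHom (σ ^ e)).eqLocus (MonoidHom.id X)) //
      (k : X)⁻¹ * g * σ k ∈ Y} × ↥(Y ⊓ (MulEquiv.toMonoidHom σ).eqLocus (MonoidHom.id X))).1.1 * (wA p.1 * p.2),
      (fwd _ _ p.1.1.2 (f1 p).1 (f1 p).2).1⟩, by
        show (a⁻¹ * _ * _)⁻¹ * _ * (a⁻¹ * _ * _) ∈ Y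
        rw [(fwd _ _ p.1.1.2 (f1 p).1 (f1 p).2).2]
        exact mul_mem (inv_mem (hYp e _ (f1 p).1)) (f1 p).1⟩ :
      {h : ↥((MulEquiv.toMonoidHom σ).eqLocus (MonoidHom.id X)) // (h : X)⁻¹ * (((σ ^ e) a)⁻¹ * a) * h ∈ Y})
  let F2 := fun p => (⟨⟨a * (p : {h : ↥((MulEquiv.toMonoidHom σ).eqLocus (MonoidHom.id X)) //
      (h : X)⁻¹ * (((σ ^ e) a)⁻¹ * a) * h ∈ Y} × ↥(Y ⊓ (MulEquiv.toMonoidHom (σ ^ e)).eqLocus (MonoidHom.id X))).1.1 *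
        ((p.2 : X) * wB p.1)⁻¹, (bwd _ _ p.1.1.2 (f2 p).1 (f2 p).2).1⟩, by
        show (a * _ * _)⁻¹ * g * σ (a * _ * _) ∈ Y
        rw [(bwd _ _ p.1.1.2 (f2 p).1 (f2 p).2).2]
        exact mul_mem (f2 p).1 (inv_mem ((hY _).1 (f2 p).1))⟩ :
      {k : ↥((MulEquiv.toMonoidHom (σ ^ e)).eqLocus (MonoidHom.id X)) // (k : X)⁻¹ * g * σ k ∈ Y})
  refine
    { toFun := fun p => (F1 p, ⟨(wA p.1 * p.2) * (wB (F1 p))⁻¹,
        Y.mul_mem (f1 p).1 (Y.inv_mem (hwB _)), ?_⟩)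
      invFun := fun p => (F2 p, ⟨(wA (F2 p))⁻¹ * ((p.2 : X) * wB p.1),
        Y.mul_mem (Y.inv_mem (hwA _)) (f2 p).1, ?_⟩)
      left_inv := ?_
      right_inv := ?_ }
  · have e1 := hwB' (F1 p)
    have e2 := (fwd _ _ p.1.1.2 (f1 p).1 (f1 p).2).2
    rw [show ((F1 p).1 : X) = a⁻¹ * (p.1.1 : X) * (wA p.1 * p.2) from rfl, e2] at e1
    refine mem_fix.2 ?_
    calc (σ ^ e) (wA p.1 * ↑p.2 * (wB (F1 p))⁻¹)
        = (σ ^ e) (wA p.1 * ↑p.2) * ((σ ^ e) (wB (F1 p)))⁻¹ := by rw [map_mul, map_inv]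
      _ = (wA p.1 * ↑p.2) * (((σ ^ e) (wA p.1 * ↑p.2))⁻¹ * (wA p.1 * ↑p.2))⁻¹ *
          (((σ ^ e) (wB (F1 p)))⁻¹ * wB (F1 p)) * (wB (F1 p))⁻¹ := by group
      _ = wA p.1 * ↑p.2 * (wB (F1 p))⁻¹ := by rw [← e1]; group
  · have e1 := hwA' (F2 p)
    have e2 := (bwd _ _ p.1.1.2 (f2 p).1 (f2 p).2).2
    rw [show ((F2 p).1 : X) = a * (p.1.1 : X) * ((p.2 : X) * wB p.1)⁻¹ from rfl, e2] at e1
    refine mem_fix.2 ?_
    calc σ ((wA (F2 p))⁻¹ * ((p.2 : X) * wB p.1))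
        = (σ (wA (F2 p)))⁻¹ * σ ((p.2 : X) * wB p.1) := by rw [map_mul, map_inv]
      _ = (wA (F2 p))⁻¹ * (wA (F2 p) * (σ (wA (F2 p)))⁻¹) *
          (((p.2 : X) * wB p.1) * (σ ((p.2 : X) * wB p.1))⁻¹)⁻¹ * ((p.2 : X) * wB p.1) := by group
      _ = (wA (F2 p))⁻¹ * ((p.2 : X) * wB p.1) := by rw [← e1]; group
  · rintro p
    have hw : (wA p.1 * (p.2 : X)) * (wB (F1 p))⁻¹ * wB (F1 p) = wA p.1 * p.2 := inv_mul_cancel_right _ _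
    have hk : ∀ q, q.1 = F1 p → (q.2 : X) = (wA p.1 * (p.2 : X)) * (wB (F1 p))⁻¹ → F2 q = p.1 := by
      intro q h1 h2
      refine Subtype.ext (Subtype.ext ?_)
      show a * (q.1.1 : X) * ((q.2 : X) * wB q.1)⁻¹ = p.1.1
      rw [h1, h2, hw]
      show a * (a⁻¹ * (p.1.1 : X) * (wA p.1 * p.2)) * (wA p.1 * (p.2 : X))⁻¹ = p.1.1
      group
    refine Prod.ext (hk _ rfl rfl) (Subtype.ext ?_)
    simp only
    rw [hk _ rfl rfl, hw, inv_mul_cancel_left]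
  · rintro p
    have hw : wA (F2 p) * ((wA (F2 p))⁻¹ * ((p.2 : X) * wB p.1)) = (p.2 : X) * wB p.1 := mul_inv_cancel_left _ _
    have hk : ∀ q, q.1 = F2 p → (q.2 : X) = (wA (F2 p))⁻¹ * ((p.2 : X) * wB p.1) → F1 q = p.1 := by
      intro q h1 h2
      refine Subtype.ext (Subtype.ext ?_)
      show a⁻¹ * (q.1.1 : X) * (wA q.1 * (q.2 : X)) = p.1.1
      rw [h1, h2, hw]
      show a⁻¹ * (a * (p.1.1 : X) * ((p.2 : X) * wB p.1)⁻¹) * ((p.2 : X) * wB p.1) = p.1.1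
      group
    refine Prod.ext (hk _ rfl rfl) (Subtype.ext ?_)
    simp only
    rw [hk _ rfl rfl, hw, mul_inv_cancel_right]

end CfsgLib.Shintani
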