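import Cfsg.Agent.Misc.GLAbelianSylow
import Cfsg.Agent.Misc.TraceEmbeds
import Cfsg.Agent.Lie.SpOrder

/-! Sylow subgroups of Sp at primes larger than the degree. -/

set_option autoImplicit false
set_option linter.unusedSectionVars false

namespace CfsgLib.Misc.SpAbelianSylow

open CfsgLib.Misc.GLAbelianSylow Matrix

variable {r : ℕ} [hr : Fact r.Prime] {F : Type*} [Field F] [Fintype F]

theorem val_pow' {q : ℕ} (hq : 2 ≤ q) (hrq : ¬ r ∣ q) {m : ℕ} (hm : 1 ≤ m) (hmr : ¬ r ∣ m) :
    (q ^ m - 1).factorization r = if orderOf (q : ZMod r) ∣ m then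
      (q ^ orderOf (q : ZMod r) - 1).factorization r else 0 := by
  set d := orderOf (q : ZMod r) with hd
  have hd1 : 1 ≤ d := one_le_orderOf hrq
  split_ifs with h
  · obtain ⟨j, rfl⟩ := h
    set x := q ^ d with hx
    have hx2 : 2 ≤ x := le_trans hq (Nat.le_self_pow (by omega) _)
    have hgs : q ^ (d * j) - 1 = (∑ i ∈ Finset.range j, x ^ i) * (x - 1) := by
      rw [pow_mul, ← hx]
      have h1 := geom_sum_mul_add (x - 1) j
      rw [Nat.sub_add_cancel (by omega : 1 ≤ x)] at h1
      omega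
    have hS : ¬ r ∣ ∑ i ∈ Finset.range j, x ^ i := by
      rw [← ZMod.natCast_eq_zero_iff, Nat.cast_sum]
      have hx1 : (x : ZMod r) = 1 := by rw [hx, Nat.cast_pow, hd, pow_orderOf_eq_one]
      simp only [Nat.cast_pow, hx1, one_pow, Finset.sum_const, Finset.card_range, nsmul_eq_mul, mul_one]
      rw [ZMod.natCast_eq_zero_iff]
      exact fun h => hmr (h.mul_left _)
    have hS0 : (∑ i ∈ Finset.range j, x ^ i) ≠ 0 := fun h => hS (h ▸ dvd_zero r)
    rw [hgs, Nat.factorization_mul hS0 (by omega), Finsupp.add_apply,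
      Nat.factorization_eq_zero_of_not_dvd hS, zero_add]
  · exact Nat.factorization_eq_zero_of_not_dvd fun h' => h ((dvd_pow_sub_one (by omega) m).1 h')

theorem factorization_Sp {q : ℕ} (hq : Fintype.card F = q) (n : ℕ) (hr2 : r ≠ 2) (hrn : n < r) (hrq : ¬ r ∣ q) :
    (Nat.card (Matrix.symplecticGroup (Fin n) F)).factorization r =
      ((Finset.Icc 1 n).filter (fun i => orderOf (q : ZMod r) ∣ 2 * i)).card *
        (q ^ orderOf (q : ZMod r) - 1).factorization r := by
  classical
  have hq2 : 2 ≤ q := hq ▸ Fintype.one_lt_card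
  have hne : ∀ i ∈ Finset.range n, q ^ (2 * (i + 1)) - 1 ≠ 0 := fun i _ => by
    have := Nat.one_lt_pow (show 2 * (i + 1) ≠ 0 by omega) hq2
    omega
  rw [CfsgLib.Lie.Sp.card_G, Nat.card_eq_fintype_card, hq,
    Nat.factorization_mul (pow_ne_zero _ (by omega)) (Finset.prod_ne_zero_iff.2 hne), Finsupp.add_apply,
    Nat.factorization_pow, Finsupp.smul_apply, Nat.factorization_eq_zero_of_not_dvd hrq, smul_zero, zero_add,
    Nat.factorization_prod_apply hne]
  have hv : ∀ i ∈ Finset.range n, (q ^ (2 * (i + 1)) - 1).factorization r =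
      if orderOf (q : ZMod r) ∣ 2 * (i + 1) then (q ^ orderOf (q : ZMod r) - 1).factorization r else 0 := by
    intro i hi
    rw [Finset.mem_range] at hi
    refine val_pow' hq2 hrq (by omega) fun h => ?_
    rcases (Nat.Prime.dvd_mul hr.out).1 h with h | h
    · exact hr2 ((Nat.prime_dvd_prime_iff_eq hr.out Nat.prime_two).1 h)
    · have := Nat.le_of_dvd (by omega) h; omega
  rw [Finset.sum_congr rfl hv, ← Finset.sum_filter, Finset.sum_const, smul_eq_mul]
  congr 1
  refine Finset.card_bij (fun i _ => i + 1) (fun i hi => ?_) (fun a _ b _ h => by omega) (fun m hm => ?_)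
  · simp at hi ⊢
    exact ⟨hi.1, hi.2⟩
  · simp at hm
    exact ⟨m - 1, by simp [Nat.sub_add_cancel hm.1.1, hm.2]; omega, by omega⟩

theorem gl_sp (n : ℕ) : ∃ φ : GL (Fin n) F →* Matrix.symplecticGroup (Fin n) F, Function.Injective φ := by
  refine ⟨
    { toFun := fun g => ⟨Matrix.fromBlocks (g : Matrix (Fin n) (Fin n) F) 0 0 ((↑g⁻¹ : Matrix (Fin n) (Fin n) F)ᵀ), ?_⟩
      map_one' := Subtype.ext (by simp [Matrix.fromBlocks_one])
      map_mul' := fun g h => Subtype.ext (by simp [Matrix.fromBlocks_multiply, Matrix.transpose_mul]) }, fun a b h => ?_⟩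
  · rw [SymplecticGroup.mem_iff, Matrix.J, Matrix.fromBlocks_transpose, Matrix.fromBlocks_multiply,
      Matrix.fromBlocks_multiply]
    simp [← Matrix.transpose_mul]
  · exact Units.ext (Matrix.fromBlocks_inj.1 (congrArg Subtype.val h)).1

theorem exists_embedding_even {q : ℕ} (hq : Fintype.card F = q) (n m : ℕ) (hr2 : r ≠ 2) (hm : 1 ≤ m)
    (hrm : r ∣ q ^ (2 * m) - 1) (hnot : ¬ r ∣ q ^ m - 1) :
    ∃ φ : (Fin (n / m) → Multiplicative (ZMod (r ^ (q ^ (2 * m) - 1).factorization r))) →*
      Matrix.symplecticGroup (Fin n) F, Function.Injective φ := by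
  classical
  obtain ⟨p, hp⟩ := CharP.exists F
  haveI : Fact p.Prime := ⟨CharP.char_is_prime F p⟩
  haveI : NeZero (2 * m) := ⟨by omega⟩
  have hq2 : 2 ≤ q := hq ▸ Fintype.one_lt_card
  let E := FiniteField.Extension F p (2 * m)
  haveI : Fintype E := Fintype.ofFinite E
  have hE : Fintype.card E = q ^ (2 * m) := by
    rw [← Nat.card_eq_fintype_card, FiniteField.natCard_extension F p (2 * m), Nat.card_eq_fintype_card, hq]
  have hEF : Module.finrank F E = 2 * m := FiniteField.finrank_extension F p (2 * m)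
  set Q := q ^ m with hQ
  have hQ2 : 2 ≤ Q := le_trans hq2 (Nat.le_self_pow (by omega) _)
  have hQQ : ∀ x : E, (x ^ Q) ^ Q = x := fun x => by
    rw [← pow_mul, show Q * Q = q ^ (2 * m) by rw [hQ, ← pow_add, two_mul], ← hE, FiniteField.pow_card]
  obtain ⟨f, hf⟩ : ∃ f : ℕ, Q = p ^ f := by
    obtain ⟨f, -, hf⟩ := FiniteField.card F p
    exact ⟨f * m, by rw [hQ, ← hq, hf, ← pow_mul]⟩
  haveI : CharP E p := charP_of_injective_algebraMap (algebraMap F E).injective p
  have hadd : ∀ x y : E, (x + y) ^ Q = x ^ Q + y ^ Q := fun x y => by rw [hf]; exact add_pow_char_pow x y p f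
  have hsub : ∀ x y : E, (x - y) ^ Q = x ^ Q - y ^ Q := fun x y => by rw [hf]; exact sub_pow_char_pow x y f
  have hsc : ∀ c : F, (algebraMap F E c) ^ Q = algebraMap F E c := fun c => by
    rw [← map_pow, hQ, ← hq, FiniteField.pow_card_pow]
  have hcQ : ∀ c : F, c ^ Q = c := fun c => by rw [hQ, ← hq, FiniteField.pow_card_pow]
  obtain ⟨y0, hy0⟩ : ∃ y : E, y - y ^ Q ≠ 0 := by
    by_contra hcon
    push Not at hcon
    have hsub' : (Finset.univ : Finset E) ⊆ (Polynomial.X ^ Q - Polynomial.X : Polynomial E).roots.toFinset := by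
      intro y _
      rw [Multiset.mem_toFinset, Polynomial.mem_roots (FiniteField.X_pow_card_sub_X_ne_zero E hQ2)]
      simp [← sub_eq_zero.1 (hcon y)]
    have h2 := (Finset.card_le_card hsub').trans ((Multiset.toFinset_card_le _).trans (Polynomial.card_roots' _))
    rw [Finset.card_univ, hE, FiniteField.X_pow_card_sub_X_natDegree_eq E hQ2, two_mul, pow_add, ← hQ] at h2
    nlinarith
  obtain ⟨τ, hτ⟩ := LinearMap.exists_leftInverse_of_injective (LinearMap.toSpanSingleton F E (y0 - y0 ^ Q))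
    (LinearMap.ker_eq_bot.2 fun a b h => smul_left_injective F hy0 h)
  have hτ1 : τ (y0 - y0 ^ Q) = 1 := by
    have := LinearMap.congr_fun hτ 1
    simpa using this
  set k := n / m with hk
  set t := n - k * m with ht
  let B := CfsgLib.Lie.Sp.bf t F
  let A : ((Fin k → E) × (Fin t ⊕ Fin t → F)) →ₗ[F] ((Fin k → E) × (Fin t ⊕ Fin t → F)) →ₗ[F] F :=
    LinearMap.mk₂ F (fun v w => τ (∑ i, (v.1 i * w.1 i ^ Q - v.1 i ^ Q * w.1 i)) + B v.2 w.2)
      (fun v v' w => by
        simp only [Prod.fst_add, Prod.snd_add, Pi.add_apply, hadd, map_add, LinearMap.add_apply]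
        rw [add_add_add_comm (τ _) (B v.2 w.2), ← map_add τ, ← Finset.sum_add_distrib]
        congr 2
        exact Finset.sum_congr rfl fun i _ => by ring)
      (fun c v w => by
        simp only [Prod.smul_fst, Prod.smul_snd, Pi.smul_apply, map_smul, LinearMap.smul_apply, _root_.smul_pow, hcQ,
          smul_mul_assoc, mul_smul_comm, ← smul_sub, ← Finset.smul_sum, smul_add])
      (fun v w w' => by
        simp only [Prod.fst_add, Prod.snd_add, Pi.add_apply, hadd, map_add]
        rw [add_add_add_comm (τ _) (B v.2 w.2), ← map_add τ, ← Finset.sum_add_distrib]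
        congr 2
        exact Finset.sum_congr rfl fun i _ => by ring)
      (fun c v w => by
        simp only [Prod.smul_fst, Prod.smul_snd, Pi.smul_apply, map_smul, LinearMap.smul_apply, _root_.smul_pow, hcQ,
          smul_mul_assoc, mul_smul_comm, ← smul_sub, ← Finset.smul_sum, smul_add])
  -- a norm one element of the right order
  set e := (q ^ (2 * m) - 1).factorization r with he
  obtain ⟨g, hg⟩ := IsCyclic.exists_generator (α := Eˣ)
  have hord : orderOf g = q ^ (2 * m) - 1 := by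
    rw [orderOf_eq_card_of_forall_mem_zpowers hg, Nat.card_units, Nat.card_eq_fintype_card, hE]
  have hdvd : r ^ e ∣ orderOf g := hord ▸ Nat.ordProj_dvd _ _
  let x := g ^ (orderOf g / r ^ e)
  have hx : orderOf x = r ^ e := by
    have h0 : orderOf g ≠ 0 := (orderOf_pos g).ne'
    rw [orderOf_pow_orderOf_div h0 hdvd]
  have hfac : q ^ (2 * m) - 1 = (Q + 1) * (Q - 1) := by
    rw [← Nat.mul_self_sub_mul_self_eq, hQ, one_mul, ← pow_add, two_mul]
  have hnorm : (x : E) ^ (Q + 1) = 1 := by
    have h1 : r ^ e ∣ Q + 1 :=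
      (Nat.Coprime.pow_left e ((Nat.Prime.coprime_iff_not_dvd hr.out).2 hnot)).dvd_of_dvd_mul_right
        (hfac ▸ Nat.ordProj_dvd _ _)
    rw [← Units.val_pow_eq_pow_val, orderOf_dvd_iff_pow_eq_one.1 (hx ▸ h1), Units.val_one]
  have hz : Nat.card (Subgroup.zpowers x) = r ^ e := by rw [Nat.card_zpowers, hx]
  let j : Multiplicative (ZMod (r ^ e)) ≃* Subgroup.zpowers x :=
    hz ▸ zmodCyclicMulEquiv (inferInstance : IsCyclic (Subgroup.zpowers x))
  have hnormj : ∀ z, (((j z : Eˣ)) : E) ^ (Q + 1) = 1 := fun z => by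
    obtain ⟨i, hi⟩ := (j z).2
    have h1 : x ^ (Q + 1) = 1 := Units.ext (by simpa using hnorm)
    rw [← hi, ← Units.val_pow_eq_pow_val]
    show (((x ^ i) ^ (Q + 1) : Eˣ) : E) = 1
    rw [← _root_.zpow_natCast, ← _root_.zpow_mul, mul_comm i, _root_.zpow_mul, _root_.zpow_natCast, h1,
      _root_.one_zpow, Units.val_one]
  let ρ : (Fin k → Multiplicative (ZMod (r ^ e))) →*
      (((Fin k → E) × (Fin t ⊕ Fin t → F)) ≃ₗ[F] ((Fin k → E) × (Fin t ⊕ Fin t → F))) :=
    { toFun := fun z =>
        { toFun := fun v => (fun i => ((j (z i) : Eˣ) : E) * v.1 i, v.2)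
          map_add' := fun v w => by ext <;> simp [mul_add]
          map_smul' := fun c v => by ext <;> simp
          invFun := fun v => (fun i => (((j (z i) : Eˣ))⁻¹ : Eˣ) * v.1 i, v.2)
          left_inv := fun v => by ext <;> simp
          right_inv := fun v => by ext <;> simp }
      map_one' := LinearEquiv.ext fun v => by ext <;> simp
      map_mul' := fun a b => LinearEquiv.ext fun v => by
        ext <;> simp [mul_assoc] }
  refine CfsgLib.MiscTraceEmbeds.to_symplectic (W := (Fin k → E) × (Fin t ⊕ Fin t → F)) (d := n) ?_ A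
    (fun v => ?_) (fun v hv => ?_) ρ (fun a b h => funext fun i => ?_) (fun z v w => ?_)
  · rw [Module.finrank_prod, Module.finrank_pi_fintype, Module.finrank_fintype_fun_eq_card]
    simp [hEF]
    have := Nat.div_mul_le_self n m
    rw [ht, hk]
    ring_nf
    omega
  · show τ (∑ i, (v.1 i * v.1 i ^ Q - v.1 i ^ Q * v.1 i)) + B v.2 v.2 = 0
    rw [Finset.sum_eq_zero fun i _ => by ring, map_zero, zero_add]
    exact CfsgLib.Lie.Sp.bf_self _
  · have hB : ∀ w, B v.2 w = 0 := fun w => by
      have h := hv (0, w)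
      simpa [A, zero_pow (show Q ≠ 0 by omega)] using h
    have h2 : v.2 = 0 := by
      funext s
      rcases s with s | s
      · have := hB (CfsgLib.Lie.Sp.f s)
        rw [CfsgLib.Lie.Sp.bf_apply] at this
        simpa [CfsgLib.Lie.Sp.f, Pi.single_apply] using this
      · have := hB (CfsgLib.Lie.Sp.e s)
        rw [CfsgLib.Lie.Sp.bf_apply] at this
        simpa [CfsgLib.Lie.Sp.e, Pi.single_apply] using this
    refine Prod.ext (funext fun i => ?_) h2
    by_contra hvi
    have h := hv (Pi.single i ((y0 / v.1 i) ^ Q), 0)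
    simp only [A, LinearMap.mk₂_apply, map_zero, add_zero] at h
    rw [Finset.sum_eq_single i] at h
    · simp only [Pi.single_eq_same, hQQ] at h
      rw [← mul_pow, mul_div_cancel₀ _ hvi] at h
      rw [hτ1] at h
      exact one_ne_zero h
    · intro b _ hb
      simp [Pi.single_eq_of_ne hb, zero_pow (show Q ≠ 0 by omega)]
    · simp
  · have h' := congrArg Prod.fst (LinearEquiv.congr_fun h (fun _ => 1, 0))
    have h2 := congrFun h' i
    simp [ρ] at h2
    exact j.injective (Subtype.ext (Units.ext h2))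
  · show τ (∑ i, ((((j (z i) : Eˣ)) : E) * v.1 i * ((((j (z i) : Eˣ)) : E) * w.1 i) ^ Q -
      ((((j (z i) : Eˣ)) : E) * v.1 i) ^ Q * ((((j (z i) : Eˣ)) : E) * w.1 i))) + B v.2 w.2 =
      τ (∑ i, (v.1 i * w.1 i ^ Q - v.1 i ^ Q * w.1 i)) + B v.2 w.2
    congr 2
    refine Finset.sum_congr rfl fun i _ => ?_
    have h := hnormj (z i)
    rw [pow_succ] at h
    linear_combination (v.1 i * w.1 i ^ Q - v.1 i ^ Q * w.1 i) * h

theorem sp_sylow {q : ℕ} (hq : Fintype.card F = q) (n : ℕ) (hr2 : r ≠ 2) (hrn : n < r) (hrq : ¬ r ∣ q)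
    (P : Sylow r ↥(Matrix.symplecticGroup (Fin n) F)) :
    Nonempty (↥(P : Subgroup ↥(Matrix.symplecticGroup (Fin n) F)) ≃*
      (Fin ((Finset.Icc 1 n).filter (fun i => orderOf (q : ZMod r) ∣ 2 * i)).card →
        Multiplicative (ZMod (r ^ padicValNat r ((Polynomial.cyclotomic (orderOf (q : ZMod r)) ℤ).eval (q : ℤ)).natAbs)))) := by
  classical
  have hq2 : 2 ≤ q := hq ▸ Fintype.one_lt_card
  rw [val_cyclotomic hq2 hrq]
  set d := orderOf (q : ZMod r) with hd
  set e := (q ^ d - 1).factorization r with he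
  have hcount : ∀ c : ℕ, (∀ i : ℕ, d ∣ 2 * i ↔ c ∣ i) →
      ((Finset.Icc 1 n).filter (fun i => d ∣ 2 * i)).card = n / c := by
    intro c hc
    rw [← Nat.Ioc_filter_dvd_card_eq_div n c]
    congr 1
    ext i; simp [hc]; omega
  have main : ∃ φ : (Fin ((Finset.Icc 1 n).filter (fun i => d ∣ 2 * i)).card → Multiplicative (ZMod (r ^ e))) →*
      Matrix.symplecticGroup (Fin n) F, Function.Injective φ := by
    rcases Nat.even_or_odd d with hev | hodd
    · obtain ⟨m, hm⟩ := hev
      have hd1 : 1 ≤ d := one_le_orderOf hrq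
      have hm' : d = 2 * m := by omega
      rw [hcount m fun i => by rw [hm']; exact Nat.mul_dvd_mul_iff_left two_pos, he, hm']
      refine exists_embedding_even hq n m hr2 (by omega) ?_ ?_
      · rw [dvd_pow_sub_one (by omega : 1 ≤ q), ← hd, hm']
      · rw [dvd_pow_sub_one (by omega : 1 ≤ q), ← hd, hm']
        intro h
        have := Nat.le_of_dvd (by omega) h
        omega
    · rw [hcount d fun i => (Nat.Coprime.dvd_mul_left (Nat.Coprime.symm hodd.coprime_two_left))]
      obtain ⟨φ, hφ⟩ := exists_embedding (r := r) hq n d (one_le_orderOf hrq)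
      obtain ⟨ψ, hψ⟩ := gl_sp (F := F) n
      exact ⟨ψ.comp φ, hψ.comp hφ⟩
  obtain ⟨φ, hφ⟩ := main
  refine sylow_iso φ hφ ?_ P
  rw [card_pow, factorization_Sp hq n hr2 hrn hrq]

end CfsgLib.Misc.SpAbelianSylow
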