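import Mathlib

/-!
Lower bound on the degree of faithful natural-characteristic representations of the symplectic group.
-/

set_option autoImplicit false
set_option linter.unusedSectionVars false

namespace CfsgLib.Misc.SpMinDegree

open Polynomial Module Matrix

variable {K V : Type*} [Field K] [AddCommGroup V] [Module K V]

theorem aeval_mem {T : Module.End K V} {W : Submodule K V} (hW : ∀ w ∈ W, T w ∈ W) (f : K[X]) {w : V}
    (hw : w ∈ W) : aeval T f w ∈ W := by
  induction f using Polynomial.induction_on' with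
  | add f g hf hg => rw [map_add, LinearMap.add_apply]; exact W.add_mem hf hg
  | monomial n c =>
    rw [aeval_monomial, Module.End.mul_apply, Module.algebraMap_end_apply]
    refine W.smul_mem _ ?_
    induction n with
    | zero => simpa using hw
    | succ n ih => rw [pow_succ', Module.End.mul_apply]; exact hW _ ih

theorem split [FiniteDimensional K V] {T : Module.End K V} {W : Submodule K V} (hW : ∀ w ∈ W, T w ∈ W)
    {f g : K[X]} (hfg : IsCoprime f g) (h0 : ∀ w ∈ W, aeval T (f * g) w = 0) :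
    finrank K ↥(W ⊓ LinearMap.ker (aeval T f)) + finrank K ↥(W ⊓ LinearMap.ker (aeval T g)) = finrank K W ∧
      ∀ w ∈ W, ∃ u ∈ W ⊓ LinearMap.ker (aeval T f), ∃ v ∈ W ⊓ LinearMap.ker (aeval T g), w = u + v := by
  obtain ⟨a, b, hab⟩ := hfg
  have hdec : ∀ w ∈ W, ∃ u ∈ W ⊓ LinearMap.ker (aeval T f), ∃ v ∈ W ⊓ LinearMap.ker (aeval T g), w = u + v := by
    intro w hw
    refine ⟨aeval T (b * g) w, ⟨aeval_mem hW _ hw, ?_⟩, aeval T (a * f) w, ⟨aeval_mem hW _ hw, ?_⟩, ?_⟩
    · show aeval T f (aeval T (b * g) w) = 0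
      rw [← Module.End.mul_apply, ← map_mul, show f * (b * g) = b * (f * g) by ring, map_mul,
        Module.End.mul_apply, h0 w hw, map_zero]
    · show aeval T g (aeval T (a * f) w) = 0
      rw [← Module.End.mul_apply, ← map_mul, show g * (a * f) = a * (f * g) by ring, map_mul,
        Module.End.mul_apply, h0 w hw, map_zero]
    · rw [← LinearMap.add_apply, ← map_add, add_comm, hab, map_one, Module.End.one_apply]
  refine ⟨?_, hdec⟩
  set U := W ⊓ LinearMap.ker (aeval T f)
  set U' := W ⊓ LinearMap.ker (aeval T g)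
  have hsup : U ⊔ U' = W := le_antisymm (sup_le inf_le_left inf_le_left) fun w hw => by
    obtain ⟨u, hu, v, hv, rfl⟩ := hdec w hw
    exact Submodule.add_mem_sup hu hv
  have hinf : U ⊓ U' = ⊥ := (Submodule.eq_bot_iff _).2 fun w hw => by
    obtain ⟨⟨-, h1⟩, ⟨-, h2⟩⟩ := hw
    have := congrArg (fun r : K[X] => aeval T r w) hab
    simp only [map_add, map_mul, map_one, LinearMap.add_apply, Module.End.mul_apply, Module.End.one_apply,
      LinearMap.mem_ker.1 h1, LinearMap.mem_ker.1 h2, map_zero, add_zero] at this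
    exact this.symm
  have := Submodule.finrank_sup_add_finrank_inf_eq U U'
  rw [hsup, hinf, finrank_bot] at this
  omega

theorem degree_bound [FiniteDimensional K V] {G : Type*} [Group G] (ρ : G →* (V ≃ₗ[K] V)) {ι : Type*}
    [DecidableEq ι] (y M : ι → G) (μ : K) (hμ : μ ≠ 0) (hμ2 : μ * μ ≠ 1)
    (hinv : ∀ i, M i * y i * (M i)⁻¹ = (y i)⁻¹)
    (hpoly : ∀ i v, aeval ((ρ (y i)).toLinearMap : Module.End K V)
      ((X - C μ) * (X - C μ⁻¹) * (X ^ 2 - 1)) v = 0)
    (hyy : ∀ i j, i ≠ j → Commute (y i) (y j)) (hyM : ∀ i j, i ≠ j → Commute (y i) (M j)) :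
    ∀ (S : Finset ι) (W : Submodule K V), (∀ i ∈ S, ∀ w ∈ W, ρ (y i) w ∈ W ∧ ρ (M i) w ∈ W) →
      (∀ i ∈ S, ∃ w ∈ W, ρ (y i * y i) w ≠ w) → 2 * S.card ≤ finrank K W := by
  classical
  intro S
  induction S using Finset.strongInduction with
  | _ S ih =>
    intro W hW hne
    rcases S.eq_empty_or_nonempty with rfl | ⟨i, hi⟩
    · simp
    set T : Module.End K V := ((ρ (y i)).toLinearMap : Module.End K V)
    have hT : ∀ v, T v = ρ (y i) v := fun v => rfl
    have hTW : ∀ w ∈ W, T w ∈ W := fun w hw => (hW i hi w hw).1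
    have hcop : IsCoprime ((X - C μ) * (X - C μ⁻¹)) (X ^ 2 - 1 : K[X]) := by
      refine IsCoprime.mul_left ?_ ?_ <;> refine ((irreducible_X_sub_C _).coprime_iff_not_dvd).2 ?_ <;>
        rw [dvd_iff_isRoot] <;> simp
      · intro h; exact hμ2 (by linear_combination h)
      · intro h; field_simp at h; exact hμ2 (by linear_combination -h)
    have hμμ : μ ≠ μ⁻¹ := fun h => hμ2 (by nth_rewrite 2 [h]; exact mul_inv_cancel₀ hμ)
    have hcop2 : IsCoprime (X - C μ) (X - C μ⁻¹) :=
      isCoprime_X_sub_C_of_isUnit_sub (sub_ne_zero.2 hμμ).isUnit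
    obtain ⟨d1, s1⟩ := split hTW hcop fun w _ => hpoly i w
    set P := W ⊓ LinearMap.ker (aeval T ((X - C μ) * (X - C μ⁻¹)))
    set C' := W ⊓ LinearMap.ker (aeval T (X ^ 2 - 1 : K[X]))
    have hPT : ∀ w ∈ P, T w ∈ P := fun w hw => ⟨hTW w hw.1, by
      show aeval T _ (T w) = 0
      have e : aeval T ((X - C μ) * (X - C μ⁻¹)) (T w) = T (aeval T ((X - C μ) * (X - C μ⁻¹)) w) := by
        rw [← Module.End.mul_apply, ← Module.End.mul_apply]
        congr 1
        have := ((Commute.all ((X - C μ) * (X - C μ⁻¹)) (X : K[X])).map (aeval T)).eq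
        rwa [aeval_X] at this
      rw [e, LinearMap.mem_ker.1 hw.2, map_zero]⟩
    obtain ⟨d2, s2⟩ := split hPT hcop2 fun w hw => hw.2
    set U := P ⊓ LinearMap.ker (aeval T (X - C μ))
    set U' := P ⊓ LinearMap.ker (aeval T (X - C μ⁻¹))
    have hmemP : ∀ (c : K) (w : V), w ∈ W → (c = μ ∨ c = μ⁻¹) → T w = c • w → w ∈ P := by
      intro c w hw hc h
      refine ⟨hw, ?_⟩
      show aeval T _ w = 0
      have : aeval T (X - C c) w = 0 := by simp [h]
      rcases hc with rfl | rfl
      · rw [mul_comm, map_mul, Module.End.mul_apply, this, map_zero]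
      · rw [map_mul, Module.End.mul_apply, this, map_zero]
    have hUmem : ∀ w, w ∈ U ↔ w ∈ W ∧ T w = μ • w := fun w =>
      ⟨fun h => ⟨h.1.1, sub_eq_zero.1 (by simpa using h.2)⟩,
        fun h => ⟨hmemP μ w h.1 (.inl rfl) h.2, by simp [h.2]⟩⟩
    have hU'mem : ∀ w, w ∈ U' ↔ w ∈ W ∧ T w = μ⁻¹ • w := fun w =>
      ⟨fun h => ⟨h.1.1, sub_eq_zero.1 (by simpa using h.2)⟩,
        fun h => ⟨hmemP μ⁻¹ w h.1 (.inr rfl) h.2, by simp [h.2]⟩⟩
    have hCmem : ∀ w, w ∈ C' ↔ w ∈ W ∧ T (T w) = w := fun w =>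
      ⟨fun h => ⟨h.1, sub_eq_zero.1 (by simpa [pow_two] using h.2)⟩,
        fun h => ⟨h.1, by simp [pow_two, h.2]⟩⟩
    -- `M i` exchanges the two eigenspaces
    have hswap : ∀ (c : K) (w : V), c ≠ 0 → T w = c • w → T (ρ (M i) w) = c⁻¹ • ρ (M i) w := by
      intro c w hc h
      have e : ρ (y i)⁻¹ (ρ (M i) w) = c • ρ (M i) w := by
        rw [← hinv i, map_mul, LinearEquiv.mul_apply, ← LinearEquiv.mul_apply (ρ (M i)⁻¹), ← map_mul,
          inv_mul_cancel, map_one, map_mul, LinearEquiv.mul_apply]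
        show ρ (M i) (ρ (y i) w) = _
        rw [← hT, h, map_smul]
      have e2 := congrArg (ρ (y i)) e
      rw [← LinearEquiv.mul_apply, ← map_mul, mul_inv_cancel, map_one, map_smul, ← hT] at e2
      conv_rhs => rw [show ρ (M i) w = c • T (ρ (M i) w) from e2]
      rw [smul_smul, inv_mul_cancel₀ hc, one_smul]
    have hMW : ∀ w ∈ W, ρ (M i) w ∈ W := fun w hw => (hW i hi w hw).2
    have hle : ∀ (A B : Submodule K V), (∀ w ∈ A, ρ (M i) w ∈ B) → finrank K A ≤ finrank K B := by
      intro A B h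
      rw [← LinearMap.finrank_range_of_inj
        (f := (ρ (M i)).toLinearMap.comp A.subtype) ((ρ (M i)).injective.comp A.injective_subtype)]
      exact Submodule.finrank_mono (by rintro _ ⟨w, rfl⟩; exact h w w.2)
    have hUU' : ∀ w ∈ U, ρ (M i) w ∈ U' := fun w hw =>
      (hU'mem _).2 ⟨hMW w ((hUmem w).1 hw).1, hswap μ w hμ ((hUmem w).1 hw).2⟩
    have hU'U : ∀ w ∈ U', ρ (M i) w ∈ U := fun w hw =>
      (hUmem _).2 ⟨hMW w ((hU'mem w).1 hw).1, by
        simpa using hswap μ⁻¹ w (inv_ne_zero hμ) ((hU'mem w).1 hw).2⟩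
    have heq : finrank K U = finrank K U' := le_antisymm (hle U U' hUU') (hle U' U hU'U)
    have hpos : 0 < finrank K U := by
      by_contra h
      obtain ⟨w, hw, hne'⟩ := hne i hi
      obtain ⟨u, hu, v, hv, rfl⟩ := s1 w hw
      obtain ⟨u1, hu1, u2, hu2, rfl⟩ := s2 u hu
      have hU0 : U = ⊥ := Submodule.finrank_eq_zero.1 (by omega)
      have hU'0 : U' = ⊥ := Submodule.finrank_eq_zero.1 (by omega)
      rw [hU0, Submodule.mem_bot] at hu1
      rw [hU'0, Submodule.mem_bot] at hu2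
      subst hu1 hu2
      rw [zero_add, zero_add] at hne'
      exact hne' (by rw [map_mul, LinearEquiv.mul_apply, ← hT, ← hT]; exact ((hCmem v).1 hv).2)
    -- the remaining indices
    set S' := S.erase i
    let nt : Submodule K V → Finset ι := fun X' => S'.filter fun j => ∃ w ∈ X', ρ (y j * y j) w ≠ w
    have hcover : S' ⊆ nt U ∪ nt C' := by
      intro j hj
      obtain ⟨hji, hjS⟩ := Finset.mem_erase.1 hj
      by_contra hc
      simp only [Finset.mem_union, nt, Finset.mem_filter, hj, true_and, not_or, not_exists, not_and, not_not] at hc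
      obtain ⟨cU, cC⟩ := hc
      have cU' : ∀ w ∈ U', ρ (y j * y j) w = w := by
        intro w hw
        have h1 := cU _ (hU'U w hw)
        have hcm : Commute (y j * y j) (M i) := (hyM j i hji).mul_left (hyM j i hji)
        rw [← LinearEquiv.mul_apply, ← map_mul, hcm.eq, map_mul, LinearEquiv.mul_apply] at h1
        exact (ρ (M i)).injective h1
      obtain ⟨w, hw, hne'⟩ := hne j hjS
      obtain ⟨u, hu, v, hv, rfl⟩ := s1 w hw
      obtain ⟨u1, hu1, u2, hu2, rfl⟩ := s2 u hu
      exact hne' (by rw [map_add, map_add, cU u1 hu1, cU' u2 hu2, cC v hv])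
    have hinvar : ∀ j ∈ S', (∀ w ∈ U, ρ (y j) w ∈ U ∧ ρ (M j) w ∈ U) ∧
        ∀ w ∈ C', ρ (y j) w ∈ C' ∧ ρ (M j) w ∈ C' := by
      intro j hj
      obtain ⟨hji, hjS⟩ := Finset.mem_erase.1 hj
      have hc : ∀ g : G, Commute (y i) g → ∀ w, T (ρ g w) = ρ g (T w) := fun g hg w => by
        rw [hT, hT, ← LinearEquiv.mul_apply, ← map_mul, hg.eq, map_mul, LinearEquiv.mul_apply]
      have h1 := hc _ (hyy i j (Ne.symm hji))
      have h2 := hc _ (hyM i j (Ne.symm hji))
      constructor
      · intro w hw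
        obtain ⟨hwW, hTw⟩ := (hUmem w).1 hw
        exact ⟨(hUmem _).2 ⟨(hW j hjS w hwW).1, by rw [h1, hTw, map_smul]⟩,
          (hUmem _).2 ⟨(hW j hjS w hwW).2, by rw [h2, hTw, map_smul]⟩⟩
      · intro w hw
        obtain ⟨hwW, hTw⟩ := (hCmem w).1 hw
        exact ⟨(hCmem _).2 ⟨(hW j hjS w hwW).1, by rw [h1, h1, hTw]⟩,
          (hCmem _).2 ⟨(hW j hjS w hwW).2, by rw [h2, h2, hTw]⟩⟩
    have hlt : ∀ X', nt X' ⊂ S := fun X' => lt_of_le_of_lt (Finset.filter_subset _ _) (Finset.erase_ssubset hi)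
    have bU := ih _ (hlt U) U (fun j hj => (hinvar j (Finset.mem_filter.1 hj).1).1)
      fun j hj => (Finset.mem_filter.1 hj).2
    have bC := ih _ (hlt C') C' (fun j hj => (hinvar j (Finset.mem_filter.1 hj).1).2)
      fun j hj => (Finset.mem_filter.1 hj).2
    have hc1 := (Finset.card_le_card hcover).trans (Finset.card_union_le _ _)
    have hc2 : S'.card + 1 = S.card := Finset.card_erase_add_one hi
    omega

/-! ### The subgroup SL₂ⁿ -/

variable {F : Type*} [Field F] {n : ℕ}

theorem blocks_mem (a : Fin n → Matrix.SpecialLinearGroup (Fin 2) F) :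
    fromBlocks (diagonal fun i => (a i : Matrix (Fin 2) (Fin 2) F) 0 0) (diagonal fun i => (a i : Matrix (Fin 2) (Fin 2) F) 0 1)
      (diagonal fun i => (a i : Matrix (Fin 2) (Fin 2) F) 1 0) (diagonal fun i => (a i : Matrix (Fin 2) (Fin 2) F) 1 1)
      ∈ Matrix.symplecticGroup (Fin n) F := by
  have hd : ∀ i, (a i : Matrix (Fin 2) (Fin 2) F) 0 0 * (a i : Matrix (Fin 2) (Fin 2) F) 1 1 -
      (a i : Matrix (Fin 2) (Fin 2) F) 0 1 * (a i : Matrix (Fin 2) (Fin 2) F) 1 0 = 1 := fun i => by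
    rw [← Matrix.det_fin_two]; exact (a i).2
  rw [SymplecticGroup.mem_iff, Matrix.J, fromBlocks_transpose, fromBlocks_multiply, fromBlocks_multiply]
  simp only [diagonal_transpose, mul_zero, mul_one, mul_neg, zero_add, add_zero, neg_mul, diagonal_mul_diagonal,
    diagonal_neg, diagonal_add, ← diagonal_one, ← diagonal_zero]
  congr 1 <;> congr 1 <;> funext i
  · ring
  · linear_combination -hd i
  · linear_combination hd i
  · ring

/-- Pointwise embedding of SL₂ⁿ. -/
def spEmb : (Fin n → Matrix.SpecialLinearGroup (Fin 2) F) →* Matrix.symplecticGroup (Fin n) F where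
  toFun a := ⟨_, blocks_mem a⟩
  map_one' := Subtype.ext (by simp)
  map_mul' a b := Subtype.ext (by
    simp [fromBlocks_multiply, Matrix.mul_apply, Fin.sum_univ_two])

theorem spEmb_injective : Function.Injective (spEmb (F := F) (n := n)) := by
  intro a b h
  have h' := congrArg Subtype.val h
  simp only [spEmb, MonoidHom.coe_mk, OneHom.coe_mk, fromBlocks_inj, diagonal_injective.eq_iff] at h'
  funext i
  ext r s
  fin_cases r <;> fin_cases s
  · exact congrFun h'.1 i
  · exact congrFun h'.2.1 i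
  · exact congrFun h'.2.2.1 i
  · exact congrFun h'.2.2.2 i

theorem exists_pair [Fintype F] : ∃ (y M : Matrix.SpecialLinearGroup (Fin 2) F),
    M * y * M⁻¹ = y⁻¹ ∧ y * y ≠ 1 ∧ ∀ {K : Type _} [Field K] [IsAlgClosed K], (F →+* K) →
      ∃ μ : K, μ ≠ 0 ∧ μ * μ ≠ 1 ∧ ∀ {W : Type _} [AddCommGroup W] [Module K W]
        (ρ : Matrix.SpecialLinearGroup (Fin 2) F →* (W ≃ₗ[K] W)) (v : W),
        aeval ((ρ y).toLinearMap : Module.End K W) ((X - C μ) * (X - C μ⁻¹) * (X ^ 2 - 1)) v = 0 := by
  have key : ∀ {K : Type _} [Field K] {W : Type _} [AddCommGroup W] [Module K W] {g : W ≃ₗ[K] W} {f : K[X]} (v : W),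
      aeval (g.toLinearMap : Module.End K W) f = 0 → aeval (g.toLinearMap : Module.End K W) f v = 0 :=
    fun v h => by rw [h]; rfl
  by_cases h2 : (2 : F) = 0
  · obtain ⟨y, hy⟩ : ∃ y : Matrix.SpecialLinearGroup (Fin 2) F, (y : Matrix (Fin 2) (Fin 2) F) = !![0, -1; 1, 1] :=
      ⟨⟨_, by simp [Matrix.det_fin_two]⟩, rfl⟩
    obtain ⟨M, hM⟩ : ∃ M : Matrix.SpecialLinearGroup (Fin 2) F, (M : Matrix (Fin 2) (Fin 2) F) = !![0, 1; 1, 0] :=
      ⟨⟨_, by simp [Matrix.det_fin_two]; linear_combination -h2⟩, rfl⟩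
    refine ⟨y, M, ?_, ?_, ?_⟩
    · rw [mul_inv_eq_iff_eq_mul]
      refine Subtype.ext ?_
      change (M : Matrix (Fin 2) (Fin 2) F) * (y : Matrix (Fin 2) (Fin 2) F) =
        Matrix.adjugate (y : Matrix (Fin 2) (Fin 2) F) * (M : Matrix (Fin 2) (Fin 2) F)
      rw [Matrix.adjugate_fin_two]
      ext r s
      fin_cases r <;> fin_cases s <;> simp [hy, hM, Matrix.mul_apply, Fin.sum_univ_two]
    · intro h
      have := congrArg (fun z : Matrix.SpecialLinearGroup (Fin 2) F => (z : Matrix (Fin 2) (Fin 2) F) 1 0) h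
      simp [hy, Matrix.mul_apply, Fin.sum_univ_two] at this
    · intro K _ _ ι
      have hK2 : (2 : K) = 0 := by rw [← map_ofNat ι 2, h2, map_zero]
      obtain ⟨μ, hμ⟩ := IsAlgClosed.exists_root (X ^ 2 + X + 1 : K[X]) (by
        rw [show (X ^ 2 + X + 1 : K[X]).degree = 2 by compute_degree!]; decide)
      simp at hμ
      have hμ0 : μ ≠ 0 := by rintro rfl; simp at hμ
      refine ⟨μ, hμ0, fun h => hμ0 (by linear_combination hμ - h - hK2), fun {W} _ _ ρ v => ?_⟩
      have hinv : μ⁻¹ = -1 - μ := inv_eq_of_mul_eq_one_right (by linear_combination -hμ)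
      refine key v ?_
      set T : Module.End K W := ((ρ y).toLinearMap : Module.End K W) with hT
      have h3 : T ^ 3 = 1 := by
        ext w
        rw [hT]
        simp only [pow_succ, pow_zero, one_mul, Module.End.mul_apply, Module.End.one_apply, LinearEquiv.coe_coe]
        rw [← LinearEquiv.mul_apply, ← LinearEquiv.mul_apply, ← map_mul, ← map_mul]
        rw [show ∀ g : Matrix.SpecialLinearGroup (Fin 2) F, g = 1 → ρ g w = w from fun g hg => by rw [hg, map_one]; rfl]
        refine Subtype.ext ?_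
        change (y : Matrix (Fin 2) (Fin 2) F) * y * y = 1
        ext r s
        fin_cases r <;> fin_cases s <;> simp [hy, hM, Matrix.mul_apply, Fin.sum_univ_two] <;>
          linear_combination -h2
      have e : (X - C μ) * (X - C μ⁻¹) * (X ^ 2 - 1) = (X + 1) * (X ^ 3 - 1 : K[X]) := by
        have hC : C μ * C μ + C μ + 1 = 0 := by rw [← map_mul, ← map_add, ← C_1, ← map_add]; simpa [pow_two] using congrArg C hμ
        rw [hinv, map_sub, map_neg, C_1]
        linear_combination -(X ^ 2 - 1 : K[X]) * hC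
      rw [e, map_mul, map_sub, map_pow, aeval_X, map_one, h3, sub_self, mul_zero]
  · haveI : NeZero (2 : F) := ⟨h2⟩
    obtain ⟨u, w, huw⟩ : ∃ u w : F, u ^ 2 + w ^ 2 = -1 := by
      obtain ⟨u, w, h⟩ := FiniteField.exists_root_sum_quadratic (f := (X ^ 2 : F[X])) (g := (X ^ 2 + C 1 : F[X]))
        (by simp) (by rw [degree_X_pow_add_C two_pos]; rfl) (FiniteField.odd_card_of_char_ne_two fun h => h2 (by
          have := ringChar.spec F 2
          rw [h] at this
          exact_mod_cast this.2 dvd_rfl))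
      exact ⟨u, w, by simp at h; linear_combination h⟩
    obtain ⟨y, hy⟩ : ∃ y : Matrix.SpecialLinearGroup (Fin 2) F, (y : Matrix (Fin 2) (Fin 2) F) = !![0, -1; 1, 0] :=
      ⟨⟨_, by simp [Matrix.det_fin_two]⟩, rfl⟩
    obtain ⟨M, hM⟩ : ∃ M : Matrix.SpecialLinearGroup (Fin 2) F, (M : Matrix (Fin 2) (Fin 2) F) = !![u, w; w, -u] :=
      ⟨⟨_, by simp [Matrix.det_fin_two]; linear_combination -huw⟩, rfl⟩
    refine ⟨y, M, ?_, ?_, ?_⟩
    · rw [mul_inv_eq_iff_eq_mul]
      refine Subtype.ext ?_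
      change (M : Matrix (Fin 2) (Fin 2) F) * (y : Matrix (Fin 2) (Fin 2) F) =
        Matrix.adjugate (y : Matrix (Fin 2) (Fin 2) F) * (M : Matrix (Fin 2) (Fin 2) F)
      rw [Matrix.adjugate_fin_two]
      ext r s
      fin_cases r <;> fin_cases s <;> simp [hy, hM, Matrix.mul_apply, Fin.sum_univ_two]
    · intro h
      have := congrArg (fun z : Matrix.SpecialLinearGroup (Fin 2) F => (z : Matrix (Fin 2) (Fin 2) F) 0 0) h
      simp [hy, Matrix.mul_apply, Fin.sum_univ_two] at this
      exact h2 (by linear_combination -this)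
    · intro K _ _ ι
      have hK2 : (2 : K) ≠ 0 := by rw [← map_ofNat ι 2]; exact fun h => h2 (ι.injective (by rw [h, map_zero]))
      obtain ⟨μ, hμ⟩ := IsAlgClosed.exists_pow_nat_eq (-1 : K) two_pos
      have hμ0 : μ ≠ 0 := by rintro rfl; simp at hμ
      refine ⟨μ, hμ0, fun h => hK2 (by linear_combination hμ - h), fun {W} _ _ ρ v => ?_⟩
      have hinv : μ⁻¹ = -μ := inv_eq_of_mul_eq_one_right (by linear_combination -hμ)
      refine key v ?_
      set T : Module.End K W := ((ρ y).toLinearMap : Module.End K W) with hT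
      have h4 : T ^ 4 = 1 := by
        ext w'
        rw [hT]
        simp only [pow_succ, pow_zero, one_mul, Module.End.mul_apply, Module.End.one_apply, LinearEquiv.coe_coe]
        rw [← LinearEquiv.mul_apply, ← LinearEquiv.mul_apply, ← LinearEquiv.mul_apply, ← map_mul, ← map_mul, ← map_mul]
        rw [show ∀ g : Matrix.SpecialLinearGroup (Fin 2) F, g = 1 → ρ g w' = w' from fun g hg => by rw [hg, map_one]; rfl]
        refine Subtype.ext ?_
        change (y : Matrix (Fin 2) (Fin 2) F) * y * y * y = 1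
        ext r s
        fin_cases r <;> fin_cases s <;> simp [hy, hM, Matrix.mul_apply, Fin.sum_univ_two]
      have e : (X - C μ) * (X - C μ⁻¹) * (X ^ 2 - 1) = (X ^ 4 - 1 : K[X]) := by
        have hC : C μ * C μ + 1 = 0 := by
          rw [← map_mul, ← C_1, ← map_add, show μ * μ + 1 = 0 by linear_combination hμ, map_zero]
        rw [hinv, map_neg]
        linear_combination -(X ^ 2 - 1 : K[X]) * hC
      rw [e, map_sub, map_pow, aeval_X, map_one, h4, sub_self]

theorem degree [Fintype F] {d : ℕ}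
    (ρ : ↥(Matrix.symplecticGroup (Fin n) F) →* GL (Fin d) F) (hρ : Function.Injective ρ) : 2 * n ≤ d := by
  classical
  obtain ⟨y, M, hinv, hy2, hy⟩ := exists_pair (F := F)
  let K := AlgebraicClosure F
  let iK : F →+* K := algebraMap F K
  obtain ⟨μ, hμ, hμ2, hp⟩ := hy iK
  let τ : Matrix.symplecticGroup (Fin n) F →* ((Fin d → K) ≃ₗ[K] (Fin d → K)) :=
    ((LinearMap.GeneralLinearGroup.generalLinearEquiv K (Fin d → K)).toMonoidHom.comp
      (GeneralLinearGroup.toLin (n := Fin d) (R := K)).toMonoidHom).comp ((GeneralLinearGroup.map iK).comp ρ)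
  have hτ : Function.Injective τ := fun a b h => hρ (Units.ext (Matrix.map_injective iK.injective
    (congrArg Units.val ((GeneralLinearGroup.toLin (n := Fin d) (R := K)).injective
      ((LinearMap.GeneralLinearGroup.generalLinearEquiv K (Fin d → K)).injective h)))))
  let σ := τ.comp spEmb
  let yi : Fin n → (Fin n → Matrix.SpecialLinearGroup (Fin 2) F) := fun i => Pi.mulSingle i y
  let Mi : Fin n → (Fin n → Matrix.SpecialLinearGroup (Fin 2) F) := fun i => Pi.mulSingle i M
  have hb := degree_bound σ yi Mi μ hμ hμ2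
    (fun i => by simp only [yi, Mi, ← Pi.mulSingle_mul, ← Pi.mulSingle_inv, hinv])
    (fun i v => hp (σ.comp (MonoidHom.mulSingle (fun _ : Fin n => Matrix.SpecialLinearGroup (Fin 2) F) i)) v)
    (fun i j hij => Pi.mulSingle_commute (f := fun _ : Fin n => Matrix.SpecialLinearGroup (Fin 2) F) hij y y)
    (fun i j hij => Pi.mulSingle_commute (f := fun _ : Fin n => Matrix.SpecialLinearGroup (Fin 2) F) hij y M)
    Finset.univ ⊤ (fun _ _ _ _ => ⟨trivial, trivial⟩) fun i _ => by
      by_contra h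
      push_neg at h
      refine hy2 ?_
      have h1 : σ (yi i * yi i) = 1 := LinearEquiv.ext fun w => h w trivial
      have h2 := spEmb_injective (hτ (h1.trans (map_one σ).symm))
      simpa [yi] using congrFun h2 i
  simpa using hb

end CfsgLib.Misc.SpMinDegree
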