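import Cfsg.Agent.Misc.SpinorTrans
import Cfsg.Agent.Lie.OrthForms

/-!
Conjugacy of involutions of the derived orthogonal group in characteristic two.
-/

set_option autoImplicit false
set_option linter.unusedSectionVars false
set_option linter.unusedSimpArgs false

namespace CfsgLib.Misc.SpinorTools

open Matrix QuadraticMap
open CfsgLib.Lie
open CfsgLib.Lie.Refl (act act_mul act_one act_inv act_inj act_Q act_polar act_ext)
open CfsgLib.Lie.OrthChar (R R_val R_act R_self R_mul_self R_inv R_smul R_conj R_det chi)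
open CfsgLib.Lie.OrthFamilies (MTS)

variable {F : Type*} [Field F] [Fintype F] [CharP F 2] {ι : Type} [Fintype ι] [DecidableEq ι]
  {Q : QuadraticForm F (ι → F)}

/-- the image of `t - 1` -/
noncomputable def im1 (t : Cfsg.isometryGroup F ⇑Q) : Submodule F (ι → F) :=
  LinearMap.range (Matrix.toLin' (((t : GL ι F) : Matrix ι ι F) - 1))

theorem mem_im1 {t : Cfsg.isometryGroup F ⇑Q} {y : ι → F} :
    y ∈ im1 t ↔ ∃ v, v + act Q t v = y := by
  rw [im1, LinearMap.mem_range]
  refine exists_congr fun v => ?_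
  rw [Matrix.toLin'_apply, Matrix.sub_mulVec, Matrix.one_mulVec,
    show act Q t v = ((t : GL ι F) : Matrix ι ι F) *ᵥ v from rfl]
  constructor <;> rintro rfl
  · funext i; simp only [Pi.add_apply, Pi.sub_apply]; rw [CharTwo.sub_eq_add, add_comm]
  · funext i; simp only [Pi.add_apply, Pi.sub_apply]; rw [CharTwo.sub_eq_add, add_comm]

theorem img_im1 (g t : Cfsg.isometryGroup F ⇑Q) : img g (im1 t) = im1 (g * t * g⁻¹) := by
  ext y
  rw [mem_img, mem_im1]
  constructor
  · rintro ⟨x, hx, rfl⟩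
    obtain ⟨v, rfl⟩ := mem_im1.1 hx
    refine ⟨act Q g v, ?_⟩
    rw [act_mul, act_mul, act_inv]
    simp only [act, Matrix.mulVec_add]
  · rintro ⟨w, rfl⟩
    refine ⟨_, mem_im1.2 ⟨act Q g⁻¹ w, rfl⟩, ?_⟩
    rw [act_mul, act_mul, act, Matrix.mulVec_add, ← act, ← act, ← act_mul g g⁻¹ w, mul_inv_cancel, act_one]

theorem finrank_im1 (t : Cfsg.isometryGroup F ⇑Q) :
    Module.finrank F (im1 t) = (((t : GL ι F) : Matrix ι ι F) - 1).rank := by
  rw [im1, Matrix.rank]; rfl

theorem im1_le_fix {t : Cfsg.isometryGroup F ⇑Q} (ht : t * t = 1) : im1 t ≤ OrthDickson.fix t := by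
  intro y hy
  obtain ⟨v, rfl⟩ := mem_im1.1 hy
  rw [OrthDickson.mem_fix, act, Matrix.mulVec_add, ← act, ← act, ← act_mul, ht, act_one, add_comm]

theorem singular_le (hQ : (polarBilin Q).Nondegenerate) {W : Submodule F (ι → F)} (hW : ∀ w ∈ W, Q w = 0) :
    2 * Module.finrank F W ≤ Fintype.card ι := by
  have hle : W ≤ LinearMap.BilinForm.orthogonal (polarBilin Q) W := fun x hx => by
    rw [LinearMap.BilinForm.mem_orthogonal_iff]
    intro y hy
    show polarBilin Q y x = 0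
    rw [polarBilin_apply_apply, polar, hW _ (add_mem hy hx), hW y hy, hW x hx]; ring
  have d1 := LinearMap.BilinForm.finrank_orthogonal hQ W
  have d3 := Submodule.finrank_mono hle
  rw [Module.finrank_fintype_fun_eq_card] at d1
  have := Submodule.finrank_le W
  rw [Module.finrank_fintype_fun_eq_card] at this
  omega

theorem omega_conj_of_fix [Nonempty ι] (hQ : (polarBilin Q).Nondegenerate)
    (h : Fintype.card F ≠ 2 ∨ Fintype.card ι ≠ 4) {t s g : Cfsg.isometryGroup F ⇑Q} (hg : g * t * g⁻¹ = s)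
    (hz : ∃ z ∈ OrthDickson.fix t, Q z ≠ 0) :
    ∃ g' ∈ Cfsg.Omega F ⇑Q, g' * t * g'⁻¹ = s := by
  by_cases hΩ : g ∈ Cfsg.Omega F ⇑Q
  · exact ⟨g, hΩ, hg⟩
  obtain ⟨z, hzt, hz0⟩ := hz
  have hR : R Q z ∉ Cfsg.Omega F ⇑Q := by
    have := mem_prod_iff_two hQ h (l := [z]) (by simpa using hz0)
    simp at this
    exact this
  have hcomm : R Q z * t = t * R Q z := by
    have e := R_conj t hz0
    rw [OrthDickson.mem_fix.1 hzt] at e
    conv_lhs => rw [← e]
    group
  refine ⟨g * R Q z, ?_, ?_⟩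
  · exact (Subgroup.mul_mem_iff_of_index_two (OrthDickson.omega_index hQ h)).2
      ⟨fun a => absurd a hΩ, fun b => absurd b hR⟩
  · rw [_root_.mul_inv_rev, mul_assoc g, hcomm, ← hg]; group

theorem minus_bound (k : ℕ) {a b : F} (hab : ∀ z₁ z₂ : F, z₁ ^ 2 + a * z₁ * z₂ + b * z₂ ^ 2 = 0 → z₁ = 0 ∧ z₂ = 0)
    {W : Submodule F ((Fin k ⊕ Fin k) ⊕ Fin 2 → F)} (hW : ∀ w ∈ W, OrthForms.minusQ k a b w = 0) :
    Module.finrank F W ≤ k := by
  let π : W →ₗ[F] (Fin k → F) := (LinearMap.funLeft F F (Sum.inl ∘ Sum.inr)).comp W.subtype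
  let σ : W →ₗ[F] (Fin k → F) := (LinearMap.funLeft F F (Sum.inl ∘ Sum.inl)).comp W.subtype
  have h1 := LinearMap.finrank_range_add_finrank_ker π
  let B : LinearMap.BilinForm F (Fin k → F) := Matrix.toBilin' (1 : Matrix (Fin k) (Fin k) F)
  have hBa : ∀ x y, B x y = x ⬝ᵥ y := fun x y => by simp [B, Matrix.toBilin'_apply']
  have hB : B.Nondegenerate := LinearMap.BilinForm.nondegenerate_toBilin'_iff_det_ne_zero.2 (by simp)
  have hzero : ∀ x : W, π x = 0 → (x : (Fin k ⊕ Fin k) ⊕ Fin 2 → F) (Sum.inr 0) = 0 ∧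
      (x : (Fin k ⊕ Fin k) ⊕ Fin 2 → F) (Sum.inr 1) = 0 := fun x hx => by
    have := hW x.1 x.2
    rw [OrthForms.minusQ_apply, Cfsg.quadFormMinus,
      Finset.sum_eq_zero (fun i _ => by
        rw [show (x : (Fin k ⊕ Fin k) ⊕ Fin 2 → F) (Sum.inl (Sum.inr i)) = 0 from congrFun hx i, mul_zero]),
      zero_add] at this
    exact hab _ _ this
  have hinj : Function.Injective (σ.comp (LinearMap.ker π).subtype) := by
    rw [injective_iff_map_eq_zero]
    intro x hx
    refine Subtype.ext (Subtype.ext (funext fun j => ?_))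
    rcases j with (j | j) | j
    · exact congrFun hx j
    · exact congrFun (LinearMap.mem_ker.1 x.2) j
    · fin_cases j
      exacts [(hzero x.1 x.2).1, (hzero x.1 x.2).2]
  have h2 : (LinearMap.ker π).map σ ≤ LinearMap.BilinForm.orthogonal B (LinearMap.range π) := by
    rintro _ ⟨x, hx, rfl⟩
    rw [LinearMap.BilinForm.mem_orthogonal_iff]
    rintro _ ⟨y, rfl⟩
    show B (π y) (σ x) = 0
    rw [hBa]
    have e1 := hW _ (add_mem y.2 x.2)
    have e2 := hW _ y.2
    have e3 := hW _ x.2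
    rw [OrthForms.minusQ_apply, Cfsg.quadFormMinus] at e1 e2 e3
    have hx1 : ∀ i, (x : (Fin k ⊕ Fin k) ⊕ Fin 2 → F) (Sum.inl (Sum.inr i)) = 0 := fun i => congrFun hx i
    simp only [Pi.add_apply, hx1, (hzero x hx).1, (hzero x hx).2, add_zero, add_mul, Finset.sum_add_distrib] at e1
    simp only [dotProduct, π, σ, LinearMap.comp_apply, LinearMap.funLeft_apply, Submodule.subtype_apply, Function.comp]
    rw [Finset.sum_congr rfl fun i _ => mul_comm _ _]
    linear_combination e1 - e2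
  have h3 := Submodule.finrank_mono h2
  have h4 : Module.finrank F (LinearMap.range (σ.comp (LinearMap.ker π).subtype)) =
      Module.finrank F (LinearMap.ker π) := LinearMap.finrank_range_of_inj hinj
  rw [LinearMap.range_comp, Submodule.range_subtype] at h4
  have h5 := LinearMap.BilinForm.finrank_orthogonal hB (LinearMap.range π)
  rw [Module.finrank_fin_fun] at h5
  have h6 := Submodule.finrank_le (LinearMap.range π)
  rw [Module.finrank_fin_fun] at h6
  omega

theorem fix_half (t : Cfsg.isometryGroup F ⇑Q) (ht : t * t = 1) :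
    Fintype.card ι ≤ 2 * Module.finrank F (OrthDickson.fix t) := by
  have h1 := rank_add_fix t
  have h2 := Submodule.finrank_mono (im1_le_fix ht)
  rw [finrank_im1] at h2
  omega

theorem plus_conj_iff [Nonempty ι] {m : ℕ} (hn : Fintype.card ι = 2 * m) (hQ : (polarBilin Q).Nondegenerate)
    (h : Fintype.card F ≠ 2 ∨ Fintype.card ι ≠ 4) {t s : Cfsg.isometryGroup F ⇑Q}
    (ht : t * t = 1) (htO : t ∈ Cfsg.Omega F ⇑Q) (hconj : IsConj t s) :
    (¬ ((((t : GL ι F) : Matrix ι ι F) - 1).rank = m ∧ ∀ v : ι → F, Q (v + act Q t v) = 0) →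
      ∃ g ∈ Cfsg.Omega F ⇑Q, g * t * g⁻¹ = s) ∧
    (((((t : GL ι F) : Matrix ι ι F) - 1).rank = m ∧ ∀ v : ι → F, Q (v + act Q t v) = 0) →
      ((∃ g ∈ Cfsg.Omega F ⇑Q, g * t * g⁻¹ = s) ↔ Even (Module.finrank F (im1 t ⊓ im1 s : Submodule F (ι → F))))) := by
  obtain ⟨g, hg⟩ := isConj_iff.1 hconj
  refine ⟨fun hne => omega_conj_of_fix hQ h hg ?_, fun hA => ?_⟩
  · by_contra hc
    push Not at hc
    apply hne
    have h1 := singular_le hQ (W := OrthDickson.fix t) hc
    have h2 := fix_half t ht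
    have h3 := rank_add_fix t
    refine ⟨by omega, fun v => ?_⟩
    exact hc _ (im1_le_fix ht (mem_im1.2 ⟨v, rfl⟩))
  · have hU : MTS Q m (im1 t) := ⟨by rw [finrank_im1, hA.1], fun w hw => by
      obtain ⟨v, rfl⟩ := mem_im1.1 hw; exact hA.2 v⟩
    have hm : Even m := hA.1 ▸ (mem_omega_iff_rank hQ h t).1 htO
    have key : ∀ g, g * t * g⁻¹ = s →
        (g ∈ Cfsg.Omega F ⇑Q ↔ Even (Module.finrank F (im1 t ⊓ im1 s : Submodule F (ι → F)))) := by
      intro g hg
      rw [← omega_iff_parity hQ h (by rw [Module.finrank_fintype_fun_eq_card, hn]) hU, img_im1, hg]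
      have := Submodule.finrank_mono (inf_le_left : im1 t ⊓ im1 s ≤ im1 t)
      rw [hU.1] at this
      rw [Nat.even_sub this]
      exact ⟨fun e => e.1 hm, fun e => iff_of_true hm e⟩
    exact ⟨fun ⟨g', hg', e⟩ => (key g' e).1 hg', fun he => ⟨g, (key g hg).2 he, hg⟩⟩

theorem minus_conj (k : ℕ) {a b : F} (hab : ∀ z₁ z₂ : F, z₁ ^ 2 + a * z₁ * z₂ + b * z₂ ^ 2 = 0 → z₁ = 0 ∧ z₂ = 0)
    (hk : 3 ≤ k) {t s : Cfsg.isometryGroup F ⇑(OrthForms.minusQ k a b)} (ht : t * t = 1) (hconj : IsConj t s) :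
    ∃ g ∈ Cfsg.Omega F ⇑(OrthForms.minusQ k a b), g * t * g⁻¹ = s := by
  obtain ⟨g, hg⟩ := isConj_iff.1 hconj
  refine omega_conj_of_fix (OrthForms.minus_nondeg hab k) (Or.inr (by simp; omega)) hg ?_
  by_contra hc
  push Not at hc
  have h1 := minus_bound k hab hc
  have h2 := fix_half t ht
  simp at h2
  omega

end CfsgLib.Misc.SpinorTools
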