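import Cfsg.Agent.Misc.SpinorSum
import Cfsg.Agent.Lie.OrthStd
import Cfsg.Agent.Lie.SLn

/-!
The Levi subgroup GL_m of the plus type group, diagonal elements, the swap of two maximal singular
subspaces.
-/

set_option autoImplicit false
set_option linter.unusedSectionVars false
set_option linter.unusedSimpArgs false

namespace CfsgLib.Misc.SpinorTools

open Matrix QuadraticMap
open CfsgLib.Lie
open CfsgLib.Lie.Refl (act act_mul act_one act_inv act_inj act_Q act_polar act_ext)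
open CfsgLib.Lie.OrthChar (R R_val R_act R_self R_mul_self R_inv R_smul R_conj R_det chi map_smul' map_add' polar_self')
open CfsgLib.Lie.OrthOrder (plusQ plusQ_apply polar_plus)

variable {F : Type*} [Field F] [Fintype F] {m : ℕ}

/-- inverse transpose -/
def itr : GL (Fin m) F →* GL (Fin m) F where
  toFun A := ⟨((A⁻¹ : GL (Fin m) F) : Matrix (Fin m) (Fin m) F).transpose,
    (A : Matrix (Fin m) (Fin m) F).transpose,
    by rw [← Matrix.transpose_mul, Units.mul_inv, Matrix.transpose_one],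
    by rw [← Matrix.transpose_mul, Units.inv_mul, Matrix.transpose_one]⟩
  map_one' := Units.ext (by simp)
  map_mul' A B := Units.ext (by simp [Matrix.transpose_mul])

theorem quad_dot (v : Fin m ⊕ Fin m → F) : plusQ m F v = (v ∘ Sum.inl) ⬝ᵥ (v ∘ Sum.inr) := by
  rw [plusQ_apply]; rfl

/-- the Levi embedding -/
def levi : GL (Fin m) F →* Cfsg.isometryGroup F ⇑(plusQ m F) :=
  MonoidHom.codRestrict (blockGL.comp ((MonoidHom.id _).prod itr)) _ fun A x _ => by
    show plusQ m F (fromBlocks (A : Matrix (Fin m) (Fin m) F) 0 0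
      ((A⁻¹ : GL (Fin m) F) : Matrix (Fin m) (Fin m) F).transpose *ᵥ x) = plusQ m F x
    rw [quad_dot, quad_dot, fromBlocks_mulVec]
    simp only [Sum.elim_comp_inl, Sum.elim_comp_inr, zero_mulVec, add_zero, zero_add]
    rw [dotProduct_mulVec, vecMul_transpose, mulVec_mulVec, Units.inv_mul, one_mulVec]

theorem levi_coe (A : GL (Fin m) F) :
    ((levi A : GL (Fin m ⊕ Fin m) F) : Matrix (Fin m ⊕ Fin m) (Fin m ⊕ Fin m) F) =
      fromBlocks (A : Matrix (Fin m) (Fin m) F) 0 0 ((A : Matrix (Fin m) (Fin m) F)⁻¹).transpose := by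
  rw [← Matrix.coe_units_inv]; rfl

/-- `e_i - c f_i` -/
def hv (i : Fin m) (c : F) : Fin m ⊕ Fin m → F := Pi.single (Sum.inl i) 1 - Pi.single (Sum.inr i) c

theorem hv_Q (i : Fin m) (c : F) : plusQ m F (hv i c) = -c := by
  rw [plusQ_apply, Cfsg.quadFormPlus, Finset.sum_eq_single i]
  · simp [hv]
  · intro j _ hj; simp [hv, hj]
  · simp

theorem R_hv (i : Fin m) {c : F} (hc : c ≠ 0) (x : Fin m ⊕ Fin m → F) :
    act (plusQ m F) (R (plusQ m F) (hv i c)) x =
      Sum.elim (fun j => if j = i then x (Sum.inr i) / c else x (Sum.inl j))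
        (fun j => if j = i then c * x (Sum.inl i) else x (Sum.inr j)) := by
  have hne : plusQ m F (hv i c) ≠ 0 := by rw [hv_Q]; exact neg_ne_zero.2 hc
  rw [R_act hne, hv_Q, polar_plus, Finset.sum_eq_single i]
  · funext k
    rcases k with j | j <;> rcases eq_or_ne j i with rfl | hj
    · simp [hv]; field_simp; ring
    · simp [hv, hj]
    · simp [hv]; field_simp; ring
    · simp [hv, hj]
  · intro j _ hj; simp [hv, hj]
  · simp

/-- diagonal unit -/
def diagU (d : Fin m → Fˣ) : GL (Fin m) F :=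
  ⟨diagonal fun j => (d j : F), diagonal fun j => ((d j)⁻¹ : Fˣ),
    by simp [diagonal_mul_diagonal, ← Units.val_mul], by simp [diagonal_mul_diagonal, ← Units.val_mul]⟩

theorem diagU_det (d : Fin m → Fˣ) : (diagU d : Matrix (Fin m) (Fin m) F).det = ∏ j, (d j : F) :=
  det_diagonal

theorem levi_single (i : Fin m) (a : Fˣ) :
    levi (diagU (Function.update (fun _ => 1) i a)) =
      ([hv i ((a⁻¹ : Fˣ) : F), hv i 1].map (R (plusQ m F))).prod := by
  refine act_ext fun x => ?_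
  simp only [List.map_cons, List.map_nil, List.prod_cons, List.prod_nil, mul_one]
  rw [act_mul, R_hv i one_ne_zero, R_hv i (Units.ne_zero _)]
  show fromBlocks (diagonal _) 0 0 (diagonal _)ᵀ *ᵥ x = _
  rw [fromBlocks_mulVec]
  funext k
  rcases k with j | j <;> rcases eq_or_ne j i with rfl | hj
  · simp [mulVec_diagonal, mul_comm]
  · simp [mulVec_diagonal, hj]
  · simp [mulVec_diagonal]
  · simp [mulVec_diagonal, hj]

theorem plus_hyp (hm : 1 ≤ m) (h : Fintype.card F ≠ 2 ∨ m ≠ 2) :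
    Fintype.card F ≠ 2 ∨ Fintype.card (Fin m ⊕ Fin m) ≠ 4 := h.imp id fun e => by simp; omega

theorem levi_mem_iff (hm : 1 ≤ m) (h : Fintype.card F ≠ 2 ∨ m ≠ 2) (A : GL (Fin m) F) :
    levi A ∈ Cfsg.Omega F ⇑(plusQ m F) ↔ IsSquare (A : Matrix (Fin m) (Fin m) F).det := by
  obtain ⟨a, ha⟩ : ∃ a : Fˣ, (a : F) = (A : Matrix (Fin m) (Fin m) F).det :=
    ⟨Matrix.GeneralLinearGroup.det A, rfl⟩
  let i : Fin m := ⟨0, hm⟩
  let D := diagU (Function.update (fun _ => (1 : Fˣ)) i a)
  have hD : (D : Matrix (Fin m) (Fin m) F).det = a := by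
    rw [diagU_det]
    rw [Finset.prod_eq_single i (fun j _ hj => by simp [hj]) (by simp)]
    simp
  have hk : A * D⁻¹ ∈ commutator (GL (Fin m) F) := by
    rw [SLn.commutator_GL fun h2 => ?_]
    · refine MonoidHom.mem_ker.2 ?_
      rw [map_mul, map_inv, show Matrix.GeneralLinearGroup.det A = Matrix.GeneralLinearGroup.det D from
        Units.ext (ha.symm.trans hD.symm), mul_inv_cancel]
    · rw [Fintype.card_fin] at h2
      have h3 : 3 ≤ Fintype.card F := by
        have := Fintype.one_lt_card (α := F)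
        rcases h with h | h <;> omega
      classical
      obtain ⟨x, -, hx⟩ := Finset.exists_mem_notMem_of_card_lt_card
        (show ({0, 1} : Finset F).card < (Finset.univ : Finset F).card from
          lt_of_le_of_lt Finset.card_le_two (by rw [Finset.card_univ]; omega))
      simp only [Finset.mem_insert, Finset.mem_singleton, not_or] at hx
      exact ⟨x, hx⟩
  have hkΩ : levi (A * D⁻¹) ∈ Cfsg.Omega F ⇑(plusQ m F) :=
    Subgroup.commutator_mono le_top le_top
      (Subgroup.map_commutator ⊤ ⊤ (levi (F := F) (m := m)) ▸ Subgroup.mem_map_of_mem levi hk)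
  rw [show A = A * D⁻¹ * D by simp, map_mul, Subgroup.mul_mem_cancel_left _ hkΩ]
  rw [show (A * D⁻¹ * D : GL (Fin m) F) = A by simp, levi_single]
  have hl : ∀ v ∈ [hv i ((a⁻¹ : Fˣ) : F), hv i 1], plusQ m F v ≠ 0 := by
    simp [hv_Q]
  by_cases h2 : (2 : F) = 0
  · haveI : CharP F 2 :=
      CharP.ringChar_of_prime_eq_zero Nat.prime_two (by exact_mod_cast h2 : ((2 : ℕ) : F) = 0) ▸ ringChar.charP F
    haveI : Nonempty (Fin m ⊕ Fin m) := ⟨Sum.inl i⟩
    rw [mem_prod_iff_two (OrthForms.plus_nondeg m) (plus_hyp hm h) hl]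
    exact iff_of_true ⟨1, rfl⟩ (FiniteField.isSquare_of_char_two (ringChar.eq F 2) _)
  · rw [mem_prod_iff h2 (OrthForms.plus_nondeg m) (by simp; omega) hl, ← ha]
    simp only [List.length_cons, List.length_nil, List.map_cons, List.map_nil, List.prod_cons, List.prod_nil,
      hv_Q, mul_one, and_iff_right (show Even (0 + 1 + 1) by exact ⟨1, rfl⟩)]
    constructor
    · rintro ⟨r, hr⟩
      refine ⟨r * (a : F), ?_⟩
      simp at hr
      field_simp at hr
      linear_combination (a : F) * hr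
    · rintro ⟨r, hr⟩
      refine ⟨r / (a : F), ?_⟩
      simp
      field_simp
      linear_combination hr

theorem exists_levi_iff (hm : 1 ≤ m) (h : Fintype.card F ≠ 2 ∨ m ≠ 2) (A : GL (Fin m) F) :
    (∃ g : Cfsg.isometryGroup F ⇑(plusQ m F), g ∈ Cfsg.Omega F ⇑(plusQ m F) ∧
      ((g : GL (Fin m ⊕ Fin m) F) : Matrix (Fin m ⊕ Fin m) (Fin m ⊕ Fin m) F) =
        fromBlocks (A : Matrix (Fin m) (Fin m) F) 0 0 ((A : Matrix (Fin m) (Fin m) F)⁻¹).transpose) ↔
      IsSquare (A : Matrix (Fin m) (Fin m) F).det := by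
  rw [← levi_mem_iff hm h]
  refine ⟨fun ⟨g, hg, e⟩ => ?_, fun hA => ⟨_, hA, levi_coe A⟩⟩
  rwa [show levi A = g from Subtype.ext (Units.ext ((levi_coe A).trans e.symm))]

/-- minus one on the first `i` pairs -/
def negPairs (i : ℕ) : GL (Fin m) F := diagU fun j => if (j : ℕ) < i then -1 else 1

theorem negPairs_det {i : ℕ} (him : i ≤ m) :
    ((negPairs i : GL (Fin m) F) : Matrix (Fin m) (Fin m) F).det = (-1) ^ i := by
  rw [negPairs, diagU_det]
  calc ∏ j : Fin m, ((if (j : ℕ) < i then -1 else 1 : Fˣ) : F)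
      = ∏ j : Fin m, (fun k => if k < i then (-1 : F) else 1) (j : ℕ) :=
        Finset.prod_congr rfl fun j _ => by dsimp only; split <;> simp
    _ = ∏ k ∈ Finset.range m, (fun k => if k < i then (-1 : F) else 1) k := Fin.prod_univ_eq_prod_range (fun k => if k < i then (-1 : F) else 1) m
    _ = (-1) ^ i := by
      rw [Finset.prod_ite, Finset.prod_const, Finset.prod_const_one, mul_one,
        show (Finset.range m).filter (· < i) = Finset.range i by ext k; simp; omega, Finset.card_range]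

theorem levi_negPairs (i : ℕ) :
    ((levi (negPairs i : GL (Fin m) F) : GL (Fin m ⊕ Fin m) F) : Matrix (Fin m ⊕ Fin m) (Fin m ⊕ Fin m) F) =
      diagonal fun k => if (Sum.elim (fun j : Fin m => (j : ℕ)) (fun j : Fin m => (j : ℕ)) k) < i then (-1 : F) else 1 := by
  show fromBlocks (diagonal _) 0 0 (diagonal _)ᵀ = _
  rw [diagonal_transpose, fromBlocks_diagonal]
  congr 1
  funext k
  rcases k with j | j <;> simp only [Sum.elim_inl, Sum.elim_inr] <;> split <;> simp [*]

theorem sign_mod {q : ℕ} (hF : Fintype.card F = q) (hq : Odd q) (i : ℕ) :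
    IsSquare ((-1 : F) ^ i) ↔ q ^ i % 4 = 1 := by
  have hq4 : q % 4 = 1 ∨ q % 4 = 3 := by have := Nat.odd_iff.1 hq; omega
  rcases Nat.even_or_odd i with ⟨k, hk⟩ | ⟨k, hk⟩
  · refine iff_of_true ⟨(-1) ^ k, by rw [hk, pow_add]⟩ ?_
    subst hk
    rw [← two_mul, pow_mul, Nat.pow_mod, Nat.pow_mod q 2]
    rcases hq4 with e | e <;> rw [e] <;> simp
  · rw [Odd.neg_one_pow ⟨k, hk⟩, FiniteField.isSquare_neg_one_iff, hF]
    subst hk
    rw [pow_succ, pow_mul, Nat.mul_mod, Nat.pow_mod, Nat.pow_mod q 2]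
    rcases hq4 with e | e <;> rw [e] <;> simp

theorem exists_negPairs_plus {q : ℕ} (hF : Fintype.card F = q) (hq : Odd q) (i : ℕ) (hi : 1 ≤ i) (him : i ≤ m) :
    levi (negPairs i : GL (Fin m) F) ∈ Cfsg.Omega F ⇑(plusQ m F) ↔ q ^ i % 4 = 1 := by
  rw [levi_mem_iff (by omega) (Or.inl (fun h2 => by rw [hF] at h2; subst h2; exact absurd hq (by decide))),
    negPairs_det him, sign_mod hF hq]

theorem exists_iff_mem {ι : Type} [Fintype ι] [DecidableEq ι] {f : (ι → F) → F} {M : Matrix ι ι F}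
    (g₀ : Cfsg.isometryGroup F f) (h₀ : ((g₀ : GL ι F) : Matrix ι ι F) = M) :
    (∃ g : Cfsg.isometryGroup F f, g ∈ Cfsg.Omega F f ∧ ((g : GL ι F) : Matrix ι ι F) = M) ↔
      g₀ ∈ Cfsg.Omega F f :=
  ⟨fun ⟨g, hg, e⟩ => (show g₀ = g from Subtype.ext (Units.ext (h₀.trans e.symm))) ▸ hg, fun h => ⟨g₀, h, h₀⟩⟩

/-- the binary form on coordinates -/
def binF (a b : F) : QuadraticForm F (Fin 2 → F) :=
  (OrthOrder.binQ a b).comp ((LinearMap.proj 0).prod (LinearMap.proj 1))

theorem binF_nondeg {a b : F} (hab : ∀ z₁ z₂ : F, z₁ ^ 2 + a * z₁ * z₂ + b * z₂ ^ 2 = 0 → z₁ = 0 ∧ z₂ = 0) :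
    (polarBilin (binF a b)).Nondegenerate := by
  have key : ∀ z : Fin 2 → F, (∀ w, polar ⇑(binF a b) z w = 0) → z = 0 := by
    intro z hz
    have h := (OrthOrder.bin_nondeg hab).1 (z 0, z 1) fun w => by
      obtain ⟨w₁, w₂⟩ := w
      rw [polarBilin_apply_apply]
      simpa [binF, polar, vecHead, vecTail] using hz ![w₁, w₂]
    funext k
    fin_cases k
    exacts [(Prod.ext_iff.1 h).1, (Prod.ext_iff.1 h).2]
  exact ⟨key, fun z hz => key z fun w => (polar_comm (f := ⇑(binF a b)) z w).trans (hz w)⟩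

theorem sum_minus (k : ℕ) (a b : F) :
    (fun v => sumQ (plusQ k F) (binF a b) v) = Cfsg.quadFormMinus k F a b := by
  funext v
  simp [sumQ_apply, plusQ_apply, binF, OrthOrder.binQ_apply, Cfsg.quadFormMinus, Cfsg.quadFormPlus]

/-- the square form on one coordinate -/
def oneQ (F : Type*) [Field F] : QuadraticForm F (Unit → F) :=
  QuadraticMap.linMulLin (LinearMap.proj ()) (LinearMap.proj ())

theorem oneQ_nondeg (h2 : (2 : F) ≠ 0) : (polarBilin (oneQ F)).Nondegenerate := by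
  have key : ∀ z : Unit → F, (∀ w, polar ⇑(oneQ F) z w = 0) → z = 0 := by
    intro z hz
    have := hz 1
    simp [polar, oneQ] at this
    funext k
    exact (mul_eq_zero.1 (show (2 : F) * z () = 0 by linear_combination this)).resolve_left h2
  exact ⟨key, fun z hz => key z fun w => (polar_comm (f := ⇑(oneQ F)) z w).trans (hz w)⟩

theorem sum_odd (k : ℕ) :
    (fun v => sumQ (oneQ F) (plusQ k F) v) = Cfsg.quadFormOdd k F := by
  funext v
  simp [sumQ_apply, plusQ_apply, oneQ, Cfsg.quadFormOdd, Cfsg.quadFormPlus, _root_.sq]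

theorem right_mem_iff {ι κ : Type} [Fintype ι] [DecidableEq ι] [Fintype κ] [DecidableEq κ]
    {Q₁ : QuadraticForm F (ι → F)} {Q₂ : QuadraticForm F (κ → F)} (h2 : (2 : F) ≠ 0)
    (h₁ : (polarBilin Q₁).Nondegenerate) (h₂ : (polarBilin Q₂).Nondegenerate) (hk : 2 ≤ Fintype.card κ)
    (g : Cfsg.isometryGroup F ⇑Q₂) :
    blockIso Q₁ Q₂ (1, g) ∈ Cfsg.Omega F ⇑(sumQ Q₁ Q₂) ↔ g ∈ Cfsg.Omega F ⇑Q₂ := by
  obtain ⟨l, hl, rfl⟩ := exists_list h₂ (Or.inl (card_ne_two_of_two_ne h2)) g
  have eQ : ∀ v : κ → F, sumQ Q₁ Q₂ (Sum.elim 0 v) = Q₂ v := fun v => by simp [sumQ_apply]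
  have hR : ∀ v, Q₂ v ≠ 0 → blockIso Q₁ Q₂ (1, R Q₂ v) = R (sumQ Q₁ Q₂) (Sum.elim 0 v) := by
    intro v hv
    refine act_ext fun x => ?_
    rw [R_act ((eQ v).symm ▸ hv), eQ, polar_sumQ, Sum.elim_comp_inl, Sum.elim_comp_inr]
    show fromBlocks ((1 : GL ι F) : Matrix ι ι F) 0 0 ((R Q₂ v : GL κ F) : Matrix κ κ F) *ᵥ x = _
    rw [fromBlocks_mulVec]
    have := R_act hv (x ∘ Sum.inr)
    rw [act] at this
    funext i
    rcases i with i | i
    · simp
    · simp [this, polar]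
  have e : blockIso Q₁ Q₂ (1, (l.map (R Q₂)).prod) =
      ((l.map fun v => Sum.elim (0 : ι → F) v).map (R (sumQ Q₁ Q₂))).prod := by
    induction l with
    | nil => simp only [List.map_nil, List.prod_nil]; exact map_one _
    | cons v l ih =>
      rw [List.map_cons, List.prod_cons, List.map_cons, List.map_cons, List.prod_cons,
        ← hR v (hl v (by simp)), ← ih (fun w hw => hl w (by simp [hw])), ← map_mul, Prod.mk_mul_mk, mul_one]
  rw [e, mem_prod_iff h2 (sum_nondeg _ _ h₁ h₂) (by rw [Fintype.card_sum]; omega) (fun v hv => by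
      obtain ⟨w, hw, rfl⟩ := List.mem_map.1 hv; rw [eQ]; exact hl w hw),
    mem_prod_iff h2 h₂ hk hl, List.length_map, List.map_map]
  simp only [Function.comp_def, eQ]

theorem minus_diag {q : ℕ} (hF : Fintype.card F = q) (hq : Odd q) (k : ℕ) {a b : F}
    (hab : ∀ z₁ z₂ : F, z₁ ^ 2 + a * z₁ * z₂ + b * z₂ ^ 2 = 0 → z₁ = 0 ∧ z₂ = 0) (i : ℕ) (hi : 1 ≤ i) (hik : i ≤ k) :
    (∃ g : Cfsg.isometryGroup F (Cfsg.quadFormMinus k F a b), g ∈ Cfsg.Omega F (Cfsg.quadFormMinus k F a b) ∧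
      ((g : GL ((Fin k ⊕ Fin k) ⊕ Fin 2) F) : Matrix ((Fin k ⊕ Fin k) ⊕ Fin 2) ((Fin k ⊕ Fin k) ⊕ Fin 2) F) =
        diagonal (fun j => if (Sum.elim (Sum.elim (fun x : Fin k => (x : ℕ)) (fun x : Fin k => (x : ℕ)))
          (fun _ : Fin 2 => i) j) < i then (-1 : F) else 1)) ↔ q ^ i % 4 = 1 := by
  have h2 := OrthOrder.two_ne_zero_of_odd hF hq
  rw [← sum_minus k a b]
  refine (exists_iff_mem (blockIso (plusQ k F) (binF a b) (levi (negPairs i), 1)) ?_).trans ?_
  · rw [blockIso_coe]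
    simp only [levi_negPairs, OneMemClass.coe_one, Units.val_one, ← diagonal_one, fromBlocks_diagonal]
    congr 1
    funext j
    rcases j with (j | j) | j <;> simp <;> congr
  · exact (left_mem_iff (OrthForms.plus_nondeg k) (binF_nondeg hab) (Or.inl (card_ne_two_of_two_ne h2)) _).trans
      (exists_negPairs_plus hF hq i hi hik)

theorem odd_diag {q : ℕ} (hF : Fintype.card F = q) (hq : Odd q) (k : ℕ) (i : ℕ) (hi : 1 ≤ i) (hik : i ≤ k) :
    (∃ g : Cfsg.isometryGroup F (Cfsg.quadFormOdd k F), g ∈ Cfsg.Omega F (Cfsg.quadFormOdd k F) ∧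
      ((g : GL (Unit ⊕ (Fin k ⊕ Fin k)) F) : Matrix (Unit ⊕ (Fin k ⊕ Fin k)) (Unit ⊕ (Fin k ⊕ Fin k)) F) =
        diagonal (fun j => if (Sum.elim (fun _ : Unit => i) (Sum.elim (fun x : Fin k => (x : ℕ))
          (fun x : Fin k => (x : ℕ))) j) < i then (-1 : F) else 1)) ↔ q ^ i % 4 = 1 := by
  have h2 := OrthOrder.two_ne_zero_of_odd hF hq
  rw [← sum_odd k]
  refine (exists_iff_mem (blockIso (oneQ F) (plusQ k F) (1, levi (negPairs i))) ?_).trans ?_
  · rw [blockIso_coe]
    simp only [levi_negPairs, OneMemClass.coe_one, Units.val_one, ← diagonal_one, fromBlocks_diagonal]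
    congr 1
    funext j
    rcases j with j | j | j <;> simp <;> congr
  · exact (right_mem_iff h2 (oneQ_nondeg h2) (OrthForms.plus_nondeg k) (by simp; omega) _).trans
      (exists_negPairs_plus hF hq i hi hik)

/-- the swap -/
def swapI (m : ℕ) (F : Type*) [Field F] : Cfsg.isometryGroup F ⇑(plusQ m F) :=
  ⟨⟨fromBlocks 0 1 1 0, fromBlocks 0 1 1 0, by simp [fromBlocks_multiply], by simp [fromBlocks_multiply]⟩,
    fun x _ => by
      show plusQ m F (fromBlocks 0 1 1 0 *ᵥ x) = plusQ m F x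
      simp [plusQ_apply, Cfsg.quadFormPlus, fromBlocks_mulVec, mul_comm]⟩

theorem swap_eq_prod : swapI m F = (((List.finRange m).map fun i => hv i (1 : F)).map (R (plusQ m F))).prod := by
  have key : ∀ (L : List (Fin m)), L.Nodup → ∀ x : Fin m ⊕ Fin m → F,
      act (plusQ m F) ((L.map fun i => hv i (1 : F)).map (R (plusQ m F))).prod x =
        Sum.elim (fun j => if j ∈ L then x (Sum.inr j) else x (Sum.inl j))
          (fun j => if j ∈ L then x (Sum.inl j) else x (Sum.inr j)) := by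
    intro L
    induction L with
    | nil =>
      intro _ x
      simp only [List.map_nil, List.prod_nil, act_one]
      funext j; rcases j with j | j <;> simp
    | cons i L ih =>
      intro hnd x
      rw [List.nodup_cons] at hnd
      rw [List.map_cons, List.map_cons, List.prod_cons, act_mul, ih hnd.2 x, R_hv i one_ne_zero]
      funext j
      rcases j with j | j <;> rcases eq_or_ne j i with rfl | hj <;> simp [*]
  refine act_ext fun x => ?_
  rw [key _ (List.nodup_finRange m) x]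
  show fromBlocks 0 1 1 0 *ᵥ x = _
  funext j
  rcases j with j | j <;> simp [fromBlocks_mulVec]

theorem swap_mem_iff (hm : 1 ≤ m) (h : Fintype.card F ≠ 2 ∨ m ≠ 2) :
    swapI m F ∈ Cfsg.Omega F ⇑(plusQ m F) ↔ Even m := by
  have hl : ∀ v ∈ (List.finRange m).map fun i => hv i (1 : F), plusQ m F v ≠ 0 := by
    simp [hv_Q]
  rw [swap_eq_prod]
  by_cases h2 : (2 : F) = 0
  · haveI : CharP F 2 :=
      CharP.ringChar_of_prime_eq_zero Nat.prime_two (by exact_mod_cast h2 : ((2 : ℕ) : F) = 0) ▸ ringChar.charP F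
    haveI : Nonempty (Fin m ⊕ Fin m) := ⟨Sum.inl ⟨0, hm⟩⟩
    rw [mem_prod_iff_two (OrthForms.plus_nondeg m) (plus_hyp hm h) hl]
    simp
  · rw [mem_prod_iff h2 (OrthForms.plus_nondeg m) (by simp; omega) hl]
    simp only [List.length_map, List.length_finRange, List.map_map, Function.comp_def, hv_Q, List.map_const',
      List.prod_replicate]
    refine and_iff_left_of_imp ?_
    rintro ⟨k, hk⟩
    exact ⟨(-1) ^ k, by rw [hk, pow_add]⟩

theorem swap_families_iff (hm : 1 ≤ m) (h : Fintype.card F ≠ 2 ∨ m ≠ 2) :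
    (∃ g : Cfsg.isometryGroup F ⇑(plusQ m F), g ∈ Cfsg.Omega F ⇑(plusQ m F) ∧
      (∀ v : Fin m ⊕ Fin m → F, (∀ i, v (Sum.inr i) = 0) →
        ∀ i, (((g : GL (Fin m ⊕ Fin m) F) : Matrix (Fin m ⊕ Fin m) (Fin m ⊕ Fin m) F) *ᵥ v) (Sum.inl i) = 0) ∧
      (∀ v : Fin m ⊕ Fin m → F, (∀ i, v (Sum.inl i) = 0) →
        ∀ i, (((g : GL (Fin m ⊕ Fin m) F) : Matrix (Fin m ⊕ Fin m) (Fin m ⊕ Fin m) F) *ᵥ v) (Sum.inr i) = 0)) ↔
      Even m := by
  constructor
  · rintro ⟨g, hg, h1, h2'⟩
    obtain ⟨M, hM⟩ : ∃ M, M = ((g : GL (Fin m ⊕ Fin m) F) : Matrix (Fin m ⊕ Fin m) (Fin m ⊕ Fin m) F) := ⟨_, rfl⟩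
    rw [← hM] at h1 h2'
    have e11 : M.toBlocks₁₁ = 0 := by
      ext i j
      have := h1 (Pi.single (Sum.inl j) 1) (fun k => by simp) i
      simpa [Matrix.mulVec_single, Matrix.toBlocks₁₁, Matrix.toBlocks₂₂] using this
    have e22 : M.toBlocks₂₂ = 0 := by
      ext i j
      have := h2' (Pi.single (Sum.inr j) 1) (fun k => by simp) i
      simpa [Matrix.mulVec_single, Matrix.toBlocks₁₁, Matrix.toBlocks₂₂] using this
    have eM : M = fromBlocks 0 M.toBlocks₁₂ M.toBlocks₂₁ 0 := by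
      conv_lhs => rw [← fromBlocks_toBlocks M, e11, e22]
    obtain ⟨B, C, rfl⟩ : ∃ B C, M = fromBlocks 0 B C 0 := ⟨_, _, eM⟩
    -- `swap * g` is block diagonal and an isometry
    have hsg : ((((swapI m F * g : Cfsg.isometryGroup F ⇑(plusQ m F))) : GL (Fin m ⊕ Fin m) F) :
        Matrix (Fin m ⊕ Fin m) (Fin m ⊕ Fin m) F) = fromBlocks C 0 0 B := by
      rw [Subgroup.coe_mul, Units.val_mul, ← hM]
      show fromBlocks 0 1 1 0 * fromBlocks 0 B C 0 = _
      simp [fromBlocks_multiply]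
    have hCB : B.transpose * C = 1 := by
      refine Matrix.ext fun i j => ?_
      have := act_polar (swapI m F * g) (Pi.single (Sum.inr i) 1) (Pi.single (Sum.inl j) 1)
      rw [act, act, hsg, polar_plus, polar_plus] at this
      simpa [Matrix.mulVec_single, Matrix.mul_apply, Pi.single_apply, Matrix.one_apply, mul_comm, eq_comm] using this
    let A : GL (Fin m) F := ⟨C, B.transpose, mul_eq_one_comm.1 hCB, hCB⟩
    have hA : swapI m F * g = levi A := by
      refine Subtype.ext (Units.ext ?_)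
      rw [hsg]
      show fromBlocks C 0 0 B = fromBlocks C 0 0 (B.transpose).transpose
      rw [transpose_transpose]
    have hmem : swapI m F * g ∈ Cfsg.Omega F ⇑(plusQ m F) ↔ swapI m F ∈ Cfsg.Omega F ⇑(plusQ m F) :=
      Subgroup.mul_mem_cancel_right _ hg
    rw [hA] at hmem
    by_cases h2 : (2 : F) = 0
    · haveI : CharP F 2 :=
        CharP.ringChar_of_prime_eq_zero Nat.prime_two (by exact_mod_cast h2 : ((2 : ℕ) : F) = 0) ▸ ringChar.charP F
      exact (swap_mem_iff hm h).1 (hmem.1 ((levi_mem_iff hm h A).2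
        (FiniteField.isSquare_of_char_two (ringChar.eq F 2) _)))
    · have e1 : ((levi A : GL (Fin m ⊕ Fin m) F) : Matrix (Fin m ⊕ Fin m) (Fin m ⊕ Fin m) F).det = 1 := by
        rw [levi_coe, det_fromBlocks_zero₂₁, det_transpose, det_nonsing_inv, Ring.inverse_eq_inv']
        exact mul_inv_cancel₀ ((Matrix.isUnit_iff_isUnit_det _).1 A.isUnit).ne_zero
      have e3 := OrthChar.det_omega hg
      have hlen := det_prod (Q := plusQ m F) (l := (List.finRange m).map fun i => hv i (1 : F)) (by simp [hv_Q])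
      rw [← swap_eq_prod, List.length_map, List.length_finRange] at hlen
      rw [← hA, OrthChar.det_mul, e3, mul_one, hlen] at e1
      exact (neg_one_pow_eq_one_iff_even (fun e => h2 (by linear_combination -e))).1 e1
  · intro he
    refine ⟨swapI m F, (swap_mem_iff hm h).2 he, fun v hv i => ?_, fun v hv i => ?_⟩ <;>
    · show (fromBlocks 0 1 1 0 *ᵥ v) _ = 0
      simp [fromBlocks_mulVec, hv]

end CfsgLib.Misc.SpinorTools
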