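import Cfsg.Agent.Misc.SpinorTools

/-!
Diagonal and one sided embeddings into an orthogonal sum; minus the identity and the discriminant.
-/

set_option autoImplicit false
set_option linter.unusedSectionVars false
set_option linter.unusedSimpArgs false

namespace CfsgLib.Misc.SpinorTools

open Matrix QuadraticMap
open CfsgLib.Lie
open CfsgLib.Lie.Refl (act act_mul act_one act_inv act_inj act_Q act_polar act_ext)
open CfsgLib.Lie.OrthChar (R R_val R_act R_self R_mul_self R_inv R_smul R_conj R_det chi map_smul' map_add' polar_self')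

variable {F : Type*} [Field F] [Fintype F] {ι : Type} [Fintype ι] [DecidableEq ι]
  {κ : Type} [Fintype κ] [DecidableEq κ]

theorem card_ne_two_of_two_ne (h2 : (2 : F) ≠ 0) : Fintype.card F ≠ 2 := fun hc => by
  have := FiniteField.even_card_iff_char_two.2 (show Fintype.card F % 2 = 0 by rw [hc])
  have : CharP F 2 := ringChar.of_eq this
  exact h2 CharTwo.two_eq_zero

theorem diag_mem {Q : QuadraticForm F (ι → F)} (hQ : (polarBilin Q).Nondegenerate)
    (h : Fintype.card F ≠ 2 ∨ Fintype.card (ι ⊕ ι) ≠ 4) (g : Cfsg.isometryGroup F ⇑Q) :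
    blockIso Q Q (g, g) ∈ Cfsg.Omega F ⇑(sumQ Q Q) := by
  let S : Matrix (ι ⊕ ι) (ι ⊕ ι) F := fromBlocks 0 1 1 0
  have hS : S * S = 1 := by simp [S, fromBlocks_multiply]
  let s : Cfsg.isometryGroup F ⇑(sumQ Q Q) := ⟨⟨S, S, hS, hS⟩, fun x _ => by
    show sumQ Q Q (S *ᵥ x) = sumQ Q Q x
    rw [sumQ_apply, sumQ_apply, fromBlocks_mulVec]
    simp [add_comm]⟩
  have hconj : blockIso Q Q (1, g) = s * blockIso Q Q (g, 1) * s⁻¹ := by
    rw [eq_mul_inv_iff_mul_eq]
    refine Subtype.ext (Units.ext ?_)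
    show fromBlocks (((1 : Cfsg.isometryGroup F ⇑Q) : GL ι F) : Matrix ι ι F) 0 0 ((g : GL ι F) : Matrix ι ι F) * S =
      S * fromBlocks ((g : GL ι F) : Matrix ι ι F) 0 0 (((1 : Cfsg.isometryGroup F ⇑Q) : GL ι F) : Matrix ι ι F)
    simp [S, fromBlocks_multiply]
  rw [show Cfsg.Omega F ⇑(sumQ Q Q) = (Abelianization.of : Cfsg.isometryGroup F ⇑(sumQ Q Q) →* _).ker from
    (Abelianization.ker_of _).symm, MonoidHom.mem_ker,
    show (g, g) = ((g, 1) : _ × _) * (1, g) by simp, map_mul, map_mul, hconj, map_mul, map_mul, map_inv,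
    mul_inv_cancel_comm, ← map_mul, ← MonoidHom.mem_ker, Abelianization.ker_of]
  exact sq_mem (sum_nondeg Q Q hQ hQ) h _

theorem left_mem_iff {Q₁ : QuadraticForm F (ι → F)} {Q₂ : QuadraticForm F (κ → F)}
    (h₁ : (polarBilin Q₁).Nondegenerate) (h₂ : (polarBilin Q₂).Nondegenerate)
    (h : Fintype.card F ≠ 2 ∨ (Fintype.card ι ≠ 4 ∧ Fintype.card ι + Fintype.card κ ≠ 4))
    (g : Cfsg.isometryGroup F ⇑Q₁) :
    blockIso Q₁ Q₂ (g, 1) ∈ Cfsg.Omega F ⇑(sumQ Q₁ Q₂) ↔ g ∈ Cfsg.Omega F ⇑Q₁ := by
  refine ⟨fun hg => ?_, fun hg => blockIso_omega Q₁ Q₂ hg (one_mem _)⟩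
  rcases isEmpty_or_nonempty ι with hι | hι
  · rw [show g = 1 from Subtype.ext (Units.ext (Subsingleton.elim _ _))]
    exact one_mem _
  obtain ⟨l, hl, rfl⟩ := exists_list h₁ (h.imp id And.left) g
  have e : blockIso Q₁ Q₂ ((l.map (R Q₁)).prod, 1) =
      ((l.map fun v => Sum.elim v (0 : κ → F)).map (R (sumQ Q₁ Q₂))).prod := by
    clear hg
    induction l with
    | nil =>
      simp only [List.map_nil, List.prod_nil]
      exact map_one _
    | cons v l ih =>
      rw [List.map_cons, List.prod_cons, List.map_cons, List.map_cons, List.prod_cons,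
        ← blockIso_R Q₁ Q₂ (hl v (by simp)), ← ih (fun w hw => hl w (by simp [hw])), ← map_mul,
        Prod.mk_mul_mk, mul_one]
  have eQ : ∀ v : ι → F, sumQ Q₁ Q₂ (Sum.elim v 0) = Q₁ v := fun v => by simp [sumQ_apply]
  have hl' : ∀ v ∈ l.map fun v => Sum.elim v (0 : κ → F), sumQ Q₁ Q₂ v ≠ 0 := fun v hv => by
    obtain ⟨w, hw, rfl⟩ := List.mem_map.1 hv
    rw [eQ]; exact hl w hw
  have hs := sum_nondeg Q₁ Q₂ h₁ h₂
  by_cases h2 : (2 : F) = 0
  · haveI : CharP F 2 :=
      CharP.ringChar_of_prime_eq_zero Nat.prime_two (by exact_mod_cast h2 : ((2 : ℕ) : F) = 0) ▸ ringChar.charP F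
    rw [e, mem_prod_iff_two hs (h.imp id fun x => by rw [Fintype.card_sum]; exact x.2) hl', List.length_map] at hg
    exact (mem_prod_iff_two h₁ (h.imp id And.left) hl).2 hg
  by_cases hk : 2 ≤ Fintype.card ι
  · rw [e, mem_prod_iff h2 hs (by rw [Fintype.card_sum]; omega) hl', List.length_map, List.map_map] at hg
    refine (mem_prod_iff h2 h₁ hk hl).2 ?_
    simpa [Function.comp_def, eQ] using hg
  · have hd := OrthChar.det_omega hg
    rw [blockIso_coe] at hd
    simp only [OneMemClass.coe_one, Units.val_one, det_fromBlocks_zero₂₁, Matrix.det_one, mul_one] at hd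
    have : Fintype.card ι = 1 := by have := Fintype.card_pos (α := ι); omega
    obtain ⟨i, hi⟩ := Fintype.card_eq_one_iff.1 this
    obtain ⟨x, hx⟩ : ∃ x, x = (l.map (R Q₁)).prod := ⟨_, rfl⟩
    rw [← hx] at hd ⊢
    rw [show x = 1 from Subtype.ext (Units.ext (Matrix.ext fun a b => ?_))]
    · exact one_mem _
    haveI : Subsingleton ι := ⟨fun a b => (hi a).trans (hi b).symm⟩
    rw [Matrix.det_eq_elem_of_subsingleton _ a] at hd
    simp [Subsingleton.elim b a, hd]

theorem negI_iff_disc {n : ℕ} {Q : QuadraticForm F (Fin n → F)} (h2 : (2 : F) ≠ 0) (hn : 2 ≤ n) (he : Even n)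
    (hQ : (polarBilin Q).Nondegenerate) :
    OrthForms.negI Q ∈ Cfsg.Omega F ⇑Q ↔
      IsSquare (Matrix.of (fun i j : Fin n => polar ⇑Q (Pi.single i 1) (Pi.single j 1))).det := by
  classical
  haveI : Invertible (2 : F) := invertibleOfNonzero h2
  obtain ⟨b, hb⟩ := LinearMap.BilinForm.exists_orthogonal_basis (B := polarBilin Q)
    ⟨fun x y => polar_comm (f := ⇑Q) x y⟩
  let c := b.reindex (finCongr (Module.finrank_fin_fun F))
  have hc : ∀ i j, i ≠ j → polar ⇑Q (c i) (c j) = 0 := fun i j hij => by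
    simp only [c, Module.Basis.reindex_apply]
    exact hb (fun e => hij ((finCongr (Module.finrank_fin_fun F)).symm.injective e))
  have hd : ∀ i, Q (c i) ≠ 0 := by
    intro i hi
    refine c.ne_zero i (hQ.1 _ fun y => ?_)
    rw [← c.sum_repr y, map_sum]
    refine Finset.sum_eq_zero fun j _ => ?_
    rw [map_smul, polarBilin_apply_apply]
    rcases eq_or_ne i j with rfl | hij
    · rw [polar_self', hi]; simp
    · rw [hc i j hij]; simp
  let l := List.ofFn fun i => c i
  have hl : ∀ v ∈ l, Q v ≠ 0 := by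
    intro v hv
    obtain ⟨i, rfl⟩ := List.mem_ofFn.1 hv
    exact hd i
  have key : ∀ (L : List (Fin n)), L.Nodup → ∀ j,
      act Q ((L.map fun i => c i).map (R Q)).prod (c j) = if j ∈ L then -c j else c j := by
    intro L
    induction L with
    | nil => intro _ j; simp [act_one]
    | cons i L ih =>
      intro hnd j
      rw [List.nodup_cons] at hnd
      rw [List.map_cons, List.map_cons, List.prod_cons, act_mul, ih hnd.2 j]
      rcases eq_or_ne i j with rfl | hij
      · rw [if_neg hnd.1, if_pos (by simp), R_self (hd i)]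
      · simp only [List.mem_cons, hij.symm, false_or]
        have e : act Q (R Q (c i)) (c j) = c j := by rw [R_act (hd i), hc i j hij]; simp
        split
        · rw [act, Matrix.mulVec_neg]
          exact congrArg Neg.neg e
        · exact e
  have eneg : OrthForms.negI Q = (l.map (R Q)).prod := by
    refine Subtype.ext (Units.ext (Matrix.ext_of_mulVec_single fun i => ?_))
    have hlin : (Matrix.mulVecLin (((l.map (R Q)).prod : Cfsg.isometryGroup F ⇑Q) : GL (Fin n) F).val) =
        -LinearMap.id := c.ext fun j => by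
      have := key (List.finRange n) (List.nodup_finRange n) j
      rw [if_pos (List.mem_finRange j)] at this
      simpa [l, List.ofFn_eq_map, act] using this
    have := LinearMap.congr_fun hlin (Pi.single i 1)
    simp only [Matrix.mulVecLin_apply] at this
    show (-1 : Matrix (Fin n) (Fin n) F) *ᵥ Pi.single i 1 = _
    rw [this, Matrix.neg_mulVec, Matrix.one_mulVec]
    rfl
  rw [eneg, mem_prod_iff h2 hQ (by simpa using hn) hl, and_iff_right (by simpa [l] using he)]
  -- change of basis
  let P := (Pi.basisFun F (Fin n)).toMatrix c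
  let G := Matrix.of (fun i j : Fin n => polar ⇑Q (Pi.single i 1) (Pi.single j 1))
  have hG : G = LinearMap.BilinForm.toMatrix (Pi.basisFun F (Fin n)) (polarBilin Q) := by
    ext i j; simp [G, LinearMap.BilinForm.toMatrix_apply]
  have hPG : P.transpose * G * P = Matrix.diagonal fun i => 2 * Q (c i) := by
    rw [hG]
    simp only [P, LinearMap.BilinForm.toMatrix_mul_basis_toMatrix]
    ext i j
    rcases eq_or_ne i j with rfl | hij
    · simp [LinearMap.BilinForm.toMatrix_apply, polar_self']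
    · simp [LinearMap.BilinForm.toMatrix_apply, hij, hc i j hij]
  have hP : P.det ≠ 0 := by
    intro h0
    have := congrArg Matrix.det hPG
    simp only [Matrix.det_mul, h0, mul_zero, Matrix.det_diagonal] at this
    exact Finset.prod_ne_zero_iff.2 (fun i _ => mul_ne_zero h2 (hd i)) this.symm
  have hdet := congrArg Matrix.det hPG
  rw [Matrix.det_mul, Matrix.det_mul, Matrix.det_transpose, Matrix.det_diagonal, Finset.prod_mul_distrib,
    Finset.prod_const, Finset.card_univ, Fintype.card_fin] at hdet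
  have hprod : (l.map fun v => Q v).prod = ∏ i, Q (c i) := by
    simp [l, List.map_ofFn, List.prod_ofFn]
  obtain ⟨k, hk⟩ := he
  rw [hprod]
  change IsSquare _ ↔ IsSquare G.det
  constructor
  · rintro ⟨r, hr⟩
    refine ⟨2 ^ k * r / P.det, ?_⟩
    rw [show (2 : F) ^ n = 2 ^ k * 2 ^ k by rw [← pow_add, ← hk], hr] at hdet
    field_simp
    linear_combination hdet
  · rintro ⟨r, hr⟩
    refine ⟨r * P.det / 2 ^ k, ?_⟩
    rw [show (2 : F) ^ n = 2 ^ k * 2 ^ k by rw [← pow_add, ← hk], hr] at hdet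
    field_simp
    linear_combination -hdet

end CfsgLib.Misc.SpinorTools
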