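import Cfsg.Agent.Lie.OrthDickson
import Cfsg.Agent.Lie.OrthForms

/-!
Membership in the derived orthogonal group: reflection products, codimension of the fixed space,
orthogonal sums.
-/

set_option autoImplicit false
set_option linter.unusedSectionVars false
set_option linter.unusedSimpArgs false

namespace CfsgLib.Misc.SpinorTools

open Matrix QuadraticMap
open CfsgLib.Lie
open CfsgLib.Lie.Refl (act act_mul act_one act_inv act_inj act_Q act_polar act_ext)
open CfsgLib.Lie.OrthChar (R R_val R_act R_self R_mul_self R_inv R_smul R_conj R_det chi map_smul' map_add' polar_self')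

variable {F : Type*} [Field F] [Fintype F] {ι : Type} [Fintype ι] [DecidableEq ι]
  {Q : QuadraticForm F (ι → F)}

open Classical in
/-- square class -/
noncomputable def sc (a : F) : ℤˣ := if IsSquare a then 1 else -1

theorem sc_eq_one {a : F} : sc a = 1 ↔ IsSquare a := by
  unfold sc; split <;> simp_all

theorem sc_mul (h2 : (2 : F) ≠ 0) {a b : F} (ha : a ≠ 0) (hb : b ≠ 0) : sc (a * b) = sc a * sc b := by
  classical
  by_cases x : IsSquare a <;> by_cases y : IsSquare b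
  · simp [sc, x, y, x.mul y]
  · have : ¬ IsSquare (a * b) := by
      rintro ⟨r, hr⟩
      obtain ⟨s, hs⟩ := x
      have hs0 : s ≠ 0 := fun h => ha (by rw [hs, h, mul_zero])
      exact y ⟨r / s, by field_simp; linear_combination hr - b * hs⟩
    simp [sc, x, y, this]
  · have : ¬ IsSquare (a * b) := by
      rintro ⟨r, hr⟩
      obtain ⟨s, hs⟩ := y
      have hs0 : s ≠ 0 := fun h => hb (by rw [hs, h, mul_zero])
      exact x ⟨r / s, by field_simp; linear_combination hr - a * hs⟩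
    simp [sc, x, y, this]
  · simp [sc, x, y, OrthChar.sq_mul_of_not h2 x y]

theorem prod_ne {l : List (ι → F)} (hl : ∀ v ∈ l, Q v ≠ 0) : (l.map fun v => Q v).prod ≠ 0 := by
  refine List.prod_ne_zero fun h => ?_
  obtain ⟨v, hv, e⟩ := List.mem_map.1 h
  exact hl v hv e

theorem R_coe {v : ι → F} (hv : Q v ≠ 0) {g : Cfsg.isometryGroup F ⇑Q}
    (h : ((g : GL ι F) : Matrix ι ι F) = Cfsg.reflectionMatrix ⇑Q v) : g = R Q v :=
  Subtype.ext (Units.ext (by rw [h, R_val hv]))

theorem coe_prod : ∀ {l : List (ι → F)}, (∀ v ∈ l, Q v ≠ 0) →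
    ((((l.map (R Q)).prod : Cfsg.isometryGroup F ⇑Q) : GL ι F) : Matrix ι ι F) =
      (l.map fun v => Cfsg.reflectionMatrix ⇑Q v).prod
  | [], _ => by simp
  | v :: l, h => by
    rw [List.map_cons, List.prod_cons, List.map_cons, List.prod_cons, Subgroup.coe_mul, Units.val_mul,
      R_val (h v (by simp)), coe_prod (fun w hw => h w (by simp [hw]))]

theorem exists_list (hQ : (QuadraticMap.polarBilin Q).Nondegenerate)
    (h : Fintype.card F ≠ 2 ∨ Fintype.card ι ≠ 4) (g : Cfsg.isometryGroup F ⇑Q) :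
    ∃ l : List (ι → F), (∀ v ∈ l, Q v ≠ 0) ∧ g = (l.map (R Q)).prod := by
  have hg : g ∈ Refl.W Q := by rw [Refl.W_eq_top hQ h]; trivial
  refine Subgroup.closure_induction
    (p := fun g _ => ∃ l : List (ι → F), (∀ v ∈ l, Q v ≠ 0) ∧ g = (l.map (R Q)).prod) ?_ ?_ ?_ ?_ hg
  · rintro r ⟨v, hv, hr⟩
    exact ⟨[v], by simpa using hv, by simpa using R_coe hv hr⟩
  · exact ⟨[], by simp, by simp⟩
  · rintro a b _ _ ⟨l, hl, rfl⟩ ⟨k, hk, rfl⟩
    exact ⟨l ++ k, by simp only [List.mem_append]; rintro v (h | h); exacts [hl v h, hk v h], by simp⟩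
  · rintro a ha ⟨l, hl, rfl⟩
    clear ha
    refine ⟨l.reverse, fun v hv => hl v (List.mem_reverse.1 hv), ?_⟩
    clear hg g
    induction l with
    | nil => simp
    | cons v l ih =>
      simp only [List.map_cons, List.prod_cons, List.reverse_cons, List.map_append, List.prod_append,
        List.map_nil, List.prod_nil, mul_one, _root_.mul_inv_rev]
      rw [ih (fun w hw => hl w (by simp [hw])), R_inv (hl v (by simp))]

theorem det_prod : ∀ {l : List (ι → F)}, (∀ v ∈ l, Q v ≠ 0) →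
    ((((l.map (R Q)).prod : Cfsg.isometryGroup F ⇑Q) : GL ι F) : Matrix ι ι F).det = (-1) ^ l.length
  | [], _ => by simp
  | v :: l, h => by
    rw [List.map_cons, List.prod_cons, OrthChar.det_mul, R_det (h v (by simp)),
      det_prod (fun w hw => h w (by simp [hw])), List.length_cons, pow_succ']

theorem mem_prod_iff (h2 : (2 : F) ≠ 0) (hQ : (QuadraticMap.polarBilin Q).Nondegenerate)
    (hn : 2 ≤ Fintype.card ι) {l : List (ι → F)} (hl : ∀ v ∈ l, Q v ≠ 0) :
    (l.map (R Q)).prod ∈ Cfsg.Omega F ⇑Q ↔ Even l.length ∧ IsSquare (l.map fun v => Q v).prod := by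
  obtain ⟨v₀, v₁, h0, -, -, -⟩ := OrthChar.exists_pair h2 hQ hn
  obtain ⟨ε, hε⟩ : ∃ ε : ℤˣ, ∀ v, Q v ≠ 0 → chi Q (R Q v) = ε * sc (Q v) := by
    refine ⟨chi Q (R Q v₀) * sc (Q v₀), fun v hv => ?_⟩
    have hi := OrthChar.chi_eq_iff h2 hQ hn h0 hv
    rw [← sc_eq_one, sc_mul h2 h0 hv] at hi
    revert hi
    rcases Int.units_eq_one_or (chi Q (R Q v₀)) with a | a <;> rcases Int.units_eq_one_or (chi Q (R Q v)) with b | b <;>
      rcases Int.units_eq_one_or (sc (Q v₀)) with c | c <;> rcases Int.units_eq_one_or (sc (Q v)) with d | d <;>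
      simp [a, b, c, d]
  have hc : ∀ {l : List (ι → F)}, (∀ v ∈ l, Q v ≠ 0) →
      chi Q (l.map (R Q)).prod = ε ^ l.length * sc (l.map fun v => Q v).prod := by
    intro l hl
    induction l with
    | nil => simp [sc_eq_one.2 (IsSquare.one : IsSquare (1 : F))]
    | cons v l ih =>
      rw [List.map_cons, List.prod_cons, map_mul, hε v (hl v (by simp)), ih (fun w hw => hl w (by simp [hw])),
        List.map_cons, List.prod_cons, sc_mul h2 (hl v (by simp)) (prod_ne fun w hw => hl w (by simp [hw])),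
        List.length_cons, pow_succ', mul_mul_mul_comm]
  rw [OrthChar.mem_omega_iff h2 hQ hn, det_prod hl, hc hl,
    neg_one_pow_eq_one_iff_even (fun e => h2 (by linear_combination -e))]
  refine and_congr_right fun he => ?_
  obtain ⟨k, hk⟩ := he
  rw [hk, ← two_mul, pow_mul, Int.units_sq, one_pow, one_mul, sc_eq_one]

section CharTwo

variable [CharP F 2]

theorem mem_omega_iff_dickson [Nonempty ι] (hQ : (QuadraticMap.polarBilin Q).Nondegenerate)
    (h : Fintype.card F ≠ 2 ∨ Fintype.card ι ≠ 4) (g : Cfsg.isometryGroup F ⇑Q) :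
    g ∈ Cfsg.Omega F ⇑Q ↔ OrthDickson.dickson hQ h g = 1 := by
  refine ⟨fun hg => Abelianization.commutator_subset_ker (OrthDickson.dickson hQ h) hg, fun hg => ?_⟩
  by_contra hne
  obtain ⟨v, hv⟩ : ∃ v, Q v ≠ 0 := by
    by_contra hc
    push Not at hc
    have := hQ.1 (Pi.single (Classical.arbitrary ι) 1) fun y => by
      show polar ⇑Q _ y = 0
      simp [polar, hc]
    simpa using congrFun this (Classical.arbitrary ι)
  have hr : R Q v ∉ Cfsg.Omega F ⇑Q := fun hr => by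
    have h1 : OrthDickson.dickson hQ h (R Q v) = 1 :=
      Abelianization.commutator_subset_ker (OrthDickson.dickson hQ h) hr
    rw [OrthDickson.dickson_refl hQ h hv] at h1
    exact absurd h1 (by decide)
  have hgr : g * R Q v ∈ Cfsg.Omega F ⇑Q :=
    (Subgroup.mul_mem_iff_of_index_two (OrthDickson.omega_index hQ h)).2 ⟨fun a => absurd a hne, fun b => absurd b hr⟩
  have h1 : OrthDickson.dickson hQ h (g * R Q v) = 1 :=
    Abelianization.commutator_subset_ker (OrthDickson.dickson hQ h) hgr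
  rw [map_mul, hg, OrthDickson.dickson_refl hQ h hv] at h1
  exact absurd h1 (by decide)

theorem rank_add_fix (g : Cfsg.isometryGroup F ⇑Q) :
    (((g : GL ι F) : Matrix ι ι F) - 1).rank + Module.finrank F (OrthDickson.fix g) = Fintype.card ι := by
  have h := LinearMap.finrank_range_add_finrank_ker (Matrix.toLin' ((g : GL ι F) : Matrix ι ι F) - LinearMap.id)
  rw [Module.finrank_fintype_fun_eq_card] at h
  have e : (Matrix.toLin' ((g : GL ι F) : Matrix ι ι F) - LinearMap.id : (ι → F) →ₗ[F] (ι → F)) =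
      Matrix.mulVecLin (((g : GL ι F) : Matrix ι ι F) - 1) := by
    refine LinearMap.ext fun x => ?_
    simp [Matrix.sub_mulVec, Matrix.toLin'_apply]
  rw [e] at h
  rw [OrthDickson.fix, e]
  exact h

theorem mem_omega_iff_rank [Nonempty ι] (hQ : (QuadraticMap.polarBilin Q).Nondegenerate)
    (h : Fintype.card F ≠ 2 ∨ Fintype.card ι ≠ 4) (g : Cfsg.isometryGroup F ⇑Q) :
    g ∈ Cfsg.Omega F ⇑Q ↔ Even (((g : GL ι F) : Matrix ι ι F) - 1).rank := by
  rw [mem_omega_iff_dickson hQ h, show OrthDickson.dickson hQ h g = OrthDickson.sgn g from rfl, OrthDickson.sgn]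
  have e := rank_add_fix g
  rw [neg_one_pow_eq_one_iff_even (by decide)]
  simp only [Nat.even_iff]
  omega

theorem mem_prod_iff_two [Nonempty ι] (hQ : (QuadraticMap.polarBilin Q).Nondegenerate)
    (h : Fintype.card F ≠ 2 ∨ Fintype.card ι ≠ 4) {l : List (ι → F)} (hl : ∀ v ∈ l, Q v ≠ 0) :
    (l.map (R Q)).prod ∈ Cfsg.Omega F ⇑Q ↔ Even l.length := by
  rw [mem_omega_iff_dickson hQ h]
  have e : OrthDickson.dickson hQ h (l.map (R Q)).prod = (-1) ^ l.length := by
    induction l with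
    | nil => simp
    | cons v l ih =>
      rw [List.map_cons, List.prod_cons, map_mul, ih (fun w hw => hl w (by simp [hw])),
        OrthDickson.dickson_refl hQ h (hl v (by simp)), List.length_cons, pow_succ']
  rw [e, neg_one_pow_eq_one_iff_even (by decide)]

theorem omega_eq_pairs [Nonempty ι] (hQ : (QuadraticMap.polarBilin Q).Nondegenerate)
    (h : Fintype.card F ≠ 2 ∨ Fintype.card ι ≠ 4) :
    Cfsg.Omega F ⇑Q = Subgroup.closure {g : Cfsg.isometryGroup F ⇑Q | ∃ u v : ι → F, Q u ≠ 0 ∧ Q v ≠ 0 ∧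
      ((g : GL ι F) : Matrix ι ι F) = Cfsg.reflectionMatrix ⇑Q u * Cfsg.reflectionMatrix ⇑Q v} := by
  refine le_antisymm (fun g hg => ?_) ((Subgroup.closure_le _).2 ?_)
  · obtain ⟨l, hl, rfl⟩ := exists_list hQ h g
    rw [mem_prod_iff_two hQ h hl] at hg
    revert hl hg
    induction l using List.twoStepInduction with
    | nil => intro _ _; simp
    | singleton v => intro _ hg; exact absurd hg (by simp)
    | cons_cons u v l ih _ =>
      intro hl hg
      rw [List.map_cons, List.map_cons, List.prod_cons, List.prod_cons, ← mul_assoc]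
      refine mul_mem (Subgroup.subset_closure ⟨u, v, hl u (by simp), hl v (by simp), ?_⟩)
        (ih (fun w hw => hl w (by simp [hw])) ?_)
      · rw [Subgroup.coe_mul, Units.val_mul, R_val (hl u (by simp)), R_val (hl v (by simp))]
      · rw [List.length_cons, List.length_cons, Nat.even_add_one, Nat.even_add_one, not_not] at hg
        exact hg
  · rintro g ⟨u, v, hu, hv, hg⟩
    have : g = ([u, v].map (R Q)).prod := by
      refine Subtype.ext (Units.ext ?_)
      rw [hg, coe_prod (by simp [hu, hv])]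
      simp
    rw [this]
    exact (mem_prod_iff_two hQ h (by simp [hu, hv])).2 ⟨1, rfl⟩

end CharTwo

/-- the square of every element lies in the derived subgroup -/
theorem sq_mem (hQ : (QuadraticMap.polarBilin Q).Nondegenerate)
    (h : Fintype.card F ≠ 2 ∨ Fintype.card ι ≠ 4) (g : Cfsg.isometryGroup F ⇑Q) :
    g * g ∈ Cfsg.Omega F ⇑Q := by
  obtain ⟨l, hl, rfl⟩ := exists_list hQ h g
  rw [show Cfsg.Omega F ⇑Q = (Abelianization.of : Cfsg.isometryGroup F ⇑Q →* _).ker from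
    (Abelianization.ker_of _).symm, MonoidHom.mem_ker, map_mul]
  induction l with
  | nil => simp
  | cons v l ih =>
    rw [List.map_cons, List.prod_cons, map_mul, mul_mul_mul_comm, ih (fun w hw => hl w (by simp [hw])), mul_one,
      ← map_mul, R_mul_self (hl v (by simp)), map_one]

section Sum

variable {κ : Type} [Fintype κ] [DecidableEq κ] (Q₁ : QuadraticForm F (ι → F)) (Q₂ : QuadraticForm F (κ → F))

/-- the orthogonal sum -/
def sumQ : QuadraticForm F (ι ⊕ κ → F) :=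
  Q₁.comp (LinearMap.funLeft F F Sum.inl) + Q₂.comp (LinearMap.funLeft F F Sum.inr)

theorem sumQ_apply (v : ι ⊕ κ → F) : sumQ Q₁ Q₂ v = Q₁ (v ∘ Sum.inl) + Q₂ (v ∘ Sum.inr) := rfl

theorem polar_sumQ (x y : ι ⊕ κ → F) : polar ⇑(sumQ Q₁ Q₂) x y =
    polar ⇑Q₁ (x ∘ Sum.inl) (y ∘ Sum.inl) + polar ⇑Q₂ (x ∘ Sum.inr) (y ∘ Sum.inr) := by
  simp only [polar, sumQ_apply, show ∀ f : ι → ι ⊕ κ, (x + y) ∘ f = x ∘ f + y ∘ f from fun f => rfl,
    show ∀ f : κ → ι ⊕ κ, (x + y) ∘ f = x ∘ f + y ∘ f from fun f => rfl]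
  ring

theorem sum_nondeg (h₁ : (polarBilin Q₁).Nondegenerate) (h₂ : (polarBilin Q₂).Nondegenerate) :
    (polarBilin (sumQ Q₁ Q₂)).Nondegenerate := by
  have key : ∀ x : ι ⊕ κ → F, (∀ y, polar ⇑(sumQ Q₁ Q₂) x y = 0) → x = 0 := by
    intro x hx
    have a : x ∘ Sum.inl = 0 := h₁.1 _ fun y => by
      have := hx (Sum.elim y 0)
      rw [polar_sumQ, Sum.elim_comp_inl, Sum.elim_comp_inr] at this
      rw [polarBilin_apply_apply]
      simpa [polar] using this
    have b : x ∘ Sum.inr = 0 := h₂.1 _ fun y => by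
      have := hx (Sum.elim 0 y)
      rw [polar_sumQ, Sum.elim_comp_inl, Sum.elim_comp_inr] at this
      rw [polarBilin_apply_apply]
      simpa [polar] using this
    funext i
    rcases i with i | i
    exacts [congrFun a i, congrFun b i]
  exact ⟨key, fun x hx => key x fun y => (polar_comm (f := ⇑(sumQ Q₁ Q₂)) x y).trans (hx y)⟩

/-- block diagonal units -/
def blockGL : GL ι F × GL κ F →* GL (ι ⊕ κ) F where
  toFun p := ⟨fromBlocks (p.1 : Matrix ι ι F) 0 0 (p.2 : Matrix κ κ F),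
    fromBlocks ((p.1⁻¹ : GL ι F) : Matrix ι ι F) 0 0 ((p.2⁻¹ : GL κ F) : Matrix κ κ F),
    by simp [fromBlocks_multiply, ← Units.val_mul],
    by simp [fromBlocks_multiply, ← Units.val_mul]⟩
  map_one' := Units.ext (by simp)
  map_mul' p q := Units.ext (by simp [fromBlocks_multiply])

/-- block diagonal isometries -/
def blockIso : Cfsg.isometryGroup F ⇑Q₁ × Cfsg.isometryGroup F ⇑Q₂ →* Cfsg.isometryGroup F ⇑(sumQ Q₁ Q₂) :=
  MonoidHom.codRestrict
    (blockGL.comp ((Cfsg.isometryGroup F ⇑Q₁).subtype.prodMap (Cfsg.isometryGroup F ⇑Q₂).subtype)) _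
    fun p x y => by
      show sumQ Q₁ Q₂ (fromBlocks (p.1.1 : Matrix ι ι F) 0 0 (p.2.1 : Matrix κ κ F) *ᵥ x) = sumQ Q₁ Q₂ x
      rw [sumQ_apply, sumQ_apply, fromBlocks_mulVec]
      simp only [Sum.elim_comp_inl, Sum.elim_comp_inr, zero_mulVec, add_zero, zero_add]
      exact congrArg₂ (· + ·) (p.1.2 _ 0) (p.2.2 _ 0)

theorem blockIso_coe (p : Cfsg.isometryGroup F ⇑Q₁ × Cfsg.isometryGroup F ⇑Q₂) :
    ((blockIso Q₁ Q₂ p : GL (ι ⊕ κ) F) : Matrix (ι ⊕ κ) (ι ⊕ κ) F) =
      fromBlocks ((p.1 : GL ι F) : Matrix ι ι F) 0 0 ((p.2 : GL κ F) : Matrix κ κ F) := rfl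

theorem blockIso_omega {g₁ : Cfsg.isometryGroup F ⇑Q₁} {g₂ : Cfsg.isometryGroup F ⇑Q₂}
    (h₁ : g₁ ∈ Cfsg.Omega F ⇑Q₁) (h₂ : g₂ ∈ Cfsg.Omega F ⇑Q₂) :
    blockIso Q₁ Q₂ (g₁, g₂) ∈ Cfsg.Omega F ⇑(sumQ Q₁ Q₂) := by
  have step : ∀ {A : Type _} [Group A] (f : A →* Cfsg.isometryGroup F ⇑(sumQ Q₁ Q₂)) (a : A), a ∈ commutator A →
      f a ∈ Cfsg.Omega F ⇑(sumQ Q₁ Q₂) := fun f a ha => by
    have := Subgroup.map_commutator ⊤ ⊤ f
    exact Subgroup.commutator_mono le_top le_top (this ▸ Subgroup.mem_map_of_mem f ha)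
  rw [show (g₁, g₂) = ((g₁, 1) : _ × _) * (1, g₂) by simp, map_mul]
  exact mul_mem (step ((blockIso Q₁ Q₂).comp (MonoidHom.inl _ _)) g₁ h₁)
    (step ((blockIso Q₁ Q₂).comp (MonoidHom.inr _ _)) g₂ h₂)

theorem blockIso_R {v : ι → F} (hv : Q₁ v ≠ 0) :
    blockIso Q₁ Q₂ (R Q₁ v, 1) = R (sumQ Q₁ Q₂) (Sum.elim v 0) := by
  have e : sumQ Q₁ Q₂ (Sum.elim v 0) = Q₁ v := by simp [sumQ_apply]
  refine act_ext fun x => ?_
  rw [R_act (e ▸ hv), e, polar_sumQ, Sum.elim_comp_inl, Sum.elim_comp_inr]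
  show fromBlocks ((R Q₁ v : GL ι F) : Matrix ι ι F) 0 0 ((1 : GL κ F) : Matrix κ κ F) *ᵥ x = _
  rw [fromBlocks_mulVec]
  have := R_act hv (x ∘ Sum.inl)
  rw [act] at this
  funext i
  rcases i with i | i
  · simp [this, polar]
  · simp

end Sum

end CfsgLib.Misc.SpinorTools
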