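import Cfsg.Agent.Misc.SpinorSum
import Cfsg.Agent.Lie.OrthFamilies
import Cfsg.Agent.Lie.Witt

/-!
Transitivity of the derived orthogonal group on subspaces, and the parity of a maximal singular
subspace and its image.
-/

set_option autoImplicit false
set_option linter.unusedSectionVars false
set_option linter.unusedSimpArgs false

namespace CfsgLib.Misc.SpinorTools

open Matrix QuadraticMap
open CfsgLib.Lie
open CfsgLib.Lie.Refl (act act_mul act_one act_inv act_inj act_Q act_polar act_ext)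
open CfsgLib.Lie.OrthChar (R R_val R_act R_self R_mul_self R_inv R_smul R_conj R_det chi map_smul' map_add' polar_self')
open CfsgLib.Lie.OrthFamilies (MTS)

variable {F : Type*} [Field F] [Fintype F] {ι : Type} [Fintype ι] [DecidableEq ι]
  {Q : QuadraticForm F (ι → F)}

/-- image of a subspace -/
noncomputable def img (g : Cfsg.isometryGroup F ⇑Q) (U : Submodule F (ι → F)) : Submodule F (ι → F) :=
  U.map (Matrix.mulVecLin ((g : GL ι F) : Matrix ι ι F))

theorem img_mul (g h : Cfsg.isometryGroup F ⇑Q) (U : Submodule F (ι → F)) : img (g * h) U = img g (img h U) := by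
  rw [img, img, img, ← Submodule.map_comp, ← Matrix.mulVecLin_mul, ← Units.val_mul, ← Subgroup.coe_mul]

theorem img_one (U : Submodule F (ι → F)) : img (1 : Cfsg.isometryGroup F ⇑Q) U = U := by
  rw [img, OneMemClass.coe_one, Units.val_one, Matrix.mulVecLin_one, Submodule.map_id]

theorem mem_img {g : Cfsg.isometryGroup F ⇑Q} {U : Submodule F (ι → F)} {y : ι → F} :
    y ∈ img g U ↔ ∃ x ∈ U, act Q g x = y := Submodule.mem_map

theorem finrank_img (g : Cfsg.isometryGroup F ⇑Q) (U : Submodule F (ι → F)) :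
    Module.finrank F (img g U) = Module.finrank F U :=
  (Submodule.equivMapOfInjective _ (act_inj g) U).finrank_eq.symm

theorem img_inf (g : Cfsg.isometryGroup F ⇑Q) (U V : Submodule F (ι → F)) :
    img g (U ⊓ V) = img g U ⊓ img g V := Submodule.map_inf _ (act_inj g)

theorem img_mts {m : ℕ} (g : Cfsg.isometryGroup F ⇑Q) {U : Submodule F (ι → F)} (hU : MTS Q m U) :
    MTS Q m (img g U) := ⟨by rw [finrank_img, hU.1], fun w hw => by
  obtain ⟨x, hx, rfl⟩ := mem_img.1 hw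
  rw [act_Q]; exact hU.2 x hx⟩

theorem img_of_fix {g : Cfsg.isometryGroup F ⇑Q} {U : Submodule F (ι → F)} (h : ∀ x ∈ U, act Q g x ∈ U) :
    img g U = U :=
  Submodule.eq_of_le_of_finrank_eq (fun y hy => by obtain ⟨x, hx, rfl⟩ := mem_img.1 hy; exact h x hx)
    (finrank_img g U)

theorem img_R_fix {v : ι → F} (hv : Q v ≠ 0) {U : Submodule F (ι → F)}
    (h : ∀ x ∈ U, polar ⇑Q v x = 0 ∨ v ∈ U) : img (R Q v) U = U :=
  img_of_fix fun x hx => by
    rw [R_act hv]
    rcases h x hx with e | e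
    · rw [e]; simpa using hx
    · exact Submodule.sub_mem _ hx (Submodule.smul_mem _ _ e)

theorem parity_prod {m : ℕ} (hQ : (polarBilin Q).Nondegenerate) (hV : Module.finrank F (ι → F) = 2 * m)
    {U : Submodule F (ι → F)} (hU : MTS Q m U) :
    ∀ {l : List (ι → F)}, (∀ v ∈ l, Q v ≠ 0) →
      (Even (m - Module.finrank F (U ⊓ img (l.map (R Q)).prod U : Submodule F (ι → F))) ↔ Even l.length)
  | [], _ => by rw [List.map_nil, List.prod_nil, img_one, inf_idem, hU.1]; simp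
  | v :: l, h => by
    have hl : ∀ w ∈ l, Q w ≠ 0 := fun w hw => h w (by simp [hw])
    have ih := parity_prod hQ hV hU hl
    have hv : Q v ≠ 0 := h v (by simp)
    obtain ⟨g, hg⟩ : ∃ g, g = (l.map (R Q)).prod := ⟨_, rfl⟩
    rw [List.map_cons, List.prod_cons, ← hg, img_mul]
    rw [← hg] at ih
    obtain ⟨A, hA⟩ : ∃ A, A = img (R Q v) U := ⟨_, rfl⟩
    obtain ⟨B, hB⟩ : ∃ B, B = img (R Q v) (img g U) := ⟨_, rfl⟩
    have hAm : MTS Q m A := hA ▸ img_mts _ hU
    have hBm : MTS Q m B := hB ▸ img_mts _ (img_mts _ hU)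
    have hp := OrthFamilies.parity hQ hV (m - Module.finrank F (A ⊓ B : Submodule F (ι → F))) U A B hU hAm hBm
      (by have := Submodule.finrank_mono (inf_le_left : A ⊓ B ≤ A); rw [hAm.1] at this; omega)
    have e1 : Module.finrank F (A ⊓ B : Submodule F (ι → F)) = Module.finrank F (U ⊓ img g U : Submodule F (ι → F)) := by
      rw [hA, hB, ← img_inf, finrank_img]
    have hvU : v ∉ U := fun e => hv (hU.2 v e)
    obtain ⟨u₀, hu₀, hp0⟩ : ∃ u ∈ U, polar ⇑Q v u ≠ 0 := by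
      by_contra hc
      push Not at hc
      refine hvU ?_
      rw [← OrthFamilies.oc_self hQ hV hU]
      exact OrthFamilies.mem_oc.2 fun w hw => (polar_comm (f := ⇑Q) w v).trans (hc w hw)
    have e2 : Module.finrank F (U ⊓ A : Submodule F (ι → F)) + 1 = m := by
      let φ : U →ₗ[F] F := (polarBilin Q v).comp U.subtype
      have h3 := LinearMap.finrank_range_add_finrank_ker φ
      have h4 := Submodule.finrank_le (LinearMap.range φ)
      rw [Module.finrank_self] at h4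
      have h5 : (LinearMap.ker φ).map U.subtype ≤ U ⊓ A := by
        rintro _ ⟨y, hy, rfl⟩
        refine ⟨y.2, hA ▸ mem_img.2 ⟨y.1, y.2, ?_⟩⟩
        have hy' : polar ⇑Q v y.1 = 0 := hy
        rw [R_act hv, hy']; simp
      have h6 := Submodule.finrank_mono h5
      rw [← (Submodule.equivMapOfInjective _ U.subtype_injective (LinearMap.ker φ)).finrank_eq] at h6
      have h7 : U ⊓ A < U := lt_of_le_of_ne inf_le_left fun e => by
        have hle : A = U :=
          (Submodule.eq_of_le_of_finrank_le (inf_eq_left.1 e) (by rw [hAm.1, hU.1])).symm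
        have hm : act Q (R Q v) u₀ ∈ U := hle ▸ hA ▸ mem_img.2 ⟨u₀, hu₀, rfl⟩
        rw [R_act hv] at hm
        have := (Submodule.sub_mem_iff_right _ hu₀).1 hm
        exact hvU ((Submodule.smul_mem_iff _ (mul_ne_zero (inv_ne_zero hv) hp0)).1 this)
      have h8 := Submodule.finrank_lt_finrank_of_lt h7
      rw [hU.1] at h3 h8
      omega
    rw [← hB]
    rw [List.length_cons, Nat.even_add_one, ← ih, ← e1]
    rw [Nat.even_iff] at hp ⊢
    rw [Nat.even_iff]
    omega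

theorem witt_exists (hQ : (polarBilin Q).Nondegenerate) {U W : Submodule F (ι → F)} (f : U ≃ₗ[F] W)
    (hf : ∀ u : U, Q (f u : ι → F) = Q (u : ι → F)) : ∃ g : Cfsg.isometryGroup F ⇑Q, img g U = W := by
  obtain ⟨e, he, hef⟩ := Witt.witt_quadratic Q hQ U (W.subtype.comp f.toLinearMap)
    (W.subtype_injective.comp f.injective) hf
  let M := LinearMap.toMatrix' (e : (ι → F) →ₗ[F] (ι → F))
  let M' := LinearMap.toMatrix' (e.symm : (ι → F) →ₗ[F] (ι → F))
  have h1 : M * M' = 1 := by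
    rw [← LinearMap.toMatrix'_comp, LinearEquiv.comp_coe, e.symm_trans_self, LinearEquiv.refl_toLinearMap,
      LinearMap.toMatrix'_id]
  have hx : ∀ x, M *ᵥ x = e x := fun x => LinearMap.toMatrix'_mulVec _ _
  refine ⟨⟨⟨M, M', h1, mul_eq_one_comm.1 h1⟩, fun x _ => ?_⟩, ?_⟩
  · show Q (M *ᵥ x) = Q x
    rw [hx]; exact he x
  · refine Submodule.ext fun y => mem_img.trans ⟨?_, fun hy => ⟨f.symm ⟨y, hy⟩, (f.symm ⟨y, hy⟩).2, ?_⟩⟩
    · rintro ⟨x, hx', rfl⟩
      show M *ᵥ x ∈ W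
      rw [hx, hef ⟨x, hx'⟩]
      exact (f ⟨x, hx'⟩).2
    · show M *ᵥ _ = y
      rw [hx, hef]
      simp

theorem adjust_two [CharP F 2] [Nonempty ι] (hQ : (polarBilin Q).Nondegenerate)
    (h : Fintype.card F ≠ 2 ∨ Fintype.card ι ≠ 4) {U W : Submodule F (ι → F)} {l : List (ι → F)}
    (hl : ∀ v ∈ l, Q v ≠ 0) (hUW : img (l.map (R Q)).prod U = W)
    (hz : Odd l.length → ∃ z, Q z ≠ 0 ∧ img (R Q z) W = W) :
    ∃ g : Cfsg.isometryGroup F ⇑Q, g ∈ Cfsg.Omega F ⇑Q ∧ img g U = W := by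
  rcases Nat.even_or_odd l.length with he | ho
  · exact ⟨_, (mem_prod_iff_two hQ h hl).2 he, hUW⟩
  · obtain ⟨z, hz0, hzW⟩ := hz ho
    refine ⟨R Q z * (l.map (R Q)).prod, ?_, by rw [img_mul, hUW, hzW]⟩
    have := (mem_prod_iff_two hQ h (l := z :: l) (by simpa using ⟨hz0, hl⟩)).2
      (by rw [List.length_cons]; exact ho.add_one)
    simpa using this

theorem adjust_odd (h2 : (2 : F) ≠ 0) (hQ : (polarBilin Q).Nondegenerate) (hn : 2 ≤ Fintype.card ι)
    {U W : Submodule F (ι → F)} {l : List (ι → F)}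
    (hl : ∀ v ∈ l, Q v ≠ 0) (hUW : img (l.map (R Q)).prod U = W)
    (hz : Odd l.length → ∃ z, Q z ≠ 0 ∧ img (R Q z) W = W)
    (hp : ∃ v w, Q v ≠ 0 ∧ Q w ≠ 0 ∧ ¬ IsSquare (Q v * Q w) ∧ img (R Q v * R Q w) W = W) :
    ∃ g : Cfsg.isometryGroup F ⇑Q, g ∈ Cfsg.Omega F ⇑Q ∧ img g U = W := by
  have step : ∀ k : List (ι → F), (∀ v ∈ k, Q v ≠ 0) → img (k.map (R Q)).prod U = W → Even k.length →
      ∃ g : Cfsg.isometryGroup F ⇑Q, g ∈ Cfsg.Omega F ⇑Q ∧ img g U = W := by
    intro k hk hkW hke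
    by_cases hs : IsSquare (k.map fun v => Q v).prod
    · exact ⟨_, (mem_prod_iff h2 hQ hn hk).2 ⟨hke, hs⟩, hkW⟩
    · obtain ⟨v, w, hv, hw, hvw, hst⟩ := hp
      refine ⟨R Q v * R Q w * (k.map (R Q)).prod, ?_, by rw [img_mul, hkW, hst]⟩
      have := (mem_prod_iff h2 hQ hn (l := v :: w :: k) (by
        simp only [List.mem_cons]; rintro x (rfl | rfl | hx); exacts [hv, hw, hk x hx])).2 ⟨by
          rw [List.length_cons, List.length_cons, Nat.even_add_one, Nat.even_add_one, not_not]; exact hke, by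
          simp only [List.map_cons, List.prod_cons]
          rw [← mul_assoc]
          exact OrthChar.sq_mul_of_not h2 hvw hs⟩
      simpa [mul_assoc] using this
  rcases Nat.even_or_odd l.length with he | ho
  · exact step l hl hUW he
  · obtain ⟨z, hz0, hzW⟩ := hz ho
    exact step (z :: l) (by simpa using ⟨hz0, hl⟩)
      (by rw [List.map_cons, List.prod_cons, img_mul, hUW, hzW]) (by rw [List.length_cons]; exact ho.add_one)

theorem two_lt {x : F} (hx : x = 0) : x + x = 0 := by rw [hx, add_zero]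

theorem exists_aniso_perp (hQ : (polarBilin Q).Nondegenerate) {W : Submodule F (ι → F)}
    (hk : 2 * Module.finrank F W < Fintype.card ι) (hW : ∀ w ∈ W, Q w = 0) :
    ∃ z, Q z ≠ 0 ∧ img (R Q z) W = W := by
  obtain ⟨z, hz, hz0⟩ : ∃ z ∈ LinearMap.BilinForm.orthogonal (polarBilin Q) W, Q z ≠ 0 := by
    by_contra hc
    push Not at hc
    obtain ⟨P, hP⟩ : ∃ P, P = LinearMap.BilinForm.orthogonal (polarBilin Q) W := ⟨_, rfl⟩
    rw [← hP] at hc
    have hrefl : LinearMap.BilinForm.IsRefl (polarBilin Q) := fun x y h => by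
      rw [polarBilin_apply_apply] at h ⊢; rwa [polar_comm]
    have d1 := LinearMap.BilinForm.finrank_orthogonal hQ W
    have d2 := LinearMap.BilinForm.finrank_orthogonal hQ P
    have hle : P ≤ LinearMap.BilinForm.orthogonal (polarBilin Q) P := fun x hx => by
      rw [LinearMap.BilinForm.mem_orthogonal_iff]
      intro y hy
      show polarBilin Q y x = 0
      rw [polarBilin_apply_apply, polar, hc _ (add_mem hy hx), hc y hy, hc x hx]; ring
    have d3 := Submodule.finrank_mono hle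
    rw [← hP] at d1
    rw [Module.finrank_fintype_fun_eq_card] at d1 d2
    omega
  refine ⟨z, hz0, img_R_fix hz0 fun x hx => Or.inl ?_⟩
  have := (LinearMap.BilinForm.mem_orthogonal_iff.1 hz) x hx
  rw [polar_comm]
  exact this

theorem exists_stab_pair (h2 : (2 : F) ≠ 0) (hQ : (polarBilin Q).Nondegenerate) {W : Submodule F (ι → F)}
    (hW : ∀ w ∈ W, Q w = 0) (hne : W ≠ ⊥) :
    ∃ v w, Q v ≠ 0 ∧ Q w ≠ 0 ∧ ¬ IsSquare (Q v * Q w) ∧ img (R Q v * R Q w) W = W := by
  obtain ⟨e, he, he0⟩ := Submodule.exists_mem_ne_zero_of_ne_bot hne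
  obtain ⟨f₀, hf₀⟩ : ∃ f, polar ⇑Q e f = 1 := by
    obtain ⟨f, hf⟩ : ∃ f, polar ⇑Q e f ≠ 0 := by
      by_contra hc
      push Not at hc
      exact he0 (hQ.1 e fun y => by rw [polarBilin_apply_apply]; exact hc y)
    exact ⟨(polar ⇑Q e f)⁻¹ • f, by rw [polar_smul_right, smul_eq_mul, inv_mul_cancel₀ hf]⟩
  have hee : polar ⇑Q e e = 0 := by rw [polar_self', hW e he, mul_zero]
  obtain ⟨f, hf⟩ : ∃ f, f = f₀ - (Q f₀) • e := ⟨_, rfl⟩
  have hef : polar ⇑Q e f = 1 := by rw [hf, polar_sub_right, polar_smul_right, hee, hf₀]; simp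
  have hQf : Q f = 0 := by
    rw [hf, sub_eq_add_neg, ← neg_smul, map_add', OrthChar.map_smul', polar_smul_right, hW e he,
      polar_comm (f := ⇑Q) f₀ e, hf₀, smul_eq_mul]
    ring
  have hc2 : ringChar F ≠ 2 := fun h => h2 (by
    have : CharP F 2 := ringChar.of_eq h
    exact CharTwo.two_eq_zero)
  obtain ⟨c, hc⟩ := FiniteField.exists_nonsquare hc2
  have hc0 : c ≠ 0 := fun h => hc (h ▸ IsSquare.zero)
  have hQv : ∀ t : F, Q (e - t • f) = -t := fun t => by
    rw [sub_eq_add_neg, ← neg_smul, map_add', OrthChar.map_smul', polar_smul_right, hW e he, hQf, hef]; simp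
  have hR : ∀ t : F, t ≠ 0 → ∀ x, act Q (R Q (e - t • f)) x =
      x + (t⁻¹ * (polar ⇑Q e x - t * polar ⇑Q f x)) • (e - t • f) := fun t ht x => by
    rw [R_act (by rw [hQv]; exact neg_ne_zero.2 ht), hQv, polar_sub_left, polar_smul_left, sub_eq_add_neg,
      ← neg_smul, smul_eq_mul]
    congr 2
    field_simp
  refine ⟨e - (1 : F) • f, e - c • f, by rw [hQv]; simp, by rw [hQv]; exact neg_ne_zero.2 hc0,
    by rw [hQv, hQv]; simpa using hc, img_of_fix fun x hx => ?_⟩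
  have hex : polar ⇑Q e x = 0 := OrthFamilies.orth_of_singular hW he hx
  rw [act_mul, hR c hc0, hR 1 one_ne_zero, hex]
  obtain ⟨A, hA⟩ : ∃ A, A = polar ⇑Q f x := ⟨_, rfl⟩
  simp only [polar_add_right, polar_smul_right, polar_sub_right, hee, hef, polar_comm (f := ⇑Q) f e,
    polar_self', hQf, hex, ← hA, smul_eq_mul]
  obtain ⟨a, ha⟩ : ∃ a : F, x + (c⁻¹ * (0 - c * A)) • (e - c • f) +
      ((1 : F)⁻¹ * (0 + c⁻¹ * (0 - c * A) * (0 - c * 1) - 1 * (A + c⁻¹ * (0 - c * A) * (1 - c * (2 * 0))))) •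
        (e - (1 : F) • f) = x + a • e := by
    refine ⟨c⁻¹ * (0 - c * A) +
      (1 : F)⁻¹ * (0 + c⁻¹ * (0 - c * A) * (0 - c * 1) - 1 * (A + c⁻¹ * (0 - c * A) * (1 - c * (2 * 0)))), ?_⟩
    match_scalars
    · ring
    · ring
    · field_simp; ring
  rw [ha]
  exact Submodule.add_mem _ hx (Submodule.smul_mem _ _ he)

theorem singular_trans (hQ : (polarBilin Q).Nondegenerate) (h : Fintype.card F ≠ 2 ∨ Fintype.card ι ≠ 4)
    (U W : Submodule F (ι → F)) {k : ℕ} (hk : 2 * k < Fintype.card ι) (hU : Module.finrank F U = k)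
    (hW : Module.finrank F W = k) (hU0 : ∀ u ∈ U, Q u = 0) (hW0 : ∀ w ∈ W, Q w = 0) :
    ∃ g : Cfsg.isometryGroup F ⇑Q, g ∈ Cfsg.Omega F ⇑Q ∧ img g U = W := by
  rcases Nat.eq_zero_or_pos k with rfl | hk0
  · exact ⟨1, one_mem _, by rw [img_one, Submodule.finrank_eq_zero.1 hU, Submodule.finrank_eq_zero.1 hW]⟩
  have f : U ≃ₗ[F] W := LinearEquiv.ofFinrankEq _ _ (hU.trans hW.symm)
  obtain ⟨g, hg⟩ := witt_exists hQ f fun u => by rw [hU0 _ u.2, hW0 _ (f u).2]
  obtain ⟨l, hl, rfl⟩ := exists_list hQ h g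
  have hz : Odd l.length → ∃ z, Q z ≠ 0 ∧ img (R Q z) W = W := fun _ =>
    exists_aniso_perp hQ (by rw [hW]; exact hk) hW0
  by_cases h2 : (2 : F) = 0
  · haveI : CharP F 2 :=
      CharP.ringChar_of_prime_eq_zero Nat.prime_two (by exact_mod_cast h2 : ((2 : ℕ) : F) = 0) ▸ ringChar.charP F
    haveI : Nonempty ι := Fintype.card_pos_iff.1 (by omega)
    exact adjust_two hQ h hl hg hz
  · refine adjust_odd h2 hQ (by omega) hl hg hz (exists_stab_pair h2 hQ hW0 fun e => ?_)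
    rw [e, finrank_bot] at hW
    omega

theorem max_singular_trans {m : ℕ} (hm : 1 ≤ m) (hQ : (polarBilin Q).Nondegenerate)
    (h : Fintype.card F ≠ 2 ∨ Fintype.card ι ≠ 4) (hV : Module.finrank F (ι → F) = 2 * m)
    (U W : Submodule F (ι → F)) (hU : MTS Q m U) (hW : MTS Q m W)
    (he : Even (m - Module.finrank F (U ⊓ W : Submodule F (ι → F)))) :
    ∃ g : Cfsg.isometryGroup F ⇑Q, g ∈ Cfsg.Omega F ⇑Q ∧ img g U = W := by
  have f : U ≃ₗ[F] W := LinearEquiv.ofFinrankEq _ _ (hU.1.trans hW.1.symm)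
  obtain ⟨g, hg⟩ := witt_exists hQ f fun u => by rw [hU.2 _ u.2, hW.2 _ (f u).2]
  obtain ⟨l, hl, rfl⟩ := exists_list hQ h g
  have hlen : Even l.length := by
    rw [← parity_prod hQ hV hU hl, hg]; exact he
  have hz : Odd l.length → ∃ z, Q z ≠ 0 ∧ img (R Q z) W = W := fun ho => absurd hlen (Nat.not_even_iff_odd.2 ho)
  have hc : Fintype.card ι = 2 * m := by rwa [Module.finrank_fintype_fun_eq_card] at hV
  by_cases h2 : (2 : F) = 0
  · haveI : CharP F 2 :=
      CharP.ringChar_of_prime_eq_zero Nat.prime_two (by exact_mod_cast h2 : ((2 : ℕ) : F) = 0) ▸ ringChar.charP F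
    haveI : Nonempty ι := Fintype.card_pos_iff.1 (by omega)
    exact adjust_two hQ h hl hg hz
  · refine adjust_odd h2 hQ (by omega) hl hg hz (exists_stab_pair h2 hQ hW.2 fun e => ?_)
    have := hW.1
    rw [e, finrank_bot] at this
    omega

theorem line_trans [CharP F 2] (hQ : (polarBilin Q).Nondegenerate)
    (h : Fintype.card F ≠ 2 ∨ Fintype.card ι ≠ 4) (u v : ι → F) (hu : Q u ≠ 0) (hv : Q v ≠ 0) :
    ∃ g : Cfsg.isometryGroup F ⇑Q, g ∈ Cfsg.Omega F ⇑Q ∧ (F ∙ act Q g u) = F ∙ v := by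
  have hu0 : u ≠ 0 := fun e => hu (by rw [e, QuadraticMap.map_zero])
  have hv0 : v ≠ 0 := fun e => hv (by rw [e, QuadraticMap.map_zero])
  obtain ⟨t, ht⟩ := OrthDickson.exists_sqrt (Q u / Q v)
  have ht0 : t ≠ 0 := fun e => div_ne_zero hu hv (by rw [← ht, e, mul_zero])
  have hw : Q (t • v) = Q u := by rw [OrthChar.map_smul', ht, div_mul_cancel₀ _ hv]
  have hw0 : t • v ≠ 0 := smul_ne_zero ht0 hv0
  obtain ⟨a, ha⟩ : ∃ a : (F ∙ u) ≃ₗ[F] F, a = (LinearEquiv.toSpanNonzeroSingleton F (ι → F) u hu0).symm := ⟨_, rfl⟩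
  obtain ⟨b, hb⟩ : ∃ b : F ≃ₗ[F] (F ∙ (t • v)), b = LinearEquiv.toSpanNonzeroSingleton F (ι → F) (t • v) hw0 := ⟨_, rfl⟩
  obtain ⟨g, hg⟩ := witt_exists hQ (a.trans b) fun x => by
    obtain ⟨s, hs⟩ := Submodule.mem_span_singleton.1 x.2
    have hx : a x = s := by
      rw [ha, LinearEquiv.symm_apply_eq]
      exact Subtype.ext hs.symm
    rw [LinearEquiv.trans_apply, hx, hb, LinearEquiv.toSpanNonzeroSingleton_apply]
    rw [OrthChar.map_smul', hw, ← hs, OrthChar.map_smul']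
  obtain ⟨l, hl, rfl⟩ := exists_list hQ h g
  haveI : Nonempty ι := ⟨(Function.ne_iff.1 hu0).choose⟩
  have hspan : (F ∙ (t • v)) = F ∙ v := Submodule.span_singleton_smul_eq (IsUnit.mk0 t ht0) v
  rw [hspan] at hg
  obtain ⟨g, hgΩ, hgim⟩ := adjust_two hQ h hl hg fun _ => ⟨v, hv, img_R_fix hv fun x _ =>
    Or.inr (Submodule.mem_span_singleton_self v)⟩
  refine ⟨g, hgΩ, ?_⟩
  rw [← hgim, img, Submodule.map_span, Set.image_singleton]
  rfl

theorem exists_aniso_in {W : Submodule F (ι → F)}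
    (hW : W ⊓ LinearMap.BilinForm.orthogonal (polarBilin Q) W = ⊥) (hne : W ≠ ⊥) : ∃ z ∈ W, Q z ≠ 0 := by
  by_contra hc
  push Not at hc
  obtain ⟨z, hz, hz0⟩ := Submodule.exists_mem_ne_zero_of_ne_bot hne
  refine hz0 ((Submodule.mem_bot F).1 (hW ▸ ⟨hz, ?_⟩))
  refine LinearMap.BilinForm.mem_orthogonal_iff.2 fun y hy => ?_
  show polarBilin Q y z = 0
  rw [polarBilin_apply_apply, polar, hc _ (add_mem hy hz), hc y hy, hc z hz]; ring

theorem exists_two_classes (h2 : (2 : F) ≠ 0) {W : Submodule F (ι → F)}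
    (hW : W ⊓ LinearMap.BilinForm.orthogonal (polarBilin Q) W = ⊥) (hd : 2 ≤ Module.finrank F W) :
    ∃ v ∈ W, ∃ w ∈ W, Q v ≠ 0 ∧ Q w ≠ 0 ∧ ¬ IsSquare (Q v * Q w) := by
  obtain ⟨v, hv, hv0⟩ := exists_aniso_in hW (fun e => by rw [e, finrank_bot] at hd; omega)
  obtain ⟨u, hu, hu0, hvu⟩ : ∃ u ∈ W, Q u ≠ 0 ∧ polar ⇑Q v u = 0 := by
    by_contra hc
    push Not at hc
    let φ : W →ₗ[F] F := (polarBilin Q v).comp W.subtype
    have h3 := LinearMap.finrank_range_add_finrank_ker φ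
    have h4 := Submodule.finrank_le (LinearMap.range φ)
    rw [Module.finrank_self] at h4
    obtain ⟨z, hz, hz0⟩ := Submodule.exists_mem_ne_zero_of_ne_bot (p := LinearMap.ker φ) fun e => by
      rw [e, finrank_bot] at h3; omega
    have hvz : polar ⇑Q v z.1 = 0 := hz
    refine hz0 (Subtype.ext ((Submodule.mem_bot F).1 (hW ▸ ⟨z.2, ?_⟩)))
    refine LinearMap.BilinForm.mem_orthogonal_iff.2 fun y hy => ?_
    show polarBilin Q y z.1 = 0
    rw [polarBilin_apply_apply]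
    have sing : ∀ a ∈ W, polar ⇑Q v a = 0 → Q a = 0 := fun a ha h => by
      by_contra e; exact hc a ha e h
    obtain ⟨s, hs⟩ : ∃ s, s = polar ⇑Q v y / (2 * Q v) := ⟨_, rfl⟩
    obtain ⟨y', hy'⟩ : ∃ y', y' = y - s • v := ⟨_, rfl⟩
    have hy'W : y' ∈ W := hy' ▸ W.sub_mem hy (W.smul_mem _ hv)
    have hvy : polar ⇑Q v y' = 0 := by
      rw [hy', polar_sub_right, polar_smul_right, polar_self', hs, smul_eq_mul]; field_simp; ring
    have : polar ⇑Q y' z.1 = 0 := by
      rw [polar, sing _ (W.add_mem hy'W z.2) (by rw [polar_add_right, hvy, hvz, add_zero]), sing _ hy'W hvy,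
        sing _ z.2 hvz]
      ring
    rw [show y = y' + s • v by rw [hy']; abel, polar_add_left, polar_smul_left, this, hvz]; simp
  have hc2 : ringChar F ≠ 2 := fun h => h2 (by
    have : CharP F 2 := ringChar.of_eq h
    exact CharTwo.two_eq_zero)
  obtain ⟨ν, hν⟩ := FiniteField.exists_nonsquare hc2
  obtain ⟨p, s, hps⟩ := OrthChar.exists_binary h2 hv0 hu0 (ν * Q v)
  have hQ' : Q (p • v + s • u) = ν * Q v := by rw [OrthChar.map_comb p s v u hvu, hps]
  refine ⟨v, hv, _, W.add_mem (W.smul_mem p hv) (W.smul_mem s hu), hv0, ?_, ?_⟩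
  · rw [hQ']; exact mul_ne_zero (fun e => hν (e ▸ IsSquare.zero)) hv0
  · rw [hQ']
    rintro ⟨r, hr⟩
    exact hν ⟨r / Q v, by field_simp; linear_combination hr⟩

theorem nondeg_trans (hn : 3 ≤ Fintype.card ι) (h : Fintype.card F ≠ 2 ∨ Fintype.card ι ≠ 4)
    (hQ : (polarBilin Q).Nondegenerate) (U W : Submodule F (ι → F))
    (hW : W ⊓ LinearMap.BilinForm.orthogonal (polarBilin Q) W = ⊥)
    (e : U ≃ₗ[F] W) (he : ∀ u : U, Q (e u : ι → F) = Q (u : ι → F)) :
    ∃ g : Cfsg.isometryGroup F ⇑Q, g ∈ Cfsg.Omega F ⇑Q ∧ img g U = W := by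
  obtain ⟨g, hg⟩ := witt_exists hQ e he
  obtain ⟨l, hl, rfl⟩ := exists_list hQ h g
  obtain ⟨P, hP⟩ : ∃ P, P = LinearMap.BilinForm.orthogonal (polarBilin Q) W := ⟨_, rfl⟩
  have hrefl : LinearMap.BilinForm.IsRefl (polarBilin Q) := fun x y h => by
    rw [polarBilin_apply_apply] at h ⊢; rwa [polar_comm]
  have hPP : LinearMap.BilinForm.orthogonal (polarBilin Q) P = W := by
    rw [hP]; exact LinearMap.BilinForm.orthogonal_orthogonal hQ hrefl W
  have hP' : P ⊓ LinearMap.BilinForm.orthogonal (polarBilin Q) P = ⊥ := by rw [hPP, inf_comm, hP, hW]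
  have d1 := LinearMap.BilinForm.finrank_orthogonal hQ W
  rw [← hP, Module.finrank_fintype_fun_eq_card] at d1
  have hfix : ∀ z, (z ∈ W ∨ z ∈ P) → Q z ≠ 0 → img (R Q z) W = W := fun z hz hz0 =>
    img_R_fix hz0 fun x hx => hz.elim (fun e => Or.inr e) fun e => Or.inl (by
      rw [hP] at e
      have := (LinearMap.BilinForm.mem_orthogonal_iff.1 e) x hx
      rw [polar_comm]; exact this)
  have hbig : 2 ≤ Module.finrank F W ∨ 2 ≤ Module.finrank F P := by omega
  have hz : Odd l.length → ∃ z, Q z ≠ 0 ∧ img (R Q z) W = W := fun _ => by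
    rcases hbig with hb | hb
    · obtain ⟨z, hz, hz0⟩ := exists_aniso_in hW (fun e => by rw [e, finrank_bot] at hb; omega)
      exact ⟨z, hz0, hfix z (Or.inl hz) hz0⟩
    · obtain ⟨z, hz, hz0⟩ := exists_aniso_in hP' (fun e => by rw [e, finrank_bot] at hb; omega)
      exact ⟨z, hz0, hfix z (Or.inr hz) hz0⟩
  by_cases h2 : (2 : F) = 0
  · haveI : CharP F 2 :=
      CharP.ringChar_of_prime_eq_zero Nat.prime_two (by exact_mod_cast h2 : ((2 : ℕ) : F) = 0) ▸ ringChar.charP F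
    haveI : Nonempty ι := Fintype.card_pos_iff.1 (by omega)
    exact adjust_two hQ h hl hg hz
  · refine adjust_odd h2 hQ (by omega) hl hg hz ?_
    rcases hbig with hb | hb
    · obtain ⟨v, hv, w, hw, a, b, c⟩ := exists_two_classes h2 hW hb
      exact ⟨v, w, a, b, c, by rw [img_mul, hfix w (Or.inl hw) b, hfix v (Or.inl hv) a]⟩
    · obtain ⟨v, hv, w, hw, a, b, c⟩ := exists_two_classes h2 hP' hb
      exact ⟨v, w, a, b, c, by rw [img_mul, hfix w (Or.inr hw) b, hfix v (Or.inr hv) a]⟩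

theorem det_iff_parity {m : ℕ} (h2 : (2 : F) ≠ 0) (hQ : (polarBilin Q).Nondegenerate)
    (hV : Module.finrank F (ι → F) = 2 * m) {U : Submodule F (ι → F)} (hU : MTS Q m U)
    (g : Cfsg.isometryGroup F ⇑Q) :
    Even (m - Module.finrank F (U ⊓ img g U : Submodule F (ι → F))) ↔ ((g : GL ι F) : Matrix ι ι F).det = 1 := by
  obtain ⟨l, hl, rfl⟩ := exists_list hQ (Or.inl (card_ne_two_of_two_ne h2)) g
  rw [parity_prod hQ hV hU hl, det_prod hl, neg_one_pow_eq_one_iff_even (fun e => h2 (by linear_combination -e))]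

theorem omega_iff_parity [CharP F 2] [Nonempty ι] {m : ℕ} (hQ : (polarBilin Q).Nondegenerate)
    (h : Fintype.card F ≠ 2 ∨ Fintype.card ι ≠ 4)
    (hV : Module.finrank F (ι → F) = 2 * m) {U : Submodule F (ι → F)} (hU : MTS Q m U)
    (g : Cfsg.isometryGroup F ⇑Q) :
    Even (m - Module.finrank F (U ⊓ img g U : Submodule F (ι → F))) ↔ g ∈ Cfsg.Omega F ⇑Q := by
  obtain ⟨l, hl, rfl⟩ := exists_list hQ h g
  rw [parity_prod hQ hV hU hl, mem_prod_iff_two hQ h hl]

theorem ker_funLeft_mts (m : ℕ) : MTS (OrthOrder.plusQ m F) m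
    (LinearMap.ker (LinearMap.funLeft F F (Sum.inr : Fin m → Fin m ⊕ Fin m))) := by
  have e : LinearMap.ker (LinearMap.funLeft F F (Sum.inr : Fin m → Fin m ⊕ Fin m)) =
      OrthFamilies.side (F := F) (fun _ : Fin m => false) := by
    ext x
    rw [LinearMap.mem_ker, funext_iff]
    exact Iff.rfl
  rw [e]
  exact OrthFamilies.side_mts _

end CfsgLib.Misc.SpinorTools
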