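import Mathlib

/-!
Non-alternating symmetric forms in characteristic two have orthonormal bases.
-/

set_option autoImplicit false
set_option linter.unusedSectionVars false

namespace CfsgLib.MiscSymmCharTwo

open Module

variable {F : Type*} [Field F] [Finite F] [CharP F 2]

theorem exists_sqrt (a : F) : ∃ s : F, s * s = a := by
  haveI : Fact (Nat.Prime 2) := ⟨Nat.prime_two⟩
  obtain ⟨s, hs⟩ := (frobeniusEquiv F 2).surjective a
  exact ⟨s, by rw [← hs, frobeniusEquiv_apply, frobenius_def, sq]⟩

theorem exists_orth (n : ℕ) : ∀ {V : Type*} [AddCommGroup V] [Module F V] [FiniteDimensional F V],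
    finrank F V = n → ∀ B : LinearMap.BilinForm F V, (∀ x y, B x y = B y x) →
      (∀ x, (∀ y, B x y = 0) → x = 0) → (n = 0 ∨ ∃ v : V, B v v ≠ 0) →
      ∃ b : Basis (Fin n) F V, ∀ i j, B (b i) (b j) = if i = j then 1 else 0 := by
  induction n with
  | zero => exact fun hV B _ _ _ => ⟨Module.finBasisOfFinrankEq F _ hV, fun i => i.elim0⟩
  | succ n ih =>
  intro V _ _ _ hV B hS hB hna
  obtain ⟨v₀, hv₀⟩ := hna.resolve_left (Nat.succ_ne_zero n)
  obtain ⟨s, hs⟩ := exists_sqrt (B v₀ v₀)⁻¹
  have h1 : B (s • v₀) (s • v₀) = 1 := by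
    simp only [map_smul, LinearMap.smul_apply, smul_eq_mul]
    rw [← mul_assoc, hs, inv_mul_cancel₀ hv₀]
  have hq : ∀ x y : V, B (x + y) (x + y) = B x x + B y y := fun x y => by
    simp only [map_add, LinearMap.add_apply, hS y x]
    have := CharTwo.add_self_eq_zero (B x y)
    linear_combination this
  obtain ⟨v, hv1, hv2⟩ : ∃ v : V, B v v = 1 ∧ (n = 0 ∨ ∃ w, B v w = 0 ∧ B w w ≠ 0) := by
    by_cases hw : ∃ w, B (s • v₀) w = 0 ∧ B w w ≠ 0
    · exact ⟨_, h1, Or.inr hw⟩
    push Not at hw
    by_cases he : ∀ e, B (s • v₀) e = 0 → e = 0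
    · refine ⟨_, h1, Or.inl ?_⟩
      have hinj : LinearMap.ker (B (s • v₀)) = ⊥ := (Submodule.eq_bot_iff _).2 fun e h => he e h
      have := LinearMap.finrank_range_add_finrank_ker (B (s • v₀))
      rw [hinj, finrank_bot, hV] at this
      have h2 := Submodule.finrank_le (LinearMap.range (B (s • v₀)))
      rw [finrank_self] at h2
      omega
    push Not at he
    obtain ⟨e, he1, he2⟩ := he
    set u := s • v₀
    obtain ⟨y, hy⟩ : ∃ y, B e y ≠ 0 := by
      by_contra h
      push Not at h
      exact he2 (hB e h)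
    let f := (B e y)⁻¹ • (y + B u y • u)
    have hf1 : B u f = 0 := by
      simp only [f, map_smul, map_add, smul_eq_mul, h1, mul_one, CharTwo.add_self_eq_zero, mul_zero]
    have hf2 : B e f = 1 := by
      simp only [f, map_smul, map_add, smul_eq_mul, hS e u, he1, mul_zero, add_zero, inv_mul_cancel₀ hy]
    refine ⟨u + e, by rw [hq, h1, hw e he1, add_zero], Or.inr ⟨f + u, ?_, by rw [hq, h1, hw f hf1, zero_add]; exact one_ne_zero⟩⟩
    simp only [map_add, LinearMap.add_apply, hf1, hf2, h1, hS e u, he1, zero_add, add_zero, CharTwo.add_self_eq_zero]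
  let W := LinearMap.ker (B v)
  have hW : ∀ x, x ∈ W ↔ B v x = 0 := fun x => LinearMap.mem_ker
  have hsur : Function.Surjective (B v) := fun a => ⟨a • v, by rw [map_smul, hv1, smul_eq_mul, mul_one]⟩
  have hWd : finrank F W = n := by
    have := LinearMap.finrank_range_add_finrank_ker (B v)
    rw [LinearMap.range_eq_top.2 hsur, finrank_top, finrank_self, hV] at this
    show finrank F (LinearMap.ker (B v)) = n
    omega
  have hdec : ∀ z : V, ∃ c : F, z + c • v ∈ W := fun z => ⟨B v z, by
    rw [hW, map_add, map_smul, hv1, smul_eq_mul, mul_one, CharTwo.add_self_eq_zero]⟩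
  obtain ⟨b, hb⟩ := ih hWd (B.restrict W) (fun x y => hS x.1 y.1)
    (fun x hx => Subtype.ext (hB x.1 fun y => by
      obtain ⟨c, hc⟩ := hdec y
      have h := hx ⟨_, hc⟩
      change B x.1 (y + c • v) = 0 at h
      rwa [map_add, map_smul, hS x.1 v, (hW _).1 x.2, smul_zero, add_zero] at h))
    (hv2.imp_right fun ⟨w, hw1, hw2⟩ => ⟨⟨w, (hW w).2 hw1⟩, hw2⟩)
  have hli : ∀ (c : F), ∀ x ∈ W, c • v + x = 0 → c = 0 := fun c x hx h => by
    have := congrArg (B v) h
    rwa [map_add, map_smul, hv1, (hW x).1 hx, add_zero, smul_eq_mul, mul_one, map_zero] at this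
  refine ⟨Basis.mkFinCons v b hli hdec, fun i j => ?_⟩
  simp only [Basis.coe_mkFinCons]
  induction i using Fin.cases with
  | zero =>
    induction j using Fin.cases with
    | zero => simp [hv1]
    | succ j =>
      simp only [Fin.cons_zero, Fin.cons_succ, Function.comp_apply]
      rw [if_neg (Fin.succ_ne_zero j).symm]
      exact (hW _).1 (b j).2
  | succ i =>
    induction j using Fin.cases with
    | zero =>
      simp only [Fin.cons_zero, Fin.cons_succ, Function.comp_apply]
      rw [if_neg (Fin.succ_ne_zero i), hS]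
      exact (hW _).1 (b i).2
    | succ j =>
      simp only [Fin.cons_succ, Function.comp_apply, Fin.succ_inj]
      exact hb i j

theorem main {V : Type*} [AddCommGroup V] [Module F V] [FiniteDimensional F V] {n : ℕ} (hV : finrank F V = n)
    (B : LinearMap.BilinForm F V) (hS : B.IsSymm) (hB : B.Nondegenerate) (hna : ∃ v : V, B v v ≠ 0) :
    ∃ b : Basis (Fin n) F V, ∀ i j, B (b i) (b j) = if i = j then 1 else 0 :=
  exists_orth n hV B (fun x y => hS.eq x y) hB.1 (Or.inr hna)

end CfsgLib.MiscSymmCharTwo
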