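import Cfsg.Agent.Misc.TraceEmbeds

/-!
The symmetric group of degree 4k+4 inside an orthogonal group of dimension 4k+2 over two elements.
-/

set_option autoImplicit false

namespace CfsgLib.Misc.SymmOrthTwo

open Module CfsgLib.MiscWittNormal

theorem transport {V : Type*} [AddCommGroup V] [Module (ZMod 2) V] [FiniteDimensional (ZMod 2) V]
    {G : Type*} [Group G] (ρ : G →* (V ≃ₗ[ZMod 2] V)) (hρ : Function.Injective ρ)
    (Q : QuadraticForm (ZMod 2) V) (hinv : ∀ g x, Q (ρ g x) = Q x) {d : ℕ} {ι : Type} [Fintype ι] [DecidableEq ι]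
    {e f : Fin d → V} {U : Submodule (ZMod 2) V} (hh : Hyp Q e f U) {g : ι → V} (hg : ∀ k, g k ∈ U)
    (hgi : LinearIndependent (ZMod 2) g) (hdim : finrank (ZMod 2) V = d + d + Fintype.card ι)
    (Q₀ : ((Fin d ⊕ Fin d) ⊕ ι → ZMod 2) → ZMod 2)
    (hQ₀ : ∀ x, Q₀ x = ∑ i, x (Sum.inl (Sum.inl i)) * x (Sum.inl (Sum.inr i)) + Q (∑ k, x (Sum.inr k) • g k)) :
    ∃ φ : G →* ↥(Cfsg.isometryGroup (ZMod 2) Q₀), Function.Injective φ := by
  let b : Basis ((Fin d ⊕ Fin d) ⊕ ι) (ZMod 2) V :=
    Basis.mk (indep Q hh hg hgi) ((indep Q hh hg hgi).span_eq_top_of_card_eq_finrank' (by simp [hdim])).ge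
  have hb : ∀ i, b i = Sum.elim (Sum.elim e f) g i := fun i => by simp [b]
  have hψ : ∀ x, Q x = Q₀ (b.equivFun x) := fun x => by
    conv_lhs => rw [← b.sum_equivFun x]
    rw [hQ₀, Fintype.sum_sum_type, Fintype.sum_sum_type]
    simp only [hb, Sum.elim_inl, Sum.elim_inr]
    exact MiscTraceEmbeds.hyp_value Q hh _ _ (Submodule.sum_mem _ fun k _ => U.smul_mem _ (hg k))
  exact MiscTraceEmbeds.to_isometry ρ hρ b.equivFun Q₀ fun g x => by rw [← hψ, ← hψ]; exact hinv g x

theorem choose_two_succ (n : ℕ) : ((n + 1).choose 2 : ZMod 2) = n.choose 2 + n := by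
  rw [Nat.choose_succ_succ, Nat.choose_one_right]; push_cast; ring

theorem choose_two_add (a : ℕ) : ∀ b : ℕ,
    ((a + b).choose 2 : ZMod 2) = a.choose 2 + b.choose 2 + a * b
  | 0 => by simp
  | b + 1 => by
    rw [← add_assoc, choose_two_succ, choose_two_add a b, choose_two_succ]; push_cast; ring

theorem choose_two_double : ∀ w : ℕ, ((2 * w).choose 2 : ZMod 2) = w
  | 0 => by simp
  | w + 1 => by
    rw [show 2 * (w + 1) = 2 * w + 1 + 1 by ring, choose_two_succ, choose_two_succ, choose_two_double w]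
    push_cast
    linear_combination (2 * (w : ZMod 2)) * CharTwo.two_eq_zero (R := ZMod 2)

variable {α : Type*} [Fintype α]

/-- The weight of a vector. -/
def wt (v : α → ZMod 2) : ℕ := ∑ p, (v p).val

theorem cast_wt (v : α → ZMod 2) : (wt v : ZMod 2) = ∑ p, v p := by
  simp [wt]

theorem wt_add (u v : α → ZMod 2) : wt (u + v) + 2 * ∑ p, (u p).val * (v p).val = wt u + wt v := by
  simp only [wt, Finset.mul_sum, ← Finset.sum_add_distrib, Pi.add_apply]
  refine Finset.sum_congr rfl fun p _ => ?_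
  generalize u p = a
  generalize v p = c
  revert a c
  decide

/-- `wt v choose 2` -/
def halfWt (v : α → ZMod 2) : ZMod 2 := ((wt v).choose 2 : ℕ)

theorem halfWt_add (u v : α → ZMod 2) :
    halfWt (u + v) = halfWt u + halfWt v + ((∑ p, u p) * (∑ p, v p) + ∑ p, u p * v p) := by
  have h := wt_add u v
  have e : ((wt (u + v) + 2 * ∑ p, (u p).val * (v p).val).choose 2 : ZMod 2) =
      ((wt u + wt v).choose 2 : ℕ) := by rw [h]
  rw [choose_two_add, choose_two_add, choose_two_double, cast_wt u, cast_wt v] at e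
  have e2 : ((2 * ∑ p, (u p).val * (v p).val : ℕ) : ZMod 2) = 0 := by
    push_cast; linear_combination (∑ p, ((u p).val : ZMod 2) * (v p).val) * CharTwo.two_eq_zero (R := ZMod 2)
  rw [e2, mul_zero, add_zero] at e
  have e3 : ((∑ p, (u p).val * (v p).val : ℕ) : ZMod 2) = ∑ p, u p * v p := by
    simp
  rw [e3] at e
  simp only [halfWt]
  linear_combination e - (∑ p, u p * v p) * CharTwo.two_eq_zero (R := ZMod 2)

/-- The standard form as a quadratic form. -/
def halfForm (α : Type*) [Fintype α] : QuadraticForm (ZMod 2) (α → ZMod 2) :=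
  QuadraticMap.ofPolar halfWt (fun a x => by
      have ha : a = 0 ∨ a = 1 := by revert a; decide
      rcases ha with rfl | rfl
      · simp [halfWt, wt]
      · simp)
    (fun x x' y => by
      simp only [QuadraticMap.polar, halfWt_add, Pi.add_apply, Finset.sum_add_distrib, add_mul]
      ring)
    (fun a x y => by
      have ha : a = 0 ∨ a = 1 := by revert a; decide
      rcases ha with rfl | rfl
      · simp [QuadraticMap.polar, halfWt, wt]
      · simp)

theorem halfForm_polar (u v : α → ZMod 2) :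
    QuadraticMap.polar ⇑(halfForm α) u v = (∑ p, u p) * (∑ p, v p) + ∑ p, u p * v p := by
  change halfWt (u + v) - halfWt u - halfWt v = _
  rw [halfWt_add]; ring

theorem halfWt_comp (σ : Equiv.Perm α) (v : α → ZMod 2) : halfWt (v ∘ σ) = halfWt v := by
  rw [halfWt, halfWt, wt, wt]
  congr 2
  exact Equiv.sum_comp σ fun p => (v p).val

variable [DecidableEq α]

/-- Even vectors vanishing at the base point. -/
def evenSub (l : α) : Submodule (ZMod 2) (α → ZMod 2) where
  carrier := {v | ∑ p, v p = 0 ∧ v l = 0}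
  add_mem' := fun {a b} ha hb => ⟨by simp [Finset.sum_add_distrib, ha.1, hb.1], by simp [ha.2, hb.2]⟩
  zero_mem' := by simp
  smul_mem' := fun c a ha => ⟨by simp [← Finset.mul_sum, ha.1], by simp [ha.2]⟩

variable (l : α)

theorem finrank_evenSub (hα : ∃ x, x ≠ l) :
    finrank (ZMod 2) (evenSub l) + 2 = Fintype.card α := by
  let φ : (α → ZMod 2) →ₗ[ZMod 2] ZMod 2 × ZMod 2 :=
    { toFun := fun v => (∑ p, v p, v l)
      map_add' := fun u v => by simp [Finset.sum_add_distrib]
      map_smul' := fun c v => by simp [← Finset.mul_sum] }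
  have hk : LinearMap.ker φ = evenSub l := by
    ext v; simp [φ, evenSub]
  obtain ⟨x, hx⟩ := hα
  have hs : Function.Surjective φ := fun c => ⟨Pi.single x (c.1 - c.2) + Pi.single l c.2, by
    simp [φ, Finset.sum_add_distrib, hx.symm]⟩
  have := LinearMap.finrank_range_add_finrank_ker φ
  rw [hk, LinearMap.range_eq_top.2 hs, finrank_top, Module.finrank_prod, finrank_self,
    Module.finrank_fintype_fun_eq_card] at this
  omega

theorem nondeg (hcard : Even (Fintype.card α)) :
    (QuadraticMap.polarBilin ((halfForm α).comp (evenSub l).subtype)).Nondegenerate := by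
  have key : ∀ v : evenSub l, (∀ w : evenSub l, QuadraticMap.polar ⇑(halfForm α) (v : α → ZMod 2) w = 0) → v = 0 := by
    intro v hv
    have hc : ∀ i j, i ≠ l → j ≠ l → (v : α → ZMod 2) i = (v : α → ZMod 2) j := by
      intro i j hi hj
      have := hv ⟨Pi.single i 1 + Pi.single j 1, by simp [Finset.sum_add_distrib, CharTwo.add_self_eq_zero],
        by simp [hi.symm, hj.symm]⟩
      rw [halfForm_polar, v.2.1, zero_mul, zero_add] at this
      simp [mul_add, Finset.sum_add_distrib, Pi.single_apply] at this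
      exact CharTwo.add_eq_zero.1 this
    refine Subtype.ext (funext fun i => ?_)
    by_cases hi : i = l
    · rw [hi]; exact v.2.2
    have hs := v.2.1
    rw [← Finset.add_sum_erase _ _ (Finset.mem_univ l), v.2.2, zero_add,
      Finset.sum_eq_card_nsmul (b := (v : α → ZMod 2) i) fun j hj => hc j i (Finset.ne_of_mem_erase hj) hi,
      Finset.card_erase_of_mem (Finset.mem_univ l), Finset.card_univ, nsmul_eq_mul] at hs
    obtain ⟨m, hm⟩ := hcard
    have hpos : 0 < Fintype.card α := Fintype.card_pos_iff.2 ⟨l⟩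
    rw [show Fintype.card α - 1 = 2 * (m - 1) + 1 by omega] at hs
    push_cast at hs
    simpa [CharTwo.two_eq_zero] using hs
  refine ⟨fun v hv => key v fun w => ?_, fun v hv => key v fun w => ?_⟩
  · have := hv w
    exact this
  · have := hv w
    rw [QuadraticMap.polar_comm]
    exact this

/-- Action on the normalised even vectors. -/
def evenAct (σ : Equiv.Perm α) (hα : Even (Fintype.card α)) : evenSub l →ₗ[ZMod 2] evenSub l where
  toFun v := ⟨fun p => (v : α → ZMod 2) (σ⁻¹ p) + (v : α → ZMod 2) (σ⁻¹ l), by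
      refine ⟨?_, CharTwo.add_self_eq_zero _⟩
      obtain ⟨m, hm⟩ := hα
      rw [Finset.sum_add_distrib, Equiv.sum_comp σ⁻¹ fun p => (v : α → ZMod 2) p, v.2.1, Finset.sum_const,
        Finset.card_univ, hm, ← two_mul, mul_smul, two_nsmul, CharTwo.add_self_eq_zero, zero_add]⟩
  map_add' u v := by ext p; simp; ring
  map_smul' c v := by ext p; simp [mul_add]

theorem evenAct_mul (hα : Even (Fintype.card α)) (σ τ : Equiv.Perm α) (v : evenSub l) :
    evenAct l (σ * τ) hα v = evenAct l σ hα (evenAct l τ hα v) := by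
  ext p
  simp [evenAct, mul_inv_rev]
  linear_combination -(v : α → ZMod 2) (τ⁻¹ l) * CharTwo.two_eq_zero (R := ZMod 2)

theorem evenAct_one (hα : Even (Fintype.card α)) (v : evenSub l) : evenAct l 1 hα v = v := by
  ext p
  simp [evenAct, v.2.2]

/-- The representation. -/
def evenRep (hα : Even (Fintype.card α)) : Equiv.Perm α →* (evenSub l ≃ₗ[ZMod 2] evenSub l) where
  toFun σ :=
    { evenAct l σ hα with
      invFun := evenAct l σ⁻¹ hα
      left_inv := fun v => by
        show evenAct l σ⁻¹ hα (evenAct l σ hα v) = v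
        rw [← evenAct_mul, inv_mul_cancel, evenAct_one]
      right_inv := fun v => by
        show evenAct l σ hα (evenAct l σ⁻¹ hα v) = v
        rw [← evenAct_mul, mul_inv_cancel, evenAct_one] }
  map_one' := LinearEquiv.ext fun v => evenAct_one l hα v
  map_mul' σ τ := LinearEquiv.ext fun v => evenAct_mul l hα σ τ v

theorem halfWt_evenAct (hα : Even (Fintype.card α)) (h4 : halfWt (fun _ : α => (1 : ZMod 2)) = 0)
    (σ : Equiv.Perm α) (v : evenSub l) :
    halfWt (evenAct l σ hα v : α → ZMod 2) = halfWt (v : α → ZMod 2) := by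
  have h : (evenAct l σ hα v : α → ZMod 2) =
      ((v : α → ZMod 2) ∘ ⇑σ⁻¹) + fun _ => (v : α → ZMod 2) (σ⁻¹ l) := rfl
  rw [h]
  generalize (v : α → ZMod 2) (σ⁻¹ l) = c
  have hc : c = 0 ∨ c = 1 := by revert c; decide
  rcases hc with rfl | rfl
  · rw [show (fun _ : α => (0 : ZMod 2)) = 0 from rfl, add_zero, halfWt_comp]
  · obtain ⟨m, hm⟩ := hα
    have hsum : ∑ p, ((v : α → ZMod 2) ∘ ⇑σ⁻¹) p = 0 :=
      (Equiv.sum_comp σ⁻¹ fun p => (v : α → ZMod 2) p).trans v.2.1
    rw [halfWt_add, halfWt_comp, h4, hsum]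
    simp only [mul_one, hsum, zero_mul, add_zero]

theorem evenRep_injective (hα : Even (Fintype.card α)) (h8 : 6 ≤ Fintype.card α) :
    Function.Injective (evenRep l hα) := by
  rw [injective_iff_map_eq_one]
  intro σ hσ
  have hpair : ∀ a b, a ≠ l → b ≠ l → a ≠ b → σ a = a ∨ σ a = b := by
    intro a b ha hb hab
    by_contra hne
    push_neg at hne
    let v : evenSub l := ⟨Pi.single a 1 + Pi.single b 1,
      by simp [Finset.sum_add_distrib, CharTwo.add_self_eq_zero], by simp [ha.symm, hb.symm]⟩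
    have hv : ∀ p, (v : α → ZMod 2) (σ⁻¹ p) + (v : α → ZMod 2) (σ⁻¹ l) = (v : α → ZMod 2) p := fun p =>
      congrFun (congrArg Subtype.val (LinearEquiv.congr_fun hσ v)) p
    obtain ⟨p, -, hp⟩ := Finset.exists_mem_notMem_of_card_lt_card
      (s := ({a, b, σ a, σ b} : Finset α)) (t := Finset.univ) (by
        have := (Finset.card_le_four : ({a, b, σ a, σ b} : Finset α).card ≤ 4)
        rw [Finset.card_univ]
        omega)
    simp only [Finset.mem_insert, Finset.mem_singleton, not_or] at hp
    obtain ⟨p1, p2, p3, p4⟩ := hp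
    have hp' : σ⁻¹ p ≠ a ∧ σ⁻¹ p ≠ b :=
      ⟨fun h => p3 (by rw [← h]; simp), fun h => p4 (by rw [← h]; simp)⟩
    have z : ∀ x, x ≠ a → x ≠ b → (v : α → ZMod 2) x = 0 := fun x xa xb => by simp [v, xa, xb]
    have za : (v : α → ZMod 2) a = 1 := by simp [v, hab]
    have h1 := hv p
    rw [z _ hp'.1 hp'.2, z _ p1 p2, zero_add] at h1
    have h2 := hv (σ a)
    rw [h1, add_zero, z _ hne.1 hne.2, show σ⁻¹ (σ a) = a from σ.symm_apply_apply a, za] at h2
    exact one_ne_zero h2
  have hfix : ∀ a, a ≠ l → σ a = a := by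
    intro a ha
    obtain ⟨b, -, hb⟩ := Finset.exists_mem_notMem_of_card_lt_card
      (s := ({a, l} : Finset α)) (t := Finset.univ) (by
        have := (Finset.card_le_two : ({a, l} : Finset α).card ≤ 2)
        rw [Finset.card_univ]
        omega)
    obtain ⟨c, -, hc⟩ := Finset.exists_mem_notMem_of_card_lt_card
      (s := ({a, b, l} : Finset α)) (t := Finset.univ) (by
        have := (Finset.card_le_three : ({a, b, l} : Finset α).card ≤ 3)
        rw [Finset.card_univ]
        omega)
    simp only [Finset.mem_insert, Finset.mem_singleton, not_or] at hb hc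
    rcases hpair a b ha hb.2 (Ne.symm hb.1) with h | h
    · exact h
    rcases hpair a c ha hc.2.2 (Ne.symm hc.1) with h' | h'
    · exact h'
    · exact absurd (h'.symm.trans h) hc.2.1
  refine Equiv.ext fun p => ?_
  by_cases hp : p = l
  · subst hp
    by_contra h
    exact h (σ.injective (hfix _ h))
  · exact hfix p hp

variable (k : ℕ)

local notation "α₀" => Fin (2 * k + 2) × Fin 2
local notation "l₀" => ((Fin.last (2 * k + 1), 1) : Fin (2 * k + 2) × Fin 2)

theorem main (hk : 1 ≤ k) :
    (Odd k → ∃ φ : Equiv.Perm (Fin (4 * k + 4)) →*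
      ↥(Cfsg.isometryGroup (ZMod 2) (Cfsg.quadFormPlus (2 * k + 1) (ZMod 2))), Function.Injective φ) ∧
    (Even k → ∃ φ : Equiv.Perm (Fin (4 * k + 4)) →*
      ↥(Cfsg.isometryGroup (ZMod 2) (Cfsg.quadFormMinus (2 * k) (ZMod 2) 1 1)), Function.Injective φ) := by
  classical
  haveI : Fact (Nat.Prime 2) := ⟨Nat.prime_two⟩
  have hcard : Fintype.card α₀ = 4 * k + 4 := by simp; ring
  have hev : Even (Fintype.card α₀) := ⟨2 * k + 2, by omega⟩
  have h4 : halfWt (fun _ : α₀ => (1 : ZMod 2)) = 0 := by
    have : wt (fun _ : α₀ => (1 : ZMod 2)) = 2 * (2 * (k + 1)) := by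
      simp [wt, ZMod.val_one]; ring
    rw [halfWt, this, choose_two_double]
    push_cast
    linear_combination ((k : ZMod 2) + 1) * CharTwo.two_eq_zero (R := ZMod 2)
  let V := evenSub l₀
  let Q : QuadraticForm (ZMod 2) V := (halfForm α₀).comp V.subtype
  have hQ : ∀ v : V, Q v = halfWt (v : α₀ → ZMod 2) := fun v => rfl
  have hpol : ∀ u v : V, QuadraticMap.polar ⇑Q u v =
      ∑ p, (u : α₀ → ZMod 2) p * (v : α₀ → ZMod 2) p := by
    intro u v
    change QuadraticMap.polar ⇑(halfForm α₀) (u : α₀ → ZMod 2) v = _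
    rw [halfForm_polar, u.2.1, zero_mul, zero_add]
  have hnd : (QuadraticMap.polarBilin Q).Nondegenerate := nondeg l₀ hev
  have hdimV : finrank (ZMod 2) V = 2 * (2 * k + 1) := by
    have := finrank_evenSub (l₀) ⟨(0, 0), by simp⟩
    rw [hcard] at this
    change finrank (ZMod 2) (evenSub l₀) = _
    omega
  let e : Equiv.Perm (Fin (4 * k + 4)) ≃* Equiv.Perm α₀ :=
    (((finCongr (by ring : 4 * k + 4 = (2 * k + 2) * 2)).trans finProdFinEquiv.symm)).permCongrHom
  let ρ : Equiv.Perm (Fin (4 * k + 4)) →* (V ≃ₗ[ZMod 2] V) := (evenRep l₀ hev).comp e.toMonoidHom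
  have hρ : Function.Injective ρ := (evenRep_injective l₀ hev (by omega)).comp e.injective
  have hinv : ∀ g x, Q (ρ g x) = Q x := fun g x => halfWt_evenAct l₀ hev h4 (e g) x
  -- the singular subspace
  let ext : (Fin (2 * k) → ZMod 2) → Fin (2 * k + 2) → ZMod 2 := fun u =>
    Fin.snoc (Fin.snoc u (∑ i, u i)) 0
  have hext : ∀ u, ∑ i, ext u i = 0 := fun u => by
    simp only [ext]
    rw [Fin.sum_univ_castSucc, Fin.sum_univ_castSucc]
    simp only [Fin.snoc_castSucc, Fin.snoc_last, add_zero]
    exact CharTwo.add_self_eq_zero _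
  let j : (Fin (2 * k) → ZMod 2) →ₗ[ZMod 2] V :=
    { toFun := fun u => ⟨fun p => ext u p.1, by
        refine ⟨?_, by simp [ext]⟩
        rw [Fintype.sum_prod_type]
        simp [← Finset.mul_sum, hext]⟩
      map_add' := fun u v => by
        ext ⟨i, s⟩
        show ext (u + v) i = ext u i + ext v i
        refine Fin.lastCases ?_ (fun i => Fin.lastCases ?_ (fun i => ?_) i) i <;>
          simp [ext, Finset.sum_add_distrib]
      map_smul' := fun c v => by
        ext ⟨i, s⟩
        show ext (c • v) i = c * ext v i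
        refine Fin.lastCases ?_ (fun i => Fin.lastCases ?_ (fun i => ?_) i) i <;>
          simp [ext, Finset.mul_sum] }
  have hj : Function.Injective j := fun u v h => funext fun i => by
    have := congrArg (fun z : V => (z : α₀ → ZMod 2) (i.castSucc.castSucc, 0)) h
    simpa [j, ext] using this
  have hQj : ∀ u, Q (j u) = 0 := fun u => by
    have : wt (j u : α₀ → ZMod 2) = 2 * ∑ i, (ext u i).val := by
      rw [wt, Fintype.sum_prod_type]
      simp [j, Finset.mul_sum]
    rw [hQ, halfWt, this, choose_two_double]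
    push_cast
    simpa using hext u
  let a : V := ⟨fun p => if p.2 = 0 then 1 else 0, by
    refine ⟨?_, by simp⟩
    rw [Fintype.sum_prod_type]
    simp [CharTwo.two_eq_zero]⟩
  let d : V := ⟨fun p => if p.1 = 0 then 1 else 0, by
    refine ⟨?_, by simp [Fin.ext_iff]⟩
    rw [Fintype.sum_prod_type, Finset.sum_eq_single (0 : Fin (2 * k + 2))]
    · simp [CharTwo.two_eq_zero]
    · intro x _ hx; simp [hx]
    · simp⟩
  have hja : ∀ u, QuadraticMap.polar ⇑Q (j u) a = 0 := fun u => by
    rw [hpol, Fintype.sum_prod_type]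
    simpa [j, a] using hext u
  have hjd : ∀ u, QuadraticMap.polar ⇑Q (j u) d = 0 := fun u => by
    rw [hpol, Fintype.sum_prod_type]
    simp [j, d, CharTwo.add_self_eq_zero, CharTwo.two_eq_zero]
  have had : QuadraticMap.polar ⇑Q a d = 1 := by
    rw [hpol, Fintype.sum_prod_type]
    simp [a, d]
  have hQd : Q d = 1 := by
    have : wt (d : α₀ → ZMod 2) = 2 * 1 := by
      rw [wt, Fintype.sum_prod_type]
      simp [d, apply_ite ZMod.val, ZMod.val_one]
    rw [hQ, halfWt, this, choose_two_double]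
    rfl
  have hQa : Q a = (k + 1 : ℕ) := by
    have : wt (a : α₀ → ZMod 2) = 2 * (k + 1) := by
      rw [wt, Fintype.sum_prod_type]
      simp [a, apply_ite ZMod.val, ZMod.val_one]
      ring
    rw [hQ, halfWt, this, choose_two_double]
  set S := LinearMap.range j
  have hdS : finrank (ZMod 2) S = 2 * k := by
    rw [LinearMap.finrank_range_of_inj hj, Module.finrank_fintype_fun_eq_card, Fintype.card_fin]
  constructor
  · intro hodd
    have hQa0 : Q a = 0 := by
      rw [hQa]
      obtain ⟨r, rfl⟩ := hodd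
      push_cast
      linear_combination ((r : ZMod 2) + 1) * CharTwo.two_eq_zero (R := ZMod 2)
    have hS' : ∀ s ∈ S ⊔ Submodule.span (ZMod 2) {a}, Q s = 0 := by
      intro s hs
      obtain ⟨_, ⟨u, rfl⟩, y, hy, rfl⟩ := Submodule.mem_sup.1 hs
      obtain ⟨c, rfl⟩ := Submodule.mem_span_singleton.1 hy
      rw [qadd, hQj, qsmul, hQa0, psmul_right, hja]
      ring
    have ha : a ∉ S := by
      rintro ⟨u, hu⟩
      have h1 := hjd u
      rw [hu, had] at h1
      exact one_ne_zero h1
    have hd' : 2 * k + 1 ≤ finrank (ZMod 2) ↥(S ⊔ Submodule.span (ZMod 2) {a}) := by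
      have := Submodule.finrank_lt_finrank_of_lt
        (show S < S ⊔ Submodule.span (ZMod 2) {a} from lt_of_le_of_ne le_sup_left fun h => ha
          (h ▸ Submodule.mem_sup_right (Submodule.mem_span_singleton_self a)))
      omega
    obtain ⟨e', f', -, hh⟩ := MiscTraceEmbeds.plus_of_singular Q (2 * k + 1) ⊤
      (S ⊔ Submodule.span (ZMod 2) {a}) (top_nondeg Q hnd) (by rw [finrank_top, hdimV]) le_top hd' hS'
    obtain ⟨φ, hφ⟩ := transport ρ hρ Q hinv hh (ι := Fin 0) (g := Fin.elim0) (fun i => i.elim0)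
      linearIndependent_empty_type (by simp [hdimV]; ring)
      (fun x => ∑ i, x (Sum.inl (Sum.inl i)) * x (Sum.inl (Sum.inr i))) (fun x => by simp)
    obtain ⟨ψ, hψ⟩ := MiscTraceEmbeds.reindex_isometry (F := ZMod 2)
      (Equiv.sumEmpty (Fin (2 * k + 1) ⊕ Fin (2 * k + 1)) (Fin 0)).symm
      (fun x => ∑ i, x (Sum.inl (Sum.inl i)) * x (Sum.inl (Sum.inr i)))
      (Cfsg.quadFormPlus (2 * k + 1) (ZMod 2)) (fun x => rfl)
    exact ⟨ψ.comp φ, hψ.comp hφ⟩
  · intro heven
    have hQa1 : Q a = 1 := by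
      rw [hQa]
      obtain ⟨r, rfl⟩ := heven
      push_cast
      linear_combination (r : ZMod 2) * CharTwo.two_eq_zero (R := ZMod 2)
    have haa : QuadraticMap.polar ⇑Q a a = 0 := by
      rw [QuadraticMap.polar_self, hQa1]; rfl
    have hdd : QuadraticMap.polar ⇑Q d d = 0 := by
      rw [QuadraticMap.polar_self, hQd]; rfl
    have hda : QuadraticMap.polar ⇑Q d a = 1 := by rw [QuadraticMap.polar_comm, had]
    let φ₂ : V →ₗ[ZMod 2] ZMod 2 × ZMod 2 := (QuadraticMap.polarBilin Q a).prod (QuadraticMap.polarBilin Q d)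
    let U := LinearMap.ker φ₂
    have hU : ∀ x, x ∈ U ↔ QuadraticMap.polar ⇑Q a x = 0 ∧ QuadraticMap.polar ⇑Q d x = 0 := fun x => by
      simp [U, φ₂, Prod.ext_iff]
    have hUd : finrank (ZMod 2) U = 2 * (2 * k) := by
      have hs : Function.Surjective φ₂ := fun c => ⟨c.2 • a + c.1 • d, by
        simp [φ₂, haa, hdd, had, hda]⟩
      have := LinearMap.finrank_range_add_finrank_ker φ₂
      rw [LinearMap.range_eq_top.2 hs, finrank_top, Module.finrank_prod, finrank_self, hdimV] at this
      change finrank (ZMod 2) (LinearMap.ker φ₂) = _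
      omega
    have hUnd : NondegOn Q U := by
      intro x hx hxU
      refine hnd.1 x fun y => ?_
      obtain ⟨hxa, hxd⟩ := (hU x).1 hx
      have hm : y + (QuadraticMap.polar ⇑Q d y • a + QuadraticMap.polar ⇑Q a y • d) ∈ U := (hU _).2
        ⟨by simp only [padd_right, psmul_right, haa, had, mul_zero, mul_one, zero_add, CharTwo.add_self_eq_zero],
         by simp only [padd_right, psmul_right, hdd, hda, mul_zero, mul_one, add_zero, CharTwo.add_self_eq_zero]⟩
      have := hxU _ hm
      rw [padd_right, padd_right, psmul_right, psmul_right, QuadraticMap.polar_comm _ x a,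
        QuadraticMap.polar_comm _ x d, hxa, hxd, mul_zero, mul_zero, add_zero, add_zero] at this
      exact this
    have hSU : S ≤ U := by
      rintro _ ⟨u, rfl⟩
      exact (hU _).2 ⟨by rw [QuadraticMap.polar_comm]; exact hja u, by rw [QuadraticMap.polar_comm]; exact hjd u⟩
    obtain ⟨e', f', hef, h1, h2, h3, -⟩ := MiscTraceEmbeds.plus_of_singular Q (2 * k) U S hUnd hUd hSU
      (le_of_eq hdS.symm) (by rintro _ ⟨u, rfl⟩; exact hQj u)
    let g : Fin 2 → V := ![a, d]
    let P := Submodule.span (ZMod 2) (Set.range g)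
    have hh : Hyp Q e' f' P := by
      refine ⟨h1, h2, h3, fun i w hw => ?_⟩
      have : ∀ z ∈ U, P ≤ LinearMap.ker (QuadraticMap.polarBilin Q z) := fun z hz => by
        rw [Submodule.span_le]
        rintro _ ⟨t, rfl⟩
        show QuadraticMap.polar ⇑Q z (g t) = 0
        rw [QuadraticMap.polar_comm]
        fin_cases t
        · exact ((hU z).1 hz).1
        · exact ((hU z).1 hz).2
      exact ⟨this _ (hef i).1 hw, this _ (hef i).2 hw⟩
    have hgi : LinearIndependent (ZMod 2) g := by
      rw [LinearIndependent.pair_iff]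
      intro r s h
      have e1 := congrArg (fun w => QuadraticMap.polar ⇑Q a w) h
      have e2 := congrArg (fun w => QuadraticMap.polar ⇑Q d w) h
      simp only [padd_right, psmul_right, haa, had, hda, hdd, mul_zero, mul_one, zero_add, add_zero,
        QuadraticMap.polar_zero_right] at e1 e2
      exact ⟨e2, e1⟩
    exact transport ρ hρ Q hinv hh (g := g) (fun t => Submodule.subset_span ⟨t, rfl⟩) hgi
      (by simp [hdimV]; ring) (Cfsg.quadFormMinus (2 * k) (ZMod 2) 1 1) fun x => by
        rw [Cfsg.quadFormMinus]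
        congr 1
        rw [Fin.sum_univ_two]
        simp only [g, Matrix.cons_val_zero, Matrix.cons_val_one, qadd, qsmul, hQa1, hQd,
          QuadraticMap.polar_smul_left, psmul_right, had, smul_eq_mul]
        ring

end CfsgLib.Misc.SymmOrthTwo
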