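import Cfsg.Agent.Misc.SLTwoDiscrete
import Mathlib.GroupTheory.GroupAction.CardCommute
import Mathlib.GroupTheory.Sylow

/-!
Normalisers of the maximal tori of SL₂(q), q odd.
-/

set_option autoImplicit false
set_option linter.unusedSectionVars false
set_option linter.unusedSimpArgs false

namespace CfsgLib.Misc.TorusNormalizer

open PSLTwoProducts (tr tr_conj)
open SLTwoDiscrete (two_ne)

variable {F : Type*} [Field F] [Fintype F]

local notation "SL2" => Matrix.SpecialLinearGroup (Fin 2) F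
local notation "Z" g => Subgroup.centralizer ({g} : Set (Matrix.SpecialLinearGroup (Fin 2) F))

theorem nc (k : SL2) : (-1 : SL2) * k = k * -1 := Subtype.ext (by simp)

theorem nsq : (-1 : SL2) * -1 = 1 := by simp

theorem involution (h2 : (2 : F) ≠ 0) {x : SL2} (hx : x * x = 1) : x = 1 ∨ x = -1 := by
  have e := SLTwoTorus.cayley x
  rw [← Matrix.SpecialLinearGroup.coe_mul, hx] at e
  have h00 := congrFun (congrFun e 0) 0
  have h01 := congrFun (congrFun e 0) 1
  have h10 := congrFun (congrFun e 1) 0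
  have h11 := congrFun (congrFun e 1) 1
  simp at h00 h01 h10 h11
  have ht : tr x ≠ 0 := fun e => by
    rw [e, zero_mul] at h00
    exact h2 (by linear_combination h00)
  have a01 : (x : Matrix (Fin 2) (Fin 2) F) 0 1 = 0 := h01.resolve_left ht
  have a10 : (x : Matrix (Fin 2) (Fin 2) F) 1 0 = 0 := h10.resolve_left ht
  have a11 : (x : Matrix (Fin 2) (Fin 2) F) 1 1 = (x : Matrix (Fin 2) (Fin 2) F) 0 0 :=
    mul_left_cancel₀ ht (by linear_combination h00 - h11)
  have hd : (x : Matrix (Fin 2) (Fin 2) F).det = 1 := x.2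
  rw [Matrix.det_fin_two, a01, a10, a11, zero_mul, sub_zero] at hd
  rcases mul_self_eq_one_iff.1 hd with a | a
  · refine Or.inl (Subtype.ext ?_)
    ext i j
    fin_cases i <;> fin_cases j <;> simp [a01, a10, a11, a]
  · refine Or.inr (Subtype.ext ?_)
    rw [Matrix.SpecialLinearGroup.coe_neg]
    ext i j
    fin_cases i <;> fin_cases j <;> simp [a01, a10, a11, a]

/-- a regular semisimple element with cyclic centraliser and an inverter -/
structure Tor (g : SL2) : Prop where
  h2 : (2 : F) ≠ 0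
  h1 : g ≠ 1
  hn : g ≠ -1
  cyc : IsCyclic (Z g)
  cen : ∀ c ∈ (Z g), c ≠ 1 → c ≠ -1 → (Z c) = (Z g)
  pair : ∀ c ∈ (Z g), ∀ d ∈ (Z g), c ≠ 1 → c ≠ -1 → tr d = tr c → d = c ∨ d = c⁻¹
  inverter : ∃ w, w * g * w⁻¹ = g⁻¹

theorem Tor.self_mem {g : SL2} : g ∈ (Z g) := Subgroup.mem_centralizer_singleton_iff.2 rfl

theorem neg_mem (g : SL2) : (-1 : SL2) ∈ (Z g) := Subgroup.mem_centralizer_singleton_iff.2 (nc g)

namespace Tor

variable {g : Matrix.SpecialLinearGroup (Fin 2) F}

theorem comm (hT : Tor g) {a b : SL2} (ha : a ∈ (Z g)) (hb : b ∈ (Z g)) : a * b = b * a := by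
  haveI := hT.cyc
  obtain ⟨c, hc⟩ := IsCyclic.exists_generator (α := Z g)
  obtain ⟨i, hi⟩ := Subgroup.mem_zpowers_iff.1 (hc ⟨a, ha⟩)
  obtain ⟨j, hj⟩ := Subgroup.mem_zpowers_iff.1 (hc ⟨b, hb⟩)
  have := ((Commute.refl c).zpow_zpow i j).eq
  rw [hi, hj] at this
  exact congrArg Subtype.val this

theorem ne_inv (hT : Tor g) {c : SL2} (h1 : c ≠ 1) (hn : c ≠ -1) : c ≠ c⁻¹ := fun e => by
  rcases involution hT.h2 (mul_eq_one_iff_eq_inv.2 e : c * c = 1) with a | a
  exacts [h1 a, hn a]

/-- an element inverting `g` inverts its centraliser -/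
theorem inverts (hT : Tor g) {w : SL2} (hw : w * g * w⁻¹ = g⁻¹) {c : SL2} (hc : c ∈ (Z g)) :
    w * c * w⁻¹ = c⁻¹ := by
  by_cases h1 : c = 1
  · simp [h1]
  by_cases hn : c = -1
  · rw [hn, ← nc, mul_assoc, mul_inv_cancel, mul_one]
    exact eq_inv_of_mul_eq_one_left nsq
  have hm : w * c * w⁻¹ ∈ (Z g) := by
    have hcg : c * g⁻¹ = g⁻¹ * c := hT.comm hc (Subgroup.inv_mem _ self_mem)
    have e : (w * c * w⁻¹) * g⁻¹ = g⁻¹ * (w * c * w⁻¹) := by
      rw [← hw]
      have h' : c * g = g * c := hT.comm hc self_mem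
      calc w * c * w⁻¹ * (w * g * w⁻¹) = w * (c * g) * w⁻¹ := by group
        _ = w * g * w⁻¹ * (w * c * w⁻¹) := by rw [h']; group
    refine Subgroup.mem_centralizer_singleton_iff.2 ?_
    have e' := (Commute.inv_right (show Commute (w * c * w⁻¹) g⁻¹ from e)).eq
    rwa [inv_inv] at e'
  rcases hT.pair c hc _ hm h1 hn (tr_conj w c) with e | e
  · exfalso
    have hwc : w ∈ (Z c) := Subgroup.mem_centralizer_singleton_iff.2 (mul_inv_eq_iff_eq_mul.1 e)
    rw [hT.cen c hc h1 hn, Subgroup.mem_centralizer_singleton_iff] at hwc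
    rw [hwc, mul_inv_cancel_right] at hw
    exact hT.ne_inv hT.h1 hT.hn hw
  · exact e

theorem mem_normalizer (hT : Tor g) {w : SL2} (hw : w * g * w⁻¹ = g⁻¹) :
    w ∈ Subgroup.normalizer ((Z g) : Set SL2) := by
  rw [Subgroup.mem_normalizer_iff]
  intro c
  constructor
  · intro hc
    rw [hT.inverts hw hc]
    exact Subgroup.inv_mem _ hc
  · intro hc
    have hw' : w⁻¹ * g * w⁻¹⁻¹ = g⁻¹ := by
      rw [inv_inv]
      calc w⁻¹ * g * w = w⁻¹ * (w * g * w⁻¹)⁻¹ * w := by rw [hw, inv_inv]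
        _ = g⁻¹ := by group
    have e : c = (w * c * w⁻¹)⁻¹ := by
      rw [← hT.inverts hw' hc]
      group
    rw [e]
    exact Subgroup.inv_mem _ hc

theorem normalizer_cases (hT : Tor g) {w : SL2} (hw : w * g * w⁻¹ = g⁻¹) {n : SL2}
    (hn : n ∈ Subgroup.normalizer ((Z g) : Set SL2)) : n ∈ (Z g) ∨ w⁻¹ * n ∈ (Z g) := by
  have hm : n * g * n⁻¹ ∈ (Z g) := (Subgroup.mem_normalizer_iff.1 hn g).1 self_mem
  rcases hT.pair g self_mem _ hm hT.h1 hT.hn (tr_conj n g) with e | e
  · exact Or.inl (Subgroup.mem_centralizer_singleton_iff.2 (mul_inv_eq_iff_eq_mul.1 e))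
  · refine Or.inr (Subgroup.mem_centralizer_singleton_iff.2 ?_)
    rw [← hw, mul_inv_eq_iff_eq_mul] at e
    calc w⁻¹ * n * g = w⁻¹ * (n * g) := mul_assoc _ _ _
      _ = g * (w⁻¹ * n) := by rw [e]; group

theorem not_mem (hT : Tor g) {w : SL2} (hw : w * g * w⁻¹ = g⁻¹) : w ∉ (Z g) := fun h => by
  rw [Subgroup.mem_centralizer_singleton_iff] at h
  rw [h, mul_inv_cancel_right] at hw
  exact hT.ne_inv hT.h1 hT.hn hw

theorem card_normalizer (hT : Tor g) :
    Nat.card (Subgroup.normalizer ((Z g) : Set SL2)) = 2 * Nat.card (Z g) := by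
  classical
  obtain ⟨w, hw⟩ := hT.inverter
  let f : Bool × (Z g) → Subgroup.normalizer ((Z g) : Set SL2) := fun p =>
    ⟨(if p.1 then w else 1) * p.2, Subgroup.mul_mem _ (by
      split_ifs
      exacts [hT.mem_normalizer hw, Subgroup.one_mem _]) (Subgroup.le_normalizer p.2.2)⟩
  have hf : Function.Bijective f := by
    constructor
    · rintro ⟨b, c⟩ ⟨b', c'⟩ e
      have e' : (if b then w else 1) * (c : SL2) = (if b' then w else 1) * c' := congrArg Subtype.val e
      cases b <;> cases b' <;> simp at e'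
      · rw [e']
      · refine absurd ?_ (hT.not_mem hw)
        rw [show w = (c : SL2) * (c' : SL2)⁻¹ by rw [e', mul_inv_cancel_right]]
        exact Subgroup.mul_mem _ c.2 (Subgroup.inv_mem _ c'.2)
      · refine absurd ?_ (hT.not_mem hw)
        rw [show w = (c' : SL2) * (c : SL2)⁻¹ by rw [← e', mul_inv_cancel_right]]
        exact Subgroup.mul_mem _ c'.2 (Subgroup.inv_mem _ c.2)
      · rw [e']
    · intro n
      rcases hT.normalizer_cases hw n.2 with h | h
      · exact ⟨(false, ⟨n, h⟩), Subtype.ext (by simp [f])⟩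
      · exact ⟨(true, ⟨w⁻¹ * n, h⟩), Subtype.ext (by simp [f])⟩
  rw [← Nat.card_eq_of_bijective f hf, Nat.card_prod, Nat.card_eq_fintype_card (α := Bool), Fintype.card_bool]

theorem sq_eq_neg_one (hT : Tor g) {n : SL2} (hn : n ∈ Subgroup.normalizer ((Z g) : Set SL2))
    (hnot : n ∉ (Z g)) : n * n = -1 := by
  obtain ⟨w, hw⟩ := hT.inverter
  obtain ⟨c, hc, rfl⟩ : ∃ c ∈ (Z g), n = w * c :=
    ⟨w⁻¹ * n, (hT.normalizer_cases hw hn).resolve_left hnot, by group⟩
  have e : w * c * (w * c) = w * w := by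
    have h := hT.inverts hw hc
    rw [mul_inv_eq_iff_eq_mul] at h
    calc w * c * (w * c) = w * c * w * c := by rw [← mul_assoc]
      _ = c⁻¹ * w * w * c := by rw [h]
      _ = c⁻¹ * (w * w) * c := by rw [mul_assoc c⁻¹]
      _ = w * w := by
          have hww : w * w ∈ (Z g) := Subgroup.mem_centralizer_singleton_iff.2 (by
            have hi := hT.inverts hw (Subgroup.inv_mem _ self_mem : g⁻¹ ∈ (Z g))
            rw [inv_inv, mul_inv_eq_iff_eq_mul] at hi
            rw [mul_inv_eq_iff_eq_mul] at hw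
            calc w * w * g = w * (w * g) := mul_assoc _ _ _
              _ = g * (w * w) := by rw [hw, ← mul_assoc, hi, mul_assoc])
          rw [mul_assoc, hT.comm hww hc, inv_mul_cancel_left]
  rw [e]
  have hww : w * w ∈ (Z g) := Subgroup.mem_centralizer_singleton_iff.2 (by
    have hi := hT.inverts hw (Subgroup.inv_mem _ self_mem : g⁻¹ ∈ (Z g))
    rw [inv_inv, mul_inv_eq_iff_eq_mul] at hi
    rw [mul_inv_eq_iff_eq_mul] at hw
    calc w * w * g = w * (w * g) := mul_assoc _ _ _
      _ = g * (w * w) := by rw [hw, ← mul_assoc, hi, mul_assoc])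
  rcases Classical.em (w * w = 1 ∨ w * w = -1) with (h | h) | h
  · rcases involution hT.h2 h with a | a
    · exact absurd (by rw [a]; exact Subgroup.one_mem _) (hT.not_mem hw)
    · exact absurd (by rw [a]; exact neg_mem g) (hT.not_mem hw)
  · exact h
  · push Not at h
    have : w ∈ (Z (w * w)) := Subgroup.mem_centralizer_singleton_iff.2 (mul_assoc w w w).symm
    rw [hT.cen _ hww h.1 h.2] at this
    exact absurd this (hT.not_mem hw)

theorem card_classes (hT : Tor g) :
    2 * Nat.card (ConjClasses (Subgroup.normalizer ((Z g) : Set SL2))) = Nat.card (Z g) + 6 := by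
  classical
  set N := Subgroup.normalizer ((Z g) : Set SL2)
  haveI : Fintype N := Fintype.ofFinite _
  have hle : (Z g) ≤ N := Subgroup.le_normalizer
  have hm1 : (-1 : SL2) ∈ N := hle (neg_mem g)
  have hne : (-1 : SL2) ≠ 1 := fun e => hT.h2 (by
    have := congrArg (fun k : SL2 => (k : Matrix (Fin 2) (Fin 2) F) 0 0) e
    simp at this
    linear_combination -this)
  let K : N → ℕ := fun a => Nat.card {b : N // Commute a b}
  have hN := hT.card_normalizer
  have hK : ∀ a : N, K a = if (a : SL2) = 1 ∨ (a : SL2) = -1 then 2 * Nat.card (Z g)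
      else if (a : SL2) ∈ (Z g) then Nat.card (Z g) else 4 := by
    intro a
    split_ifs with h h'
    · have : ∀ b : N, Commute a b := fun b => Subtype.ext (by
        show (a : SL2) * b = b * a
        rcases h with h | h <;> rw [h]
        · rw [one_mul, mul_one]
        · exact nc _)
      rw [← hN]
      exact Nat.card_congr (Equiv.subtypeUnivEquiv this)
    · push Not at h
      refine Nat.card_congr
        { toFun := fun b => ⟨b.1.1, by
            rw [← hT.cen _ h' h.1 h.2]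
            exact Subgroup.mem_centralizer_singleton_iff.2 (congrArg Subtype.val b.2.eq).symm⟩
          invFun := fun c => ⟨⟨c.1, hle c.2⟩, Subtype.ext (hT.comm h' c.2)⟩
          left_inv := fun b => Subtype.ext (Subtype.ext rfl)
          right_inv := fun c => Subtype.ext rfl }
    · push Not at h
      have hsq := hT.sq_eq_neg_one a.2 h'
      obtain ⟨w, hw⟩ := hT.inverter
      let z : N := ⟨-1, hm1⟩
      have hset : ∀ b : N, Commute a b ↔ b ∈ ({1, z, a, z * a} : Finset N) := by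
        intro b
        simp only [Finset.mem_insert, Finset.mem_singleton]
        constructor
        · intro hb
          have hb' : (a : SL2) * b = b * a := congrArg Subtype.val hb.eq
          have key : ∀ c : SL2, c ∈ (Z g) → (a : SL2) * c = c * a → c = 1 ∨ c = -1 := by
            intro c hc e
            by_contra hno
            push Not at hno
            refine h' ?_
            rw [← hT.cen c hc hno.1 hno.2]
            exact Subgroup.mem_centralizer_singleton_iff.2 e
          by_cases hbT : (b : SL2) ∈ (Z g)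
          · rcases key _ hbT hb' with e | e
            · exact Or.inl (Subtype.ext e)
            · exact Or.inr (Or.inl (Subtype.ext e))
          · have hb2 := (hT.normalizer_cases hw b.2).resolve_left hbT
            have ha2 := (hT.normalizer_cases hw a.2).resolve_left h'
            have hba : (a : SL2)⁻¹ * b ∈ (Z g) := by
              have := Subgroup.mul_mem _ (Subgroup.inv_mem _ ha2) hb2
              rwa [mul_inv_rev, inv_inv, mul_assoc, mul_inv_cancel_left] at this
            rcases key _ hba (by rw [mul_inv_cancel_left, mul_assoc, ← hb', inv_mul_cancel_left]) with e | e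
            · exact Or.inr (Or.inr (Or.inl (Subtype.ext (inv_mul_eq_one.1 e).symm)))
            · refine Or.inr (Or.inr (Or.inr (Subtype.ext ?_)))
              show (b : SL2) = -1 * (a : SL2)
              rw [nc, ← e, mul_inv_cancel_left]
        · rintro (rfl | rfl | rfl | rfl)
          · exact Commute.one_right _
          · exact Subtype.ext (nc _).symm
          · exact Commute.refl _
          · exact (show Commute a z from Subtype.ext (nc _).symm).mul_right (Commute.refl a)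
      show Nat.card {b : N // Commute a b} = 4
      rw [Nat.card_congr (Equiv.subtypeEquivRight hset), Nat.card_eq_fintype_card, Fintype.card_coe]
      have n1 : (1 : N) ≠ z := fun e => hne (congrArg Subtype.val e).symm
      have n2 : (1 : N) ≠ a := fun e => h.1 (congrArg Subtype.val e).symm
      have n3 : (1 : N) ≠ z * a := fun e => h.2 (by
        have e' : (1 : SL2) = -1 * a := congrArg Subtype.val e
        rw [eq_inv_of_mul_eq_one_right e'.symm, inv_eq_of_mul_eq_one_right nsq])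
      have n4 : z ≠ a := fun e => h.2 (congrArg Subtype.val e).symm
      have n5 : z ≠ z * a := fun e => n2 (left_eq_mul.1 e).symm
      have n6 : a ≠ z * a := fun e => n1 (right_eq_mul.1 e).symm
      rw [Finset.card_insert_of_notMem (by simp [n1, n2, n3]), Finset.card_insert_of_notMem (by simp [n4, n5]),
        Finset.card_pair n6]
  have htot : Nat.card {p : N × N // Commute p.1 p.2} = ∑ a : N, K a := by
    rw [← Nat.card_sigma]
    exact Nat.card_congr
      { toFun := fun p => ⟨p.1.1, p.1.2, p.2⟩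
        invFun := fun s => ⟨(s.1, s.2.1), s.2.2⟩
        left_inv := fun p => rfl
        right_inv := fun s => rfl }
  rw [card_comm_eq_card_conjClasses_mul_card] at htot
  rw [Finset.sum_congr rfl fun a _ => hK a, Finset.sum_ite, Finset.sum_ite, Finset.sum_const, Finset.sum_const,
    Finset.sum_const, smul_eq_mul, smul_eq_mul, smul_eq_mul, Finset.filter_filter, Finset.filter_filter] at htot
  have c1 : (Finset.univ.filter fun a : N => (a : SL2) = 1 ∨ (a : SL2) = -1).card = 2 := by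
    rw [show (Finset.univ.filter fun a : N => (a : SL2) = 1 ∨ (a : SL2) = -1) = {1, ⟨-1, hm1⟩} by
      ext a
      simp only [Finset.mem_filter, Finset.mem_univ, true_and, Finset.mem_insert, Finset.mem_singleton]
      exact ⟨fun h => h.imp (fun e => Subtype.ext e) (fun e => Subtype.ext e),
        fun h => h.imp (congrArg Subtype.val) (congrArg Subtype.val)⟩]
    exact Finset.card_pair (fun e => hne (congrArg Subtype.val e).symm)
  have cT : (Finset.univ.filter fun a : N => (a : SL2) ∈ (Z g)).card = Nat.card (Z g) := by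
    rw [← Fintype.card_subtype, ← Nat.card_eq_fintype_card]
    exact Nat.card_congr
      { toFun := fun a => ⟨a.1.1, a.2⟩
        invFun := fun c => ⟨⟨c.1, hle c.2⟩, c.2⟩
        left_inv := fun a => rfl
        right_inv := fun c => rfl }
  have c2 : (Finset.univ.filter fun a : N => ¬((a : SL2) = 1 ∨ (a : SL2) = -1) ∧ (a : SL2) ∈ (Z g)).card + 2 =
      Nat.card (Z g) := by
    have hd : Disjoint (Finset.univ.filter fun a : N => ¬((a : SL2) = 1 ∨ (a : SL2) = -1) ∧ (a : SL2) ∈ (Z g))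
        (Finset.univ.filter fun a : N => (a : SL2) = 1 ∨ (a : SL2) = -1) := by
      rw [Finset.disjoint_filter]
      exact fun a _ ha hb => ha.1 hb
    have hu : (Finset.univ.filter fun a : N => ¬((a : SL2) = 1 ∨ (a : SL2) = -1) ∧ (a : SL2) ∈ (Z g)) ∪
        (Finset.univ.filter fun a : N => (a : SL2) = 1 ∨ (a : SL2) = -1) =
        Finset.univ.filter fun a : N => (a : SL2) ∈ (Z g) := by
      ext a
      simp only [Finset.mem_union, Finset.mem_filter, Finset.mem_univ, true_and]
      refine ⟨?_, fun ha => ?_⟩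
      · rintro (⟨-, h⟩ | h | h)
        · exact h
        · rw [h]; exact Subgroup.one_mem _
        · rw [h]; exact neg_mem g
      · by_cases h : (a : SL2) = 1 ∨ (a : SL2) = -1
        · exact Or.inr h
        · exact Or.inl ⟨h, ha⟩
    have := Finset.card_union_of_disjoint hd
    rw [hu, cT] at this
    omega
  have c3 : (Finset.univ.filter fun a : N => ¬((a : SL2) = 1 ∨ (a : SL2) = -1) ∧ ¬(a : SL2) ∈ (Z g)).card =
      Nat.card (Z g) := by
    have e : (Finset.univ.filter fun a : N => ¬((a : SL2) = 1 ∨ (a : SL2) = -1) ∧ ¬(a : SL2) ∈ (Z g)) =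
        Finset.univ.filter fun a : N => ¬(a : SL2) ∈ (Z g) := by
      refine Finset.filter_congr fun a _ => ⟨And.right, fun ha => ⟨?_, ha⟩⟩
      rintro (h | h)
      · exact ha (by rw [h]; exact Subgroup.one_mem _)
      · exact ha (by rw [h]; exact neg_mem g)
    rw [e]
    have := Finset.card_filter_add_card_filter_not (s := (Finset.univ : Finset N)) (fun a : N => (a : SL2) ∈ (Z g))
    rw [cT, Finset.card_univ, ← Nat.card_eq_fintype_card, hN] at this
    omega
  rw [c1, c3, hN] at htot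
  have hpos : 0 < Nat.card (Z g) := Nat.card_pos
  obtain ⟨m, hm⟩ : ∃ m, m = (Finset.univ.filter fun a : N => ¬((a : SL2) = 1 ∨ (a : SL2) = -1) ∧ (a : SL2) ∈ (Z g)).card :=
    ⟨_, rfl⟩
  rw [← hm] at htot c2
  rw [← c2] at htot hpos ⊢
  nlinarith

theorem sylow (hT : Tor g) {ℓ : ℕ} [Fact ℓ.Prime] (hℓ : ℓ ≠ 2) (P : Sylow ℓ SL2) (hle : (P : Subgroup SL2) ≤ (Z g))
    (hne : (P : Subgroup SL2) ≠ ⊥) :
    Subgroup.centralizer ((P : Subgroup SL2) : Set SL2) = (Z g) ∧
      Subgroup.normalizer ((P : Subgroup SL2) : Set SL2) = Subgroup.normalizer ((Z g) : Set SL2) := by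
  obtain ⟨⟨x, hxP⟩, hxne⟩ := Subgroup.ne_bot_iff_exists_ne_one.1 hne
  have hx1 : x ≠ 1 := fun e => hxne (Subtype.ext e)
  have hxn : x ≠ -1 := by
    intro e
    obtain ⟨k, hk⟩ := IsPGroup.iff_orderOf.1 P.2 ⟨x, hxP⟩
    have h2 : orderOf (⟨x, hxP⟩ : (P : Subgroup SL2)) ∣ 2 := orderOf_dvd_of_pow_eq_one (by
      rw [pow_two]; exact Subtype.ext (by show x * x = 1; rw [e, nsq]))
    rw [hk] at h2
    rcases Nat.eq_zero_or_pos k with h0 | h0
    · rw [h0, pow_zero, orderOf_eq_one_iff] at hk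
      exact hx1 (congrArg Subtype.val hk)
    · have := (Nat.prime_dvd_prime_iff_eq (Fact.out : ℓ.Prime) Nat.prime_two).1 ((dvd_pow_self ℓ h0.ne').trans h2)
      exact hℓ this
  have hC : Subgroup.centralizer ((P : Subgroup SL2) : Set SL2) = (Z g) := by
    refine le_antisymm ?_ ?_
    · intro y hy
      rw [← hT.cen x (hle hxP) hx1 hxn]
      exact Subgroup.mem_centralizer_singleton_iff.2 ((Subgroup.mem_centralizer_iff.1 hy x hxP).symm)
    · intro y hy
      exact Subgroup.mem_centralizer_iff.2 fun p hp => hT.comm (hle hp) hy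
  refine ⟨hC, le_antisymm ?_ ?_⟩
  · intro n hn
    have key : ∀ m ∈ Subgroup.normalizer ((P : Subgroup SL2) : Set SL2), ∀ c ∈ (Z g), m * c * m⁻¹ ∈ (Z g) := by
      intro m hm c hc
      rw [← hC, Subgroup.mem_centralizer_iff] at hc ⊢
      intro p hp
      have hp' : m⁻¹ * p * m ∈ (P : Subgroup SL2) := (Subgroup.mem_normalizer_iff''.1 hm p).1 hp
      calc p * (m * c * m⁻¹) = m * ((m⁻¹ * p * m) * c) * m⁻¹ := by group
        _ = m * c * m⁻¹ * p := by rw [hc _ hp']; group
    rw [Subgroup.mem_normalizer_iff]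
    intro c
    refine ⟨key n hn c, fun h => ?_⟩
    have := key n⁻¹ (Subgroup.inv_mem _ hn) _ h
    rwa [inv_inv, show n⁻¹ * (n * c * n⁻¹) * n = c by group] at this
  · intro n hn
    obtain ⟨w, hw⟩ := hT.inverter
    have hact : ∀ m ∈ Subgroup.normalizer ((Z g) : Set SL2), ∀ c ∈ (P : Subgroup SL2), m * c * m⁻¹ ∈ (P : Subgroup SL2) := by
      intro m hm c hc
      rcases hT.normalizer_cases hw hm with h | h
      · rwa [hT.comm h (hle hc), mul_inv_cancel_right]
      · have hcm : (w⁻¹ * m) * c = c * (w⁻¹ * m) := hT.comm h (hle hc)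
        have : m * c * m⁻¹ = w * c * w⁻¹ := by
          calc m * c * m⁻¹ = w * ((w⁻¹ * m) * c) * (w⁻¹ * m)⁻¹ * w⁻¹ := by group
            _ = w * c * w⁻¹ := by rw [hcm]; group
        rw [this, hT.inverts hw (hle hc)]
        exact Subgroup.inv_mem _ hc
    rw [Subgroup.mem_normalizer_iff]
    intro c
    refine ⟨hact n hn c, fun h => ?_⟩
    have := hact n⁻¹ (Subgroup.inv_mem _ hn) _ h
    rwa [inv_inv, show n⁻¹ * (n * c * n⁻¹) * n = c by group] at this

end Tor

theorem centralizer_conj (g h c : SL2) : c ∈ (Z (h * g * h⁻¹)) ↔ h⁻¹ * c * h ∈ (Z g) := by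
  rw [Subgroup.mem_centralizer_singleton_iff, Subgroup.mem_centralizer_singleton_iff]
  constructor
  · intro e
    calc h⁻¹ * c * h * g = h⁻¹ * (c * (h * g * h⁻¹)) * h := by group
      _ = g * (h⁻¹ * c * h) := by rw [e]; group
  · intro e
    calc c * (h * g * h⁻¹) = h * (h⁻¹ * c * h * g) * h⁻¹ := by group
      _ = h * g * h⁻¹ * c := by rw [e]; group

theorem Tor.conj {g : SL2} (hT : Tor g) (h : SL2) : Tor (h * g * h⁻¹) ∧
    Nat.card (Z (h * g * h⁻¹)) = Nat.card (Z g) := by
  let e : (Z g) ≃* (Z (h * g * h⁻¹)) :=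
    { toFun := fun c => ⟨h * c * h⁻¹, (centralizer_conj g h _).2 (by
        rw [show h⁻¹ * (h * (c : SL2) * h⁻¹) * h = (c : SL2) by group]; exact c.2)⟩
      invFun := fun c => ⟨h⁻¹ * c * h, (centralizer_conj g h _).1 c.2⟩
      left_inv := fun c => Subtype.ext (by group)
      right_inv := fun c => Subtype.ext (by group)
      map_mul' := fun a b => Subtype.ext (by show h * (↑a * ↑b) * h⁻¹ = h * ↑a * h⁻¹ * (h * ↑b * h⁻¹); group) }
  refine ⟨⟨hT.h2, fun e => hT.h1 ?_, fun e => hT.hn ?_, ?_, ?_, ?_, ?_⟩, (Nat.card_congr e.toEquiv).symm⟩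
  · exact conj_eq_one_iff.1 e
  · rw [show g = h⁻¹ * (h * g * h⁻¹) * h by group, e, ← nc, mul_assoc, inv_mul_cancel, mul_one]
  · haveI := hT.cyc
    exact isCyclic_of_surjective e e.surjective
  · intro c hc c1 cn
    have h' := hT.cen _ ((centralizer_conj g h c).1 hc) (fun e => c1 (by
        rw [show c = h * (h⁻¹ * c * h) * h⁻¹ by group, e]; group)) (fun e => cn (by
        rw [show c = h * (h⁻¹ * c * h) * h⁻¹ by group, e, ← nc, mul_assoc, mul_inv_cancel, mul_one]))
    ext x
    rw [centralizer_conj g h x, ← h', ← centralizer_conj (h⁻¹ * c * h) h x,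
      show h * (h⁻¹ * c * h) * h⁻¹ = c by group]
  · intro c hc d hd c1 cn ht
    rcases hT.pair _ ((centralizer_conj g h c).1 hc) _ ((centralizer_conj g h d).1 hd)
      (fun e => c1 (by rw [show c = h * (h⁻¹ * c * h) * h⁻¹ by group, e]; group))
      (fun e => cn (by
        rw [show c = h * (h⁻¹ * c * h) * h⁻¹ by group, e, ← nc, mul_assoc, mul_inv_cancel, mul_one]))
      (by
        have a := tr_conj h⁻¹ d
        have b := tr_conj h⁻¹ c
        rw [inv_inv] at a b
        rw [a, b, ht]) with e | e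
    · left
      rw [show d = h * (h⁻¹ * d * h) * h⁻¹ by group, e]
      group
    · right
      rw [show d = h * (h⁻¹ * d * h) * h⁻¹ by group, e]
      group
  · obtain ⟨w, hw⟩ := hT.inverter
    refine ⟨h * w * h⁻¹, ?_⟩
    calc h * w * h⁻¹ * (h * g * h⁻¹) * (h * w * h⁻¹)⁻¹ = h * (w * g * w⁻¹) * h⁻¹ := by group
      _ = _ := by rw [hw]; group

theorem exists_sylow_le {g : SL2} (hT : Tor g) {ℓ : ℕ} [Fact ℓ.Prime] (P : Sylow ℓ SL2)
    (hco : ¬ ℓ ∣ (Z g).index) :
    ∃ g' : SL2, Tor g' ∧ Nat.card (Z g') = Nat.card (Z g) ∧ (P : Subgroup SL2) ≤ (Z g') := by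
  obtain ⟨Q⟩ : Nonempty (Sylow ℓ (Z g)) := inferInstance
  obtain ⟨Q', hQ'⟩ := (Q.2.map (Z g).subtype).exists_le_sylow
  obtain ⟨h, hh⟩ := MulAction.exists_smul_eq SL2 Q' P
  have hQcard : Nat.card Q' = Nat.card Q := by
    rw [Sylow.card_eq_multiplicity, Sylow.card_eq_multiplicity, ← Subgroup.index_mul_card (Z g),
      Nat.factorization_mul Subgroup.index_ne_zero_of_finite Nat.card_pos.ne', Finsupp.add_apply,
      Nat.factorization_eq_zero_of_not_dvd hco, zero_add]
  have heq : (Q : Subgroup (Z g)).map (Z g).subtype = (Q' : Subgroup SL2) :=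
    Subgroup.eq_of_le_of_card_ge hQ' (by
      rw [Subgroup.card_map_of_injective (Subgroup.subtype_injective _)]
      exact hQcard.le)
  refine ⟨h * g * h⁻¹, (hT.conj h).1, (hT.conj h).2, fun x hx => ?_⟩
  rw [← hh, Sylow.coe_subgroup_smul, Subgroup.mem_pointwise_smul_iff_inv_smul_mem] at hx
  have hy : h⁻¹ * x * h ∈ (Q' : Subgroup SL2) := by
    simpa [MulAut.conj_inv_apply, MulAut.smul_def] using hx
  rw [← heq] at hy
  obtain ⟨z, -, hz⟩ := Subgroup.mem_map.1 hy
  refine (centralizer_conj g h _).2 ?_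
  rw [← hz]
  exact z.2

variable [DecidableEq F]

theorem tor_elliptic (hodd : Odd (Fintype.card F)) {g : SL2} (hg : SLTwoTorus.Ell g) : Tor g := by
  have hC : SLTwoDiscrete.IsTorus (Z g) :=
    ⟨hodd, SLTwoTorus.isCyclic_centralizer hg, SLTwoTorus.card_centralizer (two_ne hodd) hg⟩
  exact ⟨two_ne hodd, (SLTwoTorus.ne_pm hg).1, (SLTwoTorus.ne_pm hg).2, hC.cyclic,
    fun c hc h1 hn => hC.centralizer_eq hc h1 hn, fun c hc d hd h1 hn ht => hC.eq_or_inv hc hd h1 hn ht,
    SLTwoTorus.conj_of_tr hodd hg (SLTwoTorus.tr_inv g)⟩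

theorem mem_diag {d : SL2} (h01 : (d : Matrix (Fin 2) (Fin 2) F) 0 1 = 0) (h10 : (d : Matrix (Fin 2) (Fin 2) F) 1 0 = 0)
    (ha : (d : Matrix (Fin 2) (Fin 2) F) 0 0 ^ 2 ≠ 1) (c : SL2) :
    c ∈ (Z d) ↔ (c : Matrix (Fin 2) (Fin 2) F) 0 1 = 0 ∧ (c : Matrix (Fin 2) (Fin 2) F) 1 0 = 0 := by
  set D := (d : Matrix (Fin 2) (Fin 2) F) with hD
  have hd : D 0 0 * D 1 1 = 1 := by
    have : D.det = 1 := d.2
    rw [Matrix.det_fin_two, h01, zero_mul, sub_zero] at this
    exact this
  have hne : D 0 0 - D 1 1 ≠ 0 := fun e => ha (by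
    rw [pow_two]
    linear_combination hd + D 0 0 * e)
  rw [Subgroup.mem_centralizer_singleton_iff]
  constructor
  · intro e
    have e' : (c : Matrix (Fin 2) (Fin 2) F) * D = D * c := congrArg (fun z : SL2 => (z : Matrix (Fin 2) (Fin 2) F)) e
    have a01 := congrFun (congrFun e' 0) 1
    have a10 := congrFun (congrFun e' 1) 0
    simp [Matrix.mul_apply, Fin.sum_univ_two, h01, h10] at a01 a10
    exact ⟨(mul_eq_zero.1 (show (c : Matrix (Fin 2) (Fin 2) F) 0 1 * (D 0 0 - D 1 1) = 0 by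
        linear_combination -a01)).resolve_right hne,
      (mul_eq_zero.1 (show (c : Matrix (Fin 2) (Fin 2) F) 1 0 * (D 0 0 - D 1 1) = 0 by
        linear_combination a10)).resolve_right hne⟩
  · rintro ⟨c01, c10⟩
    refine Subtype.ext ?_
    show (c : Matrix (Fin 2) (Fin 2) F) * D = D * c
    ext i j
    fin_cases i <;> fin_cases j <;> simp [Matrix.mul_apply, Fin.sum_univ_two, h01, h10, c01, c10] <;> ring

/-- a diagonal element -/
def diagEl (a : Fˣ) : SL2 := ⟨!![(a : F), 0; 0, ((a⁻¹ : Fˣ) : F)], by simp [Matrix.det_fin_two]⟩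

theorem diag_equiv {d : SL2} (h01 : (d : Matrix (Fin 2) (Fin 2) F) 0 1 = 0)
    (h10 : (d : Matrix (Fin 2) (Fin 2) F) 1 0 = 0) (ha : (d : Matrix (Fin 2) (Fin 2) F) 0 0 ^ 2 ≠ 1) :
    Nonempty (Fˣ ≃* (Z d)) := by
  let f : Fˣ →* (Z d) :=
    { toFun := fun a => ⟨diagEl a, (mem_diag h01 h10 ha _).2 ⟨rfl, rfl⟩⟩
      map_one' := Subtype.ext (Subtype.ext (by simp [diagEl, Matrix.one_fin_two]))
      map_mul' := fun a b => Subtype.ext (Subtype.ext (by
        show !![((a * b : Fˣ) : F), 0; 0, (((a * b)⁻¹ : Fˣ) : F)] =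
          !![(a : F), 0; 0, ((a⁻¹ : Fˣ) : F)] * !![(b : F), 0; 0, ((b⁻¹ : Fˣ) : F)]
        simp [mul_comm])) }
  refine ⟨MulEquiv.ofBijective f ⟨fun a b e => Units.ext
    (congrArg (fun z : (Z d) => ((z : SL2) : Matrix (Fin 2) (Fin 2) F) 0 0) e), fun c => ?_⟩⟩
  obtain ⟨c01, c10⟩ := (mem_diag h01 h10 ha c).1 c.2
  have hd : (c : SL2).1 0 0 * (c : SL2).1 1 1 = 1 := by
    have : (c : SL2).1.det = 1 := (c : SL2).2
    rw [Matrix.det_fin_two, c01, zero_mul, sub_zero] at this
    exact this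
  refine ⟨Units.mk0 _ (left_ne_zero_of_mul_eq_one hd), Subtype.ext (Subtype.ext ?_)⟩
  show !![(c : SL2).1 0 0, 0; 0, (((Units.mk0 _ (left_ne_zero_of_mul_eq_one hd))⁻¹ : Fˣ) : F)] = (c : SL2).1
  ext i j
  fin_cases i <;> fin_cases j <;> simp [c01, c10]
  exact inv_eq_of_mul_eq_one_right hd

theorem tor_diag (hodd : Odd (Fintype.card F)) {d : SL2} (h01 : (d : Matrix (Fin 2) (Fin 2) F) 0 1 = 0)
    (h10 : (d : Matrix (Fin 2) (Fin 2) F) 1 0 = 0) (ha : (d : Matrix (Fin 2) (Fin 2) F) 0 0 ^ 2 ≠ 1) :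
    Tor d ∧ Nat.card (Z d) = Fintype.card F - 1 := by
  obtain ⟨e⟩ := diag_equiv h01 h10 ha
  have h2 := two_ne hodd
  refine ⟨⟨h2, fun e => ha (by rw [e]; simp), fun e => ha (by rw [e]; simp), isCyclic_of_surjective e e.surjective,
    ?_, ?_, ?_⟩, ?_⟩
  · intro c hc c1 cn
    obtain ⟨c01, c10⟩ := (mem_diag h01 h10 ha c).1 hc
    have hca : (c : Matrix (Fin 2) (Fin 2) F) 0 0 ^ 2 ≠ 1 := by
      intro h
      have hd : (c : Matrix (Fin 2) (Fin 2) F).det = 1 := c.2
      rw [Matrix.det_fin_two, c01, zero_mul, sub_zero] at hd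
      rcases sq_eq_one_iff.1 h with a | a
      · refine c1 (Subtype.ext ?_)
        rw [a, one_mul] at hd
        ext i j
        fin_cases i <;> fin_cases j <;> simp [a, c01, c10, hd]
      · refine cn (Subtype.ext ?_)
        rw [a, neg_one_mul, neg_eq_iff_eq_neg] at hd
        rw [Matrix.SpecialLinearGroup.coe_neg]
        ext i j
        fin_cases i <;> fin_cases j <;> simp [a, c01, c10, hd]
    ext x
    rw [mem_diag c01 c10 hca, mem_diag h01 h10 ha]
  · intro c hc k hk c1 cn ht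
    obtain ⟨a, ha'⟩ := e.surjective ⟨c, hc⟩
    obtain ⟨b, hb'⟩ := e.surjective ⟨k, hk⟩
    obtain ⟨c01, c10⟩ := (mem_diag h01 h10 ha c).1 hc
    obtain ⟨k01, k10⟩ := (mem_diag h01 h10 ha k).1 hk
    have hcd : (c : Matrix (Fin 2) (Fin 2) F) 0 0 * (c : Matrix (Fin 2) (Fin 2) F) 1 1 = 1 := by
      have : (c : Matrix (Fin 2) (Fin 2) F).det = 1 := c.2
      rw [Matrix.det_fin_two, c01, zero_mul, sub_zero] at this; exact this
    have hkd : (k : Matrix (Fin 2) (Fin 2) F) 0 0 * (k : Matrix (Fin 2) (Fin 2) F) 1 1 = 1 := by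
      have : (k : Matrix (Fin 2) (Fin 2) F).det = 1 := k.2
      rw [Matrix.det_fin_two, k01, zero_mul, sub_zero] at this; exact this
    have htr : (k : Matrix (Fin 2) (Fin 2) F) 0 0 + (k : Matrix (Fin 2) (Fin 2) F) 1 1 =
        (c : Matrix (Fin 2) (Fin 2) F) 0 0 + (c : Matrix (Fin 2) (Fin 2) F) 1 1 := ht
    have hmul : ((k : Matrix (Fin 2) (Fin 2) F) 0 0 - (c : Matrix (Fin 2) (Fin 2) F) 0 0) *
        ((k : Matrix (Fin 2) (Fin 2) F) 0 0 - (c : Matrix (Fin 2) (Fin 2) F) 1 1) = 0 := by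
      linear_combination (k : Matrix (Fin 2) (Fin 2) F) 0 0 * htr - hkd + hcd
    rcases mul_eq_zero.1 hmul with h | h <;> rw [sub_eq_zero] at h
    · left
      refine Subtype.ext ?_
      ext i j
      fin_cases i <;> fin_cases j <;> simp [c01, c10, k01, k10, h]
      linear_combination htr - h
    · right
      refine Subtype.ext ?_
      rw [Matrix.SpecialLinearGroup.coe_inv, Matrix.adjugate_fin_two]
      ext i j
      fin_cases i <;> fin_cases j <;> simp [c01, c10, k01, k10, h]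
      linear_combination htr - h
  · refine ⟨⟨!![0, 1; -1, 0], by simp [Matrix.det_fin_two]⟩, mul_inv_eq_iff_eq_mul.2 (Subtype.ext ?_)⟩
    show !![0, 1; -1, 0] * (d : Matrix (Fin 2) (Fin 2) F) = (d⁻¹ : SL2).1 * !![0, 1; -1, 0]
    rw [Matrix.SpecialLinearGroup.coe_inv, Matrix.adjugate_fin_two, Matrix.eta_fin_two (d : Matrix (Fin 2) (Fin 2) F),
      h01, h10]
    simp
  · rw [← Nat.card_congr e.toEquiv, Nat.card_units, Nat.card_eq_fintype_card]

/-- every elliptic element has a conjugate in a given non-split torus -/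
theorem exists_conj_mem (hodd : Odd (Fintype.card F)) {g h : SL2} (hg : SLTwoTorus.Ell g) (hh : SLTwoTorus.Ell h) :
    ∃ k : SL2, k * h * k⁻¹ ∈ (Z g) := by
  have h2 := two_ne hodd
  have h4 : (4 : F) ≠ 0 := by rw [show (4 : F) = 2 * 2 by norm_num]; exact mul_ne_zero h2 h2
  have hch : ringChar F ≠ 2 := by
    intro e
    have := FiniteField.even_card_of_char_two e
    rw [Nat.odd_iff] at hodd
    omega
  have hns : ∀ {x : SL2}, SLTwoTorus.Ell x → ¬ IsSquare ((tr x) ^ 2 - 4) := by
    rintro x hx ⟨r, hr⟩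
    refine SLTwoTorus.no_root hx ((tr x + r) / 2) ?_
    field_simp
    linear_combination -hr
  have hA := hns hg
  have hB := hns hh
  have hA0 : (tr g) ^ 2 - 4 ≠ 0 := fun e => hA (by rw [e]; exact IsSquare.zero)
  have hB0 : (tr h) ^ 2 - 4 ≠ 0 := fun e => hB (by rw [e]; exact IsSquare.zero)
  obtain ⟨r, hr⟩ : IsSquare (((tr h) ^ 2 - 4) / ((tr g) ^ 2 - 4)) := by
    rw [FiniteField.isSquare_iff hch (div_ne_zero hB0 hA0), div_pow]
    rw [FiniteField.isSquare_iff hch hA0] at hA
    rw [FiniteField.isSquare_iff hch hB0] at hB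
    rw [(FiniteField.pow_dichotomy hch hA0).resolve_left hA, (FiniteField.pow_dichotomy hch hB0).resolve_left hB]
    simp
  rw [div_eq_iff hA0] at hr
  set M := (g : Matrix (Fin 2) (Fin 2) F) with hM
  set x := (tr h - r * tr g) / 2 with hx
  have hd := Dickson.det_eq g
  rw [← hM] at hd
  have htr : tr g = M 0 0 + M 1 1 := rfl
  obtain ⟨c, hc⟩ : ∃ c : SL2, (c : Matrix (Fin 2) (Fin 2) F) = x • (1 : Matrix (Fin 2) (Fin 2) F) + r • M :=
    ⟨⟨_, by
      rw [Matrix.det_fin_two]
      simp [hx]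
      rw [htr] at hr ⊢
      field_simp
      linear_combination hr + 4 * r ^ 2 * hd⟩, rfl⟩
  have hmem : c ∈ (Z g) := Subgroup.mem_centralizer_singleton_iff.2 (Subtype.ext (by
    show (c : Matrix (Fin 2) (Fin 2) F) * M = M * c
    simp [hc, add_mul, mul_add]))
  have htc : tr c = tr h := by
    show (c : Matrix (Fin 2) (Fin 2) F) 0 0 + (c : Matrix (Fin 2) (Fin 2) F) 1 1 = tr h
    simp [hc, hx]
    rw [htr]
    field_simp
    ring
  obtain ⟨k, hk⟩ := SLTwoTorus.conj_of_tr hodd hh htc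
  exact ⟨k, hk ▸ hmem⟩

end CfsgLib.Misc.TorusNormalizer
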