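import Mathlib
import Cfsg.Prelude.Def_ClassicalGeometry

/-!
Transvections: one class in SL, centraliser order in GL.
-/

set_option autoImplicit false
set_option linter.unusedSectionVars false

namespace CfsgLib.MiscTransv

open Matrix Module

variable {F : Type*} [Field F]

theorem exists_equiv_vec {A B : Type*} [AddCommGroup A] [Module F A] [FiniteDimensional F A] [AddCommGroup B]
    [Module F B] [FiniteDimensional F B] (h : finrank F A = finrank F B) {a : A} {b : B} (ha : a ≠ 0) (hb : b ≠ 0) :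
    ∃ e : A ≃ₗ[F] B, e a = b := by
  obtain ⟨A', hA⟩ := Submodule.exists_isCompl (F ∙ a)
  obtain ⟨B', hB⟩ := Submodule.exists_isCompl (F ∙ b)
  have h1 := Submodule.finrank_add_eq_of_isCompl hA
  have h2 := Submodule.finrank_add_eq_of_isCompl hB
  rw [finrank_span_singleton ha] at h1
  rw [finrank_span_singleton hb] at h2
  let e' : A' ≃ₗ[F] B' := LinearEquiv.ofFinrankEq _ _ (by omega)
  let s : (F ∙ a) ≃ₗ[F] (F ∙ b) :=
    (LinearEquiv.toSpanNonzeroSingleton F A a ha).symm.trans (LinearEquiv.toSpanNonzeroSingleton F B b hb)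
  refine ⟨((Submodule.prodEquivOfIsCompl _ _ hA).symm.trans (s.prodCongr e')).trans
    (Submodule.prodEquivOfIsCompl _ _ hB), ?_⟩
  have hd : (Submodule.prodEquivOfIsCompl _ _ hA).symm a = (⟨a, Submodule.mem_span_singleton_self a⟩, 0) :=
    Submodule.prodEquivOfIsCompl_symm_apply_left _ _ hA ⟨a, Submodule.mem_span_singleton_self a⟩
  have hs : s ⟨a, Submodule.mem_span_singleton_self a⟩ = ⟨b, Submodule.mem_span_singleton_self b⟩ := by
    have : (⟨a, Submodule.mem_span_singleton_self a⟩ : (F ∙ a)) = LinearEquiv.toSpanNonzeroSingleton F A a ha 1 :=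
      Subtype.ext (one_smul F a).symm
    rw [this, LinearEquiv.trans_apply, LinearEquiv.symm_apply_apply]
    exact Subtype.ext (one_smul F b)
  simp only [LinearEquiv.trans_apply, hd, LinearEquiv.prodCongr_apply, hs, map_zero, Submodule.coe_prodEquivOfIsCompl']
  simp

theorem exists_normal {n : ℕ} (t : Matrix (Fin n) (Fin n) F) (ht : Cfsg.IsTransvection t) (i₀ i₁ : Fin n)
    (hne : i₀ ≠ i₁) : ∃ g : GL (Fin n) F,
      (g : Matrix (Fin n) (Fin n) F) * t = Matrix.transvection i₀ i₁ 1 * (g : Matrix (Fin n) (Fin n) F) := by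
  classical
  obtain ⟨hrank, hsq⟩ := ht
  set N := Matrix.mulVecLin (t - 1) with hN
  obtain ⟨⟨u, hu⟩, hu0, hspan⟩ := finrank_eq_one_iff'.1 (show finrank F (LinearMap.range N) = 1 from hrank)
  have hu0' : u ≠ 0 := fun h => hu0 (Subtype.ext h)
  have hf : ∀ x, ∃ c : F, c • u = N x := fun x => by
    obtain ⟨c, hc⟩ := hspan ⟨N x, LinearMap.mem_range_self N x⟩
    exact ⟨c, congrArg Subtype.val hc⟩
  choose f hf using hf
  let fl : (Fin n → F) →ₗ[F] F :=
    { toFun := f
      map_add' := fun x y => smul_left_injective F hu0' (by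
        show f (x + y) • u = (f x + f y) • u
        rw [add_smul, hf, hf, hf, map_add])
      map_smul' := fun c x => smul_left_injective F hu0' (by
        show f (c • x) • u = (c * f x) • u
        rw [mul_smul, hf, hf, map_smul]) }
  obtain ⟨y, hy⟩ := hu
  have hNu : N u = 0 := by
    rw [← hy, ← LinearMap.comp_apply, hN, ← Matrix.mulVecLin_mul, hsq, Matrix.mulVecLin_zero]
    rfl
  have hfu : fl u = 0 := by
    have h := hf u
    rw [hNu, smul_eq_zero] at h
    exact h.resolve_right hu0'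
  have hfy : fl y = 1 := smul_left_injective F hu0' (by
    show f y • u = (1 : F) • u
    rw [hf, hy, one_smul])
  -- the kernels
  let c : (Fin n → F) →ₗ[F] F := LinearMap.proj i₁
  let z : Fin n → F := Pi.single i₁ 1
  let w : Fin n → F := Pi.single i₀ 1
  have hcz : c z = 1 := by simp [c, z]
  have hcw : c w = 0 := by simp [c, w, hne.symm]
  have hkdim : finrank F (LinearMap.ker fl) = finrank F (LinearMap.ker c) := by
    have h1 := LinearMap.finrank_range_add_finrank_ker fl
    have h2 := LinearMap.finrank_range_add_finrank_ker c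
    rw [LinearMap.range_eq_top.2 fun a => ⟨a • y, by rw [map_smul, hfy, smul_eq_mul, mul_one]⟩, finrank_top,
      finrank_self] at h1
    rw [LinearMap.range_eq_top.2 fun a => ⟨a • z, by rw [map_smul, hcz, smul_eq_mul, mul_one]⟩, finrank_top,
      finrank_self] at h2
    omega
  obtain ⟨k, hk⟩ := exists_equiv_vec hkdim (a := (⟨u, hfu⟩ : LinearMap.ker fl))
    (b := (⟨w, hcw⟩ : LinearMap.ker c)) (fun h => hu0' (congrArg Subtype.val h))
    (fun h => by simpa [w] using congrFun (congrArg Subtype.val h) i₀)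
  have hmem : ∀ x, x - fl x • y ∈ LinearMap.ker fl := fun x => by
    simp [hfy]
  have hmem' : ∀ x, x - c x • z ∈ LinearMap.ker c := fun x => by
    simp [hcz]
  let E : (Fin n → F) ≃ₗ[F] (Fin n → F) :=
    { toFun := fun x => (k ⟨_, hmem x⟩ : Fin n → F) + fl x • z
      map_add' := fun x x' => by
        have : (⟨_, hmem (x + x')⟩ : LinearMap.ker fl) = ⟨_, hmem x⟩ + ⟨_, hmem x'⟩ :=
          Subtype.ext (by simp [add_smul]; abel)
        rw [this, map_add, Submodule.coe_add, map_add fl, add_smul]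
        abel
      map_smul' := fun a x => by
        have : (⟨_, hmem (a • x)⟩ : LinearMap.ker fl) = a • ⟨_, hmem x⟩ :=
          Subtype.ext (by simp [smul_sub, mul_smul])
        rw [this, map_smul, Submodule.coe_smul, map_smul fl, smul_eq_mul, mul_smul, RingHom.id_apply, smul_add]
      invFun := fun x => (k.symm ⟨_, hmem' x⟩ : Fin n → F) + c x • y
      left_inv := fun x => by
        have hc0 : c ((k ⟨_, hmem x⟩ : Fin n → F) + fl x • z) = fl x := by
          rw [map_add, LinearMap.mem_ker.1 (k ⟨_, hmem x⟩).2, map_smul, hcz, zero_add, smul_eq_mul, mul_one]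
        have : (⟨_, hmem' ((k ⟨_, hmem x⟩ : Fin n → F) + fl x • z)⟩ : LinearMap.ker c) = k ⟨_, hmem x⟩ :=
          Subtype.ext (by simp [hc0])
        simp only [this, LinearEquiv.symm_apply_apply, hc0]
        simp
      right_inv := fun x => by
        have hc0 : fl ((k.symm ⟨_, hmem' x⟩ : Fin n → F) + c x • y) = c x := by
          rw [map_add, LinearMap.mem_ker.1 (k.symm ⟨_, hmem' x⟩).2, map_smul, hfy, zero_add, smul_eq_mul, mul_one]
        have : (⟨_, hmem ((k.symm ⟨_, hmem' x⟩ : Fin n → F) + c x • y)⟩ : LinearMap.ker fl) = k.symm ⟨_, hmem' x⟩ :=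
          Subtype.ext (by simp [hc0])
        simp only [this, LinearEquiv.apply_symm_apply, hc0]
        simp }
  have hEu : E u = w := by
    show (k ⟨_, hmem u⟩ : Fin n → F) + fl u • z = w
    have : (⟨_, hmem u⟩ : LinearMap.ker fl) = ⟨u, hfu⟩ := Subtype.ext (by simp [hfu])
    rw [this, hk, hfu, zero_smul, add_zero]
  have hEc : ∀ x, E x i₁ = fl x := fun x => by
    show c ((k ⟨_, hmem x⟩ : Fin n → F) + fl x • z) = fl x
    rw [map_add, LinearMap.mem_ker.1 (k ⟨_, hmem x⟩).2, map_smul, hcz, zero_add, smul_eq_mul, mul_one]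
  let g : GL (Fin n) F := Matrix.GeneralLinearGroup.toLin.symm
    ((LinearMap.GeneralLinearGroup.generalLinearEquiv F (Fin n → F)).symm E)
  have hg : ∀ x, (g : Matrix (Fin n) (Fin n) F) *ᵥ x = E x := fun x => by
    have : Matrix.toLin' (g : Matrix (Fin n) (Fin n) F) = (E : (Fin n → F) →ₗ[F] (Fin n → F)) := by
      show Matrix.toLin' (LinearMap.toMatrix' (E : (Fin n → F) →ₗ[F] (Fin n → F))) = _
      rw [Matrix.toLin'_toMatrix']
    exact LinearMap.congr_fun this x
  refine ⟨g, Matrix.ext_of_mulVec_single fun i => ?_⟩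
  set x : Fin n → F := Pi.single i 1
  rw [← Matrix.mulVec_mulVec, ← Matrix.mulVec_mulVec, hg, hg]
  have htx : t *ᵥ x = x + fl x • u := by
    show _ = x + f x • u
    rw [hf, hN, Matrix.mulVecLin_apply, Matrix.sub_mulVec, Matrix.one_mulVec, add_sub_cancel]
  rw [htx, map_add, map_smul, hEu, Matrix.transvection, Matrix.add_mulVec, Matrix.one_mulVec, ← hEc x]
  congr 1
  funext j
  simp [w, Matrix.mulVec, dotProduct, Matrix.single_apply, Pi.single_apply, ite_and, eq_comm]

theorem conj_SL [Finite F] {n : ℕ} (hn : 3 ≤ n) (s t : Matrix.SpecialLinearGroup (Fin n) F)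
    (hs : Cfsg.IsTransvection (s : Matrix (Fin n) (Fin n) F)) (ht : Cfsg.IsTransvection (t : Matrix (Fin n) (Fin n) F)) :
    IsConj s t := by
  classical
  let i₀ : Fin n := ⟨0, by omega⟩
  let i₁ : Fin n := ⟨1, by omega⟩
  let i₂ : Fin n := ⟨2, by omega⟩
  have h01 : i₀ ≠ i₁ := by simp [i₀, i₁]
  have h02 : i₂ ≠ i₀ := by simp [i₀, i₂]
  have h12 : i₂ ≠ i₁ := by simp [i₁, i₂]
  obtain ⟨g, hg⟩ := exists_normal _ hs i₀ i₁ h01
  obtain ⟨g', hg'⟩ := exists_normal _ ht i₀ i₁ h01
  set T := Matrix.transvection i₀ i₁ (1 : F) with hT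
  set δ : F := (g' : Matrix (Fin n) (Fin n) F).det / (g : Matrix (Fin n) (Fin n) F).det
  have hdg : (g : Matrix (Fin n) (Fin n) F).det ≠ 0 := ((Matrix.isUnit_iff_isUnit_det _).1 g.isUnit).ne_zero
  have hdg' : (g' : Matrix (Fin n) (Fin n) F).det ≠ 0 := ((Matrix.isUnit_iff_isUnit_det _).1 g'.isUnit).ne_zero
  set D : Matrix (Fin n) (Fin n) F := Matrix.diagonal (Function.update 1 i₂ δ) with hD
  have hDdet : D.det = δ := by
    rw [hD, Matrix.det_diagonal, Finset.prod_update_of_mem (Finset.mem_univ _)]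
    simp
  have hDT : D * T = T * D := by
    rw [hT, Matrix.transvection, mul_add, add_mul, mul_one, one_mul]
    congr 1
    ext a b
    rw [hD, Matrix.diagonal_mul, Matrix.mul_diagonal]
    by_cases ha : a = i₀ ∧ b = i₁
    · rw [ha.1, ha.2, Function.update_of_ne h02.symm, Function.update_of_ne h12.symm]; simp
    · rw [Matrix.single_apply, if_neg (fun h => ha ⟨h.1.symm, h.2.symm⟩), mul_zero, zero_mul]
  let M : Matrix (Fin n) (Fin n) F := ((g'⁻¹ : GL (Fin n) F) : Matrix (Fin n) (Fin n) F) * D * (g : Matrix (Fin n) (Fin n) F)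
  have hMdet : M.det = 1 := by
    have : ((g'⁻¹ : GL (Fin n) F) : Matrix (Fin n) (Fin n) F).det = ((g' : Matrix (Fin n) (Fin n) F).det)⁻¹ := by
      refine eq_inv_of_mul_eq_one_left ?_
      rw [← Matrix.det_mul, Units.inv_mul, Matrix.det_one]
    rw [Matrix.det_mul, Matrix.det_mul, hDdet, this]
    simp only [δ]
    field_simp
  refine isConj_iff.2 ⟨⟨M, hMdet⟩, mul_inv_eq_of_eq_mul (Subtype.ext ?_)⟩
  show M * (s : Matrix (Fin n) (Fin n) F) = (t : Matrix (Fin n) (Fin n) F) * M
  have ht' : ((g'⁻¹ : GL (Fin n) F) : Matrix (Fin n) (Fin n) F) * T =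
      (t : Matrix (Fin n) (Fin n) F) * ((g'⁻¹ : GL (Fin n) F) : Matrix (Fin n) (Fin n) F) := by
    rw [← Units.mul_left_inj g', mul_assoc, ← hg', ← mul_assoc, Units.inv_mul, one_mul, mul_assoc, Units.inv_mul, mul_one]
  simp only [M, mul_assoc]
  rw [hg, ← mul_assoc D, hDT, mul_assoc, ← mul_assoc _ T, ht', mul_assoc]

section Count

variable {m : ℕ}

/-- the matrix of a commuting element -/
def cmat (a b : F) (y x : Fin m → F) (D : Matrix (Fin m) (Fin m) F) :
    Matrix (Fin 2 ⊕ Fin m) (Fin 2 ⊕ Fin m) F :=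
  Matrix.fromBlocks !![a, b; 0, a] (Matrix.of ![y, 0]) (Matrix.of fun i => ![0, x i]) D

theorem cmat_mulVec (a b : F) (y x : Fin m → F) (D : Matrix (Fin m) (Fin m) F) (v : Fin 2 ⊕ Fin m → F) :
    cmat a b y x D *ᵥ v = Sum.elim ![a * v (.inl 0) + b * v (.inl 1) + y ⬝ᵥ (v ∘ Sum.inr), a * v (.inl 1)]
      (fun i => x i * v (.inl 1) + (D *ᵥ (v ∘ Sum.inr)) i) := by
  rw [cmat, Matrix.fromBlocks_mulVec]
  funext i
  rcases i with i | i
  · fin_cases i <;> simp [Matrix.mulVec, dotProduct, Fin.sum_univ_two, add_assoc]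
  · simp [Matrix.mulVec, dotProduct, Fin.sum_univ_two]

theorem card_commutant [Fintype F] (m : ℕ) :
    Nat.card {g : GL (Fin 2 ⊕ Fin m) F //
      (g : Matrix (Fin 2 ⊕ Fin m) (Fin 2 ⊕ Fin m) F) * Matrix.transvection (Sum.inl 0) (Sum.inl 1) 1 =
        Matrix.transvection (Sum.inl 0) (Sum.inl 1) 1 * (g : Matrix (Fin 2 ⊕ Fin m) (Fin 2 ⊕ Fin m) F)} =
      Fintype.card F ^ (2 * m + 1) * (Fintype.card F - 1) *
        ∏ i : Fin m, (Fintype.card F ^ m - Fintype.card F ^ (i : ℕ)) := by
  classical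
  let T : Matrix (Fin 2 ⊕ Fin m) (Fin 2 ⊕ Fin m) F := Matrix.transvection (Sum.inl 0) (Sum.inl 1) 1
  have hTv : ∀ v, T *ᵥ v = v + Pi.single (Sum.inl 0) (v (Sum.inl 1)) := fun v => by
    simp only [T, Matrix.transvection, Matrix.add_mulVec, Matrix.one_mulVec]
    congr 1
    funext j
    simp [Matrix.mulVec, dotProduct, Matrix.single_apply, Pi.single_apply, ite_and, eq_comm]
  have hunit : ∀ (p : Fˣ × F × (Fin m → F) × (Fin m → F) × GL (Fin m) F),
      IsUnit (cmat (p.1 : F) p.2.1 p.2.2.1 p.2.2.2.1 (p.2.2.2.2 : Matrix (Fin m) (Fin m) F)) := by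
    rintro ⟨a, b, y, x, D⟩
    rw [← Matrix.mulVec_injective_iff_isUnit]
    refine (injective_iff_map_eq_zero (Matrix.mulVecLin _)).2 fun v hv => ?_
    rw [Matrix.mulVecLin_apply, cmat_mulVec] at hv
    have h1 := congrFun hv (Sum.inl 1)
    simp at h1
    have h2 : (D : Matrix (Fin m) (Fin m) F) *ᵥ (v ∘ Sum.inr) = 0 := funext fun i => by
      simpa [h1] using congrFun hv (Sum.inr i)
    have h3 : v ∘ Sum.inr = 0 := Matrix.mulVec_injective_iff_isUnit.2 D.isUnit (by rw [h2, Matrix.mulVec_zero])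
    have h0 := congrFun hv (Sum.inl 0)
    simp [h1, h3] at h0
    funext i
    rcases i with i | i
    · fin_cases i
      · exact h0
      · exact h1
    · exact congrFun h3 i
  have hcomm : ∀ (a b : F) (y x : Fin m → F) (D : Matrix (Fin m) (Fin m) F),
      cmat a b y x D * T = T * cmat a b y x D := fun a b y x D => by
    refine Matrix.ext_of_mulVec_single fun i => ?_
    rw [← Matrix.mulVec_mulVec, ← Matrix.mulVec_mulVec, hTv, hTv, Matrix.mulVec_add, cmat_mulVec, cmat_mulVec]
    congr 1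
    funext j
    rcases j with j | j
    · fin_cases j <;> simp [Matrix.mulVec, dotProduct]
    · simp [Matrix.mulVec, dotProduct]
  let Φ : Fˣ × F × (Fin m → F) × (Fin m → F) × GL (Fin m) F →
      {g : GL (Fin 2 ⊕ Fin m) F // (g : Matrix (Fin 2 ⊕ Fin m) (Fin 2 ⊕ Fin m) F) * T = T * (g : Matrix (Fin 2 ⊕ Fin m) (Fin 2 ⊕ Fin m) F)} :=
    fun p => ⟨(hunit p).unit, by rw [IsUnit.unit_spec]; exact hcomm _ _ _ _ _⟩
  have hbij : Function.Bijective Φ := by
    constructor
    · rintro ⟨a, b, y, x, D⟩ ⟨a', b', y', x', D'⟩ h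
      have h' : cmat (a : F) b y x (D : Matrix (Fin m) (Fin m) F) =
          cmat (a' : F) b' y' x' (D' : Matrix (Fin m) (Fin m) F) := by
        have := congrArg (fun g => (g.1 : Matrix (Fin 2 ⊕ Fin m) (Fin 2 ⊕ Fin m) F)) h
        simpa [Φ] using this
      rw [cmat, cmat, Matrix.fromBlocks_inj] at h'
      obtain ⟨h1, h2, h3, h4⟩ := h'
      have ha := congrFun (congrFun h1 0) 0
      have hb := congrFun (congrFun h1 0) 1
      simp at ha hb
      simp only [Prod.mk.injEq]
      exact ⟨Units.ext ha, hb, congrFun h2 0, funext fun i => congrFun (congrFun h3 i) 1, Units.ext h4⟩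
    · rintro ⟨g, hg⟩
      set A := (g : Matrix (Fin 2 ⊕ Fin m) (Fin 2 ⊕ Fin m) F)
      have hS : A * Matrix.single (Sum.inl 0) (Sum.inl 1) 1 = Matrix.single (Sum.inl 0) (Sum.inl 1) 1 * A := by
        simpa [T, Matrix.transvection, mul_add, add_mul] using hg
      have hcol : ∀ i, A i (Sum.inl 0) = if i = Sum.inl 0 then A (Sum.inl 1) (Sum.inl 1) else 0 := fun i => by
        have := congrFun (congrFun hS i) (Sum.inl 1)
        simp [Matrix.mul_apply, Matrix.single_apply, ite_and] at this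
        simpa [eq_comm] using this
      have hrow : ∀ j, j ≠ Sum.inl 1 → A (Sum.inl 1) j = 0 := fun j hj => by
        have := congrFun (congrFun hS (Sum.inl 0)) j
        simp [Matrix.mul_apply, Matrix.single_apply, ite_and, Ne.symm hj] at this
        exact this.symm
      set a := A (Sum.inl 1) (Sum.inl 1)
      have hinj := Matrix.mulVec_injective_iff_isUnit.2 g.isUnit
      have ha : a ≠ 0 := fun h0 => by
        have h1 : A *ᵥ Pi.single (Sum.inl 0) 1 = A *ᵥ 0 := by
          funext i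
          rw [Matrix.mulVec_zero, Matrix.mulVec_single_one, Matrix.col_apply, hcol, h0]
          simp
        simpa using congrFun (hinj h1) (Sum.inl 0)
      have hA : A = cmat a (A (Sum.inl 0) (Sum.inl 1)) (fun j => A (Sum.inl 0) (Sum.inr j))
          (fun i => A (Sum.inr i) (Sum.inl 1)) A.toBlocks₂₂ := by
        ext i j
        rcases i with i | i <;> rcases j with j | j
        · fin_cases i <;> fin_cases j
          · simpa [cmat] using hcol (Sum.inl 0)
          · simp [cmat]
          · simpa [cmat] using hcol (Sum.inl 1)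
          · simp [cmat, a]
        · fin_cases i
          · simp [cmat]
          · simpa [cmat] using hrow (Sum.inr j) (by simp)
        · fin_cases j
          · simpa [cmat] using hcol (Sum.inr i)
          · simp [cmat]
        · simp [cmat, Matrix.toBlocks₂₂]
      have hD : IsUnit A.toBlocks₂₂ := by
        rw [← Matrix.mulVec_injective_iff_isUnit]
        refine (injective_iff_map_eq_zero (Matrix.mulVecLin _)).2 fun z hz => ?_
        rw [Matrix.mulVecLin_apply] at hz
        have h1 : A *ᵥ Sum.elim ![-(((fun j => A (Sum.inl 0) (Sum.inr j)) ⬝ᵥ z) / a), 0] z = A *ᵥ 0 := by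
          have hv := cmat_mulVec a (A (Sum.inl 0) (Sum.inl 1)) (fun j => A (Sum.inl 0) (Sum.inr j))
            (fun i => A (Sum.inr i) (Sum.inl 1)) A.toBlocks₂₂
            (Sum.elim ![-(((fun j => A (Sum.inl 0) (Sum.inr j)) ⬝ᵥ z) / a), 0] z)
          rw [← hA] at hv
          rw [Matrix.mulVec_zero, hv]
          funext i
          rcases i with i | i
          · fin_cases i
            · simp [Sum.elim_comp_inr]; field_simp; ring
            · simp
          · simp [Sum.elim_comp_inr, hz]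
        simpa using congrArg (fun v => v ∘ Sum.inr) (hinj h1)
      refine ⟨⟨Units.mk0 a ha, A (Sum.inl 0) (Sum.inl 1), fun j => A (Sum.inl 0) (Sum.inr j),
        fun i => A (Sum.inr i) (Sum.inl 1), hD.unit⟩, Subtype.ext (Units.ext ?_)⟩
      show cmat a (A (Sum.inl 0) (Sum.inl 1)) _ _ A.toBlocks₂₂ = A
      exact hA.symm
  rw [← Nat.card_eq_of_bijective Φ hbij]
  simp only [Nat.card_prod, Matrix.card_GL_field, Nat.card_units, Nat.card_fun, Nat.card_fin, Nat.card_eq_fintype_card (α := F)]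
  ring

theorem card_centralizer [Fintype F] {q n : ℕ} (hF : Fintype.card F = q) (hn : 2 ≤ n) (t : GL (Fin n) F)
    (ht : Cfsg.IsTransvection (t : Matrix (Fin n) (Fin n) F)) :
    Nat.card ↥(Subgroup.centralizer ({t} : Set (GL (Fin n) F))) =
      q ^ (2 * n - 3) * (q - 1) * ∏ i : Fin (n - 2), (q ^ (n - 2) - q ^ (i : ℕ)) := by
  classical
  obtain ⟨k, rfl⟩ : ∃ k, n = 2 + k := ⟨n - 2, by omega⟩
  let σ : Fin 2 ⊕ Fin k ≃ Fin (2 + k) := finSumFinEquiv
  obtain ⟨g, hg⟩ := exists_normal _ ht (σ (Sum.inl 0)) (σ (Sum.inl 1)) (σ.injective.ne (by simp))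
  let Ψ : GL (Fin (2 + k)) F ≃* GL (Fin 2 ⊕ Fin k) F :=
    (MulAut.conj g).trans (Units.mapEquiv (Matrix.reindexAlgEquiv F F σ.symm).toMulEquiv)
  have hT : ((Ψ t : GL (Fin 2 ⊕ Fin k) F) : Matrix (Fin 2 ⊕ Fin k) (Fin 2 ⊕ Fin k) F) =
      Matrix.transvection (Sum.inl 0) (Sum.inl 1) 1 := by
    show Matrix.reindex σ.symm σ.symm ((g * t * g⁻¹ : GL (Fin (2 + k)) F) : Matrix (Fin (2 + k)) (Fin (2 + k)) F) = _
    rw [Units.val_mul, Units.val_mul, hg, mul_assoc, Units.mul_inv, mul_one]
    ext i j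
    simp [Matrix.transvection, Matrix.one_apply, Matrix.single_apply, σ.injective.eq_iff]
  rw [show 2 + k - 2 = k by omega, show 2 * (2 + k) - 3 = 2 * k + 1 by omega, ← hF, ← card_commutant (F := F) k]
  refine Nat.card_congr (Equiv.subtypeEquiv Ψ.toEquiv fun x => ?_)
  rw [Subgroup.mem_centralizer_singleton_iff, ← Ψ.injective.eq_iff, map_mul, map_mul, Units.ext_iff, Units.val_mul,
    Units.val_mul, hT]
  rfl

end Count

end CfsgLib.MiscTransv
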