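import Mathlib
import Cfsg.Agent.Lie.Orders

/-!
Elements of GL_n moved to scalar multiples by a field automorphism.
-/

set_option autoImplicit false
set_option linter.unusedSectionVars false

namespace CfsgLib.MiscTwistFix

open Matrix

variable {F : Type*} [Field F] [Fintype F]

set_option maxHeartbeats 800000 in
theorem card_twist {q₀ r n : ℕ} (hr : r.Prime) (hn : 1 ≤ n) (hF : Fintype.card F = q₀ ^ r) (σ : F ≃+* F)
    (hσ : orderOf σ = r) :
    Nat.card {g : GL (Fin n) F // ∃ c : F, c ≠ 0 ∧ (g : Matrix (Fin n) (Fin n) F).map σ = c • (g : Matrix (Fin n) (Fin n) F)} =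
      (q₀ ^ r - 1) / (q₀ - 1) * ∏ i : Fin n, (q₀ ^ n - q₀ ^ (i : ℕ)) := by
  classical
  let H := Subgroup.zpowers σ
  haveI : Finite (F ≃+* F) := Finite.of_injective (fun e : F ≃+* F => (e : F → F)) DFunLike.coe_injective
  haveI : Fintype H := Fintype.ofFinite H
  let F₀ := FixedPoints.subfield H F
  have hmem : ∀ x : F, x ∈ F₀ ↔ σ x = x := by
    intro x
    constructor
    · intro h; exact h ⟨σ, Subgroup.mem_zpowers σ⟩
    · intro h g
      obtain ⟨k, hk⟩ := g.2
      have h1 : σ ∈ MulAction.stabilizer (F ≃+* F) x := h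
      exact (hk ▸ Subgroup.zpow_mem _ h1 k : (g : F ≃+* F) ∈ MulAction.stabilizer (F ≃+* F) x)
  have hcard0 : Fintype.card F₀ = q₀ := by
    have h1 : Module.finrank F₀ F = r := by
      rw [FixedPoints.finrank_eq_card H F, ← Nat.card_eq_fintype_card, Nat.card_zpowers, hσ]
    have h2 := Module.card_eq_pow_finrank (K := F₀) (V := F)
    rw [h1, hF] at h2
    exact (Nat.pow_left_injective hr.pos.ne' h2).symm
  let ι : GL (Fin n) F₀ →* GL (Fin n) F := GeneralLinearGroup.map F₀.subtype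
  let scal : Fˣ →* GL (Fin n) F := Units.map ((Matrix.scalar (Fin n)).toMonoidHom)
  let f : Fˣ × GL (Fin n) F₀ →* GL (Fin n) F := MonoidHom.mk' (fun x => scal x.1 * ι x.2) fun a b => by
    rw [Prod.fst_mul, Prod.snd_mul, map_mul, map_mul]
    apply Units.ext
    simp only [Units.val_mul, scal, Units.coe_map, RingHom.toMonoidHom_eq_coe, MonoidHom.coe_coe, Matrix.scalar_apply,
      ← Matrix.smul_one_eq_diagonal, Matrix.smul_mul, Matrix.mul_smul, Matrix.one_mul, smul_smul, mul_comm]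
  have hf : ∀ x : Fˣ × GL (Fin n) F₀, ∀ i j, (f x : Matrix (Fin n) (Fin n) F) i j =
      (x.1 : F) * ((x.2 : Matrix (Fin n) (Fin n) F₀) i j : F) := fun x i j => by
    show ((Matrix.scalar (Fin n) (x.1 : F)) * (x.2 : Matrix (Fin n) (Fin n) F₀).map F₀.subtype) i j = _
    rw [Matrix.scalar_apply, Matrix.diagonal_mul, Matrix.map_apply]; rfl
  have hrange : ∀ g : GL (Fin n) F, g ∈ f.range ↔
      ∃ c : F, c ≠ 0 ∧ (g : Matrix (Fin n) (Fin n) F).map σ = c • (g : Matrix (Fin n) (Fin n) F) := by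
    intro g
    constructor
    · rintro ⟨x, rfl⟩
      refine ⟨σ x.1 * (x.1 : F)⁻¹, mul_ne_zero ((map_ne_zero_iff σ σ.injective).2 x.1.ne_zero) (inv_ne_zero x.1.ne_zero), ?_⟩
      ext i j
      rw [Matrix.map_apply, Matrix.smul_apply, hf, smul_eq_mul, map_mul, (hmem _).1 (SetLike.coe_mem _),
        mul_assoc, inv_mul_cancel_left₀ x.1.ne_zero]
    · rintro ⟨c, hc0, hc⟩
      obtain ⟨i₀, j₀, hne⟩ : ∃ i j, (g : Matrix (Fin n) (Fin n) F) i j ≠ 0 := by
        by_contra hall
        push Not at hall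
        haveI : Nonempty (Fin n) := ⟨⟨0, hn⟩⟩
        exact (GeneralLinearGroup.det g).ne_zero (by
          show (g : Matrix (Fin n) (Fin n) F).det = 0
          rw [show (g : Matrix (Fin n) (Fin n) F) = 0 from Matrix.ext hall, Matrix.det_zero])
      set a := (g : Matrix (Fin n) (Fin n) F) i₀ j₀ with ha
      have hσe : ∀ i j, σ ((g : Matrix (Fin n) (Fin n) F) i j) = c * (g : Matrix (Fin n) (Fin n) F) i j := fun i j => by
        have := congrFun (congrFun hc i) j
        rwa [Matrix.map_apply, Matrix.smul_apply, smul_eq_mul] at this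
      have hfix : ∀ i j, a⁻¹ * (g : Matrix (Fin n) (Fin n) F) i j ∈ F₀ := fun i j => by
        rw [hmem, map_mul, map_inv₀, ha, hσe, hσe, mul_inv, mul_comm c⁻¹, mul_assoc, inv_mul_cancel_left₀ hc0]
      let M : Matrix (Fin n) (Fin n) F₀ := Matrix.of fun i j => ⟨_, hfix i j⟩
      have hM : M.map F₀.subtype = a⁻¹ • (g : Matrix (Fin n) (Fin n) F) := Matrix.ext fun i j => rfl
      have hdet : M.det ≠ 0 := fun h0 => by
        have h1 := RingHom.map_det F₀.subtype M
        rw [h0, map_zero, RingHom.mapMatrix_apply, hM, Matrix.det_smul] at h1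
        exact mul_ne_zero (pow_ne_zero _ (inv_ne_zero hne)) (GeneralLinearGroup.det g).ne_zero h1.symm
      refine ⟨(Units.mk0 a hne, GeneralLinearGroup.mkOfDetNeZero M hdet), Units.ext (Matrix.ext fun i j => ?_)⟩
      rw [hf]
      show a * (a⁻¹ * _) = _
      rw [mul_inv_cancel_left₀ hne]
  have hker : Nat.card f.ker = q₀ - 1 := by
    rw [← hcard0, ← Nat.card_eq_fintype_card, ← Nat.card_units]
    let k : F₀ˣ → f.ker := fun u => ⟨(Units.map F₀.subtype.toMonoidHom u, (Units.map (Matrix.scalar (Fin n)).toMonoidHom u)⁻¹), by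
      rw [MonoidHom.mem_ker]
      show scal _ * ι _ = 1
      rw [map_inv, mul_inv_eq_one]
      apply Units.ext
      show Matrix.scalar (Fin n) _ = (Matrix.scalar (Fin n) _).map F₀.subtype
      rw [Matrix.scalar_apply, Matrix.scalar_apply, Matrix.diagonal_map (map_zero _)]
      rfl⟩
    refine (Nat.card_eq_of_bijective k ⟨fun u v h => Units.map_injective Subtype.val_injective
      (congrArg (fun z : f.ker => z.1.1) h), ?_⟩).symm
    rintro ⟨⟨a, g₀⟩, h⟩
    have hval : ∀ i j, (a : F) * ((g₀ : Matrix (Fin n) (Fin n) F₀) i j : F) = if i = j then 1 else 0 := fun i j => by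
      rw [← hf (a, g₀) i j, MonoidHom.mem_ker.1 h]
      exact Matrix.one_apply
    let i₀ : Fin n := ⟨0, hn⟩
    have h00 := hval i₀ i₀
    rw [if_pos rfl] at h00
    have ha : (a : F) ∈ F₀ := by
      rw [eq_inv_of_mul_eq_one_left h00]
      exact inv_mem (SetLike.coe_mem _)
    refine ⟨Units.mk0 ⟨a, ha⟩ (fun e => a.ne_zero (congrArg Subtype.val e)), Subtype.ext (Prod.ext (Units.ext rfl) ?_)⟩
    refine inv_eq_of_mul_eq_one_right (Units.ext (Matrix.ext fun i j => Subtype.ext ?_))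
    show ((Matrix.scalar (Fin n) (⟨a, ha⟩ : F₀) * (g₀ : Matrix (Fin n) (Fin n) F₀)) i j : F) = _
    rw [Matrix.scalar_apply, Matrix.diagonal_mul]
    show (a : F) * _ = _
    rw [hval, Units.val_one, Matrix.one_apply]
    split_ifs <;> rfl
  have hset : Nat.card {g : GL (Fin n) F // ∃ c : F, c ≠ 0 ∧ (g : Matrix (Fin n) (Fin n) F).map σ = c • (g : Matrix (Fin n) (Fin n) F)} =
      Nat.card f.range := Nat.card_congr (Equiv.subtypeEquivRight fun g => (hrange g).symm)
  have hmul : Nat.card f.range * (q₀ - 1) = (q₀ ^ r - 1) * ∏ i : Fin n, (q₀ ^ n - q₀ ^ (i : ℕ)) := by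
    rw [← hker, ← Subgroup.index_ker, mul_comm, Subgroup.card_mul_index, Nat.card_prod, Nat.card_units,
      Nat.card_eq_fintype_card, hF, CfsgLib.Lie.Orders.card_GL_fin hcard0]
  rw [hset]
  have hdvd : q₀ - 1 ∣ q₀ ^ r - 1 := by simpa using Nat.sub_dvd_pow_sub_pow q₀ 1 r
  obtain ⟨e, he⟩ := hdvd
  have hpos : 0 < q₀ - 1 := by
    rw [← hker]
    exact Nat.card_pos
  rw [he, Nat.mul_div_cancel_left _ hpos]
  rw [he, mul_assoc, mul_comm (Nat.card f.range)] at hmul
  exact Nat.eq_of_mul_eq_mul_left hpos hmul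

end CfsgLib.MiscTwistFix
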