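import Mathlib
import Cfsg.Agent.Char.Orth
import Cfsg.Agent.Char.Rep

/-! The permutation character of SL(n, q) on non-zero vectors, n ≥ 3. -/

set_option autoImplicit false
set_option linter.unusedSectionVars false

open Matrix
open scoped ComplexConjugate CfsgLib.Char

namespace CfsgLib.Misc.VectorPermChar

open Cfsg CfsgLib.Char

variable {F : Type*} [Field F] [Fintype F] [DecidableEq F] {n : ℕ}

local notation "G" => SpecialLinearGroup (Fin n) F
local notation "V" => Fin n → F

/-- The natural action. -/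
def app (g : G) (v : V) : V := (g : Matrix (Fin n) (Fin n) F) *ᵥ v

theorem app_mul (g h : G) (v : V) : app (g * h) v = app g (app h v) := (mulVec_mulVec v _ _).symm
theorem app_one (v : V) : app (1 : G) v = v := one_mulVec v
theorem app_smul (g : G) (c : F) (v : V) : app g (c • v) = c • app g v := mulVec_smul _ c v
theorem app_inv (g : G) (v : V) : app g⁻¹ (app g v) = v := by rw [← app_mul, inv_mul_cancel, app_one]
theorem app_inv' (g : G) (v : V) : app g (app g⁻¹ v) = v := by rw [← app_mul, mul_inv_cancel, app_one]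

theorem extend {k : ℕ} (t : Fin k → V) (ht : LinearIndependent F t) :
    ∀ d, k + d ≤ n → ∃ f : Fin (k + d) → V, LinearIndependent F f ∧ ∀ i : Fin k, f (Fin.castAdd d i) = t i := by
  intro d
  induction d with
  | zero => exact fun _ => ⟨t, ht, fun i => rfl⟩
  | succ d ih =>
    intro hd
    obtain ⟨f, hf, hft⟩ := ih (by omega)
    obtain ⟨x, hx⟩ := exists_linearIndependent_snoc_of_lt_finrank hf (by simp; omega)
    refine ⟨Fin.snoc f x, hx, fun i => ?_⟩
    rw [show Fin.castAdd (d + 1) i = Fin.castSucc (Fin.castAdd d i) from rfl, Fin.snoc_castSucc]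
    exact hft i

theorem exists_app {k : ℕ} (hk : k < n) (t : Fin k → V) (ht : LinearIndependent F t) :
    ∃ g : G, ∀ i : Fin k, app g (Pi.single ⟨i.1, i.2.trans hk⟩ 1) = t i := by
  classical
  obtain ⟨d, rfl⟩ : ∃ d, n = k + d := ⟨n - k, by omega⟩
  obtain ⟨f, hf, hft⟩ := extend t ht d le_rfl
  let M : Matrix (Fin (k + d)) (Fin (k + d)) F := Matrix.of fun i j => f j i
  have hM : M.det ≠ 0 := by
    have hcol : LinearIndependent F M.col := hf
    have := Matrix.linearIndependent_cols_iff_isUnit.1 hcol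
    exact ((Matrix.isUnit_iff_isUnit_det M).1 this).ne_zero
  let last : Fin (k + d) := ⟨k + d - 1, by omega⟩
  let M' := M.updateCol last (M.det⁻¹ • fun i => M i last)
  have hM' : M'.det = 1 := by
    rw [det_updateCol_smul, updateCol_eq_self, inv_mul_cancel₀ hM]
  refine ⟨⟨M', hM'⟩, fun i => ?_⟩
  show M' *ᵥ Pi.single _ 1 = _
  have hne : (⟨i.1, i.2.trans hk⟩ : Fin (k + d)) ≠ last := by
    simp [last, Fin.ext_iff]; omega
  funext r
  rw [mulVec_single_one]
  show M' r _ = _
  simp only [M', updateCol_apply, if_neg hne]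
  exact congrFun (hft i) r

theorem trans_indep {k : ℕ} (hk : k < n) (s t : Fin k → V) (hs : LinearIndependent F s)
    (ht : LinearIndependent F t) : ∃ g : G, ∀ i, app g (s i) = t i := by
  obtain ⟨a, ha⟩ := exists_app hk s hs
  obtain ⟨b, hb⟩ := exists_app hk t ht
  exact ⟨b * a⁻¹, fun i => by rw [app_mul, ← ha i, app_inv, hb]⟩

theorem indep_app {k : ℕ} (g : G) (t : Fin k → V) (ht : LinearIndependent F t) :
    LinearIndependent F fun i => app g (t i) := by
  refine ht.map' (mulVecLin (g : Matrix (Fin n) (Fin n) F)) ?_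
  rw [LinearMap.ker_eq_bot]
  exact fun a b h => by rw [← app_inv g a, ← app_inv g b]; exact congrArg (app g⁻¹) h

open Classical in
theorem sum_stab {k : ℕ} (hk : k < n) :
    ∑ t : {t : Fin k → V // LinearIndependent F t}, Nat.card {g : G // ∀ i, app g (t.1 i) = t.1 i} =
      Nat.card G := by
  classical
  let t₀ : Fin k → V := fun i => Pi.single ⟨i.1, i.2.trans hk⟩ 1
  have h0 : LinearIndependent F t₀ := by
    have h : Function.Injective fun i : Fin k => (⟨i.1, i.2.trans hk⟩ : Fin n) :=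
      fun a b h => Fin.ext (by simpa using h)
    have := (Pi.basisFun F (Fin n)).linearIndependent.comp _ h
    simpa [t₀, Function.comp_def] using this
  have hfib : ∀ t : {t : Fin k → V // LinearIndependent F t},
      Nat.card {g : G // ∀ i, app g (t.1 i) = t.1 i} = Nat.card {g : G // ∀ i, app g (t₀ i) = t.1 i} := by
    intro t
    obtain ⟨a, ha⟩ := trans_indep hk t₀ t.1 h0 t.2
    refine Nat.card_congr ((Equiv.mulRight a).subtypeEquiv fun g => ?_)
    simp only [Equiv.coe_mulRight, app_mul, ha]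
  rw [Finset.sum_congr rfl fun t _ => hfib t, ← Nat.card_sigma]
  refine Nat.card_congr ⟨fun x => x.2.1, fun g => ⟨⟨_, indep_app g t₀ h0⟩, g, fun i => rfl⟩, ?_, fun g => rfl⟩
  rintro ⟨⟨t, ht⟩, g, hg⟩
  have : t = fun i => app g (t₀ i) := (funext hg).symm
  subst this
  rfl

theorem indep_one (v : V) : LinearIndependent F (fun _ : Fin 1 => v) ↔ v ≠ 0 := by
  simp [linearIndependent_unique_iff]

theorem sum_fix_mul (hn : 2 ≤ n) (c : Fˣ) :
    ∑ v : {v : V // v ≠ 0}, Nat.card {g : G // app g v.1 = (c : F) • v.1} = Nat.card G := by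
  classical
  have h := sum_stab (F := F) (n := n) (k := 1) (by omega)
  rw [← h]
  let e : {v : V // v ≠ 0} ≃ {t : Fin 1 → V // LinearIndependent F t} :=
    (Equiv.funUnique (Fin 1) V).symm.subtypeEquiv fun v => by
      rw [← indep_one]; rfl
  rw [← e.sum_comp]
  refine Finset.sum_congr rfl fun v _ => ?_
  obtain ⟨a, ha⟩ := trans_indep (k := 1) (by omega) (fun _ => v.1) (fun _ => (c : F) • v.1)
    ((indep_one v.1).2 v.2) ((indep_one _).2 (smul_ne_zero c.ne_zero v.2))
  refine Nat.card_congr ((Equiv.mulLeft a⁻¹).subtypeEquiv fun g => ?_)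
  show _ ↔ ∀ i : Fin 1, app (a⁻¹ * g) v.1 = v.1
  have ha' := ha 0
  refine ⟨fun hg i => by rw [app_mul, hg, ← ha', app_inv], fun hg => ?_⟩
  have h1 := congrArg (app a) (hg 0)
  rwa [app_mul, app_inv', ha'] at h1

/-- The number of non-zero vectors on which `g` acts as the scalar `c`. -/
noncomputable def N (g : G) (c : Fˣ) : ℂ := Nat.card {v : V // v ≠ 0 ∧ app g v = (c : F) • v}

theorem N_eq (g : G) (c : Fˣ) :
    N g c = ∑ v : {v : V // v ≠ 0}, if app g v.1 = (c : F) • v.1 then (1 : ℂ) else 0 := by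
  classical
  rw [Finset.sum_boole, N]
  norm_cast
  rw [← Fintype.card_subtype, ← Nat.card_eq_fintype_card]
  exact Nat.card_congr (Equiv.subtypeSubtypeEquivSubtypeInter _ _).symm

theorem sum_N (hn : 2 ≤ n) (c : Fˣ) : ∑ g : G, N g c = (Nat.card G : ℂ) := by
  classical
  simp only [N_eq]
  rw [Finset.sum_comm, ← sum_fix_mul hn c, Nat.cast_sum]
  refine Finset.sum_congr rfl fun v _ => ?_
  rw [Finset.sum_boole, Nat.card_eq_fintype_card, Fintype.card_subtype]

theorem sum_N_sq (hn : 3 ≤ n) :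
    ∑ g : G, N g 1 * N g 1 = (Fintype.card F : ℂ) * Nat.card G := by
  classical
  simp only [N_eq, Units.val_one, one_smul, Finset.sum_mul_sum]
  rw [Finset.sum_comm]
  simp only [Finset.sum_comm (γ := G)]
  have hsum : ∀ v w : {v : V // v ≠ 0},
      (∑ g : G, (if app g v.1 = v.1 then (1 : ℂ) else 0) * (if app g w.1 = w.1 then (1 : ℂ) else 0)) =
        (Nat.card {g : G // app g v.1 = v.1 ∧ app g w.1 = w.1} : ℂ) := fun v w => by
    rw [Nat.card_eq_fintype_card, Fintype.card_subtype, ← Finset.sum_boole]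
    refine Finset.sum_congr rfl fun g _ => ?_
    by_cases h1 : app g v.1 = v.1 <;> by_cases h2 : app g w.1 = w.1 <;> simp [h1, h2]
  simp only [hsum]
  rw [← Fintype.sum_prod_type', ← Finset.sum_filter_add_sum_filter_not Finset.univ
    (fun x : {v : V // v ≠ 0} × {v : V // v ≠ 0} => LinearIndependent F ![x.1.1, x.2.1])]
  have h2 : ∑ x ∈ Finset.univ.filter (fun x : {v : V // v ≠ 0} × {v : V // v ≠ 0} =>
      LinearIndependent F ![x.1.1, x.2.1]),
      (Nat.card {g : G // app g x.1.1 = x.1.1 ∧ app g x.2.1 = x.2.1} : ℂ) = Nat.card G := by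
    rw [← Nat.cast_sum, Nat.cast_inj, ← sum_stab (F := F) (n := n) (k := 2) (by omega)]
    refine Finset.sum_bij' (fun x hx => ⟨![x.1.1, x.2.1], (Finset.mem_filter.1 hx).2⟩)
      (fun t _ => (⟨t.1 0, t.2.ne_zero 0⟩, ⟨t.1 1, t.2.ne_zero 1⟩)) (fun _ _ => Finset.mem_univ _)
      (fun t _ => ?_) (fun _ _ => rfl) (fun t _ => ?_) (fun x _ => ?_)
    · rw [Finset.mem_filter]
      refine ⟨Finset.mem_univ _, ?_⟩
      convert t.2 using 1
      funext i; fin_cases i <;> rfl
    · apply Subtype.ext; funext i; fin_cases i <;> rfl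
    · exact Nat.card_congr (Equiv.subtypeEquivRight fun g => by simp [Fin.forall_fin_two])
  have h1 : ∑ x ∈ Finset.univ.filter (fun x : {v : V // v ≠ 0} × {v : V // v ≠ 0} =>
      ¬ LinearIndependent F ![x.1.1, x.2.1]),
      (Nat.card {g : G // app g x.1.1 = x.1.1 ∧ app g x.2.1 = x.2.1} : ℂ) =
        (Fintype.card Fˣ : ℂ) * Nat.card G := by
    calc _ = ∑ y : {v : V // v ≠ 0} × Fˣ, (Nat.card {g : G // app g y.1.1 = y.1.1} : ℂ) := ?_
      _ = _ := ?_
    · symm
      refine Finset.sum_bij (fun y _ => (y.1, ⟨(y.2 : F) • y.1.1, smul_ne_zero y.2.ne_zero y.1.2⟩)) ?_ ?_ ?_ ?_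
      · intro y _
        rw [Finset.mem_filter]
        refine ⟨Finset.mem_univ _, ?_⟩
        rw [LinearIndependent.pair_iff]
        intro h
        have := h (y.2 : F) (-1) (by simp)
        exact one_ne_zero (neg_eq_zero.1 this.2)
      · rintro ⟨v, c⟩ _ ⟨v', c'⟩ _ h
        simp only [Prod.mk.injEq, Subtype.mk.injEq] at h
        obtain ⟨rfl, h⟩ := h
        rw [Prod.mk.injEq]
        exact ⟨rfl, Units.ext (smul_left_injective F v.2 h)⟩
      · rintro ⟨v, w⟩ hx
        rw [Finset.mem_filter] at hx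
        rw [LinearIndependent.pair_iff' v.2] at hx
        obtain ⟨-, hx⟩ := hx
        push Not at hx
        obtain ⟨a, ha⟩ := hx
        have ha0 : a ≠ 0 := by rintro rfl; exact w.2 (by rw [← ha, zero_smul])
        exact ⟨(v, Units.mk0 a ha0), Finset.mem_univ _, by simp [ha]⟩
      · intro y _
        rw [Nat.cast_inj]
        exact Nat.card_congr (Equiv.subtypeEquivRight fun g =>
          ⟨fun h => ⟨h, by rw [app_smul, h]⟩, fun h => h.1⟩)
    · rw [Fintype.sum_prod_type]
      simp only [Finset.sum_const, Finset.card_univ, nsmul_eq_mul]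
      rw [← Finset.mul_sum, ← Nat.cast_sum]
      have := sum_fix_mul (F := F) (n := n) (by omega) 1
      simp only [Units.val_one, one_smul] at this
      rw [this]
  rw [h2, h1]
  have hq : (Fintype.card F : ℂ) = Fintype.card Fˣ + 1 := by
    rw [Fintype.card_eq_card_units_add_one]; push_cast; rfl
  rw [hq]; ring

/-- The permutation representation on functions on non-zero vectors. -/
def rho : Representation ℂ G ({v : V // v ≠ 0} → ℂ) where
  toFun g := LinearMap.funLeft ℂ ℂ fun x => ⟨app g⁻¹ x.1, fun h => x.2 (by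
    rw [← app_inv' g x.1, h]; exact mulVec_zero _)⟩
  map_one' := by
    refine LinearMap.ext fun f => funext fun x => ?_
    show f _ = f x
    congr 1; apply Subtype.ext
    simp [app_one]
  map_mul' g h := by
    refine LinearMap.ext fun f => funext fun x => ?_
    show f _ = f _
    congr 1; apply Subtype.ext
    simp [app_mul]

/-- Scalar translation. -/
def T (c : Fˣ) : ({v : V // v ≠ 0} → ℂ) →ₗ[ℂ] ({v : V // v ≠ 0} → ℂ) :=
  LinearMap.funLeft ℂ ℂ fun x => ⟨(c : F) • x.1, smul_ne_zero c.ne_zero x.2⟩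

theorem T_mul (a b : Fˣ) : (T a : ({v : V // v ≠ 0} → ℂ) →ₗ[ℂ] _).comp (T b) = T (a * b) := by
  refine LinearMap.ext fun f => funext fun x => ?_
  show f _ = f _
  congr 1; apply Subtype.ext
  simp [mul_comm (a : F) b, smul_smul]

theorem rho_T (g : G) (c : Fˣ) : (rho g).comp (T c) = (T c).comp (rho g) := by
  refine LinearMap.ext fun f => funext fun x => ?_
  show f _ = f _
  congr 1; apply Subtype.ext
  simp [app_smul]

theorem trace_funLeft {X : Type*} [Fintype X] [DecidableEq X] (σ : X → X) :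
    LinearMap.trace ℂ (X → ℂ) (LinearMap.funLeft ℂ ℂ σ) = ∑ x, if σ x = x then (1 : ℂ) else 0 := by
  rw [LinearMap.trace_eq_matrix_trace ℂ (Pi.basisFun ℂ X), Matrix.trace]
  refine Finset.sum_congr rfl fun x _ => ?_
  simp [LinearMap.toMatrix_apply, LinearMap.funLeft, Pi.single_apply]

theorem trace_rho_T (g : G) (c : Fˣ) : LinearMap.trace ℂ _ ((rho g).comp (T c)) = N g c := by
  classical
  rw [N_eq]
  refine (trace_funLeft (fun x : {v : V // v ≠ 0} =>
    (⟨(c : F) • app g⁻¹ x.1, smul_ne_zero c.ne_zero fun h => x.2 (by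
      rw [← app_inv' g x.1, h]; exact mulVec_zero _)⟩ : {v : V // v ≠ 0}))).trans ?_
  refine Finset.sum_congr rfl fun x _ => if_congr ?_ rfl rfl
  rw [Subtype.ext_iff]
  show (c : F) • app g⁻¹ x.1 = x.1 ↔ _
  refine ⟨fun h => ?_, fun h => ?_⟩
  · conv_lhs => rw [← h]
    rw [app_smul, app_inv']
  · rw [← app_smul, ← h, app_inv]

theorem comp_sum' {M : Type*} [AddCommGroup M] [Module ℂ M] {ι : Type*} (s : Finset ι) (f : M →ₗ[ℂ] M)
    (g : ι → M →ₗ[ℂ] M) : f.comp (∑ i ∈ s, g i) = ∑ i ∈ s, f.comp (g i) :=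
  Finset.mul_sum (R := Module.End ℂ M) s g f

theorem sum_comp' {M : Type*} [AddCommGroup M] [Module ℂ M] {ι : Type*} (s : Finset ι) (f : M →ₗ[ℂ] M)
    (g : ι → M →ₗ[ℂ] M) : (∑ i ∈ s, g i).comp f = ∑ i ∈ s, (g i).comp f :=
  Finset.sum_mul (R := Module.End ℂ M) s g f

/-- The piece of the permutation character belonging to a character of the scalars. -/
noncomputable def piece (θ : Fˣ →* ℂˣ) (g : G) : ℂ :=
  (Fintype.card Fˣ : ℂ)⁻¹ * ∑ c : Fˣ, (θ c : ℂ) * N g c

theorem piece_char (θ : Fˣ →* ℂˣ) : IsCharacter G (piece θ) := by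
  classical
  let P : ({v : V // v ≠ 0} → ℂ) →ₗ[ℂ] ({v : V // v ≠ 0} → ℂ) :=
    (Fintype.card Fˣ : ℂ)⁻¹ • ∑ c : Fˣ, (θ c : ℂ) • T c
  have hcomm : ∀ g : G, (rho g).comp P = P.comp (rho g) := fun g => by
    simp only [P, LinearMap.comp_smul, LinearMap.smul_comp, comp_sum', sum_comp', rho_T]
  have hid : ∀ a : Fˣ, (T a : ({v : V // v ≠ 0} → ℂ) →ₗ[ℂ] _).comp (∑ c : Fˣ, (θ c : ℂ) • T c) =
      (θ a : ℂ)⁻¹ • ∑ c : Fˣ, (θ c : ℂ) • T c := fun a => by
    simp only [comp_sum', LinearMap.comp_smul, T_mul, Finset.smul_sum, smul_smul]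
    conv_rhs => rw [← Equiv.sum_comp (Equiv.mulLeft a)]
    refine Finset.sum_congr rfl fun c _ => ?_
    simp [map_mul, Units.val_mul]
  have hPP : P.comp P = P := by
    simp only [P, LinearMap.smul_comp, LinearMap.comp_smul, sum_comp', hid, smul_smul]
    have : ∀ a : Fˣ, (θ a : ℂ) * (θ a : ℂ)⁻¹ = 1 := fun a => mul_inv_cancel₀ (θ a).ne_zero
    simp only [this, one_smul, Finset.sum_const, Finset.card_univ]
    rw [← Nat.cast_smul_eq_nsmul ℂ, smul_smul, mul_assoc, inv_mul_cancel₀ (by simp), mul_one]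
  let W : Subrepresentation (rho (F := F) (n := n)) :=
    { toSubmodule := LinearMap.range P
      apply_mem_toSubmodule := fun g x hx => by
        obtain ⟨y, rfl⟩ := hx
        exact ⟨rho g y, (LinearMap.congr_fun (hcomm g) y).symm⟩ }
  have hchar : piece θ = W.toRepresentation.character := by
    funext g
    have hmem : ∀ x, (rho g).comp P x ∈ LinearMap.range P := fun x =>
      ⟨rho g x, (LinearMap.congr_fun (hcomm g) x).symm⟩
    have h := LinearMap.trace_restrict_eq_of_forall_mem (LinearMap.range P) ((rho g).comp P) hmem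
    have hr : ((rho g).comp P).restrict (fun x _ => hmem x) = W.toRepresentation g := by
      refine LinearMap.ext fun ⟨x, y, hy⟩ => Subtype.ext ?_
      show rho g (P x) = rho g x
      rw [← hy, ← LinearMap.comp_apply P P, hPP]
    rw [Representation.character, ← hr, h]
    simp only [piece, P, LinearMap.comp_smul, comp_sum', map_smul, map_sum, trace_rho_T, smul_eq_mul]
  rw [hchar]
  exact isCharacter_of_rep _

theorem sum_theta (c : Fˣ) [Fintype (Fˣ →* ℂˣ)] :
    ∑ θ : Fˣ →* ℂˣ, (θ c : ℂ) = if c = 1 then (Fintype.card Fˣ : ℂ) else 0 := by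
  classical
  by_cases hc : c = 1
  · subst hc
    rw [if_pos rfl]
    simp only [map_one, Units.val_one, Finset.sum_const, Finset.card_univ, nsmul_eq_mul, mul_one]
    rw [← Nat.card_eq_fintype_card, CommGroup.card_monoidHom_of_hasEnoughRootsOfUnity,
      Nat.card_eq_fintype_card]
  · rw [if_neg hc]
    let ev : (Fˣ →* ℂˣ) →* ℂ := (Units.coeHom ℂ).comp
      { toFun := fun θ => θ c, map_one' := rfl, map_mul' := fun _ _ => rfl }
    refine sum_hom_units_eq_zero ev fun h => ?_
    obtain ⟨φ, hφ⟩ := CommGroup.exists_apply_ne_one_of_hasEnoughRootsOfUnity Fˣ ℂ hc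
    exact hφ (Units.ext (DFunLike.congr_fun h φ))

theorem main (hn : 3 ≤ n) :
    ∃ χ : Fin (Fintype.card F - 1) → (G → ℂ),
      (∀ i, IsIrrCharacter G (χ i)) ∧ Function.Injective χ ∧
      ∀ g : G, (Nat.card {v : V // v ≠ 0 ∧ (g : Matrix (Fin n) (Fin n) F).mulVec v = v} : ℂ) = 1 + ∑ i, χ i g := by
  classical
  haveI : Fintype (Fˣ →* ℂˣ) := Fintype.ofFinite _
  have hcard : Fintype.card (Fˣ →* ℂˣ) = Fintype.card F - 1 := by
    rw [← Nat.card_eq_fintype_card, CommGroup.card_monoidHom_of_hasEnoughRootsOfUnity,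
      Nat.card_eq_fintype_card, Fintype.card_units]
  let χ : (Fˣ →* ℂˣ) → (G → ℂ) := fun θ g => piece θ g - if θ = 1 then 1 else 0
  have hq0 : (Fintype.card Fˣ : ℂ) ≠ 0 := by simp
  have hG0 : (Nat.card G : ℂ) ≠ 0 := natCard_ne_zero _
  have hone : ∀ θ, classInner (piece (F := F) (n := n) θ) (fun _ => 1) = if θ = 1 then 1 else 0 := fun θ => by
    rw [classInner_def]
    simp only [map_one, mul_one, piece]
    rw [← Finset.mul_sum, Finset.sum_comm]
    simp only [← Finset.mul_sum, sum_N (F := F) (n := n) (by omega)]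
    rw [← Finset.sum_mul]
    by_cases hθ : θ = 1
    · subst hθ
      simp [hG0, hq0]
    · rw [if_neg hθ]
      have hne : (Units.coeHom ℂ).comp θ ≠ 1 := fun h => hθ (MonoidHom.ext fun c =>
        Units.ext (DFunLike.congr_fun h c))
      have h := sum_hom_units_eq_zero ((Units.coeHom ℂ).comp θ) hne
      simp only [MonoidHom.comp_apply, Units.coeHom_apply] at h
      simp [h]
  have hχ1 : ∀ θ, classInner (χ θ) (fun _ => 1) = 0 := fun θ => by
    have : χ θ = piece θ - fun _ => if θ = 1 then (1 : ℂ) else 0 := rfl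
    rw [this, classInner_sub_left, hone]
    by_cases hθ : θ = 1 <;> simp [hθ, classInner_one_one]
    exact classInner_zero_left _
  have hchar : ∀ θ, IsCharacter G (χ θ) := fun θ => by
    rw [isCharacter_iff]
    refine ⟨fun a b => ?_, fun ψ => ?_⟩
    · show piece θ _ - _ = _
      rw [classFun_of_char (piece_char θ)]
    · by_cases hθ : θ = 1
      · by_cases hψ : (ψ : G → ℂ) = fun _ => 1
        · exact ⟨0, by rw [hψ, hχ1]; simp⟩
        · obtain ⟨m, hm⟩ := inner_char_irr (piece_char θ) ψ.2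
          refine ⟨m, ?_⟩
          have : χ θ = piece θ - fun _ => (1 : ℂ) := by funext g; simp [χ, hθ]
          rw [this, classInner_sub_left, hm, irr_inner_ne isIrr_one ψ.2 (Ne.symm hψ), sub_zero]
      · have : χ θ = piece θ := by funext g; simp [χ, hθ]
        rw [this]
        exact inner_char_irr (piece_char θ) ψ.2
  have hN1 : ∀ c : Fˣ, c ≠ 1 → N (1 : G) c = 0 := fun c hc => by
    rw [N_eq]
    refine Finset.sum_eq_zero fun v _ => if_neg fun h => hc (Units.ext ?_)
    rw [app_one] at h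
    exact (smul_left_injective F v.2 (by simpa using h)).symm
  have hN11 : N (1 : G) 1 = (Fintype.card F : ℂ) ^ n - 1 := by
    rw [N_eq]
    simp only [app_one, Units.val_one, one_smul, if_true, Finset.sum_const, Finset.card_univ,
      nsmul_eq_mul, mul_one]
    rw [Fintype.card_subtype_compl, Fintype.card_subtype_eq, Fintype.card_fun, Fintype.card_fin,
      Nat.cast_sub (Nat.one_le_pow _ _ Fintype.card_pos)]
    simp
  have hdeg : ∀ θ, χ θ 1 ≠ 0 := fun θ h => by
    have h1 : piece θ (1 : G) = (Fintype.card Fˣ : ℂ)⁻¹ * ((Fintype.card F : ℂ) ^ n - 1) := by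
      rw [piece, Finset.sum_eq_single 1 (fun c _ hc => by rw [hN1 c hc, mul_zero]) (by simp), hN11]
      simp
    have hlt : Fintype.card F ≤ Fintype.card F ^ n - 1 := by
      have h2 : 2 ≤ Fintype.card F := Fintype.one_lt_card
      have h3 : Fintype.card F ^ 2 ≤ Fintype.card F ^ n := Nat.pow_le_pow_right (by omega) (by omega)
      have h4 : Fintype.card F + 1 ≤ Fintype.card F ^ 2 := by nlinarith
      omega
    simp only [χ, h1, sub_eq_zero] at h
    rw [inv_mul_eq_iff_eq_mul₀ hq0] at h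
    have he : Fintype.card F ^ n - 1 = Fintype.card Fˣ * (if θ = 1 then 1 else 0) := by
      have h5 : ((Fintype.card F ^ n - 1 : ℕ) : ℂ) = ((Fintype.card Fˣ * (if θ = 1 then 1 else 0) : ℕ) : ℂ) := by
        rw [Nat.cast_sub (Nat.one_le_pow _ _ Fintype.card_pos)]
        push_cast [h]
        split_ifs <;> simp
      exact_mod_cast h5
    have := Fintype.card_units (α := F)
    have := Fintype.one_lt_card (α := F)
    split_ifs at he <;> omega
  have hdecomp : ∀ g : G, N g 1 = 1 + ∑ θ, χ θ g := fun g => by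
    simp only [χ, Finset.sum_sub_distrib, Finset.sum_ite_eq', Finset.mem_univ, if_true, piece]
    rw [← Finset.mul_sum, Finset.sum_comm]
    simp only [← Finset.sum_mul, sum_theta]
    simp only [ite_mul, zero_mul, Finset.sum_ite_eq', Finset.mem_univ, if_true]
    field_simp
    ring
  have hnorm : ∑ θ, ∑ θ', classInner (χ θ) (χ θ') = (Fintype.card F : ℂ) - 1 := by
    have hfun : (fun g : G => N g 1) = (fun _ => (1 : ℂ)) + ∑ θ, χ θ := by
      funext g; simp [hdecomp g]
    have h1 : classInner (fun g : G => N g 1) (fun g : G => N g 1) = (Fintype.card F : ℂ) := by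
      rw [classInner_def]
      have hr : ∀ g : G, conj (N g 1) = N g 1 := fun g => Complex.conj_natCast _
      simp only [hr, sum_N_sq hn]
      field_simp
    have hzero : ∀ θ, classInner (fun _ : G => (1 : ℂ)) (χ θ) = 0 := fun θ => by
      rw [← classInner_conj, hχ1, map_zero]
    rw [hfun] at h1
    simp only [classInner_add_left, classInner_add_right, classInner_sum_left, classInner_sum_right,
      hχ1, hzero, classInner_one_one, Finset.sum_const_zero, add_zero, zero_add] at h1
    rw [← h1, Finset.sum_comm]; ring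
  choose m hm using fun θ θ' => inner_char_char (hchar θ) (hchar θ')
  have hdiag : ∀ θ, 1 ≤ m θ θ := fun θ => Nat.one_le_iff_ne_zero.2 fun h0 => by
    have := hm θ θ
    rw [h0, Nat.cast_zero] at this
    exact hdeg θ (congrFun (classInner_self_eq_zero this) 1)
  have hsum : ∑ θ, ∑ θ', m θ θ' = Fintype.card F - 1 := by
    have h : ((∑ θ, ∑ θ', m θ θ' : ℕ) : ℂ) = ((Fintype.card F - 1 : ℕ) : ℂ) := by
      rw [Nat.cast_sub Fintype.card_pos]
      push_cast
      simp only [← hm]
      exact hnorm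
    exact_mod_cast h
  have hex : ∀ θ θ', m θ θ' = if θ = θ' then 1 else 0 := by
    have hle : ∀ θ, 1 ≤ ∑ θ', m θ θ' := fun θ =>
      (hdiag θ).trans (Finset.single_le_sum (f := m θ) (fun _ _ => Nat.zero_le _) (Finset.mem_univ θ))
    have heq : ∀ θ, ∑ θ', m θ θ' = 1 := fun θ => by
      by_contra hne
      have : ∑ _θ : Fˣ →* ℂˣ, 1 < ∑ θ, ∑ θ', m θ θ' :=
        Finset.sum_lt_sum (fun i _ => hle i) ⟨θ, Finset.mem_univ _, lt_of_le_of_ne (hle θ) (Ne.symm hne)⟩
      simp [hsum, hcard] at this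
    intro θ θ'
    have h1 := heq θ
    rw [← Finset.add_sum_erase _ _ (Finset.mem_univ θ)] at h1
    have hd := hdiag θ
    by_cases h : θ = θ'
    · subst h; rw [if_pos rfl]; omega
    · rw [if_neg h]
      have h0 : ∑ x ∈ Finset.univ.erase θ, m θ x = 0 := by omega
      exact (Finset.sum_eq_zero_iff.1 h0) θ' (by simp [Ne.symm h])
  have hirr : ∀ θ, IsIrrCharacter G (χ θ) := fun θ =>
    isIrr_of_char_norm (hchar θ) (by rw [hm, hex, if_pos rfl, Nat.cast_one])
  have hinj : Function.Injective χ := fun θ θ' h => by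
    by_contra hne
    have h1 := hm θ θ'
    rw [hex, if_neg hne, ← h, hm, hex, if_pos rfl] at h1
    norm_num at h1
  let e := (Fintype.equivFinOfCardEq hcard).symm
  refine ⟨fun i => χ (e i), fun i => hirr _, hinj.comp e.injective, fun g => ?_⟩
  rw [Equiv.sum_comp e (fun θ => χ θ g), ← hdecomp g, N]
  congr 1
  exact Nat.card_congr (Equiv.subtypeEquivRight fun v => by simp [app])

end CfsgLib.Misc.VectorPermChar
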